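import Mathlib

set_option autoImplicit false

namespace Cfsg.Agent.Lib.helper15.URegSemi

open Polynomial Module

variable {K : Type*} [Field K]

theorem sub_smul_eq {V : Type*} [AddCommGroup V] [Module K V] (f g : End K V)
    (hgf : g * f = 1) (ν : K) (hν : ν ≠ 0) :
    g - ν • (1 : End K V) = (-ν) • (g * (f - ν⁻¹ • (1 : End K V))) := by
  rw [mul_sub, hgf, mul_smul_comm, mul_one, smul_sub, smul_smul, neg_mul, mul_inv_cancel₀ hν]
  rw [neg_smul, neg_smul, one_smul]
  abel

theorem pow_sub_smul_eq {V : Type*} [AddCommGroup V] [Module K V] (f g : End K V)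
    (hfg : f * g = 1) (hgf : g * f = 1) (ν : K) (hν : ν ≠ 0) (k : ℕ) :
    (g - ν • (1 : End K V)) ^ k = (-ν) ^ k • (g ^ k * (f - ν⁻¹ • (1 : End K V)) ^ k) := by
  have hc : Commute g (f - ν⁻¹ • (1 : End K V)) := by
    apply Commute.sub_right
    · show g * f = f * g
      rw [hgf, hfg]
    · exact (Commute.one_right g).smul_right _
  rw [sub_smul_eq f g hgf ν hν, _root_.smul_pow, hc.mul_pow]

theorem maxGenEigenspace_inv {V : Type*} [AddCommGroup V] [Module K V] (f g : End K V)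
    (hfg : f * g = 1) (hgf : g * f = 1) (ν : K) (hν : ν ≠ 0) :
    g.maxGenEigenspace ν = f.maxGenEigenspace ν⁻¹ := by
  ext x
  rw [End.mem_maxGenEigenspace, End.mem_maxGenEigenspace]
  have hk : ∀ k : ℕ, f ^ k * g ^ k = 1 := by
    intro k
    have hc : Commute f g := by
      show f * g = g * f
      rw [hgf, hfg]
    rw [← hc.mul_pow, hfg, one_pow]
  constructor
  · rintro ⟨k, hk0⟩
    refine ⟨k, ?_⟩
    rw [pow_sub_smul_eq f g hfg hgf ν hν k] at hk0
    have h1 : (g ^ k * (f - ν⁻¹ • (1 : End K V)) ^ k) x = 0 := by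
      have h2 : (-ν) ^ k • ((g ^ k * (f - ν⁻¹ • (1 : End K V)) ^ k) x) = 0 := hk0
      rcases smul_eq_zero.1 h2 with h3 | h3
      · exact absurd h3 (pow_ne_zero _ (neg_ne_zero.2 hν))
      · exact h3
    have h4 : (f ^ k * g ^ k) (((f - ν⁻¹ • (1 : End K V)) ^ k) x) = 0 := by
      show (f ^ k) ((g ^ k) (((f - ν⁻¹ • (1 : End K V)) ^ k) x)) = 0
      have : (g ^ k) (((f - ν⁻¹ • (1 : End K V)) ^ k) x) = 0 := h1
      rw [this, map_zero]
    rw [hk k] at h4
    exact h4
  · rintro ⟨k, hk0⟩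
    refine ⟨k, ?_⟩
    rw [pow_sub_smul_eq f g hfg hgf ν hν k]
    show (-ν) ^ k • ((g ^ k) (((f - ν⁻¹ • (1 : End K V)) ^ k) x)) = 0
    rw [hk0, map_zero, smul_zero]

theorem rootMultiplicity_inv {n : Type*} [Fintype n] [DecidableEq n] (A B : Matrix n n K)
    (hAB : A * B = 1) (ν : K) (hν : ν ≠ 0) :
    B.charpoly.rootMultiplicity ν = A.charpoly.rootMultiplicity ν⁻¹ := by
  have hBA : B * A = 1 := mul_eq_one_comm.1 hAB
  have h1 : Matrix.toLin' A * Matrix.toLin' B = 1 := by
    rw [Module.End.mul_eq_comp, ← Matrix.toLin'_mul, hAB, Matrix.toLin'_one]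
    rfl
  have h2 : Matrix.toLin' B * Matrix.toLin' A = 1 := by
    rw [Module.End.mul_eq_comp, ← Matrix.toLin'_mul, hBA, Matrix.toLin'_one]
    rfl
  rw [← Matrix.charpoly_toLin' B, ← Matrix.charpoly_toLin' A,
    ← LinearMap.finrank_maxGenEigenspace_eq, ← LinearMap.finrank_maxGenEigenspace_eq,
    maxGenEigenspace_inv (Matrix.toLin' A) (Matrix.toLin' B) h1 h2 ν hν]

theorem rootMultiplicity_unitary {n : Type*} [Fintype n] [DecidableEq n] (A : Matrix n n K)
    (Φ : K →+* K) (hA : A.transpose * A.map Φ = 1) (μ : K) (hμ : μ ≠ 0) :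
    A.charpoly.rootMultiplicity ((Φ μ)⁻¹) = A.charpoly.rootMultiplicity μ := by
  have hΦ : Function.Injective Φ := Φ.injective
  have hB : (A.map Φ).transpose * A = 1 := by
    have := congrArg Matrix.transpose hA
    rw [Matrix.transpose_mul, Matrix.transpose_transpose, Matrix.transpose_one] at this
    exact this
  have hAB : A * (A.map Φ).transpose = 1 := mul_eq_one_comm.1 hB
  have hμ' : Φ μ ≠ 0 := by
    intro h
    apply hμ
    apply hΦ
    rw [h, map_zero]
  rw [← rootMultiplicity_inv A _ hAB (Φ μ) hμ', Matrix.charpoly_transpose, Matrix.charpoly_map,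
    ← Polynomial.eq_rootMultiplicity_map hΦ μ]

theorem toLin'_pow {n : Type*} [Fintype n] [DecidableEq n] (A : Matrix n n K) (k : ℕ) :
    Matrix.toLin' (A ^ k) = (Matrix.toLin' A) ^ k := by
  induction k with
  | zero =>
    rw [pow_zero, pow_zero, Matrix.toLin'_one]
    rfl
  | succ k ih =>
    rw [pow_succ, pow_succ, Matrix.toLin'_mul, ih]
    rfl

theorem root_pow_eq_one {n : Type*} [Fintype n] [DecidableEq n] (A : Matrix n n K) (M : ℕ)
    (hAM : A ^ M = 1) (μ : K) (hμ : A.charpoly.IsRoot μ) : μ ^ M = 1 := by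
  rw [← Matrix.charpoly_toLin' A, ← Module.End.hasEigenvalue_iff_isRoot_charpoly] at hμ
  obtain ⟨v, hv⟩ := hμ.exists_hasEigenvector
  have h1 := hv.pow_apply M
  rw [← toLin'_pow, hAM, Matrix.toLin'_one] at h1
  have h2 : (1 - μ ^ M) • v = 0 := by
    rw [sub_smul, one_smul, ← h1]
    simp
  rcases smul_eq_zero.1 h2 with h3 | h3
  · exact (sub_eq_zero.1 h3).symm
  · exact absurd h3 hv.2

theorem isSemisimple_of_pow {n : Type*} [Fintype n] [DecidableEq n] (A : Matrix n n K) (M : ℕ)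
    (hM : (M : K) ≠ 0) (hAM : A ^ M = 1) : Module.End.IsSemisimple (Matrix.toLin' A : Module.End K (n → K)) := by
  have hsq : Squarefree (X ^ M - C (1 : K)) :=
    (Polynomial.separable_X_pow_sub_C (1 : K) hM one_ne_zero).squarefree
  apply Module.End.isSemisimple_of_squarefree_aeval_eq_zero hsq
  rw [map_sub, map_pow, aeval_X, aeval_C, ← toLin'_pow, hAM, Matrix.toLin'_one]
  rw [map_one]
  exact sub_self (1 : Module.End K (n → K))

theorem exists_root_ne_one [IsAlgClosed K] {n : Type*} [Fintype n] [DecidableEq n]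
    (A : Matrix n n K) (M : ℕ) (hM : (M : K) ≠ 0) (hAM : A ^ M = 1) (hA1 : A ≠ 1) :
    ∃ μ : K, A.charpoly.IsRoot μ ∧ μ ≠ 1 := by
  by_contra hcon0
  have hcon : ∀ μ : K, A.charpoly.IsRoot μ → μ = 1 := fun μ h =>
    by_contra (fun h1 => hcon0 ⟨μ, h, h1⟩)
  apply hA1
  have hss := isSemisimple_of_pow A M hM hAM
  have htop := hss.iSup_eigenspace_eq_top
  have hbot : ∀ μ : K, μ ≠ 1 → Module.End.eigenspace (Matrix.toLin' A : Module.End K (n → K)) μ = ⊥ := by
    intro μ hμ
    by_contra hne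
    have hev : Module.End.HasEigenvalue (Matrix.toLin' A : Module.End K (n → K)) μ := hne
    rw [Module.End.hasEigenvalue_iff_isRoot_charpoly, Matrix.charpoly_toLin'] at hev
    exact hμ (hcon μ hev)
  have h1 : Module.End.eigenspace (Matrix.toLin' A : Module.End K (n → K)) 1 = ⊤ := by
    rw [eq_top_iff, ← htop]
    apply iSup_le
    intro μ
    by_cases hμ : μ = 1
    · rw [hμ]
    · rw [hbot μ hμ]
      exact bot_le
  have h2 : Matrix.toLin' A = LinearMap.id := by
    apply LinearMap.ext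
    intro x
    have hx : x ∈ Module.End.eigenspace (Matrix.toLin' A : Module.End K (n → K)) 1 := by
      rw [h1]
      exact Submodule.mem_top
    rw [Module.End.mem_eigenspace_iff, one_smul] at hx
    exact hx
  rw [← Matrix.toLin'_one] at h2
  exact Matrix.toLin'.injective h2

theorem exists_mult_two [IsAlgClosed K] {n : Type*} [Fintype n] [DecidableEq n]
    (A N : Matrix n n K) (hN : IsNilpotent N) (hNA : N * A = A * N) (hN0 : N ≠ 0) :
    ∃ μ : K, 2 ≤ A.charpoly.rootMultiplicity μ := by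
  by_contra hcon0
  have hcon : ∀ μ : K, A.charpoly.rootMultiplicity μ < 2 := fun μ =>
    lt_of_not_ge (fun h1 => hcon0 ⟨μ, h1⟩)
  apply hN0
  obtain ⟨k, hk⟩ := hN
  have hcomm : Commute (Matrix.toLin' A) (Matrix.toLin' N) := by
    show Matrix.toLin' A * Matrix.toLin' N = Matrix.toLin' N * Matrix.toLin' A
    rw [Module.End.mul_eq_comp, Module.End.mul_eq_comp, ← Matrix.toLin'_mul, ← Matrix.toLin'_mul,
      hNA]
  have hgk : (Matrix.toLin' N) ^ k = 0 := by
    rw [← toLin'_pow, hk, map_zero]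
  have hker : ∀ μ : K, Module.End.maxGenEigenspace (Matrix.toLin' A : Module.End K (n → K)) μ ≤ LinearMap.ker (Matrix.toLin' N) := by
    intro μ x hx
    rw [LinearMap.mem_ker]
    by_cases hx0 : x = 0
    · rw [hx0, map_zero]
    have hfin : Module.finrank K (Module.End.maxGenEigenspace (Matrix.toLin' A : Module.End K (n → K)) μ) ≤ 1 := by
      rw [LinearMap.finrank_maxGenEigenspace_eq, Matrix.charpoly_toLin']
      exact Nat.lt_succ_iff.1 (hcon μ)
    have hNx : (Matrix.toLin' N) x ∈ Module.End.maxGenEigenspace (Matrix.toLin' A : Module.End K (n → K)) μ :=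
      Module.End.mapsTo_maxGenEigenspace_of_comm hcomm μ hx
    rw [finrank_le_one_iff] at hfin
    obtain ⟨v, hv⟩ := hfin
    obtain ⟨c, hc⟩ := hv ⟨x, hx⟩
    obtain ⟨d, hd⟩ := hv ⟨_, hNx⟩
    have hc' : c • (v : n → K) = x := congrArg Subtype.val hc
    have hd' : d • (v : n → K) = (Matrix.toLin' N) x := congrArg Subtype.val hd
    have hc0 : c ≠ 0 := by
      intro h
      apply hx0
      rw [← hc', h, zero_smul]
    have hNx' : (Matrix.toLin' N) x = (d * c⁻¹) • x := by
      rw [← hd', ← hc', smul_smul, mul_assoc, inv_mul_cancel₀ hc0, mul_one]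
    have hpow : ∀ i : ℕ, ((Matrix.toLin' N) ^ i) x = (d * c⁻¹) ^ i • x := by
      intro i
      induction i with
      | zero => simp
      | succ i ih =>
        rw [pow_succ', Module.End.mul_apply, ih, map_smul, hNx', smul_smul, pow_succ]
    have h0 := hpow k
    rw [hgk, LinearMap.zero_apply] at h0
    rcases smul_eq_zero.1 h0.symm with h1 | h1
    · have : d * c⁻¹ = 0 := pow_eq_zero_iff (fun hk0 => by
        rw [hk0, pow_zero] at h1
        exact one_ne_zero h1) |>.1 h1
      rw [hNx', this, zero_smul]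
    · exact absurd h1 hx0
  have htop : LinearMap.ker (Matrix.toLin' N) = ⊤ := by
    rw [eq_top_iff, ← Module.End.iSup_maxGenEigenspace_eq_top (Matrix.toLin' A)]
    exact iSup_le hker
  have h2 : Matrix.toLin' N = 0 := LinearMap.ker_eq_top.1 htop
  rw [← map_zero (Matrix.toLin' (R := K) (n := n) (m := n))] at h2
  exact Matrix.toLin'.injective h2

theorem iterate_mult {n : Type*} [Fintype n] [DecidableEq n] (A : Matrix n n K)
    (Φ : K →+* K) (hA : A.transpose * A.map Φ = 1) (μ : K)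
    (hμ : 0 < A.charpoly.rootMultiplicity μ) (i : ℕ) :
    A.charpoly.rootMultiplicity ((fun x => (Φ x)⁻¹)^[i] μ) = A.charpoly.rootMultiplicity μ := by
  have hdet : A.det ≠ 0 := by
    intro h
    have := congrArg Matrix.det hA
    rw [Matrix.det_mul, Matrix.det_transpose, h, zero_mul, Matrix.det_one] at this
    exact zero_ne_one this
  have h0 : ¬ A.charpoly.IsRoot 0 := by
    intro h
    rw [Polynomial.IsRoot, ← Polynomial.coeff_zero_eq_eval_zero] at h
    have h2 := Matrix.det_eq_sign_charpoly_coeff A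
    rw [h, mul_zero] at h2
    exact hdet h2
  have hne : ∀ ν : K, 0 < A.charpoly.rootMultiplicity ν → ν ≠ 0 := by
    intro ν hν h
    rw [h] at hν
    exact h0 ((Polynomial.rootMultiplicity_pos (Matrix.charpoly_monic A).ne_zero).1 hν)
  induction i with
  | zero => rfl
  | succ i ih =>
    rw [Function.iterate_succ_apply']
    have hpos : 0 < A.charpoly.rootMultiplicity ((fun x => (Φ x)⁻¹)^[i] μ) := by
      rw [ih]
      exact hμ
    rw [rootMultiplicity_unitary A Φ hA _ (hne _ hpos), ih]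

theorem iterate_eq_zpow (Φ : K →+* K) (q : ℕ) (hΦ : ∀ x, Φ x = x ^ q) (u : Kˣ) (i : ℕ) :
    (fun x => (Φ x)⁻¹)^[i] (u : K) = ((u ^ ((-(q : ℤ)) ^ i) : Kˣ) : K) := by
  induction i with
  | zero => simp
  | succ i ih =>
    rw [Function.iterate_succ_apply', ih]
    show (Φ ((u ^ ((-(q : ℤ)) ^ i) : Kˣ) : K))⁻¹ = _
    rw [hΦ, ← Units.val_pow_eq_pow_val, ← Units.val_inv_eq_inv_val, ← zpow_natCast, ← zpow_mul,
      ← zpow_neg, pow_succ]
    congr 2
    ring

theorem iterate_injOn (Φ : K →+* K) (q : ℕ) (hΦ : ∀ x, Φ x = x ^ q) (r : ℕ) (hr : r.Prime)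
    (j : ℕ) (hrq : ¬ r ∣ q) (m : ℕ)
    (hord : ∀ t : ℕ, 1 ≤ t → t ≤ m → ¬ (r : ℤ) ∣ (-(q : ℤ)) ^ t - 1)
    (μ : K) (hμM : μ ^ (r ^ j) = 1) (hμ1 : μ ≠ 1) :
    Set.InjOn (fun i : ℕ => (fun x => (Φ x)⁻¹)^[i] μ) (Finset.range (m + 1) : Set ℕ) := by
  have hμ0 : μ ≠ 0 := by
    intro h
    rw [h, zero_pow (pow_pos hr.pos j).ne'] at hμM
    exact zero_ne_one hμM
  obtain ⟨u, hu⟩ : ∃ u : Kˣ, (u : K) = μ := ⟨Units.mk0 μ hμ0, rfl⟩
  have huM : u ^ (r ^ j) = 1 := by
    apply Units.ext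
    rw [Units.val_pow_eq_pow_val, hu, hμM]
    rfl
  have hu1 : u ≠ 1 := by
    intro h
    apply hμ1
    rw [← hu, h]
    rfl
  have hro : r ∣ orderOf u := by
    obtain ⟨a, ha, hau⟩ := (Nat.dvd_prime_pow hr).1 (orderOf_dvd_of_pow_eq_one huM)
    rcases Nat.eq_zero_or_pos a with h0 | h0
    · rw [h0, pow_zero, orderOf_eq_one_iff] at hau
      exact absurd hau hu1
    · rw [hau]
      exact dvd_pow_self r h0.ne'
  have hrI : Prime (r : ℤ) := Nat.prime_iff_prime_int.1 hr
  have key : ∀ i i' : ℕ, i < i' → i' ≤ m →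
      (fun x => (Φ x)⁻¹)^[i] μ ≠ (fun x => (Φ x)⁻¹)^[i'] μ := by
    intro i i' hii' hi'm heq
    rw [← hu, iterate_eq_zpow Φ q hΦ u i, iterate_eq_zpow Φ q hΦ u i'] at heq
    have heq' : u ^ ((-(q : ℤ)) ^ i) = u ^ ((-(q : ℤ)) ^ i') := Units.ext heq
    have h1 : u ^ ((-(q : ℤ)) ^ i' - (-(q : ℤ)) ^ i) = 1 := by
      rw [zpow_sub, heq', mul_inv_cancel]
    have h2 : ((orderOf u : ℕ) : ℤ) ∣ (-(q : ℤ)) ^ i' - (-(q : ℤ)) ^ i :=
      orderOf_dvd_iff_zpow_eq_one.2 h1
    have h3 : (r : ℤ) ∣ (-(q : ℤ)) ^ i * ((-(q : ℤ)) ^ (i' - i) - 1) := by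
      have e : (-(q : ℤ)) ^ i * ((-(q : ℤ)) ^ (i' - i) - 1) = (-(q : ℤ)) ^ i' - (-(q : ℤ)) ^ i := by
        rw [mul_sub, mul_one, ← pow_add]
        congr 2
        omega
      rw [e]
      exact dvd_trans (Int.natCast_dvd_natCast.2 hro) h2
    rcases hrI.dvd_or_dvd h3 with h4 | h4
    · have h5 := hrI.dvd_of_dvd_pow h4
      rw [dvd_neg, Int.natCast_dvd_natCast] at h5
      exact hrq h5
    · exact hord (i' - i) (by omega) (by omega) h4
  intro i hi i' hi' heq
  simp only [Finset.coe_range, Set.mem_Iio] at hi hi'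
  by_contra hne
  rcases lt_or_gt_of_ne hne with h | h
  · exact key i i' h (by omega) heq
  · exact key i' i h (by omega) heq.symm

theorem sum_count_le [DecidableEq K] (R : Multiset K) (S : Finset K) (hS : ∀ x ∈ S, x ∈ R) :
    ∑ x ∈ S, R.count x ≤ R.card := by
  rw [← Multiset.toFinset_sum_count_eq R]
  apply Finset.sum_le_sum_of_subset
  intro x hx
  rw [Multiset.mem_toFinset]
  exact hS x hx

theorem core [IsAlgClosed K] {n : ℕ} (A N : Matrix (Fin n) (Fin n) K)
    (Φ : K →+* K) (q : ℕ) (hΦ : ∀ x, Φ x = x ^ q)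
    (hA : A.transpose * A.map Φ = 1)
    (r : ℕ) (hr : r.Prime) (j : ℕ) (hAM : A ^ (r ^ j) = 1) (hrK : ((r : ℕ) : K) ≠ 0)
    (hrq : ¬ r ∣ q) (hA1 : A ≠ 1) (hn : 3 ≤ n)
    (hord : ∀ t : ℕ, 1 ≤ t → t ≤ n - 2 → ¬ (r : ℤ) ∣ (-(q : ℤ)) ^ t - 1)
    (hN : IsNilpotent N) (hNA : N * A = A * N) : N = 0 := by
  classical
  by_contra hN0
  have hMK : ((r ^ j : ℕ) : K) ≠ 0 := by
    rw [Nat.cast_pow]
    exact pow_ne_zero _ hrK
  have hχ0 : A.charpoly ≠ 0 := (Matrix.charpoly_monic A).ne_zero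
  have hcard : A.charpoly.roots.card ≤ n := by
    have h1 := Polynomial.card_roots' A.charpoly
    rw [Matrix.charpoly_natDegree_eq_dim, Fintype.card_fin] at h1
    exact h1
  obtain ⟨μ, hμ2⟩ := exists_mult_two A N hN hNA hN0
  obtain ⟨lam, hlamroot, hlam1⟩ := exists_root_ne_one A (r ^ j) hMK hAM hA1
  have hrootM : ∀ ν : K, 0 < A.charpoly.rootMultiplicity ν → ν ^ (r ^ j) = 1 := by
    intro ν hν
    exact root_pow_eq_one A (r ^ j) hAM ν ((Polynomial.rootMultiplicity_pos hχ0).1 hν)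
  have hm : n - 2 + 1 = n - 1 := by omega
  by_cases hμ1 : μ = 1
  · have hlampos : 0 < A.charpoly.rootMultiplicity lam :=
      (Polynomial.rootMultiplicity_pos hχ0).2 hlamroot
    have hinj := iterate_injOn Φ q hΦ r hr j hrq (n - 2) hord lam (hrootM lam hlampos) hlam1
    rw [hm] at hinj
    obtain ⟨S, hS⟩ : ∃ S : Finset K,
        S = (Finset.range (n - 1)).image (fun i : ℕ => (fun x => (Φ x)⁻¹)^[i] lam) := ⟨_, rfl⟩
    have hScard : S.card = n - 1 := by
      rw [hS, Finset.card_image_of_injOn hinj, Finset.card_range]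
    have hSmult : ∀ x ∈ S, 1 ≤ A.charpoly.roots.count x := by
      intro x hx
      rw [hS, Finset.mem_image] at hx
      obtain ⟨i, -, rfl⟩ := hx
      rw [Polynomial.count_roots, iterate_mult A Φ hA lam hlampos i]
      exact hlampos
    have hS1 : (1 : K) ∉ S := by
      intro h1
      rw [hS, Finset.mem_image] at h1
      obtain ⟨i, -, hi⟩ := h1
      have hlam0 : lam ≠ 0 := by
        intro h
        have := hrootM lam hlampos
        rw [h, zero_pow (pow_pos hr.pos j).ne'] at this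
        exact zero_ne_one this
      obtain ⟨u, hu⟩ : ∃ u : Kˣ, (u : K) = lam := ⟨Units.mk0 lam hlam0, rfl⟩
      rw [← hu, iterate_eq_zpow Φ q hΦ u i] at hi
      have hi' : u ^ ((-(q : ℤ)) ^ i) = 1 := Units.ext hi
      have huM : u ^ (r ^ j) = 1 := by
        apply Units.ext
        rw [Units.val_pow_eq_pow_val, hu, hrootM lam hlampos]
        rfl
      have hdvd : ((orderOf u : ℕ) : ℤ) ∣ (-(q : ℤ)) ^ i := orderOf_dvd_iff_zpow_eq_one.2 hi'
      have hu1 : u ≠ 1 := by
        intro h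
        apply hlam1
        rw [← hu, h]
        rfl
      have hro : r ∣ orderOf u := by
        obtain ⟨a, ha, hau⟩ := (Nat.dvd_prime_pow hr).1 (orderOf_dvd_of_pow_eq_one huM)
        rcases Nat.eq_zero_or_pos a with h0 | h0
        · rw [h0, pow_zero, orderOf_eq_one_iff] at hau
          exact absurd hau hu1
        · rw [hau]
          exact dvd_pow_self r h0.ne'
      have hrI : Prime (r : ℤ) := Nat.prime_iff_prime_int.1 hr
      have h5 := hrI.dvd_of_dvd_pow (dvd_trans (Int.natCast_dvd_natCast.2 hro) hdvd)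
      rw [dvd_neg, Int.natCast_dvd_natCast] at h5
      exact hrq h5
    have hsum := sum_count_le A.charpoly.roots (insert 1 S) (by
      intro x hx
      rw [Finset.mem_insert] at hx
      rcases hx with rfl | hx
      · rw [← Multiset.count_pos, Polynomial.count_roots, ← hμ1]
        omega
      · rw [← Multiset.count_pos]
        exact hSmult x hx)
    rw [Finset.sum_insert hS1, Polynomial.count_roots, ← hμ1] at hsum
    have h3 : S.card ≤ ∑ x ∈ S, A.charpoly.roots.count x := by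
      rw [Finset.card_eq_sum_ones]
      exact Finset.sum_le_sum hSmult
    omega
  · have hμpos : 0 < A.charpoly.rootMultiplicity μ := by omega
    have hinj := iterate_injOn Φ q hΦ r hr j hrq (n - 2) hord μ (hrootM μ hμpos) hμ1
    rw [hm] at hinj
    obtain ⟨S, hS⟩ : ∃ S : Finset K,
        S = (Finset.range (n - 1)).image (fun i : ℕ => (fun x => (Φ x)⁻¹)^[i] μ) := ⟨_, rfl⟩
    have hScard : S.card = n - 1 := by
      rw [hS, Finset.card_image_of_injOn hinj, Finset.card_range]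
    have hSmult : ∀ x ∈ S, 2 ≤ A.charpoly.roots.count x := by
      intro x hx
      rw [hS, Finset.mem_image] at hx
      obtain ⟨i, -, rfl⟩ := hx
      rw [Polynomial.count_roots, iterate_mult A Φ hA μ hμpos i]
      exact hμ2
    have hsum := sum_count_le A.charpoly.roots S (by
      intro x hx
      rw [← Multiset.count_pos]
      have := hSmult x hx
      omega)
    have h3 : S.card * 2 ≤ ∑ x ∈ S, A.charpoly.roots.count x := by
      rw [Finset.card_eq_sum_ones, Finset.sum_mul]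
      apply Finset.sum_le_sum
      intro x hx
      have := hSmult x hx
      omega
    omega

end Cfsg.Agent.Lib.helper15.URegSemi
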