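import Mathlib
import Cfsg.Agent.Lib.helper15.URegSemi

set_option autoImplicit false

namespace Cfsg.Agent.Lib.helper15.SpRegSemi

open Polynomial
open Cfsg.Agent.Lib.helper15.URegSemi

variable {K : Type*} [Field K]

theorem iter_eq_zpow (ψ : K → K) (c : ℤ) (hψ : ∀ u : Kˣ, ψ (u : K) = ((u ^ c : Kˣ) : K))
    (u : Kˣ) (i : ℕ) : ψ^[i] (u : K) = ((u ^ (c ^ i) : Kˣ) : K) := by
  induction i with
  | zero => simp
  | succ i ih =>
    rw [Function.iterate_succ_apply', ih, hψ, ← zpow_mul, pow_succ]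

theorem r_dvd_orderOf (r : ℕ) (hr : r.Prime) (j : ℕ) (u : Kˣ) (huM : u ^ (r ^ j) = 1)
    (hu1 : u ≠ 1) : r ∣ orderOf u := by
  obtain ⟨a, ha, hau⟩ := (Nat.dvd_prime_pow hr).1 (orderOf_dvd_of_pow_eq_one huM)
  rcases Nat.eq_zero_or_pos a with h0 | h0
  · rw [h0, pow_zero, orderOf_eq_one_iff] at hau
    exact absurd hau hu1
  · rw [hau]
    exact dvd_pow_self r h0.ne'

theorem exists_unit (r : ℕ) (hr : r.Prime) (j : ℕ) (μ : K) (hμM : μ ^ (r ^ j) = 1) (hμ1 : μ ≠ 1) :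
    ∃ u : Kˣ, (u : K) = μ ∧ r ∣ orderOf u := by
  have hμ0 : μ ≠ 0 := by
    intro h
    rw [h, zero_pow (pow_pos hr.pos j).ne'] at hμM
    exact zero_ne_one hμM
  refine ⟨Units.mk0 μ hμ0, rfl, ?_⟩
  apply r_dvd_orderOf r hr j
  · apply Units.ext
    rw [Units.val_pow_eq_pow_val]
    exact hμM
  · intro h
    apply hμ1
    have := congrArg Units.val h
    exact this

theorem iter_injOn (ψ : K → K) (c : ℤ) (hψ : ∀ u : Kˣ, ψ (u : K) = ((u ^ c : Kˣ) : K))
    (r : ℕ) (hr : r.Prime) (j : ℕ) (hrc : ¬ (r : ℤ) ∣ c) (M : ℕ)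
    (hord : ∀ t : ℕ, 1 ≤ t → t < M → ¬ (r : ℤ) ∣ c ^ t - 1)
    (μ : K) (hμM : μ ^ (r ^ j) = 1) (hμ1 : μ ≠ 1) :
    Set.InjOn (fun i : ℕ => ψ^[i] μ) (Finset.range M : Set ℕ) := by
  obtain ⟨u, hu, hro⟩ := exists_unit r hr j μ hμM hμ1
  have hrI : Prime (r : ℤ) := Nat.prime_iff_prime_int.1 hr
  have key : ∀ i i' : ℕ, i < i' → i' < M → ψ^[i] μ ≠ ψ^[i'] μ := by
    intro i i' hii' hi'm heq
    rw [← hu, iter_eq_zpow ψ c hψ u i, iter_eq_zpow ψ c hψ u i'] at heq
    have heq' : u ^ (c ^ i) = u ^ (c ^ i') := Units.ext heq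
    have h1 : u ^ (c ^ i' - c ^ i) = 1 := by
      rw [zpow_sub, heq', mul_inv_cancel]
    have h2 : ((orderOf u : ℕ) : ℤ) ∣ c ^ i' - c ^ i := orderOf_dvd_iff_zpow_eq_one.2 h1
    have h3 : (r : ℤ) ∣ c ^ i * (c ^ (i' - i) - 1) := by
      have e : c ^ i * (c ^ (i' - i) - 1) = c ^ i' - c ^ i := by
        rw [mul_sub, mul_one, ← pow_add]
        congr 2
        omega
      rw [e]
      exact dvd_trans (Int.natCast_dvd_natCast.2 hro) h2
    rcases hrI.dvd_or_dvd h3 with h4 | h4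
    · exact hrc (hrI.dvd_of_dvd_pow h4)
    · exact hord (i' - i) (by omega) (by omega) h4
  intro i hi i' hi' heq
  simp only [Finset.coe_range, Set.mem_Iio] at hi hi'
  by_contra hne
  rcases lt_or_gt_of_ne hne with h | h
  · exact key i i' h hi' heq
  · exact key i' i h hi heq.symm

theorem iter_ne_one (ψ : K → K) (c : ℤ) (hψ : ∀ u : Kˣ, ψ (u : K) = ((u ^ c : Kˣ) : K))
    (r : ℕ) (hr : r.Prime) (j : ℕ) (hrc : ¬ (r : ℤ) ∣ c)
    (μ : K) (hμM : μ ^ (r ^ j) = 1) (hμ1 : μ ≠ 1) (i : ℕ) : ψ^[i] μ ≠ 1 := by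
  obtain ⟨u, hu, hro⟩ := exists_unit r hr j μ hμM hμ1
  have hrI : Prime (r : ℤ) := Nat.prime_iff_prime_int.1 hr
  intro hi
  rw [← hu, iter_eq_zpow ψ c hψ u i] at hi
  have hi' : u ^ (c ^ i) = 1 := Units.ext hi
  have hdvd : ((orderOf u : ℕ) : ℤ) ∣ c ^ i := orderOf_dvd_iff_zpow_eq_one.2 hi'
  exact hrc (hrI.dvd_of_dvd_pow (dvd_trans (Int.natCast_dvd_natCast.2 hro) hdvd))

theorem iter_mult {n : Type*} [Fintype n] [DecidableEq n] (A : Matrix n n K) (ψ : K → K)
    (hmult : ∀ ν : K, 0 < A.charpoly.rootMultiplicity ν →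
      A.charpoly.rootMultiplicity (ψ ν) = A.charpoly.rootMultiplicity ν)
    (μ : K) (hμ : 0 < A.charpoly.rootMultiplicity μ) (i : ℕ) :
    A.charpoly.rootMultiplicity (ψ^[i] μ) = A.charpoly.rootMultiplicity μ := by
  induction i with
  | zero => rfl
  | succ i ih =>
    rw [Function.iterate_succ_apply']
    have hpos : 0 < A.charpoly.rootMultiplicity (ψ^[i] μ) := by
      rw [ih]
      exact hμ
    rw [hmult _ hpos, ih]

theorem core_gen [IsAlgClosed K] {n : Type*} [Fintype n] [DecidableEq n] (A N : Matrix n n K)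
    (ψ : K → K) (c : ℤ) (hψ : ∀ u : Kˣ, ψ (u : K) = ((u ^ c : Kˣ) : K))
    (hmult : ∀ ν : K, 0 < A.charpoly.rootMultiplicity ν →
      A.charpoly.rootMultiplicity (ψ ν) = A.charpoly.rootMultiplicity ν)
    (r : ℕ) (hr : r.Prime) (j : ℕ) (hAM : A ^ (r ^ j) = 1) (hrK : ((r : ℕ) : K) ≠ 0)
    (hrc : ¬ (r : ℤ) ∣ c) (hA1 : A ≠ 1) (M : ℕ)
    (hM1 : Fintype.card n < M + 2) (hM2 : Fintype.card n < 2 * M)
    (hord : ∀ t : ℕ, 1 ≤ t → t < M → ¬ (r : ℤ) ∣ c ^ t - 1)
    (hN : IsNilpotent N) (hNA : N * A = A * N) : N = 0 := by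
  classical
  by_contra hN0
  have hMK : ((r ^ j : ℕ) : K) ≠ 0 := by
    rw [Nat.cast_pow]
    exact pow_ne_zero _ hrK
  have hχ0 : A.charpoly ≠ 0 := (Matrix.charpoly_monic A).ne_zero
  have hcard : A.charpoly.roots.card ≤ Fintype.card n := by
    have h1 := Polynomial.card_roots' A.charpoly
    rw [Matrix.charpoly_natDegree_eq_dim] at h1
    exact h1
  obtain ⟨μ, hμ2⟩ := exists_mult_two A N hN hNA hN0
  obtain ⟨lam, hlamroot, hlam1⟩ := exists_root_ne_one A (r ^ j) hMK hAM hA1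
  have hrootM : ∀ ν : K, 0 < A.charpoly.rootMultiplicity ν → ν ^ (r ^ j) = 1 := by
    intro ν hν
    exact root_pow_eq_one A (r ^ j) hAM ν ((Polynomial.rootMultiplicity_pos hχ0).1 hν)
  by_cases hμ1 : μ = 1
  · have hlampos : 0 < A.charpoly.rootMultiplicity lam :=
      (Polynomial.rootMultiplicity_pos hχ0).2 hlamroot
    have hinj := iter_injOn ψ c hψ r hr j hrc M hord lam (hrootM lam hlampos) hlam1
    obtain ⟨S, hS⟩ : ∃ S : Finset K,
        S = (Finset.range M).image (fun i : ℕ => ψ^[i] lam) := ⟨_, rfl⟩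
    have hScard : S.card = M := by
      rw [hS, Finset.card_image_of_injOn hinj, Finset.card_range]
    have hSmult : ∀ x ∈ S, 1 ≤ A.charpoly.roots.count x := by
      intro x hx
      rw [hS, Finset.mem_image] at hx
      obtain ⟨i, -, rfl⟩ := hx
      rw [Polynomial.count_roots, iter_mult A ψ hmult lam hlampos i]
      exact hlampos
    have hS1 : (1 : K) ∉ S := by
      intro h1
      rw [hS, Finset.mem_image] at h1
      obtain ⟨i, -, hi⟩ := h1
      exact iter_ne_one ψ c hψ r hr j hrc lam (hrootM lam hlampos) hlam1 i hi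
    have hsum := sum_count_le A.charpoly.roots (insert 1 S) (by
      intro x hx
      rw [Finset.mem_insert] at hx
      rcases hx with rfl | hx
      · rw [← Multiset.count_pos, Polynomial.count_roots, ← hμ1]
        omega
      · rw [← Multiset.count_pos]
        exact hSmult x hx)
    rw [Finset.sum_insert hS1, Polynomial.count_roots, ← hμ1] at hsum
    have h3 : S.card ≤ ∑ x ∈ S, A.charpoly.roots.count x := by
      rw [Finset.card_eq_sum_ones]
      exact Finset.sum_le_sum hSmult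
    omega
  · have hμpos : 0 < A.charpoly.rootMultiplicity μ := by omega
    have hinj := iter_injOn ψ c hψ r hr j hrc M hord μ (hrootM μ hμpos) hμ1
    obtain ⟨S, hS⟩ : ∃ S : Finset K,
        S = (Finset.range M).image (fun i : ℕ => ψ^[i] μ) := ⟨_, rfl⟩
    have hScard : S.card = M := by
      rw [hS, Finset.card_image_of_injOn hinj, Finset.card_range]
    have hSmult : ∀ x ∈ S, 2 ≤ A.charpoly.roots.count x := by
      intro x hx
      rw [hS, Finset.mem_image] at hx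
      obtain ⟨i, -, rfl⟩ := hx
      rw [Polynomial.count_roots, iter_mult A ψ hmult μ hμpos i]
      exact hμ2
    have hsum := sum_count_le A.charpoly.roots S (by
      intro x hx
      rw [← Multiset.count_pos]
      have := hSmult x hx
      omega)
    have h3 : S.card * 2 ≤ ∑ x ∈ S, A.charpoly.roots.count x := by
      rw [Finset.card_eq_sum_ones, Finset.sum_mul]
      apply Finset.sum_le_sum
      intro x hx
      have := hSmult x hx
      omega
    omega

theorem charpoly_symp_inv {l : Type*} [Fintype l] [DecidableEq l]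
    (A : Matrix.symplecticGroup l K) :
    ((A⁻¹ : Matrix.symplecticGroup l K) : Matrix (l ⊕ l) (l ⊕ l) K).charpoly =
      (A : Matrix (l ⊕ l) (l ⊕ l) K).charpoly := by
  rw [SymplecticGroup.coe_inv]
  have h2 : Matrix.J l K * -Matrix.J l K = 1 := by
    rw [mul_neg, Matrix.J_squared, neg_neg]
  rw [Matrix.charpoly_mul_comm, ← mul_assoc, h2, one_mul, Matrix.charpoly_transpose]

theorem mult_inv_symp {l : Type*} [Fintype l] [DecidableEq l]
    (A : Matrix.symplecticGroup l K) (ν : K) (hν : ν ≠ 0) :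
    (A : Matrix (l ⊕ l) (l ⊕ l) K).charpoly.rootMultiplicity ν⁻¹ =
      (A : Matrix (l ⊕ l) (l ⊕ l) K).charpoly.rootMultiplicity ν := by
  have hAB : (A : Matrix (l ⊕ l) (l ⊕ l) K) *
      ((A⁻¹ : Matrix.symplecticGroup l K) : Matrix (l ⊕ l) (l ⊕ l) K) = 1 := by
    have := congrArg Subtype.val (mul_inv_cancel A)
    exact this
  rw [← rootMultiplicity_inv _ _ hAB ν hν, charpoly_symp_inv]

theorem mult_frob {F : Type*} [Field F] [Algebra F K] {ι : Type*} [Fintype ι] [DecidableEq ι]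
    (A : Matrix ι ι F) (Φ : K →+* K) (hfix : ∀ a : F, Φ (algebraMap F K a) = algebraMap F K a)
    (ν : K) :
    (A.map (algebraMap F K)).charpoly.rootMultiplicity (Φ ν) =
      (A.map (algebraMap F K)).charpoly.rootMultiplicity ν := by
  have h1 : (A.map (algebraMap F K)).charpoly = A.charpoly.map (algebraMap F K) := by
    rw [← Matrix.charpoly_map]
  have h2 : ((A.charpoly.map (algebraMap F K)).map Φ) = A.charpoly.map (algebraMap F K) := by
    rw [Polynomial.map_map]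
    congr 1
    ext a
    exact hfix a
  rw [h1]
  conv_lhs => rw [← h2]
  exact (Polynomial.eq_rootMultiplicity_map Φ.injective ν).symm

theorem hord_even (r q k : ℕ) (hk : k = orderOf ((q : ℕ) : ZMod r)) :
    ∀ t : ℕ, 1 ≤ t → t < k → ¬ (r : ℤ) ∣ (q : ℤ) ^ t - 1 := by
  intro t ht1 htk hdvd
  rw [← ZMod.intCast_zmod_eq_zero_iff_dvd] at hdvd
  push_cast at hdvd
  have h1 : ((q : ℕ) : ZMod r) ^ t = 1 := sub_eq_zero.1 hdvd
  have h2 := orderOf_dvd_of_pow_eq_one h1
  rw [← hk] at h2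
  have := Nat.le_of_dvd (by omega) h2
  omega

theorem hord_odd (r q k : ℕ) (hr : r.Prime) (hr2 : r ≠ 2) (hk : k = orderOf ((q : ℕ) : ZMod r))
    (hodd : Odd k) :
    ∀ t : ℕ, 1 ≤ t → t < 2 * k → ¬ (r : ℤ) ∣ (-(q : ℤ)) ^ t - 1 := by
  intro t ht1 htk hdvd
  have hfact : Fact r.Prime := ⟨hr⟩
  rw [← ZMod.intCast_zmod_eq_zero_iff_dvd] at hdvd
  push_cast at hdvd
  have h1 : (-((q : ℕ) : ZMod r)) ^ t = 1 := sub_eq_zero.1 hdvd
  have h2 : ((q : ℕ) : ZMod r) ^ (2 * t) = 1 := by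
    have : ((q : ℕ) : ZMod r) ^ (2 * t) = ((-((q : ℕ) : ZMod r)) ^ t) ^ 2 := by
      rw [← pow_mul, mul_comm t 2, pow_mul (-((q : ℕ) : ZMod r)), neg_sq, ← pow_mul]
    rw [this, h1, one_pow]
  have h3 : k ∣ 2 * t := by
    rw [hk]
    exact orderOf_dvd_of_pow_eq_one h2
  have hcop : Nat.Coprime k 2 := Nat.Coprime.symm (Nat.coprime_two_left.2 hodd)
  have h4 : k ∣ t := hcop.dvd_of_dvd_mul_left h3
  have h5 : ((q : ℕ) : ZMod r) ^ t = 1 := by
    rw [hk] at h4
    exact orderOf_dvd_iff_pow_eq_one.1 h4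
  rw [neg_pow, h5, mul_one] at h1
  have hev : Even t := by
    rcases Nat.even_or_odd t with h | h
    · exact h
    · exfalso
      rw [h.neg_one_pow] at h1
      have h6 : (2 : ZMod r) = 0 := by
        have : (1 : ZMod r) + 1 = 0 := by
          nth_rewrite 1 [← h1]
          exact neg_add_cancel 1
        rw [← this]
        norm_num
      have h7 : ((2 : ℕ) : ZMod r) = 0 := by exact_mod_cast h6
      rw [ZMod.natCast_eq_zero_iff] at h7
      exact hr2 ((Nat.prime_dvd_prime_iff_eq hr Nat.prime_two).1 h7)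
  have h8 : 2 * k ∣ t := by
    have : 2 ∣ t := hev.two_dvd
    rw [mul_comm]
    exact hcop.mul_dvd_of_dvd_of_dvd h4 this
  have := Nat.le_of_dvd (by omega) h8
  omega

theorem sp_no_commuting {F : Type*} [Field F] [Fintype F] (p : ℕ) [Fact p.Prime] [CharP F p]
    (n : ℕ) (hn1 : 1 ≤ n) (r : ℕ) (hr : r.Prime) (hr2 : r ≠ 2) (hrp : r ≠ p)
    (k ηk : ℕ) (hk : k = orderOf ((Fintype.card F : ℕ) : ZMod r))
    (hηk : (Odd k ∧ ηk = k) ∨ (Even k ∧ 2 * ηk = k)) (hn : n ≤ ηk)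
    (x u : Matrix.symplecticGroup (Fin n) F) (j : ℕ) (hx : x ^ (r ^ j) = 1) (hx1 : x ≠ 1)
    (e : ℕ) (hu : u ^ (p ^ e) = 1) (hxu : u * x = x * u) : u = 1 := by
  classical
  have hp : p.Prime := Fact.out
  obtain ⟨q, hq⟩ : ∃ q : ℕ, q = Fintype.card F := ⟨_, rfl⟩
  obtain ⟨f, hqf⟩ : ∃ f : ℕ, q = p ^ f := by
    obtain ⟨n, -, hn⟩ := FiniteField.card F p
    exact ⟨n, by rw [hq, hn]⟩
  obtain ⟨ι, hι⟩ : ∃ ι : F →+* AlgebraicClosure F, ι = algebraMap F (AlgebraicClosure F) := ⟨_, rfl⟩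
  have hιinj : Function.Injective ι := ι.injective
  have hcharK : CharP (AlgebraicClosure F) p := by
    rw [hι] at hιinj
    exact charP_of_injective_algebraMap hιinj p
  obtain ⟨Φ, hΦ⟩ : ∃ Φ : AlgebraicClosure F →+* AlgebraicClosure F, ∀ x, Φ x = x ^ q := by
    refine ⟨iterateFrobenius (AlgebraicClosure F) p f, fun x => ?_⟩
    rw [iterateFrobenius_def, hqf]
  have hfix : ∀ a : F, Φ (algebraMap F (AlgebraicClosure F) a) = algebraMap F (AlgebraicClosure F) a := by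
    intro a
    rw [hΦ, ← map_pow, hq, FiniteField.pow_card]
  obtain ⟨S, hS⟩ : ∃ S : Matrix (Fin n ⊕ Fin n) (Fin n ⊕ Fin n) F, S = x.1 := ⟨_, rfl⟩
  obtain ⟨U, hU⟩ : ∃ U : Matrix (Fin n ⊕ Fin n) (Fin n ⊕ Fin n) F, U = u.1 := ⟨_, rfl⟩
  have hSmem : S.map (algebraMap F (AlgebraicClosure F)) ∈
      Matrix.symplecticGroup (Fin n) (AlgebraicClosure F) := by
    rw [hS]
    exact SymplecticGroup.map_mem x.2 (algebraMap F (AlgebraicClosure F))
  have hSpow : S ^ (r ^ j) = 1 := by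
    have h1 := congrArg Subtype.val hx
    rw [hS]
    exact h1
  have hUpow : U ^ (p ^ e) = 1 := by
    have h1 := congrArg Subtype.val hu
    rw [hU]
    exact h1
  have hUS : U * S = S * U := by
    have h1 := congrArg Subtype.val hxu
    rw [hU, hS]
    exact h1
  have hmapmul : ∀ M N : Matrix (Fin n ⊕ Fin n) (Fin n ⊕ Fin n) F, (M * N).map ι = M.map ι * N.map ι :=
    fun M N => Matrix.map_mul
  have hmappow : ∀ (M : Matrix (Fin n ⊕ Fin n) (Fin n ⊕ Fin n) F) (k : ℕ),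
      (M ^ k).map ι = (M.map ι) ^ k := by
    intro M k
    exact map_pow ι.mapMatrix M k
  have hApow : (S.map ι) ^ (r ^ j) = 1 := by
    rw [← hmappow, hSpow, Matrix.map_one _ (map_zero ι) (map_one ι)]
  have hS1 : S ≠ 1 := by
    intro h
    apply hx1
    apply Subtype.ext
    rw [← hS, h]
    rfl
  have hA1 : S.map ι ≠ 1 := by
    intro h
    apply hS1
    have h2 : S.map ι = (1 : Matrix (Fin n ⊕ Fin n) (Fin n ⊕ Fin n) F).map ι := by
      rw [h, Matrix.map_one _ (map_zero ι) (map_one ι)]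
    exact Matrix.map_injective hιinj h2
  have hrK : ((r : ℕ) : AlgebraicClosure F) ≠ 0 := by
    rw [Ne, CharP.cast_eq_zero_iff (AlgebraicClosure F) p]
    intro h
    exact hrp ((Nat.prime_dvd_prime_iff_eq hp hr).1 h).symm
  have hrq : ¬ r ∣ q := by
    rw [hqf]
    intro h
    exact hrp ((Nat.prime_dvd_prime_iff_eq hr hp).1 (hr.dvd_of_dvd_pow h))
  have hne : Nonempty (Fin n ⊕ Fin n) := ⟨Sum.inl ⟨0, by omega⟩⟩
  have hNil : IsNilpotent ((U - 1).map ι) := by
    refine ⟨p ^ e, ?_⟩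
    have h1 : (U - 1) ^ (p ^ e) = U ^ (p ^ e) - 1 ^ (p ^ e) :=
      sub_pow_char_pow_of_commute p e (Commute.one_right U)
    rw [← hmappow, h1, hUpow, one_pow, sub_self]
    exact Matrix.map_zero _ (map_zero ι)
  have hNA : (U - 1).map ι * S.map ι = S.map ι * (U - 1).map ι := by
    rw [← hmapmul, ← hmapmul, sub_mul, mul_sub, hUS, one_mul, mul_one]
  have hχ0 : (S.map ι).charpoly ≠ 0 := (Matrix.charpoly_monic _).ne_zero
  have hroot0 : ∀ ν : AlgebraicClosure F, 0 < (S.map ι).charpoly.rootMultiplicity ν → ν ≠ 0 := by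
    intro ν hν h0
    have h1 := root_pow_eq_one (S.map ι) (r ^ j) hApow ν ((Polynomial.rootMultiplicity_pos hχ0).1 hν)
    rw [h0, zero_pow (pow_pos hr.pos j).ne'] at h1
    exact zero_ne_one h1
  have hcardn : Fintype.card (Fin n ⊕ Fin n) = 2 * n := by
    rw [Fintype.card_sum, Fintype.card_fin]
    ring
  have hfrob : ∀ ν : AlgebraicClosure F,
      (S.map ι).charpoly.rootMultiplicity (Φ ν) = (S.map ι).charpoly.rootMultiplicity ν := by
    intro ν
    rw [hι]
    exact mult_frob S Φ hfix ν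
  have hkq : k = orderOf ((q : ℕ) : ZMod r) := by rw [hq]; exact hk
  have h0 : (U - 1).map ι = 0 := by
    rcases hηk with ⟨hodd, hη⟩ | ⟨hev, hη⟩
    · refine core_gen (S.map ι) ((U - 1).map ι) (fun x => (Φ x)⁻¹) (-(q : ℤ)) ?_ ?_ r hr j hApow hrK ?_ hA1
        (2 * k) (by rw [hcardn]; omega) (by rw [hcardn]; omega) (hord_odd r q k hr hr2 hkq hodd) hNil hNA
      · intro w
        show (Φ (w : AlgebraicClosure F))⁻¹ = _
        rw [hΦ, zpow_neg, zpow_natCast, Units.val_inv_eq_inv_val, Units.val_pow_eq_pow_val]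
      · intro ν hν
        show (S.map ι).charpoly.rootMultiplicity (Φ ν)⁻¹ = _
        have hΦν : Φ ν ≠ 0 := by
          intro h
          exact hroot0 ν hν ((map_eq_zero Φ).1 h)
        have h1 := mult_inv_symp ⟨S.map ι, by rw [hι]; exact hSmem⟩ (Φ ν) hΦν
        rw [h1]
        exact hfrob ν
      · rw [dvd_neg, Int.natCast_dvd_natCast]
        exact hrq
    · refine core_gen (S.map ι) ((U - 1).map ι) (fun x => Φ x) (q : ℤ) ?_ ?_ r hr j hApow hrK ?_ hA1
        k (by rw [hcardn]; omega) (by rw [hcardn]; omega) (hord_even r q k hkq) hNil hNA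
      · intro w
        show Φ (w : AlgebraicClosure F) = _
        rw [hΦ, zpow_natCast, Units.val_pow_eq_pow_val]
      · intro ν hν
        exact hfrob ν
      · rw [Int.natCast_dvd_natCast]
        exact hrq
  have hU1 : U = 1 := by
    have h2 : (U - 1).map ι = (0 : Matrix (Fin n ⊕ Fin n) (Fin n ⊕ Fin n) F).map ι := by
      rw [h0, Matrix.map_zero _ (map_zero ι)]
    exact sub_eq_zero.1 (Matrix.map_injective hιinj h2)
  apply Subtype.ext
  rw [← hU, hU1]
  rfl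

end Cfsg.Agent.Lib.helper15.SpRegSemi
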