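import Mathlib
import Cfsg.Agent.Lib.helper15.S5972.Defs

set_option autoImplicit false

/-!
# Transfer between a form `B` and `altB B y r` (`b(u,v) = B(u, (y - y^(r-1)) v)`), for project BCG (S2474, designer helper3).
For `g` commuting with `y`: `g` preserves `B` iff it preserves `altB B y r` (the converse when `y - y^(r-1)` is onto);
`altB` of an alternating invariant form is symmetric, of a symmetric invariant form is alternating.
-/

namespace Cfsg.Agent.Lib.helper15.S5972

open Polynomial Module Cfsg.Agent.Lib.Helper13.S5955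

variable {F : Type*} [Field F] {V : Type*} [AddCommGroup V] [Module F V]

/-- `g` commuting with `y` commutes with `y - y^(r-1)` -/
theorem bcgtr_comm (g y : Module.End F V) (hc : Commute g y) (r : ℕ) (v : V) :
    (y - y ^ (r - 1)) (g v) = g ((y - y ^ (r - 1)) v) := by
  have h1 : Commute g (y - y ^ (r - 1)) := hc.sub_right (hc.pow_right _)
  have h2 := congrArg (fun f : Module.End F V => f v) h1.eq
  simp only [Module.End.mul_apply] at h2
  exact h2.symm

/-- `g` commuting with `y` and preserving `B` preserves `altB B y r` -/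
theorem bcgtr_pres (B : LinearMap.BilinForm F V) (g y : Module.End F V) (hc : Commute g y) (r : ℕ)
    (hg : ∀ u v, B (g u) (g v) = B u v) (u v : V) :
    altB B y r (g u) (g v) = altB B y r u v := by
  have h1 := bcgtr_comm g y hc r v
  rw [LinearMap.sub_apply] at h1
  rw [altB_apply, altB_apply, h1, hg, LinearMap.sub_apply]

/-- conversely, if `y - y^(r-1)` is onto, `g` commuting with `y` and preserving `altB B y r` preserves `B` -/
theorem bcgtr_pres_conv (B : LinearMap.BilinForm F V) (g y : Module.End F V) (hc : Commute g y) (r : ℕ)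
    (hsurj : Function.Surjective (y - y ^ (r - 1)))
    (hg : ∀ u v, altB B y r (g u) (g v) = altB B y r u v) (u w : V) :
    B (g u) (g w) = B u w := by
  obtain ⟨v, rfl⟩ := hsurj w
  have h1 := bcgtr_comm g y hc r v
  have h2 := hg u v
  rw [altB_apply, altB_apply, ← LinearMap.sub_apply, ← LinearMap.sub_apply, h1] at h2
  exact h2

/-- `y ^ (r - 1)` is the inverse of `y` when `y ^ r = 1`, `0 < r` -/
theorem bcgtr_inv (y : Module.End F V) (r : ℕ) (hr : 0 < r) (hy : y ^ r = 1) (v : V) :
    y ((y ^ (r - 1)) v) = v := by
  have h1 : y * y ^ (r - 1) = 1 := by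
    rw [← pow_succ', Nat.sub_add_cancel hr, hy]
  have h2 := congrArg (fun f : Module.End F V => f v) h1
  simpa using h2

/-- for an invariant form: `B u (y⁻¹ v) = B (y u) v` -/
theorem bcgtr_adj (B : LinearMap.BilinForm F V) (y : Module.End F V) (r : ℕ) (hr : 0 < r)
    (hy : y ^ r = 1) (hpres : ∀ u v, B (y u) (y v) = B u v) (u v : V) :
    B u ((y ^ (r - 1)) v) = B (y u) v := by
  rw [← hpres u ((y ^ (r - 1)) v), bcgtr_inv y r hr hy]

/-- `altB` of a symmetric invariant form is alternating -/
theorem bcgtr_alt_of_symm (B : LinearMap.BilinForm F V) (y : Module.End F V) (r : ℕ) (hr : 0 < r)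
    (hy : y ^ r = 1) (hpres : ∀ u v, B (y u) (y v) = B u v) (hsymm : ∀ u v, B u v = B v u) (v : V) :
    altB B y r v v = 0 := by
  rw [altB_apply, map_sub, bcgtr_adj B y r hr hy hpres, hsymm (y v) v, sub_self]

/-- `altB` of an alternating invariant form is symmetric -/
theorem bcgtr_symm_of_alt (B : LinearMap.BilinForm F V) (y : Module.End F V) (r : ℕ) (hr : 0 < r)
    (hy : y ^ r = 1) (hpres : ∀ u v, B (y u) (y v) = B u v) (halt : ∀ v, B v v = 0) (u v : V) :
    altB B y r u v = altB B y r v u := by
  have hskew : ∀ a b, B a b = - B b a := by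
    intro a b
    have h := halt (a + b)
    simp only [map_add, LinearMap.add_apply, halt, zero_add, add_zero] at h
    exact eq_neg_of_add_eq_zero_right h
  rw [altB_apply, altB_apply, map_sub, map_sub, bcgtr_adj B y r hr hy hpres,
    bcgtr_adj B y r hr hy hpres, hskew u (y v), hskew (y u) v]
  ring

/-- `altB B y r` is `y`-invariant when `B` is -/
theorem bcgtr_inv_pres (B : LinearMap.BilinForm F V) (y : Module.End F V) (r : ℕ)
    (hpres : ∀ u v, B (y u) (y v) = B u v) (u v : V) :
    altB B y r (y u) (y v) = altB B y r u v :=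
  bcgtr_pres B y y (Commute.refl y) r hpres u v

end Cfsg.Agent.Lib.helper15.S5972
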