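import Mathlib
import Cfsg.Agent.Lib.helper15.S5972.Defs

/-!
# Project S5972, row STDO : `stdO_facts` (verbatim)
-/

set_option autoImplicit false

namespace Cfsg.Agent.Lib.helper15.S5972

open Polynomial Module Cfsg.Agent.Lib.Helper13.S5955

/-- the explicit formula of the standard polar form -/
theorem s5972stdo_formula {F : Type*} [Field F] (d : ℕ) (u x : Unit ⊕ (Fin d ⊕ Fin d) → F) :
    stdO d F u x = 2 * u (Sum.inl ()) * x (Sum.inl ()) +
      ∑ i : Fin d, (u (Sum.inr (Sum.inl i)) * x (Sum.inr (Sum.inr i)) +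
        x (Sum.inr (Sum.inl i)) * u (Sum.inr (Sum.inr i))) := by
  have h := Cfsg.Agent.Lib.Helper16.polar_odd d F u x
  rw [← h]
  rfl

theorem stdO_facts {F : Type*} [Field F] (h2 : (2 : F) ≠ 0) (d : ℕ) :
    (∀ u v, stdO d F u v = stdO d F v u) ∧ (∀ u, (∀ v, stdO d F u v = 0) → u = 0) ∧
      (∀ v, stdO d F v v = 2 * Cfsg.quadFormOdd d F v) ∧
      (∀ W : Submodule F (Unit ⊕ (Fin d ⊕ Fin d) → F),
        STI (stdO d F) W ↔ ∀ w ∈ W, Cfsg.quadFormOdd d F w = 0) := by
  classical
  have hsymm : ∀ u v, stdO d F u v = stdO d F v u := by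
    intro u v
    rw [stdO_apply, stdO_apply, add_comm u v]
    ring
  have hself : ∀ v, stdO d F v v = 2 * Cfsg.quadFormOdd d F v := by
    intro v
    rw [s5972stdo_formula]
    unfold Cfsg.quadFormOdd
    have : ∀ i : Fin d, v (Sum.inr (Sum.inl i)) * v (Sum.inr (Sum.inr i)) +
        v (Sum.inr (Sum.inl i)) * v (Sum.inr (Sum.inr i)) =
        2 * (v (Sum.inr (Sum.inl i)) * v (Sum.inr (Sum.inr i))) := fun i => by ring
    simp_rw [this]
    rw [← Finset.mul_sum]
    ring
  refine ⟨hsymm, ?_, hself, ?_⟩
  · intro u hu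
    funext k
    rcases k with ⟨⟩ | k | k
    · have h := hu (Pi.single (Sum.inl ()) 1)
      rw [s5972stdo_formula] at h
      simp only [Pi.single_eq_same, mul_one, Pi.single_apply, reduceCtorEq, if_false, mul_zero,
        zero_mul, add_zero, Finset.sum_const_zero] at h
      rcases mul_eq_zero.mp h with h | h
      · exact absurd h h2
      · exact h
    · have h := hu (Pi.single (Sum.inr (Sum.inr k)) 1)
      rw [s5972stdo_formula] at h
      simp only [Pi.single_apply, reduceCtorEq, if_false, mul_zero, zero_mul, add_zero,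
        Sum.inr.injEq, zero_add, mul_ite, mul_one, Finset.sum_ite_eq', Finset.mem_univ,
        if_true] at h
      exact h
    · have h := hu (Pi.single (Sum.inr (Sum.inl k)) 1)
      rw [s5972stdo_formula] at h
      simp only [Pi.single_apply, reduceCtorEq, if_false, mul_zero, zero_mul, add_zero,
        Sum.inr.injEq, Sum.inl.injEq, zero_add, ite_mul, one_mul, Finset.sum_ite_eq',
        Finset.mem_univ, if_true] at h
      exact h
  · intro W
    constructor
    · intro hW w hw
      have h := hW w hw w hw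
      rw [hself] at h
      rcases mul_eq_zero.mp h with h | h
      · exact absurd h h2
      · exact h
    · intro hW u hu v hv
      rw [stdO_apply, hW u hu, hW v hv, hW (u + v) (W.add_mem hu hv)]
      ring

end Cfsg.Agent.Lib.helper15.S5972
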