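import Mathlib
import Cfsg.Agent.Lib.helper15.S5972.Defs
import Cfsg.Agent.Lib.helper8.S5955X1

/-!
# Project S5972, row OS2CTX : `os2_ctx` (verbatim)
-/

set_option autoImplicit false
set_option linter.unusedVariables false
set_option linter.unusedSectionVars false

namespace Cfsg.Agent.Lib.helper15.S5972

open Polynomial Module Matrix Cfsg.Agent.Lib.Helper13.S5955

variable {F : Type*} [Field F] {V : Type*} [AddCommGroup V] [Module F V]

theorem s5972os2_mem_fixS (x : Module.End F V) (v : V) : v ∈ fixS x ↔ x v = v := by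
  unfold fixS
  rw [LinearMap.mem_ker]
  simp only [map_sub, aeval_X, map_one, LinearMap.sub_apply, Module.End.one_apply]
  exact sub_eq_zero

/-- `y (y ^ (r - 1) v) = v` and `y ^ (r - 1) (y v) = v` -/
theorem s5972os2_inv {r : ℕ} (hr1 : 1 < r) (y : Module.End F V) (hy : y ^ r = 1) (v : V) :
    y ((y ^ (r - 1)) v) = v ∧ (y ^ (r - 1)) (y v) = v := by
  have h1 : y * y ^ (r - 1) = 1 := by rw [← pow_succ', Nat.sub_add_cancel (by omega), hy]
  have h2 : y ^ (r - 1) * y = 1 := by rw [← pow_succ, Nat.sub_add_cancel (by omega), hy]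
  exact ⟨LinearMap.congr_fun h1 v, LinearMap.congr_fun h2 v⟩

/-- `x - x ^ (r - 1)` is injective when `x ^ r = 1`, `r` odd, and `x` has no fixed vector -/
theorem s5972os2_inj {r : ℕ} (hr : Odd r) (hr1 : 1 < r) (y : Module.End F V) (hy : y ^ r = 1)
    (hfix : ∀ v, y v = v → v = 0) (v : V) (hv : y v - (y ^ (r - 1)) v = 0) : v = 0 := by
  apply hfix
  have h1 : y v = (y ^ (r - 1)) v := sub_eq_zero.mp hv
  have h2 : y (y v) = v := by rw [h1]; exact (s5972os2_inv hr1 y hy v).1
  obtain ⟨k, hk⟩ := hr
  have h3 : ∀ n : ℕ, (y ^ (2 * n)) v = v := by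
    intro n
    induction n with
    | zero => simp
    | succ n ih =>
      have : 2 * (n + 1) = 2 * n + 2 := by ring
      rw [this, pow_add, Module.End.mul_apply, pow_two, Module.End.mul_apply, h2, ih]
  have h4 : (y ^ r) v = y v := by
    rw [hk, pow_succ, Module.End.mul_apply]
    have := h3 k
    -- (y^(2k)) (y v) = y v : apply h3 to `y v`? use commutation instead
    have h5 : (y ^ (2 * k)) (y v) = y ((y ^ (2 * k)) v) := by
      rw [← Module.End.mul_apply, ← Module.End.mul_apply, ← pow_succ, ← pow_succ']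
    rw [h5, this]
  rw [hy] at h4
  exact h4.symm

/-- adjoint rules for an isometry with `y ^ r = 1` -/
theorem s5972os2_adj {r : ℕ} (hr1 : 1 < r) (B : LinearMap.BilinForm F V) (y : Module.End F V)
    (hpres : ∀ u v, B (y u) (y v) = B u v) (hy : y ^ r = 1) (u v : V) :
    B u (y v) = B ((y ^ (r - 1)) u) v ∧ B u ((y ^ (r - 1)) v) = B (y u) v := by
  constructor
  · have := hpres ((y ^ (r - 1)) u) v
    rw [(s5972os2_inv hr1 y hy u).1] at this
    exact this
  · have := hpres u ((y ^ (r - 1)) v)
    rw [(s5972os2_inv hr1 y hy v).1] at this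
    exact this.symm

theorem s5972os2_pow {h : ℕ} (y : Module.End F (Fin h ⊕ Fin h → F)) (k n : ℕ) (u : OS2 F h k) :
    ((os2X y k) ^ n) u = ((y ^ n) u.1, u.2) := by
  induction n generalizing u with
  | zero => simp
  | succ n ih =>
    rw [pow_succ, Module.End.mul_apply, ih, os2X_apply, pow_succ, Module.End.mul_apply]

theorem os2_ctx {F : Type*} [Field F] {h : ℕ} (r k : ℕ) (hr : Odd r) (hr1 : 1 < r)
    (y : Module.End F (Fin h ⊕ Fin h → F)) (hy : SCtx r (stdB h F) y) (hfix : fixS y = ⊥) :
    OCtx r (os2B y r k) (os2X y k) ∧ finrank F (OS2 F h k) = 2 * h + k ∧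
      finrank F (fixS (os2X y k)) = k ∧ (1 ≤ h → os2X y k ≠ 1) := by
  classical
  obtain ⟨halt, hnd⟩ := stdB_alt_nd (F := F) h
  have hfix' : ∀ v, y v = v → v = 0 := by
    intro v hv
    have : v ∈ fixS y := (s5972os2_mem_fixS y v).mpr hv
    rw [hfix] at this
    exact (Submodule.mem_bot F).mp this
  have hskew : ∀ a b, stdB h F a b = - stdB h F b a := by
    intro a b
    have := halt (a + b)
    simp only [map_add, LinearMap.add_apply, halt, zero_add, add_zero] at this
    exact eq_neg_of_add_eq_zero_left ((add_comm _ _).trans this)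
  -- D = y - y^(r-1)
  let D : Module.End F (Fin h ⊕ Fin h → F) := y - y ^ (r - 1)
  have hD : ∀ v, D v = y v - (y ^ (r - 1)) v := fun v => rfl
  have hDinj : Function.Injective D := by
    rw [← LinearMap.ker_eq_bot, LinearMap.ker_eq_bot']
    intro v hv
    exact s5972os2_inj hr hr1 y hy.pow hfix' v hv
  have hDsurj : Function.Surjective D := LinearMap.surjective_of_injective hDinj
  have hcomm : ∀ v, D (y v) = y (D v) := by
    intro v
    rw [hD, hD, map_sub]
    congr 1
    rw [(s5972os2_inv hr1 y hy.pow v).2, (s5972os2_inv hr1 y hy.pow v).1]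
  have hA : ∀ u v, altB (stdB h F) y r u v = stdB h F u (D v) := fun u v => rfl
  have hAsymm : ∀ u v, altB (stdB h F) y r u v = altB (stdB h F) y r v u := by
    intro u v
    rw [hA, hA, hD, hD, map_sub, map_sub]
    obtain ⟨h1, h2⟩ := s5972os2_adj hr1 (stdB h F) y hy.pres hy.pow u v
    rw [h1, h2, hskew ((y ^ (r - 1)) u) v, hskew (y u) v]
    ring
  refine ⟨⟨?_, ?_, ?_, ?_⟩, ?_, ?_, ?_⟩
  · intro u v
    rw [os2B_apply, os2B_apply, hAsymm, dotProduct_comm]
  · intro u hu
    have h1 : u.1 = 0 := by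
      apply hnd
      intro w
      obtain ⟨v, rfl⟩ := hDsurj w
      have := hu (v, 0)
      rw [os2B_apply, hA] at this
      simpa using this
    have h2 : u.2 = 0 := by
      apply dotProduct_eq_zero_iff.mp
      intro b
      have := hu (0, b)
      rw [os2B_apply, hA] at this
      simpa using this
    exact Prod.ext h1 h2
  · intro u v
    rw [os2B_apply, os2B_apply, os2X_apply, os2X_apply, hA, hA]
    show stdB h F (y u.1) (D (y v.1)) + u.2 ⬝ᵥ v.2 = _
    rw [hcomm, hy.pres]
  · apply LinearMap.ext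
    intro u
    rw [s5972os2_pow, hy.pow]
    rfl
  · rw [Module.finrank_prod, Module.finrank_fintype_fun_eq_card, Module.finrank_fintype_fun_eq_card,
      Fintype.card_sum, Fintype.card_fin, Fintype.card_fin]
    ring
  · have hker : fixS (os2X y k) = LinearMap.range (LinearMap.inr F (Fin h ⊕ Fin h → F) (Fin k → F)) := by
      ext u
      rw [s5972os2_mem_fixS, os2X_apply, LinearMap.mem_range]
      constructor
      · intro hu
        have h1 : y u.1 = u.1 := congrArg Prod.fst hu
        refine ⟨u.2, ?_⟩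
        apply Prod.ext
        · exact (hfix' _ h1).symm
        · rfl
      · rintro ⟨b, rfl⟩
        simp
    rw [hker, LinearMap.finrank_range_of_inj LinearMap.inr_injective,
      Module.finrank_fintype_fun_eq_card, Fintype.card_fin]
  · intro hh h1
    have hv : (Pi.single (Sum.inl ⟨0, by omega⟩) 1 : Fin h ⊕ Fin h → F) = 0 := by
      apply hfix'
      have := LinearMap.congr_fun h1 ((Pi.single (Sum.inl ⟨0, by omega⟩) 1 : Fin h ⊕ Fin h → F), 0)
      rw [os2X_apply] at this
      exact congrArg Prod.fst this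
    have := congrFun hv (Sum.inl ⟨0, by omega⟩)
    simp at this

end Cfsg.Agent.Lib.helper15.S5972
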