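import Mathlib
import Cfsg.Agent.Lib.Lead.BCG.Defs
import Cfsg.Agent.Lib.helper15.S5972OS2CTX
import Cfsg.Agent.Lib.Helper24.S5972TRANSPORT

set_option autoImplicit false

/-!
# Project BCG, row T5 (`o_of_fpf_std`), verbatim from `Lead/BCG/Skel.lean.txt`.
-/

namespace Cfsg.Agent.Lib.Lead.BCG

open Polynomial Module Matrix Cfsg.Agent.Lib.Helper13.S5955 Cfsg.Agent.Lib.helper15.S5972
  Cfsg.Agent.Lib.Helper18.ONE Cfsg.Agent.Lib.Lead.BCS

/-- an intertwining linear equivalence intertwines the powers -/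
theorem bcgt5_pow {F : Type*} [Field F] {V V' : Type*} [AddCommGroup V] [Module F V]
    [AddCommGroup V'] [Module F V'] (y : Module.End F V) (x' : Module.End F V') (ψ : V ≃ₗ[F] V')
    (hψ : ∀ u, ψ (y u) = x' (ψ u)) (j : ℕ) (u : V) : ψ ((y ^ j) u) = (x' ^ j) (ψ u) := by
  induction j generalizing u with
  | zero => simp
  | succ j ih =>
    rw [pow_succ, Module.End.mul_apply, ih, hψ, pow_succ, Module.End.mul_apply]

/-- T5 [M]: helper15 `os2_ctx` with `r = N`, `k = 2d + 1 - 2h'`, `o_transport`. -/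
theorem o_of_fpf_std {F : Type*} [Field F] [Fintype F] (h2 : (2 : F) ≠ 0) {N : ℕ} (hNo : Odd N)
    (hN1 : 1 < N) (h' d : ℕ) (hh : h' ≤ d) (y₀ : Module.End F (Fin h' ⊕ Fin h' → F))
    (hy : SCtx N (stdB h' F) y₀) (hfix : fixS y₀ = ⊥) :
    ∃ y : Module.End F (Unit ⊕ (Fin d ⊕ Fin d) → F), OCtx N (stdO d F) y ∧ SameOrd y y₀ := by
  obtain ⟨hctx, hfr, -, -⟩ := os2_ctx N (2 * d + 1 - 2 * h') hNo hN1 y₀ hy hfix
  have hfr' : finrank F (OS2 F h' (2 * d + 1 - 2 * h')) = 2 * d + 1 := by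
    rw [hfr]
    omega
  obtain ⟨y, ψ, c, hc, hyctx, hB, hψ⟩ := o_transport h2 (os2B y₀ N (2 * d + 1 - 2 * h'))
    (os2X y₀ (2 * d + 1 - 2 * h')) hctx d hfr'
  refine ⟨y, hyctx, ?_⟩
  intro j
  constructor
  · intro hj
    apply LinearMap.ext
    intro v
    have h1 := bcgt5_pow y (os2X y₀ (2 * d + 1 - 2 * h')) ψ hψ j (ψ.symm (v, 0))
    rw [hj, Module.End.one_apply, LinearEquiv.apply_symm_apply, s5972os2_pow] at h1
    have h3 := congrArg Prod.fst h1
    simp only at h3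
    rw [Module.End.one_apply]
    exact h3.symm
  · intro hj
    apply LinearMap.ext
    intro u
    have h1 := bcgt5_pow y (os2X y₀ (2 * d + 1 - 2 * h')) ψ hψ j u
    rw [s5972os2_pow, hj, Module.End.one_apply] at h1
    rw [Module.End.one_apply]
    exact ψ.injective h1

end Cfsg.Agent.Lib.Lead.BCG
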