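import Mathlib
import Cfsg.Agent.Lib.Lead.BCG.Defs
import Cfsg.Agent.Lib.Helper26.BCGT2b
import Cfsg.Agent.Lib.Helper5.S5955T7
import Cfsg.Agent.Lib.helper8.S5955X4
import Cfsg.Agent.Lib.Lead.S5955T2
import Cfsg.Agent.Lib.Helper24.ElC
import Cfsg.Agent.Lib.helper15.BCGT5

set_option autoImplicit false

/-!
# Project BCG, row T4 (`o_restrict_geo`): core, with the conclusion of T1 (`geo_split`) as a hypothesis.
-/

namespace Cfsg.Agent.Lib.Lead.BCG

open Polynomial Module Matrix Cfsg.Agent.Lib.Helper13.S5955 Cfsg.Agent.Lib.helper15.S5972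
  Cfsg.Agent.Lib.Helper18.ONE Cfsg.Agent.Lib.Lead.BCS

/-- restriction of a bilinear form to a submodule, applied -/
theorem bcgt4_restrict_apply {F : Type*} [Field F] {V : Type*} [AddCommGroup V] [Module F V]
    (B : LinearMap.BilinForm F V) (W : Submodule F V) (a b : W) :
    B.restrict W a b = B (a : V) (b : V) := rfl

/-- `geoS N x` is `x`-invariant -/
theorem bcgt4_geo_inv {F : Type*} [Field F] {V : Type*} [AddCommGroup V] [Module F V] (N : ℕ)
    (x : Module.End F V) : ∀ v ∈ geoS N x, x v ∈ geoS N x :=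
  Cfsg.Agent.Lib.Helper24.el_inv_ker x _

/-- the powers of `x` on `V = fixS x ⊕ W` are determined by those of `x|W` -/
theorem bcgt4_same {F : Type*} [Field F] {V : Type*} [AddCommGroup V] [Module F V]
    (x : Module.End F V) (W : Submodule F V) (hW : ∀ v ∈ W, x v ∈ W) (hsup : fixS x ⊔ W = ⊤)
    (k : ℕ) : (x.restrict hW) ^ k = 1 ↔ x ^ k = 1 := by
  constructor
  · intro hk
    apply LinearMap.ext
    intro v
    have hv : v ∈ fixS x ⊔ W := by rw [hsup]; exact Submodule.mem_top
    obtain ⟨f, hf, w, hw, rfl⟩ := Submodule.mem_sup.mp hv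
    have hfix : ∀ j : ℕ, (x ^ j) f = f := by
      intro j
      induction j with
      | zero => simp
      | succ j ih =>
        rw [pow_succ, Module.End.mul_apply, (s5955t2_mem_fixS x f).mp hf, ih]
    have hw' : (x ^ k) w = w := by
      have h1 := congrArg (fun g : Module.End F W => ((g ⟨w, hw⟩ : W) : V)) hk
      simp only [Module.End.one_apply] at h1
      rw [Module.End.pow_restrict k hW, LinearMap.coe_restrict_apply] at h1
      exact h1
    rw [map_add, hfix, hw', Module.End.one_apply]
  · intro hk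
    rw [Module.End.pow_restrict k hW]
    apply LinearMap.ext
    intro u
    apply Subtype.ext
    rw [LinearMap.coe_restrict_apply, hk]
    rfl

/-- T4 core: the conclusion of T1 `geo_split` as a hypothesis -/
theorem bcgt4_core {F : Type*} [Field F] {V : Type*} [AddCommGroup V] [Module F V]
    [FiniteDimensional F V] {N : ℕ} (hNo : Odd N) (hN : (N : F) ≠ 0)
    {B : LinearMap.BilinForm F V} {x : Module.End F V} (h : OCtx N B x)
    (hsplit : SOrth B (fixS x) (geoS N x) ∧ IsCompl (fixS x) (geoS N x) ∧ SND B (fixS x) ∧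
      SND B (geoS N x)) :
    ∃ (h' : ℕ) (y₀ : Module.End F (Fin h' ⊕ Fin h' → F)), SCtx N (stdB h' F) y₀ ∧
      fixS y₀ = ⊥ ∧ 2 * h' + finrank F (fixS x) = finrank F V ∧ SameOrd y₀ x := by
  classical
  obtain ⟨-, hcompl, -, hWnd⟩ := hsplit
  have hWinv := bcgt4_geo_inv N x
  -- the restricted orthogonal context
  have hctx' : OCtx N (B.restrict (geoS N x)) (x.restrict hWinv) := by
    refine ⟨?_, ?_, ?_, ?_⟩
    · intro u v
      rw [bcgt4_restrict_apply, bcgt4_restrict_apply]
      exact h.symm _ _
    · intro u hu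
      apply Subtype.ext
      apply hWnd (u : V) u.2
      intro v hv
      exact hu ⟨v, hv⟩
    · intro u v
      rw [bcgt4_restrict_apply, bcgt4_restrict_apply, LinearMap.coe_restrict_apply,
        LinearMap.coe_restrict_apply]
      exact h.pres _ _
    · rw [Module.End.pow_restrict N hWinv]
      apply LinearMap.ext
      intro u
      apply Subtype.ext
      rw [LinearMap.coe_restrict_apply, h.pow]
      rfl
  have hfix' : fixS (x.restrict hWinv) = ⊥ := by
    rw [eq_bot_iff]
    intro u hu
    rw [s5955t2_mem_fixS] at hu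
    have h1 : x (u : V) = (u : V) := by
      have := congrArg Subtype.val hu
      rwa [LinearMap.coe_restrict_apply] at this
    have hmem : (u : V) ∈ fixS x ⊓ geoS N x := ⟨(s5955t2_mem_fixS x _).mpr h1, u.2⟩
    rw [hcompl.inf_eq_bot, Submodule.mem_bot] at hmem
    rw [Submodule.mem_bot]
    exact Subtype.ext hmem
  obtain ⟨hS, -⟩ := altb_of_octx hNo hctx' hfix'
  -- even dimension
  have hnd_top : SND (altB (B.restrict (geoS N x)) (x.restrict hWinv) N)
      (⊤ : Submodule F ↥(geoS N x)) := fun u _ hu => hS.nd u (fun v => hu v Submodule.mem_top)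
  have heven := nd_even (altB (B.restrict (geoS N x)) (x.restrict hWinv) N) hS.alt ⊤ hnd_top
  rw [finrank_top] at heven
  obtain ⟨h', hh'⟩ := heven
  have hdimW : finrank F ↥(geoS N x) = 2 * h' := by omega
  obtain ⟨y₀, ψ, hy₀, -, hψ⟩ := transport (altB (B.restrict (geoS N x)) (x.restrict hWinv) N)
    (x.restrict hWinv) hS h' hdimW
  refine ⟨h', y₀, hy₀, ?_, ?_, ?_⟩
  · rw [eq_bot_iff]
    intro u hu
    rw [s5955t2_mem_fixS] at hu
    have h1 : ψ u ∈ fixS (x.restrict hWinv) := by
      rw [s5955t2_mem_fixS, ← hψ, hu]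
    rw [hfix', Submodule.mem_bot] at h1
    rw [Submodule.mem_bot]
    exact ψ.map_eq_zero_iff.mp h1
  · have := Submodule.finrank_add_eq_of_isCompl hcompl
    omega
  · intro k
    rw [← bcgt4_same x (geoS N x) hWinv hcompl.sup_eq_top k]
    constructor
    · intro hk
      apply LinearMap.ext
      intro w
      have h1 := bcgt5_pow y₀ (x.restrict hWinv) ψ hψ k (ψ.symm w)
      rw [hk, Module.End.one_apply, LinearEquiv.apply_symm_apply] at h1
      rw [Module.End.one_apply]
      exact h1.symm
    · intro hk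
      apply LinearMap.ext
      intro u
      have h1 := bcgt5_pow y₀ (x.restrict hWinv) ψ hψ k u
      rw [hk, Module.End.one_apply] at h1
      rw [Module.End.one_apply]
      exact ψ.injective h1

end Cfsg.Agent.Lib.Lead.BCG
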