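import Mathlib
import Cfsg.Agent.Lib.Lead.BCG.Defs
import Cfsg.Agent.Lib.helper15.BCGT4core
import Cfsg.Agent.Lib.Helper1.BCGT1

set_option autoImplicit false

/-!
# Project BCG, row T4 (`o_restrict_geo`), verbatim from `Lead/BCG/Skel.lean.txt`.
-/

namespace Cfsg.Agent.Lib.Lead.BCG

open Polynomial Module Matrix Cfsg.Agent.Lib.Helper13.S5955 Cfsg.Agent.Lib.helper15.S5972
  Cfsg.Agent.Lib.Helper18.ONE Cfsg.Agent.Lib.Lead.BCS

/-- T4 [M-L] (generalises helper15 `o_restrict`): `W = geoS N x`, `x' = x.restrict`, `B' = B.restrict W`: `OCtx N B' x'`, `fixS x' = ⊥`;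
T2b on `↥W`: `SCtx N (altB B' x' N) x'`; `nd_even`; S5955 `transport`. -/
theorem o_restrict_geo {F : Type*} [Field F] {V : Type*} [AddCommGroup V] [Module F V]
    [FiniteDimensional F V] {N : ℕ} (hNo : Odd N) (hN : (N : F) ≠ 0)
    {B : LinearMap.BilinForm F V} {x : Module.End F V} (h : OCtx N B x) :
    ∃ (h' : ℕ) (y₀ : Module.End F (Fin h' ⊕ Fin h' → F)), SCtx N (stdB h' F) y₀ ∧
      fixS y₀ = ⊥ ∧ 2 * h' + finrank F (fixS x) = finrank F V ∧ SameOrd y₀ x :=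
  bcgt4_core hNo hN h
    (geo_split B (fun u v huv => by rw [h.symm]; exact huv) h.nd x h.pres N h.pow hN)

end Cfsg.Agent.Lib.Lead.BCG
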