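import Mathlib
import Cfsg.Agent.Lib.helper15.S5972.Defs
import Cfsg.Agent.Lib.helper15.S5972STDO
import Cfsg.Agent.Lib.Helper16.SpinA

/-!
# Project S5972, rows STDCTX (`std_octx`, `omegaGL_le`) and REALIZE (`o_realize`) (verbatim)
-/

set_option autoImplicit false

namespace Cfsg.Agent.Lib.helper15.S5972

open Polynomial Module Matrix Cfsg.Agent.Lib.Helper13.S5955

/-- powers of `toLin'` of a unit -/
theorem s5972stdctx_pow {ι : Type} [Fintype ι] [DecidableEq ι] {F : Type*} [Field F] (x : GL ι F) (r : ℕ) :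
    (Matrix.toLin' (x : Matrix ι ι F)) ^ r = Matrix.toLin' ((x ^ r : GL ι F) : Matrix ι ι F) := by
  induction r with
  | zero =>
    rw [pow_zero, pow_zero, Units.val_one, Matrix.toLin'_one]
    rfl
  | succ n ih =>
    rw [pow_succ, pow_succ, ih, Units.val_mul, Matrix.toLin'_mul]
    rfl

theorem std_octx {F : Type*} [Field F] (h2 : (2 : F) ≠ 0) (d r : ℕ)
    (x : GL (Unit ⊕ (Fin d ⊕ Fin d)) F)
    (hx : x ∈ Cfsg.isometryGroup F (Cfsg.quadFormOdd d F)) (hxr : x ^ r = 1) :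
    OCtx r (stdO d F)
      (Matrix.toLin' (x : Matrix (Unit ⊕ (Fin d ⊕ Fin d)) (Unit ⊕ (Fin d ⊕ Fin d)) F)) := by
  obtain ⟨hsymm, hnd, hself, hsti⟩ := stdO_facts (F := F) h2 d
  have hpres := (Cfsg.Agent.Lib.Helper16.mem_iso_iff (Cfsg.quadFormOdd d F) x).mp hx
  refine ⟨hsymm, hnd, ?_, ?_⟩
  · intro u v
    rw [stdO_apply, stdO_apply, ← map_add]
    simp only [Matrix.toLin'_apply]
    rw [hpres, hpres, hpres]
  · rw [s5972stdctx_pow, hxr, Units.val_one, Matrix.toLin'_one]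
    rfl

theorem omegaGL_le {F : Type*} [Field F] (d : ℕ) (x : GL (Unit ⊕ (Fin d ⊕ Fin d)) F)
    (hx : x ∈ Cfsg.Geo.omegaGL (Cfsg.quadFormOdd d F)) :
    x ∈ Cfsg.isometryGroup F (Cfsg.quadFormOdd d F) := by
  obtain ⟨g, _, rfl⟩ := hx
  exact g.2

theorem o_realize {F : Type*} [Field F] (h2 : (2 : F) ≠ 0) (d r : ℕ)
    (y : Module.End F (Unit ⊕ (Fin d ⊕ Fin d) → F)) (h : OCtx r (stdO d F) y) :
    ∃ x : GL (Unit ⊕ (Fin d ⊕ Fin d)) F, x ∈ Cfsg.isometryGroup F (Cfsg.quadFormOdd d F) ∧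
      Matrix.toLin' (x : Matrix (Unit ⊕ (Fin d ⊕ Fin d)) (Unit ⊕ (Fin d ⊕ Fin d)) F) = y ∧
      x ^ r = 1 := by
  classical
  obtain ⟨hsymm, hnd, hself, hsti⟩ := stdO_facts (F := F) h2 d
  -- `y` is injective, hence bijective
  have hinj : Function.Injective y := by
    rw [← LinearMap.ker_eq_bot, LinearMap.ker_eq_bot']
    intro u hu
    apply h.nd
    intro v
    -- `B u v = B (y u) (y v) = 0`
    rw [← h.pres u v, hu, map_zero, LinearMap.zero_apply]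
  have hbij : Function.Bijective y := ⟨hinj, LinearMap.surjective_of_injective hinj⟩
  let e : (Unit ⊕ (Fin d ⊕ Fin d) → F) ≃ₗ[F] (Unit ⊕ (Fin d ⊕ Fin d) → F) :=
    LinearEquiv.ofBijective y hbij
  let M : Matrix (Unit ⊕ (Fin d ⊕ Fin d)) (Unit ⊕ (Fin d ⊕ Fin d)) F := LinearMap.toMatrix' y
  let Mi : Matrix (Unit ⊕ (Fin d ⊕ Fin d)) (Unit ⊕ (Fin d ⊕ Fin d)) F :=
    LinearMap.toMatrix' (e.symm : (Unit ⊕ (Fin d ⊕ Fin d) → F) →ₗ[F] (Unit ⊕ (Fin d ⊕ Fin d) → F))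
  have h1 : M * Mi = 1 := by
    rw [← LinearMap.toMatrix'_comp, ← LinearMap.toMatrix'_id]
    congr 1
    apply LinearMap.ext
    intro v
    exact e.apply_symm_apply v
  have h2' : Mi * M = 1 := by
    rw [← LinearMap.toMatrix'_comp, ← LinearMap.toMatrix'_id]
    congr 1
    apply LinearMap.ext
    intro v
    exact e.symm_apply_apply v
  let x : GL (Unit ⊕ (Fin d ⊕ Fin d)) F := ⟨M, Mi, h1, h2'⟩
  have hxy : Matrix.toLin' (x : Matrix (Unit ⊕ (Fin d ⊕ Fin d)) (Unit ⊕ (Fin d ⊕ Fin d)) F) = y :=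
    Matrix.toLin'_toMatrix' y
  refine ⟨x, ?_, hxy, ?_⟩
  · rw [Cfsg.Agent.Lib.Helper16.mem_iso_iff]
    intro v
    have hv : (x : Matrix (Unit ⊕ (Fin d ⊕ Fin d)) (Unit ⊕ (Fin d ⊕ Fin d)) F) *ᵥ v = y v := by
      rw [← Matrix.toLin'_apply, hxy]
    rw [hv]
    have h3 := h.pres v v
    rw [hself, hself] at h3
    exact mul_left_cancel₀ h2 h3
  · apply Units.ext
    rw [Units.val_pow_eq_pow_val, Units.val_one]
    apply Matrix.toLin'.injective
    have hp := s5972stdctx_pow x r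
    rw [hxy, h.pow] at hp
    rw [← Units.val_pow_eq_pow_val, ← hp, Matrix.toLin'_one]
    rfl

end Cfsg.Agent.Lib.helper15.S5972
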