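import Mathlib

set_option autoImplicit false

namespace Cfsg.Agent.Lib.helper15

open Matrix

section Card

variable {F : Type*} [Field F] [Fintype F]

theorem card_GL2 : Nat.card (GL (Fin 2) F) =
    (Fintype.card F ^ 2 - 1) * (Fintype.card F ^ 2 - Fintype.card F) := by
  rw [Matrix.card_GL_field, Fin.prod_univ_two]
  simp

theorem ker_det_eq_range :
    (Matrix.GeneralLinearGroup.det : GL (Fin 2) F →* Fˣ).ker =
      (Matrix.SpecialLinearGroup.toGL : Matrix.SpecialLinearGroup (Fin 2) F →* GL (Fin 2) F).range := by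
  ext x
  rw [MonoidHom.mem_ker, MonoidHom.mem_range]
  constructor
  · intro hx
    have hdet : (x : Matrix (Fin 2) (Fin 2) F).det = 1 := by
      have : ((Matrix.GeneralLinearGroup.det x : Fˣ) : F) = 1 := by rw [hx, Units.val_one]
      exact this
    refine ⟨⟨_, hdet⟩, ?_⟩
    apply Units.ext
    rfl
  · rintro ⟨s, rfl⟩
    apply Units.ext
    show ((Matrix.SpecialLinearGroup.toGL s : GL (Fin 2) F) : Matrix (Fin 2) (Fin 2) F).det = 1
    rw [Matrix.SpecialLinearGroup.coe_GL_coe_matrix]
    exact s.2

theorem card_SL2 : Nat.card (Matrix.SpecialLinearGroup (Fin 2) F) =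
    Fintype.card F * (Fintype.card F ^ 2 - 1) := by
  have hq : 2 ≤ Fintype.card F := Fintype.one_lt_card
  have h1 := Subgroup.card_mul_index (Matrix.GeneralLinearGroup.det : GL (Fin 2) F →* Fˣ).ker
  rw [Subgroup.index_ker, MonoidHom.range_eq_top.mpr Matrix.GeneralLinearGroup.det_surjective,
    Nat.card_congr Subgroup.topEquiv.toEquiv, Nat.card_units, Nat.card_eq_fintype_card (α := F),
    card_GL2, ker_det_eq_range,
    ← Nat.card_congr (MonoidHom.ofInjective Matrix.SpecialLinearGroup.toGL_injective).toEquiv] at h1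
  have h2 : Fintype.card F ^ 2 - Fintype.card F = Fintype.card F * (Fintype.card F - 1) := by
    rw [Nat.mul_sub, mul_one, pow_two]
  rw [h2] at h1
  have h3 : (Fintype.card F ^ 2 - 1) * (Fintype.card F * (Fintype.card F - 1)) =
      (Fintype.card F * (Fintype.card F ^ 2 - 1)) * (Fintype.card F - 1) := by ring
  rw [h3] at h1
  exact Nat.eq_of_mul_eq_mul_right (by omega) h1

end Card

end Cfsg.Agent.Lib.helper15
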