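import Mathlib

set_option autoImplicit false

namespace Cfsg.Agent.Lib.helper15

open Matrix

section TwoByTwo

variable {F : Type*} [Field F]

theorem m2_cayley (g : Matrix (Fin 2) (Fin 2) F) :
    g * g = g.trace • g - g.det • (1 : Matrix (Fin 2) (Fin 2) F) := by
  ext i j
  fin_cases i <;> fin_cases j <;>
    simp [Matrix.mul_apply, Fin.sum_univ_two, Matrix.trace_fin_two, Matrix.det_fin_two] <;> ring

theorem m2_sq (g : Matrix (Fin 2) (Fin 2) F) (hdet : g.det = 1) :
    g * g = g.trace • g - 1 := by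
  rw [m2_cayley, hdet, one_smul]

theorem m2_det_lin (g : Matrix (Fin 2) (Fin 2) F) (hdet : g.det = 1) (a b : F) :
    (a • (1 : Matrix (Fin 2) (Fin 2) F) + b • g).det = a ^ 2 + a * b * g.trace + b ^ 2 := by
  rw [Matrix.det_fin_two] at hdet ⊢
  simp only [Matrix.add_apply, Matrix.smul_apply, Matrix.one_apply_eq, smul_eq_mul,
    Matrix.trace_fin_two]
  have h01 : (1 : Matrix (Fin 2) (Fin 2) F) 0 1 = 0 := by simp
  have h10 : (1 : Matrix (Fin 2) (Fin 2) F) 1 0 = 0 := by simp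
  rw [h01, h10]
  linear_combination (b ^ 2) * hdet

theorem m2_pow_lin (g : Matrix (Fin 2) (Fin 2) F) (hdet : g.det = 1) (j : ℕ) :
    ∃ a b : F, g ^ j = a • (1 : Matrix (Fin 2) (Fin 2) F) + b • g := by
  induction j with
  | zero => exact ⟨1, 0, by simp⟩
  | succ j ih =>
    obtain ⟨a, b, h⟩ := ih
    refine ⟨-b, a + b * g.trace, ?_⟩
    rw [pow_succ, h, add_mul, smul_mul_assoc, smul_mul_assoc, one_mul, m2_sq g hdet, smul_sub,
      smul_smul, add_smul, neg_smul]
    abel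


theorem m2_pow_of_root (g : Matrix (Fin 2) (Fin 2) F) (hdet : g.det = 1) (l : F)
    (hl : l ^ 2 - g.trace * l + 1 = 0) (hne : l ^ 2 ≠ 1) (j : ℕ) (e : F) (h1 : l ^ j = e)
    (h2 : (g.trace - l) ^ j = e) : g ^ j = e • (1 : Matrix (Fin 2) (Fin 2) F) := by
  obtain ⟨t, ht⟩ : ∃ t, t = g.trace := ⟨_, rfl⟩
  obtain ⟨mu, hmu⟩ : ∃ mu, mu = t - l := ⟨_, rfl⟩
  rw [← ht] at hl h2
  rw [← hmu] at h2
  have hlm : l * mu = 1 := by rw [hmu]; linear_combination -hl
  have hsq := m2_sq g hdet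
  rw [← ht] at hsq
  have hU : g * (g - mu • (1 : Matrix (Fin 2) (Fin 2) F)) = l • (g - mu • (1 : Matrix (Fin 2) (Fin 2) F)) := by
    rw [mul_sub, hsq, mul_smul_comm, mul_one, smul_sub, smul_smul, hlm, one_smul]
    have : t • g = l • g + mu • g := by rw [← add_smul, hmu]; congr 1; ring
    rw [this]
    abel
  have hW : g * (g - l • (1 : Matrix (Fin 2) (Fin 2) F)) = mu • (g - l • (1 : Matrix (Fin 2) (Fin 2) F)) := by
    rw [mul_sub, hsq, mul_smul_comm, mul_one, smul_sub, smul_smul, mul_comm mu l, hlm, one_smul]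
    have : t • g = l • g + mu • g := by rw [← add_smul, hmu]; congr 1; ring
    rw [this]
    abel
  have hUj : ∀ n : ℕ, g ^ n * (g - mu • (1 : Matrix (Fin 2) (Fin 2) F)) =
      l ^ n • (g - mu • (1 : Matrix (Fin 2) (Fin 2) F)) := by
    intro n
    induction n with
    | zero => simp
    | succ n ih => rw [pow_succ, mul_assoc, hU, mul_smul_comm, ih, smul_smul, pow_succ, mul_comm]
  have hWj : ∀ n : ℕ, g ^ n * (g - l • (1 : Matrix (Fin 2) (Fin 2) F)) =
      mu ^ n • (g - l • (1 : Matrix (Fin 2) (Fin 2) F)) := by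
    intro n
    induction n with
    | zero => simp
    | succ n ih => rw [pow_succ, mul_assoc, hW, mul_smul_comm, ih, smul_smul, pow_succ, mul_comm]
  have hd : l - mu ≠ 0 := by
    intro h0
    apply hne
    have : l = mu := sub_eq_zero.mp h0
    calc l ^ 2 = l * l := pow_two l
      _ = l * mu := by rw [← this]
      _ = 1 := hlm
  have hdiff : (g - mu • (1 : Matrix (Fin 2) (Fin 2) F)) - (g - l • (1 : Matrix (Fin 2) (Fin 2) F))
      = (l - mu) • (1 : Matrix (Fin 2) (Fin 2) F) := by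
    rw [sub_smul]; abel
  have hkey : g ^ j * ((l - mu) • (1 : Matrix (Fin 2) (Fin 2) F)) =
      (e * (l - mu)) • (1 : Matrix (Fin 2) (Fin 2) F) := by
    rw [← hdiff, mul_sub, hUj, hWj, h1, h2, ← smul_sub, hdiff, smul_smul]
  rw [mul_smul_comm, mul_one] at hkey
  have : (l - mu)⁻¹ • ((l - mu) • g ^ j) = (l - mu)⁻¹ • ((e * (l - mu)) • (1 : Matrix (Fin 2) (Fin 2) F)) := by
    rw [hkey]
  rw [smul_smul, smul_smul, inv_mul_cancel₀ hd, one_smul] at this
  rw [this]
  congr 1
  field_simp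

theorem m2_pow_char_of_double_root (p : ℕ) [Fact p.Prime] [CharP F p]
    (g : Matrix (Fin 2) (Fin 2) F) (hdet : g.det = 1) (l : F)
    (hl : l ^ 2 - g.trace * l + 1 = 0) (hl1 : l ^ 2 = 1) :
    g ^ p = (l ^ p) • (1 : Matrix (Fin 2) (Fin 2) F) := by
  have hsq := m2_sq g hdet
  have ht : g.trace = 2 * l := by
    have h1 : g.trace * l = 2 := by linear_combination -hl + hl1
    calc g.trace = g.trace * (l ^ 2) := by rw [hl1, mul_one]
      _ = (g.trace * l) * l := by ring
      _ = 2 * l := by rw [h1]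
  set N := g - l • (1 : Matrix (Fin 2) (Fin 2) F) with hN
  have hexp : (g - l • (1 : Matrix (Fin 2) (Fin 2) F)) * (g - l • (1 : Matrix (Fin 2) (Fin 2) F))
      = g * g - (2 * l) • g + (l ^ 2) • (1 : Matrix (Fin 2) (Fin 2) F) := by
    simp only [sub_mul, mul_sub, smul_mul_assoc, mul_smul_comm, one_mul, mul_one, smul_sub,
      smul_smul, two_mul, add_smul, pow_two]
    abel
  have hNN : N * N = 0 := by
    rw [hN, hexp, hsq, ht, hl1, one_smul]
    abel
  have hg : g = l • (1 : Matrix (Fin 2) (Fin 2) F) + N := by rw [hN]; abel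
  have hcomm : Commute (l • (1 : Matrix (Fin 2) (Fin 2) F)) N := by
    rw [Commute, SemiconjBy, smul_mul_assoc, one_mul, mul_smul_comm, mul_one]
  have hp2 : 2 ≤ p := (Fact.out : p.Prime).two_le
  have hNp : N ^ p = 0 := by
    obtain ⟨r, rfl⟩ : ∃ r, p = 2 + r := ⟨p - 2, by omega⟩
    rw [pow_add, pow_two, hNN, zero_mul]
  rw [hg, add_pow_char_of_commute _ hcomm, hNp, add_zero, smul_pow, one_pow]


theorem m2_eq_zero_of_mul (X Y : Matrix (Fin 2) (Fin 2) F) (hX : X.det ≠ 0) (h : X * Y = 0) :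
    Y = 0 := by
  have hu : IsUnit X.det := isUnit_iff_ne_zero.mpr hX
  calc Y = X⁻¹ * X * Y := by rw [Matrix.nonsing_inv_mul X hu, one_mul]
    _ = X⁻¹ * (X * Y) := mul_assoc _ _ _
    _ = 0 := by rw [h, mul_zero]

theorem m2_zero_or_det_ne (g : Matrix (Fin 2) (Fin 2) F) (hdet : g.det = 1)
    (hI : ∀ l : F, l ^ 2 - g.trace * l + 1 ≠ 0) (a b : F) :
    (a • (1 : Matrix (Fin 2) (Fin 2) F) + b • g = 0) ∨
      (a • (1 : Matrix (Fin 2) (Fin 2) F) + b • g).det ≠ 0 := by
  by_cases hb : b = 0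
  · by_cases ha : a = 0
    · left; rw [ha, hb, zero_smul, zero_smul, add_zero]
    · right
      rw [m2_det_lin g hdet, hb]
      simp [ha]
  · right
    rw [m2_det_lin g hdet]
    intro h0
    apply hI (-a / b)
    field_simp
    linear_combination h0

theorem m2_sqrt_one (g : Matrix (Fin 2) (Fin 2) F) (hdet : g.det = 1)
    (hI : ∀ l : F, l ^ 2 - g.trace * l + 1 ≠ 0) (x : Matrix (Fin 2) (Fin 2) F)
    (hx : ∃ a b : F, x = a • (1 : Matrix (Fin 2) (Fin 2) F) + b • g) (hxx : x * x = 1) :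
    x = 1 ∨ x = -1 := by
  obtain ⟨a, b, hab⟩ := hx
  have h1 : (x - 1) * (x + 1) = 0 := by
    rw [sub_mul, mul_add, mul_add, hxx, mul_one, one_mul, one_mul]
    abel
  have h2 : x - 1 = (a - 1) • (1 : Matrix (Fin 2) (Fin 2) F) + b • g := by
    rw [hab, sub_smul, one_smul]; abel
  rcases m2_zero_or_det_ne g hdet hI (a - 1) b with h0 | hne
  · left
    rw [← h2] at h0
    exact sub_eq_zero.mp h0
  · right
    rw [← h2] at hne
    have := m2_eq_zero_of_mul _ _ hne h1
    exact eq_neg_of_add_eq_zero_left this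

end TwoByTwo

section Finite

variable {F : Type*} [Field F] [Fintype F]

theorem m2_mul_pow_card (g : Matrix (Fin 2) (Fin 2) F) (hdet : g.det = 1) :
    (g ^ (Fintype.card F - 1) - 1) * (g ^ (Fintype.card F + 1) - 1) = 0 := by
  obtain ⟨t, ht⟩ : ∃ t, t = g.trace := ⟨_, rfl⟩
  have hq : 0 < Fintype.card F := Fintype.card_pos
  obtain ⟨h, hh⟩ : ∃ h, h = g ^ Fintype.card F := ⟨_, rfl⟩
  have hth : h.trace = t := by
    rw [hh, FiniteField.trace_pow_card, FiniteField.pow_card, ht]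
  have hdh : h.det = 1 := by rw [hh, Matrix.det_pow, hdet, one_pow]
  have hsqh := m2_sq h hdh
  rw [hth] at hsqh
  have hsq := m2_sq g hdet
  rw [← ht] at hsq
  obtain ⟨g', hg'⟩ : ∃ g', g' = t • (1 : Matrix (Fin 2) (Fin 2) F) - g := ⟨_, rfl⟩
  have hgg' : g * g' = 1 := by
    rw [hg', mul_sub, mul_smul_comm, mul_one, hsq]; abel
  have hg'g : g' * g = 1 := by
    rw [hg', sub_mul, smul_mul_assoc, one_mul, hsq]; abel
  have hcomm : Commute h g' := by
    have h1 : Commute g g' := by rw [Commute, SemiconjBy, hgg', hg'g]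
    rw [hh]
    exact h1.pow_left _
  have e1 : g ^ (Fintype.card F - 1) = h * g' := by
    calc g ^ (Fintype.card F - 1) = g ^ (Fintype.card F - 1) * (g * g') := by rw [hgg', mul_one]
      _ = g ^ (Fintype.card F - 1 + 1) * g' := by rw [pow_succ, mul_assoc]
      _ = h * g' := by rw [Nat.sub_add_cancel hq, hh]
  have e2 : g ^ (Fintype.card F + 1) = h * g := by rw [pow_succ, hh]
  have hsum : g' + g = t • (1 : Matrix (Fin 2) (Fin 2) F) := by rw [hg']; abel
  rw [e1, e2]
  have h3 : h * g' * (h * g) = h * h := by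
    calc h * g' * (h * g) = h * (g' * h) * g := by simp only [mul_assoc]
      _ = h * (h * g') * g := by rw [hcomm.eq]
      _ = h * h * (g' * g) := by simp only [mul_assoc]
      _ = h * h := by rw [hg'g, mul_one]
  have h4 : h * g' + h * g = t • h := by
    rw [← mul_add, hsum, mul_smul_comm, mul_one]
  calc (h * g' - 1) * (h * g - 1) = h * g' * (h * g) - (h * g' + h * g) + 1 := by
        noncomm_ring
    _ = 0 := by rw [h3, h4, hsqh]; abel

theorem m2_caseI (g : Matrix (Fin 2) (Fin 2) F) (hdet : g.det = 1)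
    (hI : ∀ l : F, l ^ 2 - g.trace * l + 1 ≠ 0) :
    g ^ (Fintype.card F - 1) = 1 ∨ g ^ (Fintype.card F + 1) = 1 := by
  obtain ⟨a, b, hab⟩ := m2_pow_lin g hdet (Fintype.card F - 1)
  have h1 : g ^ (Fintype.card F - 1) - 1 = (a - 1) • (1 : Matrix (Fin 2) (Fin 2) F) + b • g := by
    rw [hab, sub_smul, one_smul]; abel
  rcases m2_zero_or_det_ne g hdet hI (a - 1) b with h0 | hne
  · left
    rw [← h1] at h0
    exact sub_eq_zero.mp h0
  · right
    rw [← h1] at hne
    have := m2_eq_zero_of_mul _ _ hne (m2_mul_pow_card g hdet)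
    exact sub_eq_zero.mp this


theorem gcd_two_cases (n : ℕ) : Nat.gcd 2 n = 1 ∨ Nat.gcd 2 n = 2 := by
  have h : Nat.gcd 2 n ∣ 2 := Nat.gcd_dvd_left 2 n
  have h2 : Nat.gcd 2 n ≤ 2 := Nat.le_of_dvd (by norm_num) h
  have h0 : Nat.gcd 2 n ≠ 0 := by
    intro h0
    rw [h0] at h
    simp at h
  interval_cases (Nat.gcd 2 n) <;> simp_all

theorem sl2_pow_cases (p : ℕ) [Fact p.Prime] [CharP F p]
    (g : Matrix (Fin 2) (Fin 2) F) (hdet : g.det = 1) :
    ∃ c : F, c ^ 2 = 1 ∧ (g ^ p = c • (1 : Matrix (Fin 2) (Fin 2) F) ∨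
      g ^ ((Fintype.card F - 1) / Nat.gcd 2 (Fintype.card F - 1)) = c • (1 : Matrix (Fin 2) (Fin 2) F) ∨
      g ^ ((Fintype.card F + 1) / Nat.gcd 2 (Fintype.card F - 1)) = c • (1 : Matrix (Fin 2) (Fin 2) F)) := by
  have hq : 2 ≤ Fintype.card F := Fintype.one_lt_card
  obtain ⟨q, hqdef⟩ : ∃ q, q = Fintype.card F := ⟨_, rfl⟩
  rw [← hqdef] at hq ⊢
  have hdvd : Nat.gcd 2 (q - 1) ∣ q - 1 := Nat.gcd_dvd_right 2 (q - 1)
  obtain ⟨j, hj⟩ := hdvd
  by_cases hR : ∃ l : F, l ^ 2 - g.trace * l + 1 = 0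
  · obtain ⟨l, hl⟩ := hR
    by_cases hl1 : l ^ 2 = 1
    · refine ⟨l ^ p, ?_, Or.inl (m2_pow_char_of_double_root p g hdet l hl hl1)⟩
      rw [← pow_mul, mul_comm, pow_mul, hl1, one_pow]
    · have hlm : l * (g.trace - l) = 1 := by linear_combination -hl
      have hl0 : l ≠ 0 := by
        intro h0
        rw [h0, zero_mul] at hlm
        exact zero_ne_one hlm
      have hmu : g.trace - l = l⁻¹ := eq_inv_of_mul_eq_one_right hlm
      have hlq : l ^ (q - 1) = 1 := by
        rw [hqdef]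
        exact FiniteField.pow_card_sub_one_eq_one l hl0
      have hjd : (q - 1) / Nat.gcd 2 (q - 1) = j := by
        have hpos : 0 < Nat.gcd 2 (q - 1) := Nat.gcd_pos_of_pos_left _ (by norm_num)
        exact Nat.div_eq_of_eq_mul_right hpos hj
      have hee : l ^ j * l ^ j = 1 := by
        rcases gcd_two_cases (q - 1) with hd | hd
        · rw [hd, one_mul] at hj
          rw [← hj, hlq, one_mul]
        · rw [hd] at hj
          rw [← pow_add, ← two_mul, ← hj, hlq]
      refine ⟨l ^ j, by rw [pow_two, hee], Or.inr (Or.inl ?_)⟩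
      rw [hjd]
      apply m2_pow_of_root g hdet l hl hl1 j (l ^ j) rfl
      rw [hmu, inv_pow]
      exact inv_eq_of_mul_eq_one_right hee
  · push Not at hR
    have hcase := m2_caseI g hdet hR
    rw [← hqdef] at hcase
    rcases gcd_two_cases (q - 1) with hd | hd
    · refine ⟨1, one_pow 2, Or.inr ?_⟩
      rw [hd, Nat.div_one, Nat.div_one, one_smul]
      exact hcase
    · rw [hd] at hj ⊢
      have hq1 : q + 1 = 2 * (j + 1) := by omega
      rcases hcase with h1 | h1
      · have hx : g ^ j * g ^ j = 1 := by rw [← pow_add, ← two_mul, ← hj, h1]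
        rcases m2_sqrt_one g hdet hR (g ^ j) (m2_pow_lin g hdet j) hx with h2 | h2
        · refine ⟨1, one_pow 2, Or.inr (Or.inl ?_)⟩
          rw [hj, Nat.mul_div_cancel_left j (by norm_num), h2, one_smul]
        · refine ⟨-1, by norm_num, Or.inr (Or.inl ?_)⟩
          rw [hj, Nat.mul_div_cancel_left j (by norm_num), h2, neg_smul, one_smul]
      · have hx : g ^ (j + 1) * g ^ (j + 1) = 1 := by rw [← pow_add, ← two_mul, ← hq1, h1]
        rcases m2_sqrt_one g hdet hR (g ^ (j + 1)) (m2_pow_lin g hdet (j + 1)) hx with h2 | h2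
        · refine ⟨1, one_pow 2, Or.inr (Or.inr ?_)⟩
          rw [hq1, Nat.mul_div_cancel_left (j + 1) (by norm_num), h2, one_smul]
        · refine ⟨-1, by norm_num, Or.inr (Or.inr ?_)⟩
          rw [hq1, Nat.mul_div_cancel_left (j + 1) (by norm_num), h2, neg_smul, one_smul]

end Finite

end Cfsg.Agent.Lib.helper15
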