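import Mathlib
import Cfsg.Agent.Lib.helper15.SL2Order
import Cfsg.Agent.Lib.helper15.SL2Card

set_option autoImplicit false

namespace Cfsg.Agent.Lib.helper15

open Matrix

section Cent

variable {F : Type*} [Field F]

theorem m2_eq_iff (x y : Matrix (Fin 2) (Fin 2) F) :
    x = y ↔ x 0 0 = y 0 0 ∧ x 0 1 = y 0 1 ∧ x 1 0 = y 1 0 ∧ x 1 1 = y 1 1 := by
  constructor
  · rintro rfl
    exact ⟨rfl, rfl, rfl, rfl⟩
  · rintro ⟨h00, h01, h10, h11⟩
    ext i j
    fin_cases i <;> fin_cases j <;> assumption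

theorem m2_lin_apply (g : Matrix (Fin 2) (Fin 2) F) (a b : F) :
    (a • (1 : Matrix (Fin 2) (Fin 2) F) + b • g) 0 0 = a + b * g 0 0 ∧
    (a • (1 : Matrix (Fin 2) (Fin 2) F) + b • g) 0 1 = b * g 0 1 ∧
    (a • (1 : Matrix (Fin 2) (Fin 2) F) + b • g) 1 0 = b * g 1 0 ∧
    (a • (1 : Matrix (Fin 2) (Fin 2) F) + b • g) 1 1 = a + b * g 1 1 := by
  refine ⟨?_, ?_, ?_, ?_⟩ <;> simp

theorem m2_commute_lin (g x : Matrix (Fin 2) (Fin 2) F)
    (hg : ∀ c : F, g ≠ c • (1 : Matrix (Fin 2) (Fin 2) F)) (hc : x * g = g * x) :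
    ∃ a b : F, x = a • (1 : Matrix (Fin 2) (Fin 2) F) + b • g := by
  rw [m2_eq_iff] at hc
  simp only [Matrix.mul_apply, Fin.sum_univ_two] at hc
  obtain ⟨h00, h01, h10, h11⟩ := hc
  by_cases hg01 : g 0 1 = 0
  · by_cases hg10 : g 1 0 = 0
    · have hne : g 0 0 ≠ g 1 1 := by
        intro heq
        apply hg (g 0 0)
        rw [m2_eq_iff]
        refine ⟨by simp, by simp [hg01], by simp [hg10], by simp [heq]⟩
      have hd : g 0 0 - g 1 1 ≠ 0 := sub_ne_zero.mpr hne
      have hx01 : x 0 1 = 0 := by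
        rw [hg01] at h01
        have : x 0 1 * (g 1 1 - g 0 0) = 0 := by linear_combination h01
        rcases mul_eq_zero.mp this with h | h
        · exact h
        · exact absurd (by linear_combination -h) hd
      have hx10 : x 1 0 = 0 := by
        rw [hg10] at h10
        have : x 1 0 * (g 0 0 - g 1 1) = 0 := by linear_combination h10
        rcases mul_eq_zero.mp this with h | h
        · exact h
        · exact absurd h hd
      refine ⟨x 0 0 - (x 0 0 - x 1 1) / (g 0 0 - g 1 1) * g 0 0, (x 0 0 - x 1 1) / (g 0 0 - g 1 1), ?_⟩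
      rw [m2_eq_iff]
      obtain ⟨e00, e01, e10, e11⟩ := m2_lin_apply g
        (x 0 0 - (x 0 0 - x 1 1) / (g 0 0 - g 1 1) * g 0 0) ((x 0 0 - x 1 1) / (g 0 0 - g 1 1))
      rw [e00, e01, e10, e11, hg01, hg10, hx01, hx10]
      refine ⟨by ring, by ring, by ring, ?_⟩
      field_simp
      ring
    · refine ⟨x 0 0 - x 1 0 / g 1 0 * g 0 0, x 1 0 / g 1 0, ?_⟩
      rw [m2_eq_iff]
      obtain ⟨e00, e01, e10, e11⟩ := m2_lin_apply g (x 0 0 - x 1 0 / g 1 0 * g 0 0) (x 1 0 / g 1 0)
      rw [e00, e01, e10, e11, hg01]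
      have hx01 : x 0 1 = 0 := by
        rw [hg01] at h00
        have : x 0 1 * g 1 0 = 0 := by linear_combination h00
        rcases mul_eq_zero.mp this with h | h
        · exact h
        · exact absurd h hg10
      refine ⟨by ring, by rw [hx01]; ring, by field_simp, ?_⟩
      field_simp
      linear_combination h10
  · refine ⟨x 0 0 - x 0 1 / g 0 1 * g 0 0, x 0 1 / g 0 1, ?_⟩
    rw [m2_eq_iff]
    obtain ⟨e00, e01, e10, e11⟩ := m2_lin_apply g (x 0 0 - x 0 1 / g 0 1 * g 0 0) (x 0 1 / g 0 1)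
    rw [e00, e01, e10, e11]
    refine ⟨by ring, by field_simp, ?_, ?_⟩
    · field_simp
      linear_combination -h00
    · field_simp
      linear_combination -h01


def normSet (t : F) : Set (F × F) := {ab | ab.1 ^ 2 + ab.1 * ab.2 * t + ab.2 ^ 2 = 1}

theorem mem_normSet (t : F) (a b : F) : (a, b) ∈ normSet t ↔ a ^ 2 + a * b * t + b ^ 2 = 1 := Iff.rfl

theorem m2_lin_injective (g : Matrix (Fin 2) (Fin 2) F)
    (hg : ∀ c : F, g ≠ c • (1 : Matrix (Fin 2) (Fin 2) F)) (a b a' b' : F)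
    (h : a • (1 : Matrix (Fin 2) (Fin 2) F) + b • g = a' • (1 : Matrix (Fin 2) (Fin 2) F) + b' • g) :
    a = a' ∧ b = b' := by
  have hb : b = b' := by
    by_contra hne
    have hd : b - b' ≠ 0 := sub_ne_zero.mpr hne
    apply hg ((a' - a) / (b - b'))
    have h1 : (b - b') • g = (a' - a) • (1 : Matrix (Fin 2) (Fin 2) F) := by
      rw [sub_smul, sub_smul]
      have := h
      calc b • g - b' • g = (a • (1 : Matrix (Fin 2) (Fin 2) F) + b • g) - a • 1 - b' • g := by abel
        _ = (a' • (1 : Matrix (Fin 2) (Fin 2) F) + b' • g) - a • 1 - b' • g := by rw [h]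
        _ = a' • 1 - a • 1 := by abel
    calc g = (b - b')⁻¹ • ((b - b') • g) := by rw [smul_smul, inv_mul_cancel₀ hd, one_smul]
      _ = (b - b')⁻¹ • ((a' - a) • (1 : Matrix (Fin 2) (Fin 2) F)) := by rw [h1]
      _ = ((a' - a) / (b - b')) • (1 : Matrix (Fin 2) (Fin 2) F) := by
          rw [smul_smul]; congr 1; field_simp
  subst hb
  have h2 : a • (1 : Matrix (Fin 2) (Fin 2) F) = a' • (1 : Matrix (Fin 2) (Fin 2) F) :=
    add_right_cancel h
  have h3 := congrFun (congrFun h2 0) 0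
  simp at h3
  exact ⟨h3, rfl⟩

theorem card_centralizer_eq (g : Matrix.SpecialLinearGroup (Fin 2) F)
    (hg : ∀ c : F, (g : Matrix (Fin 2) (Fin 2) F) ≠ c • (1 : Matrix (Fin 2) (Fin 2) F)) :
    Nat.card (Subgroup.centralizer ({g} : Set (Matrix.SpecialLinearGroup (Fin 2) F))) =
      Nat.card (normSet (g : Matrix (Fin 2) (Fin 2) F).trace) := by
  symm
  apply Nat.card_congr
  refine Equiv.ofBijective (fun ab => ⟨(⟨ab.1.1 • (1 : Matrix (Fin 2) (Fin 2) F) + ab.1.2 • (g : Matrix (Fin 2) (Fin 2) F), ?_⟩ : Matrix.SpecialLinearGroup (Fin 2) F), ?_⟩) ⟨?_, ?_⟩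
  · rw [m2_det_lin _ g.2]
    exact ab.2
  · refine Subgroup.mem_centralizer_singleton_iff.mpr ?_
    apply Subtype.ext
    show (ab.1.1 • (1 : Matrix (Fin 2) (Fin 2) F) + ab.1.2 • (g : Matrix (Fin 2) (Fin 2) F)) * (g : Matrix (Fin 2) (Fin 2) F) =
      (g : Matrix (Fin 2) (Fin 2) F) * (ab.1.1 • (1 : Matrix (Fin 2) (Fin 2) F) + ab.1.2 • (g : Matrix (Fin 2) (Fin 2) F))
    rw [mul_add, add_mul, mul_smul_comm, mul_smul_comm, smul_mul_assoc, smul_mul_assoc, mul_one, one_mul]
  · rintro ⟨⟨a, b⟩, hab⟩ ⟨⟨a', b'⟩, hab'⟩ h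
    have h1 : a • (1 : Matrix (Fin 2) (Fin 2) F) + b • (g : Matrix (Fin 2) (Fin 2) F) =
        a' • (1 : Matrix (Fin 2) (Fin 2) F) + b' • (g : Matrix (Fin 2) (Fin 2) F) :=
      congrArg (fun x : Subgroup.centralizer ({g} : Set (Matrix.SpecialLinearGroup (Fin 2) F)) =>
        ((x : Matrix.SpecialLinearGroup (Fin 2) F) : Matrix (Fin 2) (Fin 2) F)) h
    obtain ⟨rfl, rfl⟩ := m2_lin_injective _ hg a b a' b' h1
    rfl
  · rintro ⟨x, hx⟩
    rw [Subgroup.mem_centralizer_singleton_iff] at hx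
    have hx' : (x : Matrix (Fin 2) (Fin 2) F) * (g : Matrix (Fin 2) (Fin 2) F) =
        (g : Matrix (Fin 2) (Fin 2) F) * (x : Matrix (Fin 2) (Fin 2) F) := by
      have := congrArg (fun y : Matrix.SpecialLinearGroup (Fin 2) F => (y : Matrix (Fin 2) (Fin 2) F)) hx
      simp only [Matrix.SpecialLinearGroup.coe_mul] at this
      exact this
    obtain ⟨a, b, hab⟩ := m2_commute_lin _ _ hg hx'
    have hmem : (a, b) ∈ normSet (g : Matrix (Fin 2) (Fin 2) F).trace := by
      rw [mem_normSet, ← m2_det_lin _ g.2, ← hab]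
      exact x.2
    refine ⟨⟨(a, b), hmem⟩, ?_⟩
    apply Subtype.ext
    apply Subtype.ext
    exact hab.symm

theorem card_normSet_split [Fintype F] (t l : F) (hl : l ^ 2 - t * l + 1 = 0) (hl1 : l ^ 2 ≠ 1) :
    Nat.card (normSet t) = Fintype.card F - 1 := by
  have hlm : l * (t - l) = 1 := by linear_combination -hl
  have hd : l - (t - l) ≠ 0 := by
    intro h0
    apply hl1
    have : l = t - l := sub_eq_zero.mp h0
    calc l ^ 2 = l * l := pow_two l
      _ = l * (t - l) := by rw [← this]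
      _ = 1 := hlm
  rw [← Nat.card_eq_fintype_card (α := F), ← Nat.card_units]
  apply Nat.card_congr
  refine Equiv.ofBijective (fun ab => Units.mkOfMulEqOne (ab.1.1 + ab.1.2 * l) (ab.1.1 + ab.1.2 * (t - l)) ?_) ⟨?_, ?_⟩
  · have := ab.2
    rw [← Prod.mk.eta (p := ab.1), mem_normSet] at this
    linear_combination this + (ab.1.2 ^ 2) * hlm - ab.1.2 ^ 2
  · rintro ⟨⟨a, b⟩, hab⟩ ⟨⟨a', b'⟩, hab'⟩ h
    rw [mem_normSet] at hab hab'
    have h1 : a + b * l = a' + b' * l := congrArg Units.val h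
    have hab2 : (a + b * l) * (a + b * (t - l)) = 1 := by
      linear_combination hab + (b ^ 2) * hlm - b ^ 2
    have hab2' : (a' + b' * l) * (a' + b' * (t - l)) = 1 := by
      linear_combination hab' + (b' ^ 2) * hlm - b' ^ 2
    have hu0 : a + b * l ≠ 0 := by
      intro h0
      rw [h0, zero_mul] at hab2
      exact zero_ne_one hab2
    have h2 : a + b * (t - l) = a' + b' * (t - l) := by
      have : (a + b * l) * (a + b * (t - l)) = (a + b * l) * (a' + b' * (t - l)) := by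
        rw [hab2, h1, hab2']
      exact mul_left_cancel₀ hu0 this
    have hb : b = b' := by
      have : (b - b') * (l - (t - l)) = 0 := by linear_combination h1 - h2
      rcases mul_eq_zero.mp this with h | h
      · exact sub_eq_zero.mp h
      · exact absurd h hd
    subst hb
    have ha : a = a' := by linear_combination h1
    subst ha
    rfl
  · intro u
    have hu : (u : F) * ((u⁻¹ : Fˣ) : F) = 1 := by rw [← Units.val_mul, mul_inv_cancel, Units.val_one]
    set b : F := ((u : F) - ((u⁻¹ : Fˣ) : F)) / (l - (t - l)) with hb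
    set a : F := (u : F) - b * l with ha
    have h1 : a + b * l = u := by rw [ha]; ring
    have h2 : a + b * (t - l) = ((u⁻¹ : Fˣ) : F) := by
      rw [ha, hb]
      field_simp
      ring
    have hmem : (a, b) ∈ normSet t := by
      rw [mem_normSet]
      have : (a + b * l) * (a + b * (t - l)) = 1 := by rw [h1, h2, hu]
      linear_combination this - (b ^ 2) * hlm + b ^ 2
    refine ⟨⟨(a, b), hmem⟩, ?_⟩
    apply Units.ext
    exact h1

end Cent

end Cfsg.Agent.Lib.helper15
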