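import Mathlib
import Cfsg.Agent.Lib.helper15.SL2Cent

set_option autoImplicit false

namespace Cfsg.Agent.Lib.helper15

open Matrix

section Char2

variable {F : Type*} [Field F] [Fintype F]

theorem charTwo_of_even_card (h2 : 2 ∣ Fintype.card F) : CharP F 2 := by
  obtain ⟨p, hp⟩ := CharP.exists F
  obtain ⟨n, hprime, hcard⟩ := FiniteField.card F p
  rw [hcard] at h2
  have h3 : 2 ∣ p := Nat.Prime.dvd_of_dvd_pow Nat.prime_two h2
  have h4 : 2 = p := (Nat.prime_dvd_prime_iff_eq Nat.prime_two hprime).mp h3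
  subst h4
  exact hp

theorem exists_sqrt_char2 [CharP F 2] (n : F) : ∃ c : F, c ^ 2 = n := by
  have hinj : Function.Injective fun x : F => x ^ 2 := CharTwo.sq_injective
  exact Finite.surjective_of_injective hinj n

theorem sq_eq_one_char2 [CharP F 2] (x : F) (h : x ^ 2 = 1) : x = 1 := by
  have : x ^ 2 = (1 : F) ^ 2 := by rw [h, one_pow]
  exact CharTwo.sq_inj.mp this

theorem card_normSet_zero [CharP F 2] : Nat.card (normSet (0 : F)) = Fintype.card F := by
  rw [← Nat.card_eq_fintype_card (α := F)]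
  symm
  apply Nat.card_congr
  refine Equiv.ofBijective (fun a => ⟨(a, a + 1), ?_⟩) ⟨?_, ?_⟩
  · rw [mem_normSet, CharTwo.add_sq]
    have := CharTwo.add_self_eq_zero (a ^ 2)
    linear_combination this
  · intro a a' h
    have := congrArg (fun x : normSet (0 : F) => x.1.1) h
    exact this
  · rintro ⟨⟨a, b⟩, hab⟩
    rw [mem_normSet] at hab
    have h1 : (a + b) ^ 2 = 1 := by
      rw [CharTwo.add_sq]
      linear_combination hab
    have h2 := sq_eq_one_char2 _ h1
    refine ⟨a, ?_⟩
    apply Subtype.ext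
    show (a, a + 1) = (a, b)
    have h3 : b = a + 1 := by
      have := CharTwo.add_self_eq_zero a
      linear_combination h2 - this
    rw [h3]

theorem normSet_aniso [CharP F 2] (t : F) (hns : ∀ l : F, l ^ 2 - t * l + 1 ≠ 0) (a b : F)
    (h : a ^ 2 + a * b * t + b ^ 2 = 0) : a = 0 ∧ b = 0 := by
  by_cases hb : b = 0
  · subst hb
    have : a ^ 2 = 0 := by linear_combination h
    exact ⟨pow_eq_zero_iff (two_ne_zero) |>.mp this, rfl⟩
  · exfalso
    apply hns (a / b)
    have h2 : (2 : F) = 0 := CharTwo.two_eq_zero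
    field_simp
    linear_combination h - a * b * t * h2

theorem card_normSet_nonsplit [CharP F 2] (t : F) (hns : ∀ l : F, l ^ 2 - t * l + 1 ≠ 0) :
    Nat.card (normSet t) = Fintype.card F + 1 := by
  have hq : 2 ≤ Fintype.card F := Fintype.one_lt_card
  have key : Nat.card (Fˣ × normSet t) = Nat.card {p : F × F // p ≠ 0} := by
    apply Nat.card_congr
    refine Equiv.ofBijective (fun x => ⟨((x.1 : F) * x.2.1.1, (x.1 : F) * x.2.1.2), ?_⟩) ⟨?_, ?_⟩
    · intro h0
      have h1 : (x.1 : F) * x.2.1.1 = 0 := congrArg Prod.fst h0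
      have h2 : (x.1 : F) * x.2.1.2 = 0 := congrArg Prod.snd h0
      have hu : (x.1 : F) ≠ 0 := x.1.ne_zero
      have h1' : x.2.1.1 = 0 := (mul_eq_zero.mp h1).resolve_left hu
      have h2' : x.2.1.2 = 0 := (mul_eq_zero.mp h2).resolve_left hu
      have := x.2.2
      rw [← Prod.mk.eta (p := x.2.1), mem_normSet, h1', h2'] at this
      simp at this
    · rintro ⟨c, ⟨⟨a, b⟩, hab⟩⟩ ⟨c', ⟨⟨a', b'⟩, hab'⟩⟩ h
      rw [mem_normSet] at hab hab'
      have h1 : (c : F) * a = (c' : F) * a' := congrArg (fun x : {p : F × F // p ≠ 0} => x.1.1) h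
      have h2 : (c : F) * b = (c' : F) * b' := congrArg (fun x : {p : F × F // p ≠ 0} => x.1.2) h
      have hc : (c : F) ^ 2 = (c' : F) ^ 2 := by
        calc (c : F) ^ 2 = (c : F) ^ 2 * (a ^ 2 + a * b * t + b ^ 2) := by rw [hab, mul_one]
          _ = ((c : F) * a) ^ 2 + ((c : F) * a) * ((c : F) * b) * t + ((c : F) * b) ^ 2 := by ring
          _ = ((c' : F) * a') ^ 2 + ((c' : F) * a') * ((c' : F) * b') * t + ((c' : F) * b') ^ 2 := by
              rw [h1, h2]
          _ = (c' : F) ^ 2 * (a' ^ 2 + a' * b' * t + b' ^ 2) := by ring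
          _ = (c' : F) ^ 2 := by rw [hab', mul_one]
      have hcc : (c : F) = (c' : F) := CharTwo.sq_inj.mp hc
      have hcu : c = c' := Units.ext hcc
      subst hcu
      have ha : a = a' := mul_left_cancel₀ c.ne_zero h1
      have hb : b = b' := mul_left_cancel₀ c.ne_zero h2
      subst ha
      subst hb
      rfl
    · rintro ⟨⟨a, b⟩, hab⟩
      have hn : a ^ 2 + a * b * t + b ^ 2 ≠ 0 := by
        intro h0
        obtain ⟨rfl, rfl⟩ := normSet_aniso t hns a b h0
        exact hab rfl
      obtain ⟨c, hc⟩ := exists_sqrt_char2 (a ^ 2 + a * b * t + b ^ 2)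
      have hc0 : c ≠ 0 := by
        rintro rfl
        apply hn
        rw [← hc]
        ring
      have hmem : (a / c, b / c) ∈ normSet t := by
        rw [mem_normSet]
        field_simp
        rw [hc]
        ring
      refine ⟨(Units.mk0 c hc0, ⟨(a / c, b / c), hmem⟩), ?_⟩
      apply Subtype.ext
      show (c * (a / c), c * (b / c)) = (a, b)
      rw [mul_div_cancel₀ _ hc0, mul_div_cancel₀ _ hc0]
  have hc2 : Nat.card {p : F × F // p ≠ 0} = Fintype.card F ^ 2 - 1 := by
    classical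
    rw [Nat.card_eq_fintype_card, Fintype.card_subtype_compl, Fintype.card_prod]
    simp [pow_two]
  rw [Nat.card_prod, Nat.card_units, Nat.card_eq_fintype_card (α := F), hc2] at key
  have h3 : Fintype.card F ^ 2 - 1 = (Fintype.card F - 1) * (Fintype.card F + 1) := by
    obtain ⟨k, hk⟩ : ∃ k, Fintype.card F = k + 1 := ⟨Fintype.card F - 1, by omega⟩
    rw [hk]
    simp only [Nat.add_sub_cancel]
    have : (k + 1) ^ 2 = k * (k + 1 + 1) + 1 := by ring
    rw [this, Nat.add_sub_cancel]
  rw [h3] at key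
  exact Nat.eq_of_mul_eq_mul_left (by omega) key

theorem exists_nonsplit [CharP F 2] : ∃ t : F, t ≠ 0 ∧ ∀ l : F, l ^ 2 - t * l + 1 ≠ 0 := by
  have hni : ¬ Function.Injective fun y : F => y ^ 2 + y := by
    intro hinj
    have h01 : (0 : F) ^ 2 + 0 = (1 : F) ^ 2 + 1 := by
      have := CharTwo.add_self_eq_zero (1 : F)
      rw [one_pow, this]
      ring
    exact zero_ne_one (hinj h01)
  have hns : ¬ Function.Surjective fun y : F => y ^ 2 + y := fun hs =>
    hni (Finite.injective_iff_surjective.mpr hs)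
  rw [Function.Surjective] at hns
  push Not at hns
  obtain ⟨c, hc⟩ := hns
  have hc0 : c ≠ 0 := by
    rintro rfl
    apply hc 0
    simp
  obtain ⟨s, hs⟩ := exists_sqrt_char2 c
  have hs0 : s ≠ 0 := by
    rintro rfl
    apply hc0
    rw [← hs]
    ring
  refine ⟨s⁻¹, inv_ne_zero hs0, ?_⟩
  intro l hl
  apply hc (l * s)
  have h2 : (2 : F) = 0 := CharTwo.two_eq_zero
  have h1 : l ^ 2 * s - l + s = 0 := by
    have : s * (l ^ 2 - s⁻¹ * l + 1) = 0 := by rw [hl, mul_zero]
    have h3 : s * s⁻¹ = 1 := mul_inv_cancel₀ hs0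
    linear_combination this + l * h3
  show (l * s) ^ 2 + l * s = c
  rw [← hs]
  linear_combination s * h1 + (l * s - s ^ 2) * h2

end Char2

end Cfsg.Agent.Lib.helper15
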