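import Mathlib
import Cfsg.Agent.Lib.helper15.SL2Cent

set_option autoImplicit false

namespace Cfsg.Agent.Lib.helper15

open Matrix

section Odd

variable {F : Type*} [Field F]

def nrm (t : F) (x : F × F) : F := x.1 ^ 2 + x.1 * x.2 * t + x.2 ^ 2

def nmul (t : F) (x y : F × F) : F × F :=
  (x.1 * y.1 - x.2 * y.2, x.1 * y.2 + x.2 * y.1 + x.2 * y.2 * t)

def ncnj (t : F) (x : F × F) : F × F := (x.1 + x.2 * t, -x.2)

theorem nrm_nmul (t : F) (x y : F × F) : nrm t (nmul t x y) = nrm t x * nrm t y := by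
  simp only [nrm, nmul]
  ring

theorem nrm_ncnj (t : F) (x : F × F) : nrm t (ncnj t x) = nrm t x := by
  simp only [nrm, ncnj]
  ring

theorem nmul_nmul_ncnj (t : F) (x y : F × F) :
    nmul t (nmul t x y) (ncnj t y) = (x.1 * nrm t y, x.2 * nrm t y) := by
  simp only [nrm, nmul, ncnj]
  ext
  · simp only
    ring
  · simp only
    ring

theorem nmul_ncnj_nmul (t : F) (z y : F × F) :
    nmul t (nmul t z (ncnj t y)) y = (z.1 * nrm t y, z.2 * nrm t y) := by
  simp only [nrm, nmul, ncnj]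
  ext
  · simp only
    ring
  · simp only
    ring

theorem nrm_smul (t c : F) (x : F × F) : nrm t (c * x.1, c * x.2) = c ^ 2 * nrm t x := by
  simp only [nrm]
  ring

theorem nmul_smul_left (t c : F) (x y : F × F) :
    nmul t (c * x.1, c * x.2) y = (c * (nmul t x y).1, c * (nmul t x y).2) := by
  simp only [nmul]
  ext
  · simp only
    ring
  · simp only
    ring

theorem mem_normSet_iff_nrm (t : F) (x : F × F) : x ∈ normSet t ↔ nrm t x = 1 := Iff.rfl

noncomputable def lvlEquiv (t : F) (y : F × F) (hy : nrm t y ≠ 0) :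
    {x : F × F // nrm t x = 1} ≃ {x : F × F // nrm t x = nrm t y} where
  toFun x := ⟨nmul t x.1 y, by rw [nrm_nmul, x.2, one_mul]⟩
  invFun z := ⟨((nrm t y)⁻¹ * (nmul t z.1 (ncnj t y)).1, (nrm t y)⁻¹ * (nmul t z.1 (ncnj t y)).2), by
    rw [nrm_smul, nrm_nmul, nrm_ncnj, z.2]
    field_simp⟩
  left_inv x := by
    apply Subtype.ext
    simp only
    rw [nmul_nmul_ncnj]
    ext
    · simp only
      field_simp
    · simp only
      field_simp
  right_inv z := by
    apply Subtype.ext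
    simp only
    rw [nmul_smul_left, nmul_ncnj_nmul]
    ext
    · simp only
      field_simp
    · simp only
      field_simp

theorem nrm_aniso (t : F) (hns : ∀ l : F, l ^ 2 - t * l + 1 ≠ 0) (x : F × F)
    (h : nrm t x = 0) : x = 0 := by
  obtain ⟨a, b⟩ := x
  simp only [nrm] at h
  by_cases hb : b = 0
  · subst hb
    have : a ^ 2 = 0 := by linear_combination h
    have ha : a = 0 := pow_eq_zero_iff (two_ne_zero) |>.mp this
    rw [ha]
    rfl
  · exfalso
    apply hns (-a / b)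
    field_simp
    linear_combination h

end Odd

section OddFin

variable {F : Type*} [Field F] [Fintype F]

theorem nrm_universal (hodd : Fintype.card F % 2 = 1) (h2 : (2 : F) ≠ 0) (t : F) (ht : t ^ 2 ≠ 4)
    (n : F) : ∃ x : F × F, nrm t x = n := by
  obtain ⟨hf, hh⟩ : ∃ hf : F, 2 * hf - 1 = 0 := ⟨2⁻¹, by rw [mul_inv_cancel₀ h2, sub_self]⟩
  have hD : (1 - t ^ 2 * hf ^ 2 : F) ≠ 0 := by
    intro h
    apply ht
    linear_combination (-4) * h - t ^ 2 * (1 + 2 * hf) * hh
  have hf2 : (Polynomial.X ^ 2 - Polynomial.C n : Polynomial F).degree = 2 :=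
    Polynomial.degree_X_pow_sub_C (by norm_num) n
  have hg : (Polynomial.C (1 - t ^ 2 * hf ^ 2) * Polynomial.X ^ 2 : Polynomial F).degree = 2 := by
    rw [Polynomial.degree_C_mul hD, Polynomial.degree_X_pow]
    rfl
  obtain ⟨A, B, hAB⟩ := FiniteField.exists_root_sum_quadratic hf2 hg hodd
  simp only [Polynomial.eval_sub, Polynomial.eval_pow, Polynomial.eval_X, Polynomial.eval_C,
    Polynomial.eval_mul] at hAB
  refine ⟨(A - B * t * hf, B), ?_⟩
  simp only [nrm]
  linear_combination hAB + (B ^ 2 * t ^ 2 * hf - A * B * t) * hh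

theorem card_lvl_eq (hodd : Fintype.card F % 2 = 1) (h2 : (2 : F) ≠ 0) (t : F) (ht : t ^ 2 ≠ 4)
    (n : F) (hn : n ≠ 0) :
    Nat.card {x : F × F // nrm t x = n} = Nat.card (normSet t) := by
  obtain ⟨y, hy⟩ := nrm_universal hodd h2 t ht n
  subst hy
  exact (Nat.card_congr (lvlEquiv t y hn)).symm

theorem card_sq_eq_sum (t : F) :
    Fintype.card F ^ 2 = ∑ n : F, Nat.card {x : F × F // nrm t x = n} := by
  rw [← Nat.card_sigma, Nat.card_congr (Equiv.sigmaFiberEquiv (nrm t)), Nat.card_prod,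
    Nat.card_eq_fintype_card, pow_two]

theorem card_normSet_nonsplit_odd (hodd : Fintype.card F % 2 = 1) (h2 : (2 : F) ≠ 0) (t : F)
    (hns : ∀ l : F, l ^ 2 - t * l + 1 ≠ 0) :
    Nat.card (normSet t) = Fintype.card F + 1 := by
  classical
  have hq : 2 ≤ Fintype.card F := Fintype.one_lt_card
  have ht : t ^ 2 ≠ 4 := by
    intro h
    apply hns (t / 2)
    field_simp
    linear_combination -h
  have h0 : Nat.card {x : F × F // nrm t x = 0} = 1 := by
    rw [Nat.card_eq_one_iff_unique]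
    refine ⟨⟨?_⟩, ⟨⟨0, by simp [nrm]⟩⟩⟩
    rintro ⟨x, hx⟩ ⟨y, hy⟩
    apply Subtype.ext
    exact (nrm_aniso t hns x hx).trans (nrm_aniso t hns y hy).symm
  have hsum := card_sq_eq_sum t
  rw [← Finset.add_sum_erase Finset.univ _ (Finset.mem_univ (0 : F)), h0,
    Finset.sum_const_nat (m := Nat.card (normSet t))
      (fun n hn => card_lvl_eq hodd h2 t ht n (Finset.ne_of_mem_erase hn)),
    Finset.card_erase_of_mem (Finset.mem_univ _), Finset.card_univ] at hsum
  obtain ⟨k, hk⟩ : ∃ k, Fintype.card F = k + 1 := ⟨Fintype.card F - 1, by omega⟩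
  rw [hk] at hsum ⊢
  simp only [Nat.add_sub_cancel] at hsum
  have hk0 : 0 < k := by omega
  have : k * (k + 1 + 1) = k * Nat.card (normSet t) := by
    have e : (k + 1) ^ 2 = 1 + k * (k + 1 + 1) := by ring
    rw [e] at hsum
    omega
  exact (Nat.eq_of_mul_eq_mul_left hk0 this).symm

theorem card_normSet_double (h2 : (2 : F) ≠ 0) (e : F) (he : e ^ 2 = 1) :
    Nat.card (normSet (2 * e)) = 2 * Fintype.card F := by
  have h1 : Nat.card {c : F // c ^ 2 = 1} = 2 := by
    have hset : {c : F | c ^ 2 = 1} = {1, -1} := by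
      ext c
      simp only [Set.mem_ofPred_eq, Set.mem_insert_iff, Set.mem_singleton_iff]
      exact sq_eq_one_iff
    have hne : (1 : F) ≠ -1 := by
      intro h
      apply h2
      linear_combination h
    show Nat.card ↥{c : F | c ^ 2 = 1} = 2
    rw [hset, Nat.card_coe_set_eq, Set.ncard_pair hne]
  rw [← h1, ← Nat.card_eq_fintype_card (α := F), ← Nat.card_prod]
  apply Nat.card_congr
  refine Equiv.ofBijective (fun ab => (⟨ab.1.1 + e * ab.1.2, ?_⟩, ab.1.2)) ⟨?_, ?_⟩
  · have := ab.2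
    rw [← Prod.mk.eta (p := ab.1), mem_normSet] at this
    linear_combination this + ab.1.2 ^ 2 * he
  · rintro ⟨⟨a, b⟩, hab⟩ ⟨⟨a', b'⟩, hab'⟩ h
    have hb : b = b' := congrArg Prod.snd h
    have ha : a + e * b = a' + e * b' := congrArg (fun x : {c : F // c ^ 2 = 1} × F => (x.1 : F)) h
    subst hb
    have : a = a' := by linear_combination ha
    subst this
    rfl
  · rintro ⟨⟨c, hc⟩, b⟩
    refine ⟨⟨(c - e * b, b), ?_⟩, ?_⟩
    · rw [mem_normSet]
      linear_combination hc - b ^ 2 * he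
    · simp

theorem exists_pow_four_ne_one (h7 : 7 ≤ Fintype.card F) : ∃ l : F, l ≠ 0 ∧ l ^ 4 ≠ 1 := by
  obtain ⟨w, hw⟩ := IsCyclic.exists_generator (α := Fˣ)
  have hord : orderOf w = Fintype.card F - 1 := by
    rw [orderOf_eq_card_of_forall_mem_zpowers hw, Nat.card_units, Nat.card_eq_fintype_card]
  refine ⟨(w : F), w.ne_zero, ?_⟩
  intro h
  have h1 : w ^ 4 = 1 := by
    apply Units.ext
    rw [Units.val_pow_eq_pow_val, h, Units.val_one]
  have h2 := orderOf_dvd_of_pow_eq_one h1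
  rw [hord] at h2
  have := Nat.le_of_dvd (by norm_num) h2
  omega

theorem exists_nonsplit_odd (h2 : (2 : F) ≠ 0) (h7 : 7 ≤ Fintype.card F) :
    ∃ t : F, t ≠ 0 ∧ ∀ l : F, l ^ 2 - t * l + 1 ≠ 0 := by
  have hchar : ringChar F ≠ 2 := by
    intro h
    apply h2
    have := ringChar.spec F 2
    have h3 : ((2 : ℕ) : F) = 0 := (ringChar.spec F 2).mpr (by rw [h])
    exact_mod_cast h3
  obtain ⟨d, hd⟩ := FiniteField.exists_nonsquare hchar
  obtain ⟨w, hw0, hw4⟩ := exists_pow_four_ne_one h7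
  have hw2 : w ^ 2 ≠ 1 := by
    intro h
    apply hw4
    have : w ^ 4 = (w ^ 2) ^ 2 := by ring
    rw [this, h, one_pow]
  obtain ⟨x, hx0, hxd⟩ : ∃ x : F, x ≠ 0 ∧ x ^ 2 + d ≠ 0 := by
    by_cases h1 : (1 : F) + d = 0
    · refine ⟨w, hw0, ?_⟩
      intro h
      apply hw2
      linear_combination h - h1
    · exact ⟨1, one_ne_zero, by rwa [one_pow]⟩
  have hE : x ^ 2 - d ≠ 0 := by
    intro h
    apply hd
    exact ⟨x, by linear_combination -h⟩
  have h4x : 4 * x ≠ 0 := by
    have : (4 : F) = 2 * 2 := by norm_num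
    rw [this]
    exact mul_ne_zero (mul_ne_zero h2 h2) hx0
  refine ⟨2 * (x ^ 2 + d) / (x ^ 2 - d), ?_, ?_⟩
  · exact div_ne_zero (mul_ne_zero h2 hxd) hE
  · intro l hl
    set t : F := 2 * (x ^ 2 + d) / (x ^ 2 - d) with ht
    have hte : t * (x ^ 2 - d) = 2 * (x ^ 2 + d) := by
      rw [ht, div_mul_cancel₀ _ hE]
    have key : ((2 * l - t) * (x ^ 2 - d)) ^ 2 = d * (4 * x) ^ 2 := by
      linear_combination (4 * (x ^ 2 - d) ^ 2) * hl + (t * (x ^ 2 - d) + 2 * (x ^ 2 + d)) * hte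
    apply hd
    refine ⟨(2 * l - t) * (x ^ 2 - d) / (4 * x), ?_⟩
    rw [div_mul_div_comm, eq_div_iff (mul_ne_zero h4x h4x)]
    linear_combination -key

end OddFin

end Cfsg.Agent.Lib.helper15
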