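import Mathlib
import Cfsg.Agent.Lib.helper15.SL2Odd
import Cfsg.Agent.Lib.helper15.SL2Char2

set_option autoImplicit false

namespace Cfsg.Agent.Lib.helper15

open Matrix

section Conj

variable {F : Type*} [Field F]

def mkSL (M : Matrix (Fin 2) (Fin 2) F) (h : M.det = 1) : Matrix.SpecialLinearGroup (Fin 2) F :=
  ⟨M, h⟩

theorem mkSL_coe (M : Matrix (Fin 2) (Fin 2) F) (h : M.det = 1) :
    ((mkSL M h : Matrix.SpecialLinearGroup (Fin 2) F) : Matrix (Fin 2) (Fin 2) F) = M := rfl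

def compSL (t : F) : Matrix.SpecialLinearGroup (Fin 2) F :=
  ⟨!![0, -1; 1, t], by simp [Matrix.det_fin_two]⟩

theorem compSL_coe (t : F) : ((compSL t : Matrix.SpecialLinearGroup (Fin 2) F) :
    Matrix (Fin 2) (Fin 2) F) = !![0, -1; 1, t] := rfl

theorem compSL_trace (t : F) : ((compSL t : Matrix.SpecialLinearGroup (Fin 2) F) :
    Matrix (Fin 2) (Fin 2) F).trace = t := by
  rw [compSL_coe, Matrix.trace_fin_two]
  simp

theorem compSL_nonscalar (t : F) : ∀ c : F, ((compSL t : Matrix.SpecialLinearGroup (Fin 2) F) :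
    Matrix (Fin 2) (Fin 2) F) ≠ c • (1 : Matrix (Fin 2) (Fin 2) F) := by
  intro c hc
  have := congrFun (congrFun hc 1) 0
  rw [compSL_coe] at this
  simp at this

theorem exists_conj_entry_ne_zero (A : Matrix.SpecialLinearGroup (Fin 2) F)
    (hA : ∀ c : F, (A : Matrix (Fin 2) (Fin 2) F) ≠ c • (1 : Matrix (Fin 2) (Fin 2) F)) :
    ∃ P A' : Matrix.SpecialLinearGroup (Fin 2) F, P * A = A' * P ∧
      (A' : Matrix (Fin 2) (Fin 2) F) 1 0 ≠ 0 := by
  have hdet : (A : Matrix (Fin 2) (Fin 2) F).det = 1 := A.2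
  rw [Matrix.det_fin_two] at hdet
  by_cases hc : (A : Matrix (Fin 2) (Fin 2) F) 1 0 = 0
  · by_cases hb : (A : Matrix (Fin 2) (Fin 2) F) 0 1 = 0
    · have hne : (A : Matrix (Fin 2) (Fin 2) F) 0 0 ≠ (A : Matrix (Fin 2) (Fin 2) F) 1 1 := by
        intro heq
        apply hA ((A : Matrix (Fin 2) (Fin 2) F) 0 0)
        rw [m2_eq_iff]
        refine ⟨by simp, by simp [hb], by simp [hc], by simp [heq]⟩
      have hd' : (!![(A : Matrix (Fin 2) (Fin 2) F) 0 0, 0;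
          (A : Matrix (Fin 2) (Fin 2) F) 0 0 - (A : Matrix (Fin 2) (Fin 2) F) 1 1,
          (A : Matrix (Fin 2) (Fin 2) F) 1 1] : Matrix (Fin 2) (Fin 2) F).det = 1 := by
        rw [Matrix.det_fin_two_of]
        rw [hb] at hdet
        linear_combination hdet
      have hdP : (!![1, 0; 1, 1] : Matrix (Fin 2) (Fin 2) F).det = 1 := by
        simp [Matrix.det_fin_two]
      refine ⟨mkSL !![1, 0; 1, 1] hdP, mkSL _ hd', ?_, ?_⟩
      · apply Subtype.ext
        rw [Matrix.SpecialLinearGroup.coe_mul, Matrix.SpecialLinearGroup.coe_mul, mkSL_coe, mkSL_coe]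
        show (!![1, 0; 1, 1] : Matrix (Fin 2) (Fin 2) F) * (A : Matrix (Fin 2) (Fin 2) F) =
          !![(A : Matrix (Fin 2) (Fin 2) F) 0 0, 0;
          (A : Matrix (Fin 2) (Fin 2) F) 0 0 - (A : Matrix (Fin 2) (Fin 2) F) 1 1,
          (A : Matrix (Fin 2) (Fin 2) F) 1 1] * !![1, 0; 1, 1]
        rw [m2_eq_iff]
        simp only [Matrix.mul_apply, Fin.sum_univ_two, Matrix.of_apply,
          Matrix.cons_val', Matrix.cons_val_zero, Matrix.cons_val_one, Matrix.empty_val',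
          Matrix.cons_val_fin_one, hb, hc]
        refine ⟨by ring, by ring, by ring, by ring⟩
      · show (!![(A : Matrix (Fin 2) (Fin 2) F) 0 0, 0;
          (A : Matrix (Fin 2) (Fin 2) F) 0 0 - (A : Matrix (Fin 2) (Fin 2) F) 1 1,
          (A : Matrix (Fin 2) (Fin 2) F) 1 1] : Matrix (Fin 2) (Fin 2) F) 1 0 ≠ 0
        simp only [Matrix.of_apply, Matrix.cons_val', Matrix.cons_val_zero, Matrix.cons_val_one,
          Matrix.empty_val', Matrix.cons_val_fin_one]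
        exact sub_ne_zero.mpr hne
    · have hd' : (!![(A : Matrix (Fin 2) (Fin 2) F) 1 1, -(A : Matrix (Fin 2) (Fin 2) F) 1 0;
          -(A : Matrix (Fin 2) (Fin 2) F) 0 1,
          (A : Matrix (Fin 2) (Fin 2) F) 0 0] : Matrix (Fin 2) (Fin 2) F).det = 1 := by
        rw [Matrix.det_fin_two_of]
        linear_combination hdet
      have hdP : (!![0, -1; 1, 0] : Matrix (Fin 2) (Fin 2) F).det = 1 := by
        simp [Matrix.det_fin_two]
      refine ⟨mkSL !![0, -1; 1, 0] hdP, mkSL _ hd', ?_, ?_⟩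
      · apply Subtype.ext
        rw [Matrix.SpecialLinearGroup.coe_mul, Matrix.SpecialLinearGroup.coe_mul, mkSL_coe, mkSL_coe]
        show (!![0, -1; 1, 0] : Matrix (Fin 2) (Fin 2) F) * (A : Matrix (Fin 2) (Fin 2) F) =
          !![(A : Matrix (Fin 2) (Fin 2) F) 1 1, -(A : Matrix (Fin 2) (Fin 2) F) 1 0;
          -(A : Matrix (Fin 2) (Fin 2) F) 0 1,
          (A : Matrix (Fin 2) (Fin 2) F) 0 0] * !![0, -1; 1, 0]
        rw [m2_eq_iff]
        simp only [Matrix.mul_apply, Fin.sum_univ_two, Matrix.of_apply,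
          Matrix.cons_val', Matrix.cons_val_zero, Matrix.cons_val_one, Matrix.empty_val',
          Matrix.cons_val_fin_one]
        refine ⟨by ring, by ring, by ring, by ring⟩
      · show (!![(A : Matrix (Fin 2) (Fin 2) F) 1 1, -(A : Matrix (Fin 2) (Fin 2) F) 1 0;
          -(A : Matrix (Fin 2) (Fin 2) F) 0 1,
          (A : Matrix (Fin 2) (Fin 2) F) 0 0] : Matrix (Fin 2) (Fin 2) F) 1 0 ≠ 0
        simp only [Matrix.of_apply, Matrix.cons_val', Matrix.cons_val_zero, Matrix.cons_val_one,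
          Matrix.empty_val', Matrix.cons_val_fin_one]
        exact neg_ne_zero.mpr hb
  · exact ⟨1, A, by rw [one_mul, mul_one], hc⟩

theorem companion_semiconj (A : Matrix (Fin 2) (Fin 2) F) (hdet : A.det = 1) :
    A * !![1, A 0 0; 0, A 1 0] = !![1, A 0 0; 0, A 1 0] * !![0, -1; 1, A.trace] := by
  rw [Matrix.det_fin_two] at hdet
  rw [m2_eq_iff]
  simp only [Matrix.mul_apply, Fin.sum_univ_two, Matrix.of_apply, Matrix.trace_fin_two,
    Matrix.cons_val', Matrix.cons_val_zero, Matrix.cons_val_one, Matrix.empty_val',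
    Matrix.cons_val_fin_one]
  refine ⟨by ring, ?_, by ring, by ring⟩
  linear_combination -hdet

theorem conj_companion_of_entry (A : Matrix.SpecialLinearGroup (Fin 2) F)
    (hc : (A : Matrix (Fin 2) (Fin 2) F) 1 0 ≠ 0)
    (huniv : ∀ n : F, n ≠ 0 → ∃ x : F × F, nrm (A : Matrix (Fin 2) (Fin 2) F).trace x = n) :
    ∃ P : Matrix.SpecialLinearGroup (Fin 2) F,
      A * P = P * compSL (A : Matrix (Fin 2) (Fin 2) F).trace := by
  obtain ⟨⟨α, β⟩, hαβ⟩ := huniv ((A : Matrix (Fin 2) (Fin 2) F) 1 0)⁻¹ (inv_ne_zero hc)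
  simp only [nrm] at hαβ
  have hP0 : (!![1, (A : Matrix (Fin 2) (Fin 2) F) 0 0; 0, (A : Matrix (Fin 2) (Fin 2) F) 1 0] :
      Matrix (Fin 2) (Fin 2) F).det = (A : Matrix (Fin 2) (Fin 2) F) 1 0 := by
    rw [Matrix.det_fin_two_of]
    ring
  have hdet : ((α • (1 : Matrix (Fin 2) (Fin 2) F) + β • (A : Matrix (Fin 2) (Fin 2) F)) *
      !![1, (A : Matrix (Fin 2) (Fin 2) F) 0 0; 0, (A : Matrix (Fin 2) (Fin 2) F) 1 0]).det = 1 := by
    rw [Matrix.det_mul, m2_det_lin _ A.2, hP0, hαβ, inv_mul_cancel₀ hc]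
  refine ⟨mkSL _ hdet, ?_⟩
  apply Subtype.ext
  rw [Matrix.SpecialLinearGroup.coe_mul, Matrix.SpecialLinearGroup.coe_mul, compSL_coe, mkSL_coe]
  show (A : Matrix (Fin 2) (Fin 2) F) * ((α • (1 : Matrix (Fin 2) (Fin 2) F) +
      β • (A : Matrix (Fin 2) (Fin 2) F)) *
      !![1, (A : Matrix (Fin 2) (Fin 2) F) 0 0; 0, (A : Matrix (Fin 2) (Fin 2) F) 1 0]) =
    ((α • (1 : Matrix (Fin 2) (Fin 2) F) + β • (A : Matrix (Fin 2) (Fin 2) F)) *
      !![1, (A : Matrix (Fin 2) (Fin 2) F) 0 0; 0, (A : Matrix (Fin 2) (Fin 2) F) 1 0]) *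
      !![0, -1; 1, (A : Matrix (Fin 2) (Fin 2) F).trace]
  rw [mul_assoc, ← companion_semiconj _ A.2, ← mul_assoc, ← mul_assoc]
  congr 1
  rw [mul_add, add_mul, mul_smul_comm, mul_smul_comm, smul_mul_assoc, smul_mul_assoc, mul_one,
    one_mul]

theorem conj_companion (A : Matrix.SpecialLinearGroup (Fin 2) F)
    (hA : ∀ c : F, (A : Matrix (Fin 2) (Fin 2) F) ≠ c • (1 : Matrix (Fin 2) (Fin 2) F))
    (huniv : ∀ n : F, n ≠ 0 → ∃ x : F × F, nrm (A : Matrix (Fin 2) (Fin 2) F).trace x = n) :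
    ∃ P : Matrix.SpecialLinearGroup (Fin 2) F,
      P * A * P⁻¹ = compSL (A : Matrix (Fin 2) (Fin 2) F).trace := by
  obtain ⟨Q, A', hQA, hQ⟩ := exists_conj_entry_ne_zero A hA
  have hA' : A' = Q * A * Q⁻¹ := by rw [hQA]; group
  have htr : (A' : Matrix (Fin 2) (Fin 2) F).trace = (A : Matrix (Fin 2) (Fin 2) F).trace := by
    rw [hA', Matrix.SpecialLinearGroup.coe_mul, Matrix.trace_mul_comm,
      ← Matrix.SpecialLinearGroup.coe_mul, ← mul_assoc, inv_mul_cancel, one_mul]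
  obtain ⟨P, hP⟩ := conj_companion_of_entry A' hQ (by rw [htr]; exact huniv)
  rw [htr] at hP
  refine ⟨P⁻¹ * Q, ?_⟩
  have : P⁻¹ * Q * A * (P⁻¹ * Q)⁻¹ = P⁻¹ * ((Q * A * Q⁻¹) * P) := by group
  rw [this, ← hA', hP]
  group

theorem conj_of_trace_eq (A B : Matrix.SpecialLinearGroup (Fin 2) F)
    (hA : ∀ c : F, (A : Matrix (Fin 2) (Fin 2) F) ≠ c • (1 : Matrix (Fin 2) (Fin 2) F))
    (hB : ∀ c : F, (B : Matrix (Fin 2) (Fin 2) F) ≠ c • (1 : Matrix (Fin 2) (Fin 2) F))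
    (htr : (A : Matrix (Fin 2) (Fin 2) F).trace = (B : Matrix (Fin 2) (Fin 2) F).trace)
    (huniv : ∀ n : F, n ≠ 0 → ∃ x : F × F, nrm (A : Matrix (Fin 2) (Fin 2) F).trace x = n) :
    ∃ P : Matrix.SpecialLinearGroup (Fin 2) F, P * A * P⁻¹ = B := by
  obtain ⟨P, hP⟩ := conj_companion A hA huniv
  obtain ⟨Q, hQ⟩ := conj_companion B hB (by rw [← htr]; exact huniv)
  rw [← htr] at hQ
  refine ⟨Q⁻¹ * P, ?_⟩
  have : Q⁻¹ * P * A * (Q⁻¹ * P)⁻¹ = Q⁻¹ * (P * A * P⁻¹) * Q := by group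
  rw [this, hP, ← hQ]
  group

end Conj

section ConjFin

variable {F : Type*} [Field F] [Fintype F]

theorem nrm_universal_char2 [CharP F 2] (t n : F) : ∃ x : F × F, nrm t x = n := by
  obtain ⟨c, hc⟩ := exists_sqrt_char2 n
  refine ⟨(c, 0), ?_⟩
  simp only [nrm]
  rw [← hc]
  ring

end ConjFin

end Cfsg.Agent.Lib.helper15
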