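import Mathlib
import Cfsg.Agent.Lib.helper15.SL2Conj

set_option autoImplicit false

namespace Cfsg.Agent.Lib.helper15

open Matrix

section Torus

variable {F : Type*} [Field F]

theorem exists_coords (g : Matrix.SpecialLinearGroup (Fin 2) F)
    (hg : ∀ c : F, (g : Matrix (Fin 2) (Fin 2) F) ≠ c • (1 : Matrix (Fin 2) (Fin 2) F))
    (x : Matrix.SpecialLinearGroup (Fin 2) F)
    (hx : x ∈ Subgroup.centralizer ({g} : Set (Matrix.SpecialLinearGroup (Fin 2) F))) :
    ∃ ab : F × F, (x : Matrix (Fin 2) (Fin 2) F) =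
      ab.1 • (1 : Matrix (Fin 2) (Fin 2) F) + ab.2 • (g : Matrix (Fin 2) (Fin 2) F) := by
  rw [Subgroup.mem_centralizer_singleton_iff] at hx
  have hx' : (x : Matrix (Fin 2) (Fin 2) F) * (g : Matrix (Fin 2) (Fin 2) F) =
      (g : Matrix (Fin 2) (Fin 2) F) * (x : Matrix (Fin 2) (Fin 2) F) := by
    rw [← Matrix.SpecialLinearGroup.coe_mul, ← Matrix.SpecialLinearGroup.coe_mul, hx]
  obtain ⟨a, b, hab⟩ := m2_commute_lin _ _ hg hx'
  exact ⟨(a, b), hab⟩

noncomputable def coords (g : Matrix.SpecialLinearGroup (Fin 2) F)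
    (hg : ∀ c : F, (g : Matrix (Fin 2) (Fin 2) F) ≠ c • (1 : Matrix (Fin 2) (Fin 2) F))
    (x : Subgroup.centralizer ({g} : Set (Matrix.SpecialLinearGroup (Fin 2) F))) : F × F :=
  Classical.choose (exists_coords g hg x.1 x.2)

theorem coords_spec (g : Matrix.SpecialLinearGroup (Fin 2) F)
    (hg : ∀ c : F, (g : Matrix (Fin 2) (Fin 2) F) ≠ c • (1 : Matrix (Fin 2) (Fin 2) F))
    (x : Subgroup.centralizer ({g} : Set (Matrix.SpecialLinearGroup (Fin 2) F))) :
    ((x : Matrix.SpecialLinearGroup (Fin 2) F) : Matrix (Fin 2) (Fin 2) F) =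
      (coords g hg x).1 • (1 : Matrix (Fin 2) (Fin 2) F) +
        (coords g hg x).2 • (g : Matrix (Fin 2) (Fin 2) F) :=
  Classical.choose_spec (exists_coords g hg x.1 x.2)

theorem coords_unique (g : Matrix.SpecialLinearGroup (Fin 2) F)
    (hg : ∀ c : F, (g : Matrix (Fin 2) (Fin 2) F) ≠ c • (1 : Matrix (Fin 2) (Fin 2) F))
    (x : Subgroup.centralizer ({g} : Set (Matrix.SpecialLinearGroup (Fin 2) F))) (a b : F)
    (h : ((x : Matrix.SpecialLinearGroup (Fin 2) F) : Matrix (Fin 2) (Fin 2) F) =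
      a • (1 : Matrix (Fin 2) (Fin 2) F) + b • (g : Matrix (Fin 2) (Fin 2) F)) :
    coords g hg x = (a, b) := by
  have h1 := coords_spec g hg x
  rw [h] at h1
  obtain ⟨ha, hb⟩ := m2_lin_injective _ hg _ _ _ _ h1
  exact Prod.ext ha.symm hb.symm

theorem coords_nrm (g : Matrix.SpecialLinearGroup (Fin 2) F)
    (hg : ∀ c : F, (g : Matrix (Fin 2) (Fin 2) F) ≠ c • (1 : Matrix (Fin 2) (Fin 2) F))
    (x : Subgroup.centralizer ({g} : Set (Matrix.SpecialLinearGroup (Fin 2) F))) :
    nrm (g : Matrix (Fin 2) (Fin 2) F).trace (coords g hg x) = 1 := by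
  have h1 := coords_spec g hg x
  have h2 : ((x : Matrix.SpecialLinearGroup (Fin 2) F) : Matrix (Fin 2) (Fin 2) F).det = 1 := x.1.2
  rw [h1, m2_det_lin _ g.2] at h2
  exact h2

theorem lin_mul_lin (g : Matrix (Fin 2) (Fin 2) F) (hdet : g.det = 1) (a b a' b' : F) :
    (a • (1 : Matrix (Fin 2) (Fin 2) F) + b • g) * (a' • (1 : Matrix (Fin 2) (Fin 2) F) + b' • g) =
      (a * a' - b * b') • (1 : Matrix (Fin 2) (Fin 2) F) +
        (a * b' + b * a' + b * b' * g.trace) • g := by
  have hsq := m2_sq g hdet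
  rw [add_mul, mul_add, mul_add, smul_mul_smul_comm, smul_mul_smul_comm, smul_mul_smul_comm,
    smul_mul_smul_comm, mul_one, mul_one, one_mul, hsq, smul_sub, smul_smul, sub_smul, add_smul,
    add_smul]
  abel

theorem coords_mul (g : Matrix.SpecialLinearGroup (Fin 2) F)
    (hg : ∀ c : F, (g : Matrix (Fin 2) (Fin 2) F) ≠ c • (1 : Matrix (Fin 2) (Fin 2) F))
    (x y : Subgroup.centralizer ({g} : Set (Matrix.SpecialLinearGroup (Fin 2) F))) :
    coords g hg (x * y) = nmul (g : Matrix (Fin 2) (Fin 2) F).trace (coords g hg x) (coords g hg y) := by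
  apply coords_unique
  rw [Subgroup.coe_mul, Matrix.SpecialLinearGroup.coe_mul, coords_spec g hg x, coords_spec g hg y,
    lin_mul_lin _ g.2]

theorem coords_one (g : Matrix.SpecialLinearGroup (Fin 2) F)
    (hg : ∀ c : F, (g : Matrix (Fin 2) (Fin 2) F) ≠ c • (1 : Matrix (Fin 2) (Fin 2) F)) :
    coords g hg 1 = (1, 0) := by
  apply coords_unique
  rw [Subgroup.coe_one, Matrix.SpecialLinearGroup.coe_one, one_smul, zero_smul, add_zero]

theorem coords_injective (g : Matrix.SpecialLinearGroup (Fin 2) F)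
    (hg : ∀ c : F, (g : Matrix (Fin 2) (Fin 2) F) ≠ c • (1 : Matrix (Fin 2) (Fin 2) F)) :
    Function.Injective (coords g hg) := by
  intro x y hxy
  apply Subtype.ext
  apply Subtype.ext
  rw [coords_spec g hg x, coords_spec g hg y, hxy]

section Eval

variable {K : Type*} [Field K] [Algebra F K]

def evalK (l : K) (ab : F × F) : K := algebraMap F K ab.1 + algebraMap F K ab.2 * l

theorem evalK_nmul (t : F) (l : K) (hl : l ^ 2 - algebraMap F K t * l + 1 = 0) (x y : F × F) :
    evalK l (nmul t x y) = evalK l x * evalK l y := by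
  simp only [evalK, nmul, map_sub, map_add, map_mul]
  linear_combination (-(algebraMap F K x.2 * algebraMap F K y.2)) * hl

theorem evalK_mul_conj (t : F) (l : K) (hl : l ^ 2 - algebraMap F K t * l + 1 = 0) (x : F × F) :
    evalK l x * evalK (algebraMap F K t - l) x = algebraMap F K (nrm t x) := by
  simp only [evalK, nrm, map_add, map_mul, map_pow]
  linear_combination (-(algebraMap F K x.2) ^ 2) * hl

theorem evalK_injOn (t : F) (l : K) (hl : l ^ 2 - algebraMap F K t * l + 1 = 0)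
    (hreg : ∀ c : F, c ^ 2 - t * c + 1 = 0 → c ^ 2 ≠ 1) (x y : F × F)
    (hx : nrm t x = 1) (hy : nrm t y = 1) (h : evalK l x = evalK l y) : x = y := by
  have hinj : Function.Injective (algebraMap F K) := (algebraMap F K).injective
  have hll : l ≠ algebraMap F K t - l := by
    intro heq
    have hl1 : l ^ 2 = 1 := by
      have : algebraMap F K t = 2 * l := by linear_combination (-1 : K) * heq
      rw [this] at hl
      linear_combination -hl
    rcases sq_eq_one_iff.mp hl1 with h1 | h1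
    · apply hreg 1 _ (one_pow 2)
      apply hinj
      rw [h1] at hl
      simp only [map_add, map_sub, map_mul, map_pow, map_one, map_zero]
      linear_combination hl
    · apply hreg (-1) _ (by ring)
      apply hinj
      rw [h1] at hl
      simp only [map_add, map_sub, map_mul, map_pow, map_one, map_zero, map_neg]
      linear_combination hl
  have hx' := evalK_mul_conj t l hl x
  have hy' := evalK_mul_conj t l hl y
  rw [hx, map_one] at hx'
  rw [hy, map_one] at hy'
  have hx0 : evalK l x ≠ 0 := by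
    intro h0
    rw [h0, zero_mul] at hx'
    exact zero_ne_one hx'
  have h2 : evalK (algebraMap F K t - l) x = evalK (algebraMap F K t - l) y := by
    have : evalK l x * evalK (algebraMap F K t - l) x = evalK l x * evalK (algebraMap F K t - l) y := by
      rw [hx', h, hy']
    exact mul_left_cancel₀ hx0 this
  simp only [evalK] at h h2
  have hb : algebraMap F K x.2 = algebraMap F K y.2 := by
    have : (algebraMap F K x.2 - algebraMap F K y.2) * (l - (algebraMap F K t - l)) = 0 := by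
      linear_combination h - h2
    rcases mul_eq_zero.mp this with h3 | h3
    · exact sub_eq_zero.mp h3
    · exact absurd (sub_eq_zero.mp h3) hll
  have ha : algebraMap F K x.1 = algebraMap F K y.1 := by
    rw [hb] at h
    exact add_right_cancel h
  exact Prod.ext (hinj ha) (hinj hb)

end Eval

theorem isCyclic_centralizer [Finite F] (g : Matrix.SpecialLinearGroup (Fin 2) F)
    (hg : ∀ c : F, (g : Matrix (Fin 2) (Fin 2) F) ≠ c • (1 : Matrix (Fin 2) (Fin 2) F))
    (hreg : ∀ c : F, c ^ 2 - (g : Matrix (Fin 2) (Fin 2) F).trace * c + 1 = 0 → c ^ 2 ≠ 1) :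
    IsCyclic (Subgroup.centralizer ({g} : Set (Matrix.SpecialLinearGroup (Fin 2) F))) := by
  obtain ⟨t, ht⟩ : ∃ t, t = (g : Matrix (Fin 2) (Fin 2) F).trace := ⟨_, rfl⟩
  have hdeg : (Polynomial.X ^ 2 - Polynomial.C (algebraMap F (AlgebraicClosure F) t) * Polynomial.X +
      Polynomial.C 1 : Polynomial (AlgebraicClosure F)).degree ≠ 0 := by
    have : (Polynomial.X ^ 2 - Polynomial.C (algebraMap F (AlgebraicClosure F) t) * Polynomial.X +
      Polynomial.C 1 : Polynomial (AlgebraicClosure F)) =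
      Polynomial.C 1 * Polynomial.X ^ 2 + Polynomial.C (-(algebraMap F (AlgebraicClosure F) t)) *
        Polynomial.X + Polynomial.C 1 := by
      rw [Polynomial.C_neg, Polynomial.C_1]
      ring
    rw [this, Polynomial.degree_quadratic one_ne_zero]
    norm_num
  obtain ⟨l, hl⟩ := IsAlgClosed.exists_root _ hdeg
  simp only [Polynomial.IsRoot, Polynomial.eval_add, Polynomial.eval_sub, Polynomial.eval_pow,
    Polynomial.eval_X, Polynomial.eval_mul, Polynomial.eval_C] at hl
  let f : Subgroup.centralizer ({g} : Set (Matrix.SpecialLinearGroup (Fin 2) F)) →*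
      AlgebraicClosure F :=
    { toFun := fun x => evalK l (coords g hg x)
      map_one' := by
        rw [coords_one]
        simp [evalK]
      map_mul' := fun x y => by
        rw [coords_mul, ← ht, evalK_nmul t l hl] }
  apply isCyclic_of_injective_ringHom f
  intro x y hxy
  apply coords_injective g hg
  apply evalK_injOn t l hl (by rw [ht]; exact hreg) _ _ (by rw [ht]; exact coords_nrm g hg x)
    (by rw [ht]; exact coords_nrm g hg y)
  exact hxy

theorem nmul_comm (t : F) (x y : F × F) : nmul t x y = nmul t y x := by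
  simp only [nmul]
  ext
  · simp only
    ring
  · simp only
    ring

theorem centralizer_comm (g : Matrix.SpecialLinearGroup (Fin 2) F)
    (hg : ∀ c : F, (g : Matrix (Fin 2) (Fin 2) F) ≠ c • (1 : Matrix (Fin 2) (Fin 2) F))
    (x y : Matrix.SpecialLinearGroup (Fin 2) F)
    (hx : x ∈ Subgroup.centralizer ({g} : Set (Matrix.SpecialLinearGroup (Fin 2) F)))
    (hy : y ∈ Subgroup.centralizer ({g} : Set (Matrix.SpecialLinearGroup (Fin 2) F))) :
    x * y = y * x := by
  have h : (⟨x, hx⟩ : Subgroup.centralizer ({g} : Set (Matrix.SpecialLinearGroup (Fin 2) F))) * ⟨y, hy⟩ =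
      ⟨y, hy⟩ * ⟨x, hx⟩ := by
    apply coords_injective g hg
    rw [coords_mul, coords_mul, nmul_comm]
  exact congrArg Subtype.val h

theorem centralizer_eq_of_mem (g : Matrix.SpecialLinearGroup (Fin 2) F)
    (hg : ∀ c : F, (g : Matrix (Fin 2) (Fin 2) F) ≠ c • (1 : Matrix (Fin 2) (Fin 2) F))
    (x : Matrix.SpecialLinearGroup (Fin 2) F)
    (hx : x ∈ Subgroup.centralizer ({g} : Set (Matrix.SpecialLinearGroup (Fin 2) F)))
    (hxn : ∀ c : F, (x : Matrix (Fin 2) (Fin 2) F) ≠ c • (1 : Matrix (Fin 2) (Fin 2) F)) :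
    Subgroup.centralizer ({x} : Set (Matrix.SpecialLinearGroup (Fin 2) F)) =
      Subgroup.centralizer ({g} : Set (Matrix.SpecialLinearGroup (Fin 2) F)) := by
  have hgx : g ∈ Subgroup.centralizer ({x} : Set (Matrix.SpecialLinearGroup (Fin 2) F)) := by
    rw [Subgroup.mem_centralizer_singleton_iff] at hx ⊢
    exact hx.symm
  have hxx : x ∈ Subgroup.centralizer ({x} : Set (Matrix.SpecialLinearGroup (Fin 2) F)) := by
    rw [Subgroup.mem_centralizer_singleton_iff]
  have hgg : g ∈ Subgroup.centralizer ({g} : Set (Matrix.SpecialLinearGroup (Fin 2) F)) := by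
    rw [Subgroup.mem_centralizer_singleton_iff]
  ext y
  constructor
  · intro hy
    rw [Subgroup.mem_centralizer_singleton_iff]
    exact centralizer_comm x hxn y g hy hgx
  · intro hy
    rw [Subgroup.mem_centralizer_singleton_iff]
    exact centralizer_comm g hg y x hy hx

theorem inv_coe_eq (g : Matrix.SpecialLinearGroup (Fin 2) F) :
    ((g⁻¹ : Matrix.SpecialLinearGroup (Fin 2) F) : Matrix (Fin 2) (Fin 2) F) =
      (g : Matrix (Fin 2) (Fin 2) F).trace • (1 : Matrix (Fin 2) (Fin 2) F) -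
        (g : Matrix (Fin 2) (Fin 2) F) := by
  have hsq := m2_sq (g : Matrix (Fin 2) (Fin 2) F) g.2
  have h1 : (g : Matrix (Fin 2) (Fin 2) F) * ((g : Matrix (Fin 2) (Fin 2) F).trace •
      (1 : Matrix (Fin 2) (Fin 2) F) - (g : Matrix (Fin 2) (Fin 2) F)) = 1 := by
    rw [mul_sub, mul_smul_comm, mul_one, hsq]
    abel
  have h2 : ((g⁻¹ : Matrix.SpecialLinearGroup (Fin 2) F) : Matrix (Fin 2) (Fin 2) F) *
      (g : Matrix (Fin 2) (Fin 2) F) = 1 := by
    rw [← Matrix.SpecialLinearGroup.coe_mul, inv_mul_cancel, Matrix.SpecialLinearGroup.coe_one]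
  calc ((g⁻¹ : Matrix.SpecialLinearGroup (Fin 2) F) : Matrix (Fin 2) (Fin 2) F)
      = ((g⁻¹ : Matrix.SpecialLinearGroup (Fin 2) F) : Matrix (Fin 2) (Fin 2) F) *
        ((g : Matrix (Fin 2) (Fin 2) F) * ((g : Matrix (Fin 2) (Fin 2) F).trace •
          (1 : Matrix (Fin 2) (Fin 2) F) - (g : Matrix (Fin 2) (Fin 2) F))) := by rw [h1, mul_one]
    _ = _ := by rw [← mul_assoc, h2, one_mul]

theorem eq_or_eq_inv_of_trace (h2 : (2 : F) ≠ 0) (g : Matrix.SpecialLinearGroup (Fin 2) F)
    (hg : ∀ c : F, (g : Matrix (Fin 2) (Fin 2) F) ≠ c • (1 : Matrix (Fin 2) (Fin 2) F))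
    (ht4 : (g : Matrix (Fin 2) (Fin 2) F).trace ^ 2 ≠ 4)
    (x : Matrix.SpecialLinearGroup (Fin 2) F)
    (hx : x ∈ Subgroup.centralizer ({g} : Set (Matrix.SpecialLinearGroup (Fin 2) F)))
    (htr : (x : Matrix (Fin 2) (Fin 2) F).trace = (g : Matrix (Fin 2) (Fin 2) F).trace) :
    x = g ∨ x = g⁻¹ := by
  obtain ⟨⟨a, b⟩, hab⟩ := exists_coords g hg x hx
  simp only at hab
  obtain ⟨t, ht⟩ : ∃ t, t = (g : Matrix (Fin 2) (Fin 2) F).trace := ⟨_, rfl⟩
  have hdet : (x : Matrix (Fin 2) (Fin 2) F).det = 1 := x.2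
  rw [hab, m2_det_lin _ g.2, ← ht] at hdet
  rw [hab, Matrix.trace_add, Matrix.trace_smul, Matrix.trace_smul, Matrix.trace_one,
    Fintype.card_fin, ← ht] at htr
  simp only [smul_eq_mul, Nat.cast_ofNat] at htr
  rw [← ht] at ht4
  have hb2 : (t ^ 2 - 4) * (1 - b ^ 2) = 0 := by
    linear_combination (4 : F) * hdet - (2 * a + b * t + t) * htr
  have hb : b ^ 2 = 1 := by
    rcases mul_eq_zero.mp hb2 with h | h
    · exact absurd (by linear_combination h) ht4
    · linear_combination -h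
  rcases sq_eq_one_iff.mp hb with rfl | rfl
  · left
    have ha : a = 0 := by
      have : 2 * a = 0 := by linear_combination htr
      rcases mul_eq_zero.mp this with h | h
      · exact absurd h h2
      · exact h
    apply Subtype.ext
    rw [hab, ha, zero_smul, zero_add, one_smul]
  · right
    have ha : a = t := by
      have : 2 * (a - t) = 0 := by linear_combination htr
      rcases mul_eq_zero.mp this with h | h
      · exact absurd h h2
      · exact sub_eq_zero.mp h
    apply Subtype.ext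
    rw [hab, ha, inv_coe_eq, ← ht, neg_smul, one_smul, sub_eq_add_neg]

theorem inv_trace (g : Matrix.SpecialLinearGroup (Fin 2) F) :
    ((g⁻¹ : Matrix.SpecialLinearGroup (Fin 2) F) : Matrix (Fin 2) (Fin 2) F).trace =
      (g : Matrix (Fin 2) (Fin 2) F).trace := by
  rw [inv_coe_eq, Matrix.trace_sub, Matrix.trace_smul, Matrix.trace_one, Fintype.card_fin]
  simp only [smul_eq_mul, Nat.cast_ofNat]
  ring

theorem inv_nonscalar (g : Matrix.SpecialLinearGroup (Fin 2) F)
    (hg : ∀ c : F, (g : Matrix (Fin 2) (Fin 2) F) ≠ c • (1 : Matrix (Fin 2) (Fin 2) F)) :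
    ∀ c : F, ((g⁻¹ : Matrix.SpecialLinearGroup (Fin 2) F) : Matrix (Fin 2) (Fin 2) F) ≠
      c • (1 : Matrix (Fin 2) (Fin 2) F) := by
  intro c h
  rw [inv_coe_eq] at h
  apply hg ((g : Matrix (Fin 2) (Fin 2) F).trace - c)
  rw [sub_smul, ← h]
  abel

theorem inv_ne_self (h2 : (2 : F) ≠ 0) (g : Matrix.SpecialLinearGroup (Fin 2) F)
    (hg : ∀ c : F, (g : Matrix (Fin 2) (Fin 2) F) ≠ c • (1 : Matrix (Fin 2) (Fin 2) F)) :
    g⁻¹ ≠ g := by
  intro h
  have h1 := inv_coe_eq g
  rw [h] at h1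
  apply hg ((g : Matrix (Fin 2) (Fin 2) F).trace / 2)
  have h3 : (2 : F) • (g : Matrix (Fin 2) (Fin 2) F) =
      (g : Matrix (Fin 2) (Fin 2) F).trace • (1 : Matrix (Fin 2) (Fin 2) F) := by
    rw [two_smul]
    nth_rewrite 1 [h1]
    abel
  calc (g : Matrix (Fin 2) (Fin 2) F) = (2 : F)⁻¹ • ((2 : F) • (g : Matrix (Fin 2) (Fin 2) F)) := by
        rw [smul_smul, inv_mul_cancel₀ h2, one_smul]
    _ = _ := by rw [h3, smul_smul, div_eq_inv_mul]

theorem conj_trace (x g : Matrix.SpecialLinearGroup (Fin 2) F) :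
    ((x * g * x⁻¹ : Matrix.SpecialLinearGroup (Fin 2) F) : Matrix (Fin 2) (Fin 2) F).trace =
      (g : Matrix (Fin 2) (Fin 2) F).trace := by
  rw [Matrix.SpecialLinearGroup.coe_mul, Matrix.trace_mul_comm,
    ← Matrix.SpecialLinearGroup.coe_mul, ← mul_assoc, inv_mul_cancel, one_mul]

theorem conj_mem_centralizer {G : Type*} [Group G] (g x y : G)
    (hy : y ∈ Subgroup.centralizer ({g} : Set G)) :
    x * y * x⁻¹ ∈ Subgroup.centralizer ({x * g * x⁻¹} : Set G) := by
  rw [Subgroup.mem_centralizer_singleton_iff] at hy ⊢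
  calc x * y * x⁻¹ * (x * g * x⁻¹) = x * (y * g) * x⁻¹ := by group
    _ = x * (g * y) * x⁻¹ := by rw [hy]
    _ = _ := by group

theorem centralizer_inv {G : Type*} [Group G] (g : G) :
    Subgroup.centralizer ({g⁻¹} : Set G) = Subgroup.centralizer ({g} : Set G) := by
  ext y
  rw [Subgroup.mem_centralizer_singleton_iff, Subgroup.mem_centralizer_singleton_iff]
  constructor
  · intro h
    calc y * g = g * (g⁻¹ * y) * g := by group
      _ = g * (y * g⁻¹) * g := by rw [h]
      _ = g * y := by group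
  · intro h
    calc y * g⁻¹ = g⁻¹ * (g * y) * g⁻¹ := by group
      _ = g⁻¹ * (y * g) * g⁻¹ := by rw [h]
      _ = g⁻¹ * y := by group

theorem mem_normalizer_centralizer_iff (h2 : (2 : F) ≠ 0) (g : Matrix.SpecialLinearGroup (Fin 2) F)
    (hg : ∀ c : F, (g : Matrix (Fin 2) (Fin 2) F) ≠ c • (1 : Matrix (Fin 2) (Fin 2) F))
    (ht4 : (g : Matrix (Fin 2) (Fin 2) F).trace ^ 2 ≠ 4)
    (x : Matrix.SpecialLinearGroup (Fin 2) F) :
    x ∈ Subgroup.normalizer ((Subgroup.centralizer
      ({g} : Set (Matrix.SpecialLinearGroup (Fin 2) F)) :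
        Subgroup (Matrix.SpecialLinearGroup (Fin 2) F)) :
          Set (Matrix.SpecialLinearGroup (Fin 2) F)) ↔
      (x * g * x⁻¹ = g ∨ x * g * x⁻¹ = g⁻¹) := by
  have hgg : g ∈ Subgroup.centralizer ({g} : Set (Matrix.SpecialLinearGroup (Fin 2) F)) := by
    rw [Subgroup.mem_centralizer_singleton_iff]
  constructor
  · intro hx
    have h1 := (Subgroup.mem_normalizer_iff.mp hx g).mp hgg
    exact eq_or_eq_inv_of_trace h2 g hg ht4 _ h1 (conj_trace x g)
  · rintro (h | h)
    · apply Subgroup.le_normalizer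
      rw [Subgroup.mem_centralizer_singleton_iff]
      calc x * g = x * g * x⁻¹ * x := by group
        _ = g * x := by rw [h]
    · rw [Subgroup.mem_normalizer_iff]
      intro y
      constructor
      · intro hy
        have := conj_mem_centralizer g x y hy
        rw [h, centralizer_inv] at this
        exact this
      · intro hy
        have h' : x⁻¹ * g * x⁻¹⁻¹ = g⁻¹ := by
          have : g = x⁻¹ * g⁻¹ * x := by rw [← h]; group
          calc x⁻¹ * g * x⁻¹⁻¹ = (x⁻¹ * g⁻¹ * x)⁻¹ := by group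
            _ = g⁻¹ := by rw [← this]
        have := conj_mem_centralizer g x⁻¹ (x * y * x⁻¹) hy
        rw [h', centralizer_inv] at this
        have e : x⁻¹ * (x * y * x⁻¹) * x⁻¹⁻¹ = y := by group
        rw [e] at this
        exact this

theorem relIndex_normalizer_centralizer (h2 : (2 : F) ≠ 0)
    (g : Matrix.SpecialLinearGroup (Fin 2) F)
    (hg : ∀ c : F, (g : Matrix (Fin 2) (Fin 2) F) ≠ c • (1 : Matrix (Fin 2) (Fin 2) F))
    (ht4 : (g : Matrix (Fin 2) (Fin 2) F).trace ^ 2 ≠ 4)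
    (huniv : ∀ n : F, n ≠ 0 → ∃ x : F × F, nrm (g : Matrix (Fin 2) (Fin 2) F).trace x = n) :
    (Subgroup.centralizer ({g} : Set (Matrix.SpecialLinearGroup (Fin 2) F))).relIndex
      (Subgroup.normalizer ((Subgroup.centralizer
        ({g} : Set (Matrix.SpecialLinearGroup (Fin 2) F)) :
          Subgroup (Matrix.SpecialLinearGroup (Fin 2) F)) :
            Set (Matrix.SpecialLinearGroup (Fin 2) F))) = 2 := by
  obtain ⟨w, hw⟩ := conj_of_trace_eq g g⁻¹ hg (inv_nonscalar g hg) (inv_trace g).symm huniv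
  have hne := inv_ne_self h2 g hg
  rw [Subgroup.relIndex_eq_two_iff]
  refine ⟨w, (mem_normalizer_centralizer_iff h2 g hg ht4 w).mpr (Or.inr hw), ?_⟩
  intro b hb
  rw [mem_normalizer_centralizer_iff h2 g hg ht4] at hb
  have hcent : ∀ z : Matrix.SpecialLinearGroup (Fin 2) F,
      z ∈ Subgroup.centralizer ({g} : Set (Matrix.SpecialLinearGroup (Fin 2) F)) ↔
        z * g * z⁻¹ = g := by
    intro z
    rw [Subgroup.mem_centralizer_singleton_iff]
    constructor
    · intro h
      calc z * g * z⁻¹ = g * z * z⁻¹ := by rw [h]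
        _ = g := by group
    · intro h
      calc z * g = z * g * z⁻¹ * z := by group
        _ = g * z := by rw [h]
  have hbw : b * w * g * (b * w)⁻¹ = (b * g * b⁻¹)⁻¹ := by
    calc b * w * g * (b * w)⁻¹ = b * (w * g * w⁻¹) * b⁻¹ := by group
      _ = b * g⁻¹ * b⁻¹ := by rw [hw]
      _ = _ := by group
  rw [hcent, hcent, hbw]
  rcases hb with hb | hb
  · right
    refine ⟨hb, ?_⟩
    rw [hb]
    exact hne
  · left
    refine ⟨?_, ?_⟩
    · rw [hb, inv_inv]
    · rw [hb]
      exact hne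

theorem card_normalizer_centralizer (h2 : (2 : F) ≠ 0)
    (g : Matrix.SpecialLinearGroup (Fin 2) F)
    (hg : ∀ c : F, (g : Matrix (Fin 2) (Fin 2) F) ≠ c • (1 : Matrix (Fin 2) (Fin 2) F))
    (ht4 : (g : Matrix (Fin 2) (Fin 2) F).trace ^ 2 ≠ 4)
    (huniv : ∀ n : F, n ≠ 0 → ∃ x : F × F, nrm (g : Matrix (Fin 2) (Fin 2) F).trace x = n) :
    Nat.card (Subgroup.normalizer ((Subgroup.centralizer
        ({g} : Set (Matrix.SpecialLinearGroup (Fin 2) F)) :
          Subgroup (Matrix.SpecialLinearGroup (Fin 2) F)) :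
            Set (Matrix.SpecialLinearGroup (Fin 2) F))) =
      2 * Nat.card (Subgroup.centralizer ({g} : Set (Matrix.SpecialLinearGroup (Fin 2) F))) := by
  have h1 := Subgroup.relIndex_mul_relIndex ⊥
    (Subgroup.centralizer ({g} : Set (Matrix.SpecialLinearGroup (Fin 2) F)))
    (Subgroup.normalizer ((Subgroup.centralizer
        ({g} : Set (Matrix.SpecialLinearGroup (Fin 2) F)) :
          Subgroup (Matrix.SpecialLinearGroup (Fin 2) F)) :
            Set (Matrix.SpecialLinearGroup (Fin 2) F))) bot_le Subgroup.le_normalizer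
  rw [Subgroup.relIndex_bot_left, Subgroup.relIndex_bot_left,
    relIndex_normalizer_centralizer h2 g hg ht4 huniv] at h1
  rw [← h1, mul_comm]

theorem m2_polar (X G : Matrix (Fin 2) (Fin 2) F) :
    X * G + G * X = X.trace • G + G.trace • X + ((X * G).trace - X.trace * G.trace) •
      (1 : Matrix (Fin 2) (Fin 2) F) := by
  rw [m2_eq_iff]
  simp only [Matrix.add_apply, Matrix.mul_apply, Fin.sum_univ_two, Matrix.smul_apply,
    Matrix.trace, Matrix.diag_apply, Matrix.one_apply_eq, Matrix.one_apply_ne, smul_eq_mul,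
    ne_eq, not_false_eq_true, zero_ne_one, one_ne_zero]
  refine ⟨?_, ?_, ?_, ?_⟩ <;> ring

theorem sq_eq_neg_one_of_conj_inv (g : Matrix.SpecialLinearGroup (Fin 2) F)
    (hg : ∀ c : F, (g : Matrix (Fin 2) (Fin 2) F) ≠ c • (1 : Matrix (Fin 2) (Fin 2) F))
    (x : Matrix.SpecialLinearGroup (Fin 2) F) (hx : x * g * x⁻¹ = g⁻¹) :
    (x : Matrix (Fin 2) (Fin 2) F) * (x : Matrix (Fin 2) (Fin 2) F) = -1 := by
  have h1 : x * g = g⁻¹ * x := by
    calc x * g = x * g * x⁻¹ * x := by group
      _ = g⁻¹ * x := by rw [hx]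
  have h3 : (x : Matrix (Fin 2) (Fin 2) F) * (g : Matrix (Fin 2) (Fin 2) F) =
      ((g : Matrix (Fin 2) (Fin 2) F).trace • (1 : Matrix (Fin 2) (Fin 2) F) -
        (g : Matrix (Fin 2) (Fin 2) F)) * (x : Matrix (Fin 2) (Fin 2) F) := by
    rw [← inv_coe_eq, ← Matrix.SpecialLinearGroup.coe_mul, ← Matrix.SpecialLinearGroup.coe_mul, h1]
  have h4 := m2_polar (x : Matrix (Fin 2) (Fin 2) F) (g : Matrix (Fin 2) (Fin 2) F)
  obtain ⟨d, hd⟩ : ∃ d : F, d = ((x : Matrix (Fin 2) (Fin 2) F) *
    (g : Matrix (Fin 2) (Fin 2) F)).trace - (x : Matrix (Fin 2) (Fin 2) F).trace *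
      (g : Matrix (Fin 2) (Fin 2) F).trace := ⟨_, rfl⟩
  rw [← hd] at h4
  rw [h3, sub_mul, smul_mul_assoc, one_mul, sub_add_cancel] at h4
  have h5 : (x : Matrix (Fin 2) (Fin 2) F).trace • (g : Matrix (Fin 2) (Fin 2) F) =
      (-d) • (1 : Matrix (Fin 2) (Fin 2) F) := by
    have h6 : (x : Matrix (Fin 2) (Fin 2) F).trace • (g : Matrix (Fin 2) (Fin 2) F) +
        d • (1 : Matrix (Fin 2) (Fin 2) F) = 0 := by
      have h7 : (g : Matrix (Fin 2) (Fin 2) F).trace • (x : Matrix (Fin 2) (Fin 2) F) =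
          (g : Matrix (Fin 2) (Fin 2) F).trace • (x : Matrix (Fin 2) (Fin 2) F) +
          ((x : Matrix (Fin 2) (Fin 2) F).trace • (g : Matrix (Fin 2) (Fin 2) F) +
            d • (1 : Matrix (Fin 2) (Fin 2) F)) := by
        nth_rewrite 1 [h4]
        abel
      exact (left_eq_add.mp h7)
    rw [neg_smul]
    exact eq_neg_of_add_eq_zero_left h6
  have htr : (x : Matrix (Fin 2) (Fin 2) F).trace = 0 := by
    by_contra hne
    apply hg ((-d) / (x : Matrix (Fin 2) (Fin 2) F).trace)
    calc (g : Matrix (Fin 2) (Fin 2) F) = ((x : Matrix (Fin 2) (Fin 2) F).trace)⁻¹ •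
          ((x : Matrix (Fin 2) (Fin 2) F).trace • (g : Matrix (Fin 2) (Fin 2) F)) := by
          rw [smul_smul, inv_mul_cancel₀ hne, one_smul]
      _ = _ := by rw [h5, smul_smul, div_eq_inv_mul]
  rw [m2_sq _ x.2, htr, zero_smul, zero_sub]

end Torus

end Cfsg.Agent.Lib.helper15
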