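import Mathlib
import Cfsg.Agent.Lib.helper15.SL2Torus

set_option autoImplicit false

namespace Cfsg.Agent.Lib.helper15

open Matrix

section NS

variable {F : Type*} [Field F]

theorem scalar_cases (g : Matrix.SpecialLinearGroup (Fin 2) F) (c : F)
    (h : (g : Matrix (Fin 2) (Fin 2) F) = c • (1 : Matrix (Fin 2) (Fin 2) F)) :
    g = 1 ∨ g = -1 := by
  have hdet : c ^ 2 = 1 := by
    have := g.2
    rw [h, Matrix.det_smul, Matrix.det_one, Fintype.card_fin, mul_one] at this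
    exact this
  rcases sq_eq_one_iff.mp hdet with rfl | rfl
  · left
    apply Subtype.ext
    rw [h, one_smul]
    rfl
  · right
    apply Subtype.ext
    rw [h, neg_smul, one_smul, Matrix.SpecialLinearGroup.coe_neg]
    rfl

theorem nonscalar_of_ne (g : Matrix.SpecialLinearGroup (Fin 2) F) (h1 : g ≠ 1) (h2 : g ≠ -1) :
    ∀ c : F, (g : Matrix (Fin 2) (Fin 2) F) ≠ c • (1 : Matrix (Fin 2) (Fin 2) F) := by
  intro c hc
  rcases scalar_cases g c hc with h | h
  · exact h1 h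
  · exact h2 h

theorem nonscalar_of_nonsplit (g : Matrix.SpecialLinearGroup (Fin 2) F)
    (hns : ∀ l : F, l ^ 2 - (g : Matrix (Fin 2) (Fin 2) F).trace * l + 1 ≠ 0) :
    ∀ c : F, (g : Matrix (Fin 2) (Fin 2) F) ≠ c • (1 : Matrix (Fin 2) (Fin 2) F) := by
  intro c hc
  have hdet : c ^ 2 = 1 := by
    have := g.2
    rw [hc, Matrix.det_smul, Matrix.det_one, Fintype.card_fin, mul_one] at this
    exact this
  apply hns c
  rw [hc, Matrix.trace_smul, Matrix.trace_one, Fintype.card_fin]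
  simp only [smul_eq_mul, Nat.cast_ofNat]
  linear_combination (-1 : F) * hdet

theorem nonsplit_of_no_eigenvector (g : Matrix.SpecialLinearGroup (Fin 2) F)
    (h : ∀ (c : F) (v : Fin 2 → F), v ≠ 0 → (g : Matrix (Fin 2) (Fin 2) F).mulVec v ≠ c • v) :
    ∀ l : F, l ^ 2 - (g : Matrix (Fin 2) (Fin 2) F).trace * l + 1 ≠ 0 := by
  intro l hl
  have hdet : ((-l) • (1 : Matrix (Fin 2) (Fin 2) F) + (1 : F) • (g : Matrix (Fin 2) (Fin 2) F)).det = 0 := by
    rw [m2_det_lin _ g.2]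
    linear_combination hl
  obtain ⟨v, hv0, hv⟩ := Matrix.exists_mulVec_eq_zero_iff.mpr hdet
  apply h l v hv0
  rw [Matrix.add_mulVec, Matrix.smul_mulVec, Matrix.smul_mulVec, Matrix.one_mulVec, one_smul,
    neg_smul] at hv
  have := eq_neg_of_add_eq_zero_right hv
  rw [this, neg_neg]

theorem not_isSquare_of_nonsplit (h2 : (2 : F) ≠ 0) (s : F)
    (hns : ∀ l : F, l ^ 2 - s * l + 1 ≠ 0) : ¬ IsSquare (s ^ 2 - 4) := by
  rintro ⟨r, hr⟩
  apply hns ((s + r) / 2)
  field_simp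
  linear_combination -hr

theorem lin_mem_centralizer (g : Matrix.SpecialLinearGroup (Fin 2) F) (a b : F)
    (h : (a • (1 : Matrix (Fin 2) (Fin 2) F) + b • (g : Matrix (Fin 2) (Fin 2) F)).det = 1) :
    mkSL _ h ∈ Subgroup.centralizer ({g} : Set (Matrix.SpecialLinearGroup (Fin 2) F)) := by
  rw [Subgroup.mem_centralizer_singleton_iff]
  apply Subtype.ext
  rw [Matrix.SpecialLinearGroup.coe_mul, Matrix.SpecialLinearGroup.coe_mul, mkSL_coe]
  rw [mul_add, add_mul, mul_smul_comm, mul_smul_comm, smul_mul_assoc, smul_mul_assoc, mul_one,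
    one_mul]

theorem card_commute_eq {G : Type*} [Group G] (N K : Subgroup G) (hK : K ≤ N) (x : ↥N)
    (h : ∀ y ∈ N, ((x : G) * y = y * (x : G) ↔ y ∈ K)) :
    Nat.card {y : ↥N // Commute x y} = Nat.card K := by
  apply Nat.card_congr
  refine ⟨fun y => ⟨y.1.1, (h y.1.1 y.1.2).mp (congrArg Subtype.val y.2.eq)⟩,
    fun z => ⟨⟨z.1, hK z.2⟩, Subtype.ext ((h z.1 (hK z.2)).mpr z.2)⟩, ?_, ?_⟩
  · intro y
    rfl
  · intro z
    rfl

end NS

section NSFin

variable {F : Type*} [Field F] [Fintype F]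

theorem exists_nonsplit_odd' (h2 : (2 : F) ≠ 0) : ∃ t : F, ∀ l : F, l ^ 2 - t * l + 1 ≠ 0 := by
  have hchar : ringChar F ≠ 2 := by
    intro h
    apply h2
    have h3 : ((2 : ℕ) : F) = 0 := (ringChar.spec F 2).mpr (by rw [h])
    exact_mod_cast h3
  obtain ⟨d, hd⟩ := FiniteField.exists_nonsquare hchar
  have hE : (1 : F) - d ≠ 0 := by
    intro h
    apply hd
    exact ⟨1, by linear_combination -h⟩
  refine ⟨2 * (1 + d) / (1 - d), ?_⟩
  intro l hl
  set t : F := 2 * (1 + d) / (1 - d) with ht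
  have hte : t * (1 - d) = 2 * (1 + d) := by
    rw [ht, div_mul_cancel₀ _ hE]
  have key : ((2 * l - t) * (1 - d)) ^ 2 = d * 4 ^ 2 := by
    linear_combination (4 * (1 - d) ^ 2) * hl + (t * (1 - d) + 2 * (1 + d)) * hte
  have h4 : (4 : F) ≠ 0 := by
    have : (4 : F) = 2 * 2 := by norm_num
    rw [this]
    exact mul_ne_zero h2 h2
  apply hd
  refine ⟨(2 * l - t) * (1 - d) / 4, ?_⟩
  rw [div_mul_div_comm, eq_div_iff (mul_ne_zero h4 h4)]
  linear_combination -key

theorem exists_coords_of_trace (h2 : (2 : F) ≠ 0) (t s : F)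
    (ht : ∀ l : F, l ^ 2 - t * l + 1 ≠ 0) (hs : ∀ l : F, l ^ 2 - s * l + 1 ≠ 0) :
    ∃ a b : F, a ^ 2 + a * b * t + b ^ 2 = 1 ∧ 2 * a + b * t = s := by
  classical
  have hts := not_isSquare_of_nonsplit h2 t ht
  have hss := not_isSquare_of_nonsplit h2 s hs
  have ht0 : t ^ 2 - 4 ≠ 0 := by
    intro h
    apply hts
    rw [h]
    exact IsSquare.zero
  have hs0 : s ^ 2 - 4 ≠ 0 := by
    intro h
    apply hss
    rw [h]
    exact IsSquare.zero
  have h1 : quadraticChar F ((s ^ 2 - 4) * (t ^ 2 - 4)) = 1 := by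
    rw [map_mul, quadraticChar_neg_one_iff_not_isSquare.mpr hts,
      quadraticChar_neg_one_iff_not_isSquare.mpr hss]
    norm_num
  obtain ⟨r, hr⟩ := (quadraticChar_one_iff_isSquare (mul_ne_zero hs0 ht0)).mp h1
  refine ⟨(s - r / (t ^ 2 - 4) * t) / 2, r / (t ^ 2 - 4), ?_, ?_⟩
  · field_simp
    linear_combination (t ^ 2 - 4) * hr
  · field_simp
    ring

end NSFin

end Cfsg.Agent.Lib.helper15
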