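import Mathlib
import Cfsg.Agent.Lib.Helper28.BP2.Defs

set_option autoImplicit false

/-!
# Project BP2 (S5736, designer helper28), row T7 (`not_binS_of_triple`), verbatim.
-/

namespace Cfsg.Agent.Lib.Helper28.BP2

open Cfsg.Agent.Lib.helper14

universe u v w

section Toolbox

variable {G : Type u} [Group G]

/-- **T7** (three points).  `a ∈ H`, `b ∈ x H x⁻¹`, `c ∈ y H y⁻¹`, `a = b c`, but
`a ∉ (H ∩ x H x⁻¹)(H ∩ y H y⁻¹)`: not binary.  Tuples `(1, x, y)` and `(1, x, a y)`; the pairs are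
matched by `1`, `a`, `b`; a global `g` gives `h₁ := g`, `h₂ := g⁻¹ a`. -/
theorem not_binS_of_triple (H : Subgroup G) (a b c x y : G) (ha : a ∈ H)
    (hb : x⁻¹ * b * x ∈ H) (hc : y⁻¹ * c * y ∈ H) (habc : a = b * c)
    (hno : ∀ h₁ h₂ : G, h₁ ∈ H → x⁻¹ * h₁ * x ∈ H → h₂ ∈ H → y⁻¹ * h₂ * y ∈ H → a ≠ h₁ * h₂) :
    ¬ BinS H := by
  intro hB
  -- the three pair-matching facts
  have h1 : (1 : G)⁻¹ * 1 * 1 ∈ H := by simp
  have h1x : x⁻¹ * 1 * x ∈ H := by simp
  have ha0 : (1 : G)⁻¹ * a * 1 ∈ H := by simpa using ha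
  have hay : (a * y)⁻¹ * a * y ∈ H := by
    have : (a * y)⁻¹ * a * y = 1 := by group
    rw [this]; exact H.one_mem
  have hb2 : (a * y)⁻¹ * b * y ∈ H := by
    have : (a * y)⁻¹ * b * y = (y⁻¹ * c * y)⁻¹ := by rw [habc]; group
    rw [this]; exact H.inv_mem hc
  obtain ⟨g, hg⟩ := hB 3 ![1, x, y] ![1, x, a * y] (by norm_num) (by
    intro i j hij
    fin_cases i <;> fin_cases j
    · exact absurd rfl hij
    · exact ⟨1, by simpa using h1, by simpa using h1x⟩
    · exact ⟨a, by simpa using ha0, by simpa using hay⟩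
    · exact ⟨1, by simpa using h1x, by simpa using h1⟩
    · exact absurd rfl hij
    · exact ⟨b, by simpa using hb, by simpa using hb2⟩
    · exact ⟨a, by simpa using hay, by simpa using ha0⟩
    · exact ⟨b, by simpa using hb2, by simpa using hb⟩
    · exact absurd rfl hij)
  have g0 : g ∈ H := by simpa using hg 0
  have g1 : x⁻¹ * g * x ∈ H := by simpa using hg 1
  have g2 : (a * y)⁻¹ * g * y ∈ H := by simpa using hg 2
  refine hno g (g⁻¹ * a) g0 g1 (H.mul_mem (H.inv_mem g0) ha) ?_ (by group)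
  have : y⁻¹ * (g⁻¹ * a) * y = ((a * y)⁻¹ * g * y)⁻¹ := by group
  rw [this]; exact H.inv_mem g2

end Toolbox

end Cfsg.Agent.Lib.Helper28.BP2
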