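import Mathlib
import Cfsg.Agent.Lib.helper7.R1.Defs
import Cfsg.Prelude.Def_BlockRank
import Cfsg.Agent.Lib.Helper24.BrRK
import Cfsg.Agent.Lib.helper7.BlockHeightZero
import Cfsg.Agent.Lib.helper7.Q8Cent

/-!
# Project R1 (helper7, S4648), piece RKL : `finrank_span_red_le`  (helper15)

The span of the reductions modulo the maximal ideal of the characters of `B` has dimension at most
`blockRank p B`: restriction to the `p`-regular elements is injective on that span, and the rank of the
reduction of a matrix with local-integer entries is at most its rank over `ℂ` (`Helper24.Br.rank_map_le`).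
-/

set_option autoImplicit false
set_option linter.unusedSectionVars false
set_option linter.unusedVariables false
set_option linter.style.haveILetI false
set_option linter.unusedSimpArgs false

namespace Cfsg.Agent.Lib.helper15.R1

open Cfsg.Agent.Lib.helper7 Cfsg.Agent.Lib.helper7.Br Cfsg.Agent.Lib.helper7.R1
open scoped ComplexConjugate

section abstractpart

/-- pad a function by zero on the left summand -/
def rklPad (F : Type*) [Field F] (ι γ : Type*) : (γ → F) →ₗ[F] (ι ⊕ γ → F) where
  toFun ψ := Sum.elim (fun _ => 0) ψ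
  map_add' x y := by
    ext (j | g) <;> simp
  map_smul' c x := by
    ext (j | g) <;> simp

theorem rklPad_inl (F : Type*) [Field F] (ι γ : Type*) (ψ : γ → F) (j : ι) :
    rklPad F ι γ ψ (Sum.inl j) = 0 := rfl

theorem rklPad_inr (F : Type*) [Field F] (ι γ : Type*) (ψ : γ → F) (g : γ) :
    rklPad F ι γ ψ (Sum.inr g) = ψ g := rfl

theorem rklPad_injective (F : Type*) [Field F] (ι γ : Type*) :
    Function.Injective (rklPad F ι γ) := by
  intro x y h
  ext g
  have := congrFun h (Sum.inr g)
  rwa [rklPad_inr, rklPad_inr] at this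

variable {R K F : Type*} [CommRing R] [Field K] [Field F]

/-- the rank of the reduction of a (rectangular) matrix is at most its rank over the big field,
phrased with spans of rows -/
theorem rkl_abstract (i : R →+* K) (hi : Function.Injective i) (π : R →+* F)
    (hπ : Function.Surjective π) {ι γ : Type*} [Fintype ι] [Fintype γ] (a : ι → γ → R) :
    Module.finrank F ↥(Submodule.span F (Set.range fun j : ι => fun g : γ => π (a j g))) ≤
      Module.finrank K ↥(Submodule.span K (Set.range fun j : ι => fun g : γ => i (a j g))) := by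
  classical
  let X : Matrix (ι ⊕ γ) (ι ⊕ γ) R := Matrix.of fun r c =>
    Sum.elim (fun j => Sum.elim (fun _ => (0 : R)) (fun g => a j g) c) (fun _ => (0 : R)) r
  have hrowl : ∀ (f : R →+* F) (j : ι),
      (X.map f).row (Sum.inl j) = rklPad F ι γ (fun g => f (a j g)) := by
    intro f j
    ext (j' | g)
    · simp [X, Matrix.row_apply, rklPad_inl]
    · simp [X, Matrix.row_apply, rklPad_inr]
  have hrowlK : ∀ (f : R →+* K) (j : ι),
      (X.map f).row (Sum.inl j) = rklPad K ι γ (fun g => f (a j g)) := by
    intro f j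
    ext (j' | g)
    · simp [X, Matrix.row_apply, rklPad_inl]
    · simp [X, Matrix.row_apply, rklPad_inr]
  have hrowrK : ∀ (f : R →+* K) (g : γ), (X.map f).row (Sum.inr g) = 0 := by
    intro f g
    ext c
    simp [X, Matrix.row_apply]
  -- the `F` side
  have h1 : Module.finrank F ↥(Submodule.span F (Set.range fun j : ι => fun g : γ => π (a j g))) ≤
      (X.map π).rank := by
    rw [Matrix.rank_eq_finrank_span_row]
    have e := (Submodule.equivMapOfInjective (rklPad F ι γ) (rklPad_injective F ι γ)
      (Submodule.span F (Set.range fun j : ι => fun g : γ => π (a j g)))).finrank_eq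
    rw [e]
    apply Submodule.finrank_mono
    rw [Submodule.map_span]
    apply Submodule.span_mono
    rintro _ ⟨_, ⟨j, rfl⟩, rfl⟩
    exact ⟨Sum.inl j, hrowl π j⟩
  -- the `K` side
  have h2 : (X.map i).rank ≤
      Module.finrank K ↥(Submodule.span K (Set.range fun j : ι => fun g : γ => i (a j g))) := by
    rw [Matrix.rank_eq_finrank_span_row]
    refine le_trans (Submodule.finrank_mono ?_) (Submodule.finrank_map_le (rklPad K ι γ)
      (Submodule.span K (Set.range fun j : ι => fun g : γ => i (a j g))))
    rw [Submodule.span_le]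
    rintro _ ⟨(j | g), rfl⟩
    · rw [hrowlK i j]
      exact Submodule.mem_map_of_mem (Submodule.subset_span ⟨j, rfl⟩)
    · rw [hrowrK i g]
      exact Submodule.zero_mem _
  exact h1.trans ((Cfsg.Agent.Lib.Helper24.Br.rank_map_le i hi π hπ X).trans h2)

end abstractpart

section bridge

variable {G : Type*} [Group G] [Fintype G]
variable {M : Ideal Cfsg.AlgInt}

/-- restriction of a function on `G` to the `p`-regular elements, extended by zero -/
noncomputable def rklRes (F : Type*) [Field F] (p : ℕ) : (G → F) →ₗ[F] (G → F) where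
  toFun ψ g := open Classical in if Cfsg.IsPRegular p g then ψ g else 0
  map_add' x y := by
    ext g
    simp only [Pi.add_apply]
    split_ifs <;> simp
  map_smul' c x := by
    ext g
    simp only [Pi.smul_apply, RingHom.id_apply, smul_eq_mul]
    split_ifs <;> simp

theorem rklRes_apply (F : Type*) [Field F] (p : ℕ) (ψ : G → F) (g : G) :
    rklRes F p ψ g = open Classical in if Cfsg.IsPRegular p g then ψ g else 0 := rfl

theorem rkl_isCharacter (χ : Cfsg.IrrCharacter G) : Cfsg.IsCharacter G (χ : G → ℂ) := by
  obtain ⟨n, ρ, -, h⟩ := χ.2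
  exact ⟨n, ρ, h⟩

/-- RKL : the span of the reductions of the characters of `B` has dimension at most `blockRank`. -/
theorem finrank_span_red_le {p : ℕ} [Fact p.Prime] (hM : Cfsg.IsPModular p M)
    (B : Set (Cfsg.IrrCharacter G)) :
    Module.finrank (h7_resRing M hM.2.1.isPrime)
      ↥(Submodule.span (h7_resRing M hM.2.1.isPrime)
        ((fun χ : Cfsg.IrrCharacter G => redFun hM.2.1.isPrime (χ : G → ℂ)) '' B)) ≤
      Cfsg.blockRank p B := by
  classical
  have hPr := hM.2.1.isPrime
  haveI : Fintype (Cfsg.IrrCharacter G) := Fintype.ofFinite _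
  -- local integrality
  have hloc : ∀ (χ : Cfsg.IrrCharacter G) (g : G), Cfsg.MemLocalRing M ((χ : G → ℂ) g) :=
    fun χ g => h7_memLocalRing_of_isIntegral hPr (Cfsg.Agent.Lib.helper2.irr_integral χ g)
  -- the matrix
  let a : Cfsg.IrrCharacter G → G → h7_locSubring M hPr := fun χ g =>
    if χ ∈ B ∧ Cfsg.IsPRegular p g then ⟨(χ : G → ℂ) g, hloc χ g⟩ else 0
  have key := rkl_abstract (h7_locSubring M hPr).subtype Subtype.val_injective
    (Ideal.Quotient.mk (h7_locIdeal M hPr)) Ideal.Quotient.mk_surjective a
  -- members of the span do not see `p`-parts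
  have hW : ∀ ψ ∈ Submodule.span (h7_resRing M hPr)
      ((fun χ : Cfsg.IrrCharacter G => redFun hPr (χ : G → ℂ)) '' B),
      ∀ x y : G, Commute x y → (∃ k : ℕ, orderOf x = p ^ k) → ¬ p ∣ orderOf y →
        ψ (x * y) = ψ y := by
    intro ψ hψ
    induction hψ using Submodule.span_induction with
    | mem ψ h =>
      obtain ⟨χ, hχ, rfl⟩ := h
      intro x y hc hx hy
      simp only [redFun_apply]
      rw [h7_res_eq_iff hPr (hloc χ _) (hloc χ _)]
      exact h7_char_pmul_congr hM (rkl_isCharacter χ) x y hc hx hy
    | zero =>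
      intro x y _ _ _
      rfl
    | add ψ φ _ _ h1 h2 =>
      intro x y hc hx hy
      simp only [Pi.add_apply]
      rw [h1 x y hc hx hy, h2 x y hc hx hy]
    | smul c ψ _ h1 =>
      intro x y hc hx hy
      simp only [Pi.smul_apply]
      rw [h1 x y hc hx hy]
  -- restriction to the `p`-regular elements is injective on the span
  have hinj : Function.Injective ((rklRes (h7_resRing M hPr) p).comp
      (Submodule.span (h7_resRing M hPr)
        ((fun χ : Cfsg.IrrCharacter G => redFun hPr (χ : G → ℂ)) '' B)).subtype) := by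
    rw [injective_iff_map_eq_zero]
    rintro ⟨ψ, hψ⟩ h0
    apply Subtype.ext
    ext g
    obtain ⟨z, y, hzy, hc, hz, hy⟩ := h7_exists_isPPart p g
    have h1 := hW ψ hψ z y hc hz hy
    rw [hzy] at h1
    have h2 := congrFun h0 y
    have hy' : Cfsg.IsPRegular p y := hy
    simp only [LinearMap.comp_apply, Submodule.subtype_apply, rklRes_apply, if_pos hy',
      Pi.zero_apply] at h2
    show ψ g = 0
    rw [h1]
    exact h2
  have e1 : Module.finrank (h7_resRing M hPr)
      ↥(Submodule.span (h7_resRing M hPr)
        ((fun χ : Cfsg.IrrCharacter G => redFun hPr (χ : G → ℂ)) '' B)) =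
      Module.finrank (h7_resRing M hPr)
      ↥(Submodule.span (h7_resRing M hPr) ((rklRes (h7_resRing M hPr) p) ''
        ((fun χ : Cfsg.IrrCharacter G => redFun hPr (χ : G → ℂ)) '' B))) := by
    rw [← LinearMap.finrank_range_of_inj hinj, LinearMap.range_comp, Submodule.range_subtype,
      Submodule.map_span]
  have e2 : Submodule.span (h7_resRing M hPr) ((rklRes (h7_resRing M hPr) p) ''
        ((fun χ : Cfsg.IrrCharacter G => redFun hPr (χ : G → ℂ)) '' B)) ≤
      Submodule.span (h7_resRing M hPr) (Set.range fun χ : Cfsg.IrrCharacter G => fun g : G =>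
        (Ideal.Quotient.mk (h7_locIdeal M hPr)) (a χ g)) := by
    apply Submodule.span_mono
    rintro _ ⟨_, ⟨χ, hχ, rfl⟩, rfl⟩
    refine ⟨χ, ?_⟩
    ext g
    by_cases hg : Cfsg.IsPRegular p g
    · simp only [a, rklRes_apply, if_pos hg, if_pos (And.intro hχ hg), redFun_apply]
      rw [h7_res_of_mem hPr (hloc χ g)]
    · simp only [a, rklRes_apply, if_neg hg, if_neg (fun h : χ ∈ B ∧ Cfsg.IsPRegular p g => hg h.2),
        map_zero]
  refine (e1.le.trans (Submodule.finrank_mono e2)).trans (key.trans ?_)
  unfold Cfsg.blockRank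
  apply Submodule.finrank_mono
  rw [Submodule.span_le]
  rintro _ ⟨χ, rfl⟩
  by_cases hχ : χ ∈ B
  · apply Submodule.subset_span
    refine ⟨χ, hχ, ?_⟩
    ext g
    by_cases hg : Cfsg.IsPRegular p g
    · simp only [a, Cfsg.pRegularPart, if_pos hg, if_pos (And.intro hχ hg)]
      rfl
    · simp only [a, Cfsg.pRegularPart, if_neg hg,
        if_neg (fun h : χ ∈ B ∧ Cfsg.IsPRegular p g => hg h.2), map_zero]
  · have h0 : (fun g : G => (h7_locSubring M hPr).subtype (a χ g)) = 0 := by
      ext g
      simp only [a, if_neg (fun h : χ ∈ B ∧ Cfsg.IsPRegular p g => hχ h.1), map_zero]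
      rfl
    show (fun g : G => (h7_locSubring M hPr).subtype (a χ g)) ∈ _
    rw [h0]
    exact Submodule.zero_mem _

end bridge

end Cfsg.Agent.Lib.helper15.R1
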