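import Mathlib

set_option autoImplicit false

namespace Cfsg.Agent.Lib.helper15.St2

section cj
variable {G : Type*} [Group G]

def cj (g a : G) : G := g * a * g⁻¹

lemma cj_mul (g a b : G) : cj g (a * b) = cj g a * cj g b := by
  unfold cj; group

lemma cj_inv (g a : G) : cj g a⁻¹ = (cj g a)⁻¹ := by
  unfold cj; group

lemma cj_one (g : G) : cj g 1 = 1 := by
  unfold cj; group

lemma cj_cj (g k a : G) : cj g (cj k a) = cj (g * k) a := by
  unfold cj; group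

lemma cj_inv_of {g a b : G} (h : cj g a = b) : cj g⁻¹ b = a := by
  subst h; unfold cj; group

lemma mul_eq_of_cj {g a b : G} (h : cj g a = b) : g * a = b * g := by
  subst h; unfold cj; group

lemma cj_one_left (a : G) : cj 1 a = a := by
  unfold cj; group

end cj

structure St (K : Type*) [Field K] (G : Type*) [Group G] where
  X : Bool → K → G
  add : ∀ b t u, X b t * X b u = X b (t + u)
  rel : ∀ b t u, t ≠ 0 →
    cj (X b t * X (!b) (-t⁻¹) * X b t) (X b u) = X (!b) (-(t⁻¹ ^ 2 * u))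

namespace St

variable {K : Type*} [Field K] {G : Type*} [Group G] (S : St K G)

def W (b : Bool) (t : K) : G := S.X b t * S.X (!b) (-t⁻¹) * S.X b t

lemma X_zero (b : Bool) : S.X b 0 = 1 := by
  have h := S.add b 0 0
  rw [add_zero] at h
  exact mul_eq_left.mp h

lemma X_neg (b : Bool) (t : K) : S.X b (-t) = (S.X b t)⁻¹ :=
  eq_inv_of_mul_eq_one_left (by rw [S.add, neg_add_cancel, S.X_zero])

lemma W_neg (b : Bool) (t : K) : S.W b (-t) = (S.W b t)⁻¹ := by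
  unfold W
  rw [mul_inv_rev, mul_inv_rev, ← S.X_neg, ← S.X_neg, inv_neg, neg_neg, mul_assoc]

lemma rel' (b : Bool) (t u : K) (ht : t ≠ 0) :
    cj (S.W b t) (S.X b u) = S.X (!b) (-(t⁻¹ ^ 2 * u)) := S.rel b t u ht

lemma W_swap (b : Bool) (t : K) (ht : t ≠ 0) : S.W b t = S.W (!b) (-t⁻¹) := by
  have h := mul_eq_of_cj (S.rel' b t t ht)
  have e : t⁻¹ ^ 2 * t = t⁻¹ := by field_simp
  rw [e] at h
  unfold W at h ⊢
  rw [Bool.not_not, inv_neg, inv_inv, neg_neg]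
  have h2 : S.X b t * S.X (!b) (-t⁻¹) * S.X b t * S.X b t =
      S.X (!b) (-t⁻¹) * S.X b t * S.X (!b) (-t⁻¹) * S.X b t := by
    rw [h]; simp only [mul_assoc]
  exact mul_right_cancel h2

lemma rel2 (b : Bool) (t u : K) (ht : t ≠ 0) :
    cj (S.W b t) (S.X (!b) u) = S.X b (-(t ^ 2 * u)) := by
  rw [S.W_swap b t ht]
  have h := S.rel' (!b) (-t⁻¹) u (neg_ne_zero.2 (inv_ne_zero ht))
  rw [Bool.not_not, inv_neg, inv_inv, neg_sq] at h
  exact h

def x (t : K) : G := S.X true t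
def y (t : K) : G := S.X false t
def w (t : K) : G := S.W true t
def h (t : K) : G := S.w t * S.w (-1)

lemma w_def (t : K) : S.w t = S.x t * S.y (-t⁻¹) * S.x t := rfl

lemma x_add (t u : K) : S.x t * S.x u = S.x (t + u) := S.add true t u
lemma y_add (t u : K) : S.y t * S.y u = S.y (t + u) := S.add false t u
lemma x_zero : S.x 0 = 1 := S.X_zero true
lemma y_zero : S.y 0 = 1 := S.X_zero false
lemma x_neg (t : K) : S.x (-t) = (S.x t)⁻¹ := S.X_neg true t
lemma y_neg (t : K) : S.y (-t) = (S.y t)⁻¹ := S.X_neg false t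
lemma w_neg (t : K) : S.w (-t) = (S.w t)⁻¹ := S.W_neg true t

lemma w_x (t u : K) (ht : t ≠ 0) : cj (S.w t) (S.x u) = S.y (-(t⁻¹ ^ 2 * u)) :=
  S.rel' true t u ht

lemma w_y (t u : K) (ht : t ≠ 0) : cj (S.w t) (S.y u) = S.x (-(t ^ 2 * u)) :=
  S.rel2 true t u ht

lemma w_alt (t : K) (ht : t ≠ 0) : S.w t = S.y (-t⁻¹) * S.x t * S.y (-t⁻¹) := by
  have h := S.W_swap true t ht
  unfold w
  rw [h]
  unfold W
  rw [inv_neg, inv_inv, neg_neg]
  rfl

lemma y_eq (s : K) : S.y s = S.x s⁻¹ * S.w (-s⁻¹) * S.x s⁻¹ := by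
  rw [S.w_def, inv_neg, inv_inv, neg_neg, S.x_neg]
  group

lemma x_eq (s : K) (hs : s ≠ 0) : S.x s = S.y s⁻¹ * S.w s * S.y s⁻¹ := by
  rw [S.w_alt s hs, S.y_neg]
  group

lemma w_w (t u : K) (ht : t ≠ 0) (hu : u ≠ 0) : cj (S.w t) (S.w u) = S.w (t ^ 2 * u⁻¹) := by
  have hne : t ^ 2 * u⁻¹ ≠ 0 := mul_ne_zero (pow_ne_zero 2 ht) (inv_ne_zero hu)
  rw [S.w_alt _ hne, S.w_def u, cj_mul, cj_mul, S.w_x t u ht, S.w_y t _ ht]
  have e1 : -(t⁻¹ ^ 2 * u) = -(t ^ 2 * u⁻¹)⁻¹ := by field_simp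
  have e2 : -(t ^ 2 * -u⁻¹) = t ^ 2 * u⁻¹ := by ring
  rw [e1, e2]

lemma h_x (t u : K) (ht : t ≠ 0) : cj (S.h t) (S.x u) = S.x (t ^ 2 * u) := by
  unfold h
  rw [← cj_cj, S.w_x (-1) u (by simp), S.w_y t _ ht]
  congr 1
  simp

lemma h_y (t u : K) (ht : t ≠ 0) : cj (S.h t) (S.y u) = S.y (t⁻¹ ^ 2 * u) := by
  unfold h
  rw [← cj_cj, S.w_y (-1) u (by simp), S.w_x t _ ht]
  congr 1
  simp

lemma h_w (t u : K) (ht : t ≠ 0) (hu : u ≠ 0) : cj (S.h t) (S.w u) = S.w (t ^ 2 * u) := by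
  unfold h
  rw [← cj_cj, S.w_w (-1) u (by simp) hu, S.w_w t _ ht (by simpa using hu)]
  congr 1
  simp

lemma h_one : S.h 1 = 1 := by
  unfold h
  rw [S.w_neg]
  group

lemma h_inv (t : K) : (S.h t)⁻¹ = S.w 1 * S.w (-t) := by
  unfold h
  rw [mul_inv_rev, ← S.w_neg, ← S.w_neg, neg_neg]

lemma h_h (t u : K) (ht : t ≠ 0) (hu : u ≠ 0) :
    cj (S.h t) (S.h u) = S.h (t ^ 2 * u) * (S.h (t ^ 2))⁻¹ := by
  have e : S.h u = S.w u * S.w (-1) := rfl
  rw [e, cj_mul, S.h_w t u ht hu, S.h_w t (-1) ht (by simp), S.h_inv]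
  unfold h
  rw [S.w_neg 1]
  have e2 : t ^ 2 * -1 = -t ^ 2 := by ring
  rw [e2]
  group

lemma w_mul_w (a b : K) : S.w a * S.w b = S.h a * (S.h (-b))⁻¹ := by
  rw [S.h_inv, neg_neg]
  unfold h
  rw [S.w_neg 1]
  group

lemma w_eq_h (u : K) : S.w u = S.h u * S.w 1 := by
  unfold h
  rw [S.w_neg 1]
  group

def IsD (g : G) (c : K) : Prop :=
  (∀ v, cj g (S.x v) = S.x (c * v)) ∧ (∀ v, cj g (S.y v) = S.y (c⁻¹ * v))

lemma isD_h (t : K) (ht : t ≠ 0) : S.IsD (S.h t) (t ^ 2) :=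
  ⟨fun v => S.h_x t v ht, fun v => by rw [S.h_y t v ht, inv_pow]⟩

lemma IsD.mul {g g' : G} {c c' : K} (h1 : S.IsD g c) (h2 : S.IsD g' c') :
    S.IsD (g * g') (c * c') := by
  refine ⟨fun v => ?_, fun v => ?_⟩
  · rw [← cj_cj, h2.1, h1.1, mul_assoc]
  · rw [← cj_cj, h2.2, h1.2, mul_inv, mul_assoc]

lemma IsD.inv {g : G} {c : K} (h1 : S.IsD g c) (hc : c ≠ 0) : S.IsD g⁻¹ c⁻¹ := by
  refine ⟨fun v => ?_, fun v => ?_⟩
  · apply cj_inv_of
    rw [h1.1, mul_inv_cancel_left₀ hc]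
  · apply cj_inv_of
    rw [h1.2, inv_inv, inv_mul_cancel_left₀ hc]

lemma IsD.central {g : G} (h1 : S.IsD g 1)
    (hgen : Subgroup.closure (Set.range fun p : Bool × K => S.X p.1 p.2) = ⊤) :
    g ∈ Subgroup.center G := by
  rw [Subgroup.mem_center_iff]
  intro a
  have ha : a ∈ Subgroup.closure (Set.range fun p : Bool × K => S.X p.1 p.2) := by
    rw [hgen]; exact Subgroup.mem_top a
  have key : a ∈ Subgroup.centralizer {g} := by
    refine (Subgroup.closure_le _).2 ?_ ha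
    rintro _ ⟨⟨b, v⟩, rfl⟩
    rw [SetLike.mem_coe, Subgroup.mem_centralizer_iff]
    intro z hz
    rw [Set.mem_singleton_iff] at hz
    subst hz
    cases b
    · have := mul_eq_of_cj (h1.2 v)
      rw [inv_one, one_mul] at this
      exact this
    · have := mul_eq_of_cj (h1.1 v)
      rw [one_mul] at this
      exact this
  rw [Subgroup.mem_centralizer_iff] at key
  exact (key g rfl).symm

section fin

variable (hgen : Subgroup.closure (Set.range fun p : Bool × K => S.X p.1 p.2) = ⊤)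
include hgen

lemma f_central (t u : K) (ht : t ≠ 0) (hu : u ≠ 0) :
    S.h t * S.h u * (S.h (t * u))⁻¹ ∈ Subgroup.center G := by
  have h3 := ((S.isD_h t ht).mul S (S.isD_h u hu)).mul S
    ((S.isD_h (t * u) (mul_ne_zero ht hu)).inv S (pow_ne_zero 2 (mul_ne_zero ht hu)))
  have e : t ^ 2 * u ^ 2 * ((t * u) ^ 2)⁻¹ = 1 := by field_simp
  rw [e] at h3
  exact h3.central S hgen

lemma h_pow_aux (k : K) (hk : k ≠ 0) (n : ℕ) :
    ∃ z ∈ Subgroup.center G, S.h (k ^ n) = z * (S.h k) ^ n := by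
  induction n with
  | zero => exact ⟨1, one_mem _, by rw [pow_zero, pow_zero, S.h_one, one_mul]⟩
  | succ n ih =>
    obtain ⟨z, hz, hzn⟩ := ih
    have hf := S.f_central hgen (k ^ n) k (pow_ne_zero n hk) hk
    refine ⟨(S.h (k ^ n) * S.h k * (S.h (k ^ n * k))⁻¹)⁻¹ * z, mul_mem (inv_mem hf) hz, ?_⟩
    rw [Subgroup.mem_center_iff] at hz
    rw [pow_succ, pow_succ, ← mul_assoc, mul_assoc _ z, ← hzn]
    group

lemma h_comm [Finite K] (t u : K) (ht : t ≠ 0) (hu : u ≠ 0) :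
    S.h t * S.h u = S.h u * S.h t := by
  obtain ⟨k, hk⟩ := IsCyclic.exists_monoid_generator (α := Kˣ)
  obtain ⟨n, hn⟩ := hk (Units.mk0 t ht)
  obtain ⟨m, hm⟩ := hk (Units.mk0 u hu)
  have hn' : (k : K) ^ n = t := by
    have := congrArg (fun a : Kˣ => (a : K)) hn
    simpa using this
  have hm' : (k : K) ^ m = u := by
    have := congrArg (fun a : Kˣ => (a : K)) hm
    simpa using this
  obtain ⟨z1, hz1, e1⟩ := S.h_pow_aux hgen (k : K) k.ne_zero n
  obtain ⟨z2, hz2, e2⟩ := S.h_pow_aux hgen (k : K) k.ne_zero m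
  rw [hn'] at e1
  rw [hm'] at e2
  rw [e1, e2]
  rw [Subgroup.mem_center_iff] at hz1 hz2
  have c1 : ∀ g, Commute z1 g := fun g => (hz1 g).symm
  have c2 : ∀ g, Commute z2 g := fun g => (hz2 g).symm
  have c3 : Commute (S.h (k : K) ^ n) (S.h (k : K) ^ m) := (Commute.refl _).pow_pow n m
  exact ((c1 _).mul_left (((c2 _).symm).mul_right c3)).eq

lemma h_sq_mul [Finite K] (t u : K) (ht : t ≠ 0) (hu : u ≠ 0) :
    S.h (t ^ 2 * u) = S.h (t ^ 2) * S.h u := by
  have h1 := S.h_h t u ht hu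
  have h2 : cj (S.h t) (S.h u) = S.h u := by
    unfold cj
    rw [S.h_comm hgen t u ht hu, mul_inv_cancel_right]
  rw [h2] at h1
  rw [S.h_comm hgen _ u (pow_ne_zero 2 ht) hu, h1, inv_mul_cancel_right]

omit hgen in
lemma w_rel_of_add_eq_one (p q : K) (hp : p ≠ 0) (hq : q ≠ 0) (hpq : p + q = 1) :
    S.w p * S.w (-1) = S.w (p * q) * S.w (-q) := by
  have s1 : S.y (-p⁻¹) * S.x (-q) = S.x (-(p * q)) * (S.w p * S.w (-1)) * S.y (-1) := by
    have e1 : S.y (-p⁻¹) = S.x (-p) * S.w p * S.x (-p) := by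
      have := S.y_eq (-p⁻¹)
      rwa [inv_neg, inv_inv, neg_neg] at this
    have e2 : S.x (-1) = S.y (-1) * S.w (-1) * S.y (-1) := by
      have := S.x_eq (-1) (by simp)
      rwa [inv_neg, inv_one] at this
    have e3 : S.w p * S.y (-1) = S.x (p ^ 2) * S.w p := by
      have := mul_eq_of_cj (S.w_y p (-1) hp)
      rwa [show -(p ^ 2 * -1) = p ^ 2 by ring] at this
    calc S.y (-p⁻¹) * S.x (-q) = S.x (-p) * S.w p * (S.x (-p) * S.x (-q)) := by
          rw [e1]; group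
      _ = S.x (-p) * S.w p * S.x (-1) := by
          rw [S.x_add, show -p + -q = -1 by linear_combination -hpq]
      _ = S.x (-p) * (S.w p * S.y (-1)) * S.w (-1) * S.y (-1) := by
          rw [e2]; group
      _ = (S.x (-p) * S.x (p ^ 2)) * S.w p * S.w (-1) * S.y (-1) := by
          rw [e3]; group
      _ = S.x (-(p * q)) * (S.w p * S.w (-1)) * S.y (-1) := by
          rw [S.x_add, show -p + p ^ 2 = -(p * q) by linear_combination p * hpq]; group
  have s2 : S.y (-p⁻¹) * S.x (-q) = S.x (-(p * q)) * (S.w (p * q) * S.w (-q)) * S.y (-1) := by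
    have e1 : S.x (-q) = S.y (-q⁻¹) * S.w (-q) * S.y (-q⁻¹) := by
      have := S.x_eq (-q) (neg_ne_zero.2 hq)
      rwa [inv_neg] at this
    have e2 : S.y (-(p * q)⁻¹) = S.x (-(p * q)) * S.w (p * q) * S.x (-(p * q)) := by
      have := S.y_eq (-(p * q)⁻¹)
      rwa [inv_neg, inv_inv, neg_neg] at this
    have e3 : S.x (-(p * q)) * S.w (-q) = S.w (-q) * S.y (p * q⁻¹) := by
      have := mul_eq_of_cj (S.w_x q (-(p * q)) hq)
      rw [show -(q⁻¹ ^ 2 * -(p * q)) = p * q⁻¹ by field_simp] at this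
      rw [S.w_neg]
      calc S.x (-(p * q)) * (S.w q)⁻¹ = (S.w q)⁻¹ * (S.w q * S.x (-(p * q))) * (S.w q)⁻¹ := by
            group
        _ = (S.w q)⁻¹ * (S.y (p * q⁻¹) * S.w q) * (S.w q)⁻¹ := by rw [this]
        _ = (S.w q)⁻¹ * S.y (p * q⁻¹) := by group
    have f1 : -p⁻¹ + -q⁻¹ = -(p * q)⁻¹ := by
      field_simp
      linear_combination -hpq
    have f2 : p * q⁻¹ + -q⁻¹ = -1 := by
      field_simp
      linear_combination hpq
    calc S.y (-p⁻¹) * S.x (-q) = (S.y (-p⁻¹) * S.y (-q⁻¹)) * S.w (-q) * S.y (-q⁻¹) := by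
          rw [e1]; group
      _ = S.y (-(p * q)⁻¹) * S.w (-q) * S.y (-q⁻¹) := by rw [S.y_add, f1]
      _ = S.x (-(p * q)) * S.w (p * q) * (S.x (-(p * q)) * S.w (-q)) * S.y (-q⁻¹) := by
          rw [e2]; group
      _ = S.x (-(p * q)) * S.w (p * q) * S.w (-q) * (S.y (p * q⁻¹) * S.y (-q⁻¹)) := by
          rw [e3]; group
      _ = S.x (-(p * q)) * (S.w (p * q) * S.w (-q)) * S.y (-1) := by
          rw [S.y_add, f2]; group
  have := s1.symm.trans s2
  exact mul_left_cancel (mul_right_cancel this)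

omit hgen in
lemma h_mul_of_add_eq_one (p q : K) (hp : p ≠ 0) (hq : q ≠ 0) (hpq : p + q = 1) :
    S.h p * S.h q = S.h (p * q) := by
  have h1 := S.w_rel_of_add_eq_one p q hp hq hpq
  rw [S.w_mul_w (p * q) (-q), neg_neg] at h1
  have : S.h p = S.h (p * q) * (S.h q)⁻¹ := h1
  rw [this, inv_mul_cancel_right]

omit hgen in
lemma two_sq' [Fintype K] (t : K) : ∃ a b : K, a ^ 2 + b ^ 2 = t := by
  by_cases hF : ringChar K = 2
  · obtain ⟨u, hu⟩ := FiniteField.isSquare_of_char_two hF t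
    exact ⟨u, 0, by rw [hu]; ring⟩
  · have hodd := FiniteField.odd_card_of_char_ne_two hF
    have hf2 : (Polynomial.X ^ 2 : Polynomial K).degree = 2 := by
      rw [Polynomial.degree_X_pow]; rfl
    have hg2 : (Polynomial.X ^ 2 - Polynomial.C t : Polynomial K).degree = 2 := by
      rw [Polynomial.degree_X_pow_sub_C (by norm_num)]; rfl
    obtain ⟨a, b, hab⟩ := FiniteField.exists_root_sum_quadratic hf2 hg2 hodd
    refine ⟨a, b, ?_⟩
    simp only [Polynomial.eval_pow, Polynomial.eval_X, Polynomial.eval_sub,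
      Polynomial.eval_C] at hab
    linear_combination hab

omit hgen in
lemma not_isSquare_mul_sq {n a : K} (hn : ¬IsSquare n) (ha : a ≠ 0) : ¬IsSquare (n * a ^ 2) := by
  rintro ⟨c, hc⟩
  apply hn
  refine ⟨c / a, ?_⟩
  field_simp
  linear_combination hc

omit hgen in
lemma exists_nonsq_pair [Fintype K] {n : K} (hn : ¬IsSquare n) :
    ∃ p q : K, p ≠ 0 ∧ q ≠ 0 ∧ p + q = 1 ∧ ¬IsSquare p ∧ ¬IsSquare q := by
  have hn0 : n ≠ 0 := by
    rintro rfl
    exact hn ⟨0, by simp⟩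
  obtain ⟨a, b, hab⟩ := two_sq' (n⁻¹)
  have ha : a ≠ 0 := by
    rintro rfl
    apply hn
    refine ⟨b⁻¹, ?_⟩
    have hb : b ≠ 0 := by
      rintro rfl
      simp at hab
      exact hn0 hab.symm
    field_simp
    field_simp at hab
    linear_combination hab
  have hb : b ≠ 0 := by
    rintro rfl
    apply hn
    refine ⟨a⁻¹, ?_⟩
    field_simp
    field_simp at hab
    linear_combination hab
  refine ⟨n * a ^ 2, n * b ^ 2, mul_ne_zero hn0 (pow_ne_zero 2 ha),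
    mul_ne_zero hn0 (pow_ne_zero 2 hb), ?_, not_isSquare_mul_sq hn ha, not_isSquare_mul_sq hn hb⟩
  rw [← mul_add, hab, mul_inv_cancel₀ hn0]

omit hgen in
lemma exists_sq_mul_of_nonsq [Fintype K] [DecidableEq K] {t p : K} (ht : ¬IsSquare t)
    (hp : ¬IsSquare p) (hp0 : p ≠ 0) : ∃ a : K, a ≠ 0 ∧ t = a ^ 2 * p := by
  have ht0 : t ≠ 0 := by
    rintro rfl
    exact ht ⟨0, by simp⟩
  have h1 : quadraticChar K (t * p) = 1 := by
    rw [map_mul, quadraticChar_neg_one_iff_not_isSquare.2 ht,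
      quadraticChar_neg_one_iff_not_isSquare.2 hp]
    norm_num
  obtain ⟨c, hc⟩ := (quadraticChar_one_iff_isSquare (mul_ne_zero ht0 hp0)).1 h1
  have hc0 : c ≠ 0 := by
    rintro rfl
    simp at hc
    rcases hc with h | h
    · exact ht0 h
    · exact hp0 h
  refine ⟨c / p, div_ne_zero hc0 hp0, ?_⟩
  field_simp
  linear_combination hc

lemma h_mul [Finite K] (t u : K) (ht : t ≠ 0) (hu : u ≠ 0) :
    S.h t * S.h u = S.h (t * u) := by
  classical
  have := Fintype.ofFinite K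
  by_cases hst : IsSquare t
  · obtain ⟨a, rfl⟩ := hst
    have ha : a ≠ 0 := by
      rintro rfl
      simp at ht
    rw [← pow_two, S.h_sq_mul hgen a u ha hu]
  by_cases hsu : IsSquare u
  · obtain ⟨b, rfl⟩ := hsu
    have hb : b ≠ 0 := by
      rintro rfl
      simp at hu
    rw [← pow_two, mul_comm t, S.h_sq_mul hgen b t hb ht,
      S.h_comm hgen t _ ht (pow_ne_zero 2 hb)]
  obtain ⟨p, q, hp, hq, hpq, hnp, hnq⟩ := exists_nonsq_pair hst
  obtain ⟨a, ha, rfl⟩ := exists_sq_mul_of_nonsq hst hnp hp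
  obtain ⟨b, hb, rfl⟩ := exists_sq_mul_of_nonsq hsu hnq hq
  have e : a ^ 2 * p * (b ^ 2 * q) = a ^ 2 * (b ^ 2 * (p * q)) := by ring
  rw [e, S.h_sq_mul hgen a _ ha (mul_ne_zero (pow_ne_zero 2 hb) (mul_ne_zero hp hq)),
    S.h_sq_mul hgen b _ hb (mul_ne_zero hp hq), ← S.h_mul_of_add_eq_one p q hp hq hpq,
    S.h_sq_mul hgen a p ha hp, S.h_sq_mul hgen b q hb hq]
  have c := S.h_comm hgen p (b ^ 2) hp (pow_ne_zero 2 hb)
  calc S.h (a ^ 2) * S.h p * (S.h (b ^ 2) * S.h q)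
      = S.h (a ^ 2) * (S.h p * S.h (b ^ 2)) * S.h q := by group
    _ = S.h (a ^ 2) * (S.h (b ^ 2) * S.h p) * S.h q := by rw [c]
    _ = S.h (a ^ 2) * (S.h (b ^ 2) * (S.h p * S.h q)) := by group

lemma h_mul_w [Finite K] (a u : K) (ha : a ≠ 0) (hu : u ≠ 0) :
    S.h a * S.w u = S.w (a * u) := by
  rw [S.w_eq_h u, ← mul_assoc, S.h_mul hgen a u ha hu, ← S.w_eq_h]

lemma w_mul_w' [Finite K] (a b : K) (ha : a ≠ 0) (hb : b ≠ 0) :
    S.w a * S.w b = S.h (-(a * b⁻¹)) := by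
  have hb' : -b ≠ 0 := neg_ne_zero.2 hb
  have e : (S.h (-b))⁻¹ = S.h (-b)⁻¹ := by
    apply inv_eq_of_mul_eq_one_right
    rw [S.h_mul hgen _ _ hb' (inv_ne_zero hb'), mul_inv_cancel₀ hb', S.h_one]
  rw [S.w_mul_w, e, S.h_mul hgen _ _ ha (inv_ne_zero hb')]
  congr 1
  rw [inv_neg, mul_neg]

def NF (g : G) : Prop :=
  (∃ a t : K, t ≠ 0 ∧ g = S.x a * S.h t) ∨ (∃ a t b : K, t ≠ 0 ∧ g = S.x a * S.w t * S.x b)

omit hgen in
lemma nf_one : S.NF 1 :=
  Or.inl ⟨0, 1, one_ne_zero, by rw [S.x_zero, S.h_one, one_mul]⟩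

omit hgen in
lemma nf_mul_x {g : G} (hg : S.NF g) (r : K) : S.NF (g * S.x r) := by
  rcases hg with ⟨a, t, ht, rfl⟩ | ⟨a, t, b, ht, rfl⟩
  · left
    refine ⟨a + t ^ 2 * r, t, ht, ?_⟩
    have := mul_eq_of_cj (S.h_x t r ht)
    rw [mul_assoc, this, ← mul_assoc, S.x_add]
  · right
    exact ⟨a, t, b + r, ht, by rw [mul_assoc, S.x_add]⟩

lemma nf1_mul_y [Finite K] (a t s : K) (ht : t ≠ 0) : S.NF (S.x a * S.h t * S.y s) := by
  by_cases hs : s = 0
  · subst hs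
    rw [S.y_zero, mul_one]
    exact Or.inl ⟨a, t, ht, rfl⟩
  right
  refine ⟨a + t ^ 2 * s⁻¹, t * -s⁻¹, s⁻¹, mul_ne_zero ht (neg_ne_zero.2 (inv_ne_zero hs)), ?_⟩
  have e1 := mul_eq_of_cj (S.h_x t s⁻¹ ht)
  have e2 := S.h_mul_w hgen t (-s⁻¹) ht (neg_ne_zero.2 (inv_ne_zero hs))
  rw [S.y_eq s, ← e2, ← S.x_add]
  calc S.x a * S.h t * (S.x s⁻¹ * S.w (-s⁻¹) * S.x s⁻¹)
      = S.x a * (S.h t * S.x s⁻¹) * S.w (-s⁻¹) * S.x s⁻¹ := by group
    _ = S.x a * (S.x (t ^ 2 * s⁻¹) * S.h t) * S.w (-s⁻¹) * S.x s⁻¹ := by rw [e1]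
    _ = S.x a * S.x (t ^ 2 * s⁻¹) * (S.h t * S.w (-s⁻¹)) * S.x s⁻¹ := by group

lemma nf_mul_y [Finite K] {g : G} (hg : S.NF g) (s : K) : S.NF (g * S.y s) := by
  rcases hg with ⟨a, t, ht, rfl⟩ | ⟨a, t, b, ht, rfl⟩
  · exact S.nf1_mul_y hgen a t s ht
  · have e1 : ∀ u, S.w t * S.y u = S.x (-(t ^ 2 * u)) * S.w t := fun u =>
      mul_eq_of_cj (S.w_y t u ht)
    by_cases hb : b = 0
    · subst hb
      right
      refine ⟨a + -(t ^ 2 * s), t, 0, ht, ?_⟩
      rw [S.x_zero, mul_one, mul_one, mul_assoc, e1, ← mul_assoc, S.x_add]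
    · have e2 := S.w_mul_w' hgen t b ht hb
      have key : S.x a * S.w t * S.x b * S.y s =
          S.x (a + -(t ^ 2 * b⁻¹)) * S.h (-(t * b⁻¹)) * S.y (b⁻¹ + s) := by
        rw [S.x_eq b hb, ← e2, ← S.x_add, ← S.y_add]
        calc S.x a * S.w t * (S.y b⁻¹ * S.w b * S.y b⁻¹) * S.y s
            = S.x a * (S.w t * S.y b⁻¹) * S.w b * S.y b⁻¹ * S.y s := by group
          _ = S.x a * (S.x (-(t ^ 2 * b⁻¹)) * S.w t) * S.w b * S.y b⁻¹ * S.y s := by rw [e1]
          _ = S.x a * S.x (-(t ^ 2 * b⁻¹)) * (S.w t * S.w b) * (S.y b⁻¹ * S.y s) := by group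
      rw [key]
      exact S.nf1_mul_y hgen _ _ _ (neg_ne_zero.2 (mul_ne_zero ht (inv_ne_zero hb)))

lemma nf_all [Finite K] (g : G) : S.NF g := by
  have hg : g ∈ Subgroup.closure (Set.range fun p : Bool × K => S.X p.1 p.2) := by
    rw [hgen]; exact Subgroup.mem_top g
  induction hg using Subgroup.closure_induction_right with
  | one => exact S.nf_one
  | mul_right x hx y hy ih =>
    obtain ⟨⟨b, v⟩, rfl⟩ := hy
    cases b
    · exact S.nf_mul_y hgen ih v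
    · exact S.nf_mul_x ih v
  | mul_inv_cancel x hx y hy ih =>
    obtain ⟨⟨b, v⟩, rfl⟩ := hy
    cases b
    · have : (S.X false v)⁻¹ = S.y (-v) := (S.y_neg v).symm
      rw [this]
      exact S.nf_mul_y hgen ih (-v)
    · have : (S.X true v)⁻¹ = S.x (-v) := (S.x_neg v).symm
      rw [this]
      exact S.nf_mul_x ih (-v)

end fin

end St

section mat

open Matrix

variable {K : Type*} [Field K]

def xm (t : K) : SpecialLinearGroup (Fin 2) K := ⟨!![1, t; 0, 1], by simp [Matrix.det_fin_two_of]⟩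
def ym (t : K) : SpecialLinearGroup (Fin 2) K := ⟨!![1, 0; t, 1], by simp [Matrix.det_fin_two_of]⟩

lemma xm_coe (t : K) : (xm t : Matrix (Fin 2) (Fin 2) K) = !![1, t; 0, 1] := rfl
lemma ym_coe (t : K) : (ym t : Matrix (Fin 2) (Fin 2) K) = !![1, 0; t, 1] := rfl

lemma mul_coe' (A B : SpecialLinearGroup (Fin 2) K) :
    ((A * B : SpecialLinearGroup (Fin 2) K) : Matrix (Fin 2) (Fin 2) K) =
      (A : Matrix (Fin 2) (Fin 2) K) * (B : Matrix (Fin 2) (Fin 2) K) := rfl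

omit [Field K] in
lemma eq_of2 {a b c d a' b' c' d' : K} (h1 : a = a') (h2 : b = b') (h3 : c = c') (h4 : d = d') :
    (!![a, b; c, d] : Matrix (Fin 2) (Fin 2) K) = !![a', b'; c', d'] := by
  subst h1 h2 h3 h4; rfl

lemma wm_coe (t : K) (ht : t ≠ 0) :
    ((xm t * ym (-t⁻¹) * xm t : SpecialLinearGroup (Fin 2) K) : Matrix (Fin 2) (Fin 2) K) =
      !![0, t; -t⁻¹, 0] := by
  rw [mul_coe', mul_coe', xm_coe, ym_coe, Matrix.mul_fin_two, Matrix.mul_fin_two]
  refine eq_of2 ?_ ?_ ?_ ?_ <;> (try field_simp) <;> (try ring1)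

lemma wm_coe' (t : K) (ht : t ≠ 0) :
    ((ym t * xm (-t⁻¹) * ym t : SpecialLinearGroup (Fin 2) K) : Matrix (Fin 2) (Fin 2) K) =
      !![0, -t⁻¹; t, 0] := by
  rw [mul_coe', mul_coe', xm_coe, ym_coe, Matrix.mul_fin_two, Matrix.mul_fin_two]
  refine eq_of2 ?_ ?_ ?_ ?_ <;> (try field_simp) <;> (try ring1)

def stSL : St K (SpecialLinearGroup (Fin 2) K) where
  X b t := cond b (xm t) (ym t)
  add b t u := by
    cases b
    · apply Subtype.ext
      show (ym t : Matrix (Fin 2) (Fin 2) K) * (ym u : Matrix (Fin 2) (Fin 2) K) = ym (t + u)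
      rw [ym_coe, ym_coe, ym_coe, Matrix.mul_fin_two]
      refine eq_of2 ?_ ?_ ?_ ?_ <;> ring1
    · apply Subtype.ext
      show (xm t : Matrix (Fin 2) (Fin 2) K) * (xm u : Matrix (Fin 2) (Fin 2) K) = xm (t + u)
      rw [xm_coe, xm_coe, xm_coe, Matrix.mul_fin_two]
      refine eq_of2 ?_ ?_ ?_ ?_ <;> ring1
  rel b t u ht := by
    cases b
    · show cj (ym t * xm (-t⁻¹) * ym t) (ym u) = xm (-(t⁻¹ ^ 2 * u))
      unfold cj
      rw [mul_inv_eq_iff_eq_mul]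
      apply Subtype.ext
      rw [mul_coe' (ym t * xm (-t⁻¹) * ym t) (ym u), mul_coe' (xm _) (ym t * xm (-t⁻¹) * ym t),
        wm_coe' t ht, xm_coe, ym_coe, Matrix.mul_fin_two, Matrix.mul_fin_two]
      refine eq_of2 ?_ ?_ ?_ ?_ <;> (try field_simp) <;> (try ring1)
    · show cj (xm t * ym (-t⁻¹) * xm t) (xm u) = ym (-(t⁻¹ ^ 2 * u))
      unfold cj
      rw [mul_inv_eq_iff_eq_mul]
      apply Subtype.ext
      rw [mul_coe' (xm t * ym (-t⁻¹) * xm t) (xm u), mul_coe' (ym _) (xm t * ym (-t⁻¹) * xm t),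
        wm_coe t ht, xm_coe, ym_coe, Matrix.mul_fin_two, Matrix.mul_fin_two]
      refine eq_of2 ?_ ?_ ?_ ?_ <;> (try field_simp) <;> (try ring1)

end mat

section main

open Matrix

variable {K : Type*} [Field K] {G : Type*} [Group G]

theorem St.injective_of [Finite K] (S : St K G)
    (hgen : Subgroup.closure (Set.range fun p : Bool × K => S.X p.1 p.2) = ⊤)
    (φ : G →* SpecialLinearGroup (Fin 2) K)
    (hx : ∀ t, φ (S.x t) = xm t) (hy : ∀ t, φ (S.y t) = ym t) : Function.Injective φ := by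
  rw [injective_iff_map_eq_one]
  intro g hg
  have hw : ∀ t, φ (S.w t) = xm t * ym (-t⁻¹) * xm t := fun t => by
    rw [S.w_def, map_mul, map_mul, hx, hy]
  have hg' : ((φ g : SpecialLinearGroup (Fin 2) K) : Matrix (Fin 2) (Fin 2) K) = 1 := by
    rw [hg]; rfl
  rcases S.nf_all hgen g with ⟨a, t, ht, rfl⟩ | ⟨a, t, b, ht, rfl⟩
  · have e : S.h t = S.w t * S.w (-1) := rfl
    rw [map_mul, e, map_mul, hx, hw, hw] at hg'
    rw [mul_coe' (xm a), mul_coe' (xm t * ym (-t⁻¹) * xm t), wm_coe t ht,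
      wm_coe (-1) (by simp), xm_coe, Matrix.mul_fin_two, Matrix.mul_fin_two] at hg'
    have h00 := congrFun (congrFun hg' 0) 0
    have h01 := congrFun (congrFun hg' 0) 1
    simp at h00 h01
    subst h00
    rcases h01 with h01 | h01
    · subst h01
      rw [S.x_zero, S.h_one, one_mul]
    · exact absurd h01 ht
  · rw [map_mul, map_mul, hx, hx, hw] at hg'
    rw [mul_coe' (xm a * (xm t * ym (-t⁻¹) * xm t)), mul_coe' (xm a), wm_coe t ht,
      xm_coe, xm_coe, Matrix.mul_fin_two, Matrix.mul_fin_two] at hg'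
    have h10 := congrFun (congrFun hg' 1) 0
    simp at h10
    exact absurd h10 ht

theorem surjective_of (φ : G →* SpecialLinearGroup (Fin 2) K)
    (hx : ∀ t, xm t ∈ φ.range) (hy : ∀ t, ym t ∈ φ.range) : Function.Surjective φ := by
  intro A
  have : A ∈ φ.range := by
    refine Matrix.SL2.transvection_induction (fun A => A ∈ φ.range) ?_
      (fun _ _ => mul_mem) A
    intro i j h c
    have e1 : ∀ h : (0 : Fin 2) ≠ 1, SpecialLinearGroup.transvection h c = xm c := by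
      intro h
      apply Subtype.ext
      rw [SpecialLinearGroup.transvection_coe, xm_coe]
      ext i j
      fin_cases i <;> fin_cases j <;> simp [Matrix.single]
    have e2 : ∀ h : (1 : Fin 2) ≠ 0, SpecialLinearGroup.transvection h c = ym c := by
      intro h
      apply Subtype.ext
      rw [SpecialLinearGroup.transvection_coe, ym_coe]
      ext i j
      fin_cases i <;> fin_cases j <;> simp [Matrix.single]
    fin_cases i <;> fin_cases j
    · exact absurd rfl h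
    · show SpecialLinearGroup.transvection _ c ∈ φ.range
      rw [e1]
      exact hx c
    · show SpecialLinearGroup.transvection _ c ∈ φ.range
      rw [e2]
      exact hy c
    · exact absurd rfl h
  exact this

end main

end Cfsg.Agent.Lib.helper15.St2
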