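import Mathlib
import Cfsg.Prelude.Def_LocalEven
import Cfsg.Agent.Lib.helper15.SL2Card
import Cfsg.Agent.S4357

set_option autoImplicit false

namespace Cfsg.Agent.Lib.helper15.NatMod

open Matrix

section Unip

variable {F : Type*} [Field F]

def uu (a : F) : SpecialLinearGroup (Fin 2) F := ⟨!![1, a; 0, 1], by simp [Matrix.det_fin_two_of]⟩

lemma uu_coe (a : F) : ((uu a : SpecialLinearGroup (Fin 2) F) : Matrix (Fin 2) (Fin 2) F) =
    !![1, a; 0, 1] := rfl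

def dd (a : F) (ha : a ≠ 0) : SpecialLinearGroup (Fin 2) F :=
  ⟨!![a, 0; 0, a⁻¹], by simp [Matrix.det_fin_two_of, ha]⟩

lemma dd_coe (a : F) (ha : a ≠ 0) :
    ((dd a ha : SpecialLinearGroup (Fin 2) F) : Matrix (Fin 2) (Fin 2) F) = !![a, 0; 0, a⁻¹] := rfl

lemma sl_ext {A B : SpecialLinearGroup (Fin 2) F}
    (h00 : (A : Matrix (Fin 2) (Fin 2) F) 0 0 = (B : Matrix (Fin 2) (Fin 2) F) 0 0)
    (h01 : (A : Matrix (Fin 2) (Fin 2) F) 0 1 = (B : Matrix (Fin 2) (Fin 2) F) 0 1)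
    (h10 : (A : Matrix (Fin 2) (Fin 2) F) 1 0 = (B : Matrix (Fin 2) (Fin 2) F) 1 0)
    (h11 : (A : Matrix (Fin 2) (Fin 2) F) 1 1 = (B : Matrix (Fin 2) (Fin 2) F) 1 1) : A = B := by
  apply Subtype.ext
  ext i j
  fin_cases i <;> fin_cases j <;> assumption

lemma mul_coe (A B : SpecialLinearGroup (Fin 2) F) :
    ((A * B : SpecialLinearGroup (Fin 2) F) : Matrix (Fin 2) (Fin 2) F) =
      (A : Matrix (Fin 2) (Fin 2) F) * (B : Matrix (Fin 2) (Fin 2) F) := rfl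

lemma uu_mul (a b : F) : uu a * uu b = uu (a + b) := by
  apply sl_ext <;> simp [mul_coe, uu_coe, Matrix.mul_apply, Fin.sum_univ_two, add_comm]

lemma uu_zero : uu (0 : F) = 1 := by
  apply sl_ext <;> simp [uu_coe]

lemma uu_inv (a : F) : (uu a)⁻¹ = uu (-a) := by
  rw [inv_eq_iff_mul_eq_one, uu_mul, add_neg_cancel, uu_zero]

lemma uu_injective : Function.Injective (uu : F → SpecialLinearGroup (Fin 2) F) := by
  intro a b h
  have := congrArg (fun A : SpecialLinearGroup (Fin 2) F => (A : Matrix (Fin 2) (Fin 2) F) 0 1) h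
  simpa [uu_coe] using this

def Uu : Subgroup (SpecialLinearGroup (Fin 2) F) where
  carrier := Set.range uu
  one_mem' := ⟨0, uu_zero⟩
  mul_mem' := by
    rintro _ _ ⟨a, rfl⟩ ⟨b, rfl⟩
    exact ⟨a + b, (uu_mul a b).symm⟩
  inv_mem' := by
    rintro _ ⟨a, rfl⟩
    exact ⟨-a, (uu_inv a).symm⟩

lemma mem_Uu_iff (A : SpecialLinearGroup (Fin 2) F) : A ∈ (Uu : Subgroup _) ↔ ∃ a, uu a = A := Iff.rfl

lemma uu_mem (a : F) : uu a ∈ (Uu : Subgroup (SpecialLinearGroup (Fin 2) F)) := ⟨a, rfl⟩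

lemma mem_Uu_iff' (A : SpecialLinearGroup (Fin 2) F) : A ∈ (Uu : Subgroup _) ↔
    (A : Matrix (Fin 2) (Fin 2) F) 0 0 = 1 ∧ (A : Matrix (Fin 2) (Fin 2) F) 1 0 = 0 ∧
      (A : Matrix (Fin 2) (Fin 2) F) 1 1 = 1 := by
  constructor
  · rintro ⟨a, rfl⟩
    simp [uu_coe]
  · rintro ⟨h00, h10, h11⟩
    refine ⟨(A : Matrix (Fin 2) (Fin 2) F) 0 1, ?_⟩
    apply sl_ext <;> simp [uu_coe, h00, h10, h11]

lemma uu_mulVec (a : F) (w : Fin 2 → F) :
    ((uu a : SpecialLinearGroup (Fin 2) F) : Matrix (Fin 2) (Fin 2) F).mulVec w =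
      ![w 0 + a * w 1, w 1] := by
  ext i
  fin_cases i <;> simp [uu_coe, Matrix.mulVec, dotProduct, Fin.sum_univ_two]

lemma dd_mulVec (a : F) (ha : a ≠ 0) (w : Fin 2 → F) :
    ((dd a ha : SpecialLinearGroup (Fin 2) F) : Matrix (Fin 2) (Fin 2) F).mulVec w =
      ![a * w 0, a⁻¹ * w 1] := by
  ext i
  fin_cases i <;> simp [dd_coe, Matrix.mulVec, dotProduct, Fin.sum_univ_two]

lemma dd_conj_uu (a : F) (ha : a ≠ 0) (b : F) : dd a ha * uu b * (dd a ha)⁻¹ = uu (a ^ 2 * b) := by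
  rw [mul_inv_eq_iff_eq_mul]
  apply sl_ext <;> simp [mul_coe, uu_coe, dd_coe, Matrix.mul_apply, Fin.sum_univ_two]
  field_simp

lemma card_Uu [Fintype F] : Nat.card (Uu : Subgroup (SpecialLinearGroup (Fin 2) F)) =
    Fintype.card F := by
  rw [← Nat.card_eq_fintype_card]
  symm
  apply Nat.card_congr
  exact Equiv.ofBijective (fun a => (⟨uu a, uu_mem a⟩ : (Uu : Subgroup _)))
    ⟨fun a b h => uu_injective (congrArg Subtype.val h), fun ⟨A, a, ha⟩ => ⟨a, Subtype.ext ha⟩⟩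

lemma exists_conj_Uu [Fintype F] {p n : ℕ} [Fact p.Prime] (hF : Fintype.card F = p ^ n)
    (P : Sylow p (SpecialLinearGroup (Fin 2) F)) :
    ∃ g : SpecialLinearGroup (Fin 2) F, ∀ A, A ∈ P ↔ g⁻¹ * A * g ∈ (Uu : Subgroup _) := by
  have hp := (Fact.out : p.Prime)
  have hn : n ≠ 0 := by
    rintro rfl
    have := Fintype.one_lt_card (α := F)
    rw [hF] at this
    simp at this
  have hcard : Nat.card (SpecialLinearGroup (Fin 2) F) = p ^ n * ((p ^ n) ^ 2 - 1) := by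
    rw [card_SL2, hF]
  have hndvd : ¬ p ∣ (p ^ n) ^ 2 - 1 := by
    intro hd
    have h1 : p ∣ (p ^ n) ^ 2 := dvd_pow (dvd_pow_self p hn) (by norm_num)
    have h2 : 1 ≤ (p ^ n) ^ 2 := Nat.one_le_pow _ _ (Nat.pos_of_ne_zero (pow_ne_zero _ hp.ne_zero))
    have h3 : p ∣ 1 := by
      have := Nat.dvd_sub h1 hd
      rwa [Nat.sub_sub_self h2] at this
    exact hp.one_lt.ne' (Nat.dvd_one.mp h3)
  have hfac : (Nat.card (SpecialLinearGroup (Fin 2) F)).factorization p = n := by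
    rw [hcard, Nat.factorization_mul (pow_ne_zero _ hp.ne_zero)
      (fun h0 => hndvd (by rw [h0]; exact dvd_zero p))]
    simp [Nat.Prime.factorization_pow hp, Nat.factorization_eq_zero_of_not_dvd hndvd]
  let U0 : Sylow p (SpecialLinearGroup (Fin 2) F) :=
    Sylow.ofCard (Uu : Subgroup _) (by rw [card_Uu, hF, hfac])
  obtain ⟨g, hg⟩ := MulAction.exists_smul_eq (SpecialLinearGroup (Fin 2) F) U0 P
  refine ⟨g, fun A => ?_⟩
  rw [← hg, Cfsg.Agent.S4357.mem_smul_sylow]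
  rfl

end Unip


section NM

variable {G : Type*} [Group G] {F : Type*} [Field F]

structure NMData (F : Type*) [Field F] (V L : Subgroup G) where
  ρ : ↥L →* SpecialLinearGroup (Fin 2) F
  ψ : Additive ↥V ≃+ (Fin 2 → F)
  surj : Function.Surjective ρ
  inj : Function.Injective ρ
  act : ∀ (l : ↥L) (v : ↥V), ∃ w : ↥V, (w : G) = (l : G) * (v : G) * (l : G)⁻¹ ∧
    ψ (Additive.ofMul w) = ((ρ l : SpecialLinearGroup (Fin 2) F) : Matrix (Fin 2) (Fin 2) F).mulVec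
      (ψ (Additive.ofMul v))

lemma exists_data {V L : Subgroup G} (hnat : Cfsg.IsNaturalSL2Module F V L)
    (hf : L ⊓ Subgroup.centralizer (V : Set G) = ⊥) : Nonempty (NMData F V L) := by
  obtain ⟨-, ρ, ψ, hsurj, hker, hact⟩ := hnat
  refine ⟨⟨ρ, ψ, hsurj, ?_, hact⟩⟩
  rw [injective_iff_map_eq_one]
  intro l hl
  have h1 : l ∈ ρ.ker := hl
  rw [hker, Subgroup.mem_subgroupOf] at h1
  have h2 : (l : G) ∈ L ⊓ Subgroup.centralizer (V : Set G) := ⟨l.2, h1⟩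
  rw [hf, Subgroup.mem_bot] at h2
  exact Subtype.ext h2

variable {V L : Subgroup G} (d : NMData F V L)

def NMData.phi (v : ↥V) : Fin 2 → F := d.ψ (Additive.ofMul v)

lemma NMData.phi_mul (v w : ↥V) : d.phi (v * w) = d.phi v + d.phi w := by
  unfold NMData.phi
  rw [ofMul_mul, map_add]

lemma NMData.phi_one : d.phi (1 : ↥V) = 0 := by
  unfold NMData.phi
  rw [ofMul_one, map_zero]

lemma NMData.phi_inv (v : ↥V) : d.phi v⁻¹ = - d.phi v := by
  unfold NMData.phi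
  rw [ofMul_inv, map_neg]

lemma NMData.phi_injective : Function.Injective d.phi := by
  intro v w h
  exact Additive.ofMul.injective (d.ψ.injective h)

lemma NMData.phi_surjective : Function.Surjective d.phi := by
  intro x
  obtain ⟨a, ha⟩ := d.ψ.surjective x
  exact ⟨Additive.toMul a, ha⟩

lemma NMData.phi_eq_zero_iff (v : ↥V) : d.phi v = 0 ↔ v = 1 := by
  rw [← d.phi_one]
  exact d.phi_injective.eq_iff

include d in
lemma NMData.comm (v w : ↥V) : v * w = w * v := by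
  apply d.phi_injective
  rw [d.phi_mul, d.phi_mul, add_comm]

include d in
lemma NMData.conj_mem (l : ↥L) (v : ↥V) : (l : G) * (v : G) * (l : G)⁻¹ ∈ V := by
  obtain ⟨w, hw, -⟩ := d.act l v
  rw [← hw]; exact w.2

lemma NMData.phi_conj (l : ↥L) (v : ↥V) :
    d.phi ⟨(l : G) * (v : G) * (l : G)⁻¹, d.conj_mem l v⟩ =
      ((d.ρ l : SpecialLinearGroup (Fin 2) F) : Matrix (Fin 2) (Fin 2) F).mulVec (d.phi v) := by
  obtain ⟨w, hw, hw2⟩ := d.act l v
  have : w = ⟨(l : G) * (v : G) * (l : G)⁻¹, d.conj_mem l v⟩ := Subtype.ext hw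
  rw [← this]
  exact hw2

lemma NMData.comm_iff (l : ↥L) (v : ↥V) : (l : G) * (v : G) = (v : G) * (l : G) ↔
    ((d.ρ l : SpecialLinearGroup (Fin 2) F) : Matrix (Fin 2) (Fin 2) F).mulVec (d.phi v) = d.phi v := by
  rw [← d.phi_conj l v, d.phi_injective.eq_iff]
  constructor
  · intro h
    apply Subtype.ext
    show (l : G) * (v : G) * (l : G)⁻¹ = (v : G)
    rw [h, mul_inv_cancel_right]
  · intro h
    have := congrArg Subtype.val h
    simp only at this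
    calc (l : G) * (v : G) = ((l : G) * (v : G) * (l : G)⁻¹) * (l : G) := by group
      _ = (v : G) * (l : G) := by rw [this]

include d in
lemma NMData.comm_mem (l : ↥L) (v : ↥V) :
    (v : G) * (l : G) * (v : G)⁻¹ * (l : G)⁻¹ ∈ V := by
  have h1 := d.conj_mem l v
  have : (v : G) * (l : G) * (v : G)⁻¹ * (l : G)⁻¹ = (v : G) * ((l : G) * (v : G) * (l : G)⁻¹)⁻¹ := by
    group
  rw [this]
  exact V.mul_mem v.2 (V.inv_mem h1)

lemma NMData.phi_comm (l : ↥L) (v : ↥V) :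
    d.phi ⟨(v : G) * (l : G) * (v : G)⁻¹ * (l : G)⁻¹, d.comm_mem l v⟩ =
      d.phi v - ((d.ρ l : SpecialLinearGroup (Fin 2) F) : Matrix (Fin 2) (Fin 2) F).mulVec (d.phi v) := by
  have : (⟨(v : G) * (l : G) * (v : G)⁻¹ * (l : G)⁻¹, d.comm_mem l v⟩ : ↥V) =
      v * (⟨(l : G) * (v : G) * (l : G)⁻¹, d.conj_mem l v⟩ : ↥V)⁻¹ := by
    apply Subtype.ext
    show (v : G) * (l : G) * (v : G)⁻¹ * (l : G)⁻¹ = (v : G) * ((l : G) * (v : G) * (l : G)⁻¹)⁻¹
    group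
  rw [this, d.phi_mul, d.phi_inv, d.phi_conj, sub_eq_add_neg]

noncomputable def NMData.conjBy (g : SpecialLinearGroup (Fin 2) F) : NMData F V L where
  ρ := (MulAut.conj g⁻¹).toMonoidHom.comp d.ρ
  ψ := d.ψ.trans (Matrix.SpecialLinearGroup.toLin' g⁻¹).toAddEquiv
  surj := (MulAut.conj g⁻¹).surjective.comp d.surj
  inj := (MulAut.conj g⁻¹).injective.comp d.inj
  act := by
    intro l v
    obtain ⟨w, hw, hw2⟩ := d.act l v
    refine ⟨w, hw, ?_⟩
    show ((g⁻¹ : SpecialLinearGroup (Fin 2) F) : Matrix (Fin 2) (Fin 2) F).mulVec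
        (d.ψ (Additive.ofMul w)) =
      ((g⁻¹ * d.ρ l * g⁻¹⁻¹ : SpecialLinearGroup (Fin 2) F) : Matrix (Fin 2) (Fin 2) F).mulVec
        (((g⁻¹ : SpecialLinearGroup (Fin 2) F) : Matrix (Fin 2) (Fin 2) F).mulVec
          (d.ψ (Additive.ofMul v)))
    rw [hw2, Matrix.mulVec_mulVec, Matrix.mulVec_mulVec]
    congr 1
    show ((g⁻¹ * d.ρ l : SpecialLinearGroup (Fin 2) F) : Matrix (Fin 2) (Fin 2) F) =
      ((g⁻¹ * d.ρ l * g⁻¹⁻¹ * g⁻¹ : SpecialLinearGroup (Fin 2) F) : Matrix (Fin 2) (Fin 2) F)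
    rw [inv_mul_cancel_right]

lemma NMData.conjBy_rho (g : SpecialLinearGroup (Fin 2) F) (l : ↥L) :
    (d.conjBy g).ρ l = g⁻¹ * d.ρ l * g := by
  show g⁻¹ * d.ρ l * g⁻¹⁻¹ = _
  rw [inv_inv]

lemma exists_data_sylow [Fintype F] {p n : ℕ} [Fact p.Prime] [Finite G]
    (hF : Fintype.card F = p ^ n)
    (hnat : Cfsg.IsNaturalSL2Module F V L)
    (hf : L ⊓ Subgroup.centralizer (V : Set G) = ⊥) (S : Sylow p ↥L) :
    ∃ d : NMData F V L, ∀ l : ↥L, l ∈ S ↔ d.ρ l ∈ (Uu : Subgroup (SpecialLinearGroup (Fin 2) F)) := by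
  obtain ⟨d0⟩ := exists_data hnat hf
  obtain ⟨g, hg⟩ := exists_conj_Uu hF (S.mapSurjective d0.surj)
  refine ⟨d0.conjBy g, fun l => ?_⟩
  rw [d0.conjBy_rho, ← hg]
  have : d0.ρ l ∈ S.mapSurjective d0.surj ↔ d0.ρ l ∈ (S : Subgroup ↥L).map d0.ρ := by
    rw [← Sylow.coe_mapSurjective d0.surj S]; rfl
  rw [this, Subgroup.mem_map]
  constructor
  · intro h; exact ⟨l, h, rfl⟩
  · rintro ⟨l', hl', h⟩
    rwa [← d0.inj h]

end NM

section V0

variable {G : Type*} [Group G] {F : Type*} [Field F] {V L : Subgroup G} (d : NMData F V L)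

def NMData.V0 : Subgroup G where
  carrier := {g | ∃ hg : g ∈ V, d.phi ⟨g, hg⟩ 1 = 0}
  one_mem' := ⟨V.one_mem, by
    have : (⟨1, V.one_mem⟩ : ↥V) = 1 := rfl
    rw [this, d.phi_one]; rfl⟩
  mul_mem' := by
    rintro a b ⟨ha, ha0⟩ ⟨hb, hb0⟩
    refine ⟨V.mul_mem ha hb, ?_⟩
    have : (⟨a * b, V.mul_mem ha hb⟩ : ↥V) = ⟨a, ha⟩ * ⟨b, hb⟩ := rfl
    rw [this, d.phi_mul, Pi.add_apply, ha0, hb0, add_zero]
  inv_mem' := by
    rintro a ⟨ha, ha0⟩
    refine ⟨V.inv_mem ha, ?_⟩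
    have : (⟨a⁻¹, V.inv_mem ha⟩ : ↥V) = (⟨a, ha⟩ : ↥V)⁻¹ := rfl
    rw [this, d.phi_inv, Pi.neg_apply, ha0, neg_zero]

lemma NMData.mem_V0_iff (v : ↥V) : (v : G) ∈ d.V0 ↔ d.phi v 1 = 0 := by
  constructor
  · rintro ⟨hg, h⟩
    exact h
  · intro h
    exact ⟨v.2, h⟩

lemma NMData.V0_le : d.V0 ≤ V := by
  rintro g ⟨hg, -⟩
  exact hg

lemma NMData.exists_coords (x y : F) : ∃ v : ↥V, d.phi v = ![x, y] := d.phi_surjective _

lemma NMData.phi_ext {v w : ↥V} (h0 : d.phi v 0 = d.phi w 0) (h1 : d.phi v 1 = d.phi w 1) : v = w := by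
  apply d.phi_injective
  ext i
  fin_cases i
  · exact h0
  · exact h1

variable (S : Subgroup ↥L)
  (hS : ∀ l : ↥L, l ∈ S ↔ d.ρ l ∈ (Uu : Subgroup (SpecialLinearGroup (Fin 2) F)))

include hS in
lemma NMData.exists_lift (a : F) : ∃ l : ↥L, l ∈ S ∧ d.ρ l = uu a := by
  obtain ⟨l, hl⟩ := d.surj (uu a)
  exact ⟨l, (hS l).2 (hl ▸ uu_mem a), hl⟩

include hS in
lemma NMData.exists_coeff (l : ↥L) (hl : l ∈ S) : ∃ a : F, d.ρ l = uu a := by
  obtain ⟨a, ha⟩ := (hS l).1 hl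
  exact ⟨a, ha.symm⟩

lemma NMData.comm_iff_coeff (l : ↥L) (a : F) (hl : d.ρ l = uu a) (v : ↥V) :
    (l : G) * (v : G) = (v : G) * (l : G) ↔ a * d.phi v 1 = 0 := by
  rw [d.comm_iff, hl, uu_mulVec]
  constructor
  · intro h
    have := congrFun h 0
    simp at this
    exact mul_eq_zero.mpr this
  · intro h
    ext i
    fin_cases i
    · simp [h]
    · simp

lemma NMData.phi_comm_coeff (l : ↥L) (a : F) (hl : d.ρ l = uu a) (v : ↥V) :
    d.phi ⟨(v : G) * (l : G) * (v : G)⁻¹ * (l : G)⁻¹, d.comm_mem l v⟩ = ![-(a * d.phi v 1), 0] := by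
  rw [d.phi_comm, hl, uu_mulVec]
  ext i
  fin_cases i
  · simp
  · simp

include hS in
lemma NMData.inf_centralizer :
    V ⊓ Subgroup.centralizer ((S.map L.subtype : Subgroup G) : Set G) = d.V0 := by
  ext g
  rw [Subgroup.mem_inf, Subgroup.mem_centralizer_iff]
  constructor
  · rintro ⟨hg, hc⟩
    obtain ⟨l, hlS, hl⟩ := d.exists_lift S hS 1
    have h1 : (l : G) * g = g * (l : G) := hc l ⟨l, hlS, rfl⟩
    have h2 := (d.comm_iff_coeff l 1 hl ⟨g, hg⟩).1 h1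
    rw [one_mul] at h2
    exact ⟨hg, h2⟩
  · rintro ⟨hg, h0⟩
    refine ⟨hg, ?_⟩
    rintro t ⟨l, hlS, rfl⟩
    obtain ⟨a, ha⟩ := d.exists_coeff S hS l hlS
    exact (d.comm_iff_coeff l a ha ⟨g, hg⟩).2 (by rw [h0, mul_zero])

end V0

end Cfsg.Agent.Lib.helper15.NatMod
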