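import Mathlib
import Cfsg.Agent.Lib.helper15.NatMod

set_option autoImplicit false
set_option linter.unusedSimpArgs false

namespace Cfsg.Agent.Lib.helper15.QS

open Matrix Cfsg.Agent.Lib.helper15.NatMod

variable {F : Type*} [Field F]

def ll (a : F) : SpecialLinearGroup (Fin 2) F := ⟨!![1, 0; a, 1], by simp [Matrix.det_fin_two_of]⟩

lemma ll_coe (a : F) : ((ll a : SpecialLinearGroup (Fin 2) F) : Matrix (Fin 2) (Fin 2) F) =
    !![1, 0; a, 1] := rfl

def ww (c : F) (hc : c ≠ 0) : SpecialLinearGroup (Fin 2) F :=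
  ⟨!![0, c; -c⁻¹, 0], by simp [Matrix.det_fin_two_of, hc]⟩

lemma ww_coe (c : F) (hc : c ≠ 0) :
    ((ww c hc : SpecialLinearGroup (Fin 2) F) : Matrix (Fin 2) (Fin 2) F) = !![0, c; -c⁻¹, 0] := rfl

lemma ll_mul (a b : F) : ll a * ll b = ll (a + b) := by
  apply sl_ext <;> simp [mul_coe, ll_coe, Matrix.mul_apply, Fin.sum_univ_two, add_comm]

lemma ll_zero : ll (0 : F) = 1 := by
  apply sl_ext <;> simp [ll_coe]

lemma ll_inv (a : F) : (ll a)⁻¹ = ll (-a) := by
  rw [inv_eq_iff_mul_eq_one, ll_mul, add_neg_cancel, ll_zero]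

lemma ww_eq (c : F) (hc : c ≠ 0) : ww c hc = uu c * ll (-c⁻¹) * uu c := by
  apply sl_ext <;> simp [mul_coe, uu_coe, ll_coe, ww_coe, Matrix.mul_apply, Fin.sum_univ_two, hc]

lemma ww_mul_uu (c : F) (hc : c ≠ 0) (t : F) : ww c hc * uu t = ll (-(t / c ^ 2)) * ww c hc := by
  apply sl_ext <;> simp [mul_coe, uu_coe, ll_coe, ww_coe, Matrix.mul_apply, Fin.sum_univ_two, hc]
  field_simp

lemma ww_mul_ll (c : F) (hc : c ≠ 0) (t : F) : ww c hc * ll t = uu (-(c ^ 2 * t)) * ww c hc := by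
  apply sl_ext <;> simp [mul_coe, uu_coe, ll_coe, ww_coe, Matrix.mul_apply, Fin.sum_univ_two, hc]
  field_simp

lemma dd_eq (c : F) (hc : c ≠ 0) : dd c hc = ww c hc * ww (-1) (by simp) := by
  apply sl_ext <;> simp [mul_coe, dd_coe, ww_coe, Matrix.mul_apply, Fin.sum_univ_two, hc]

lemma dd_mul (c d : F) (hc : c ≠ 0) (hd : d ≠ 0) :
    dd c hc * dd d hd = dd (c * d) (mul_ne_zero hc hd) := by
  apply sl_ext <;> simp [mul_coe, dd_coe, Matrix.mul_apply, Fin.sum_univ_two, hc, hd, mul_comm]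

lemma dd_one : dd (1 : F) one_ne_zero = 1 := by
  apply sl_ext <;> simp [dd_coe]

lemma dd_mul_uu (c : F) (hc : c ≠ 0) (t : F) : dd c hc * uu t = uu (c ^ 2 * t) * dd c hc := by
  apply sl_ext <;> simp [mul_coe, uu_coe, dd_coe, Matrix.mul_apply, Fin.sum_univ_two, hc]
  field_simp

lemma dd_mul_ll (c : F) (hc : c ≠ 0) (t : F) : dd c hc * ll t = ll (t / c ^ 2) * dd c hc := by
  apply sl_ext <;> simp [mul_coe, ll_coe, dd_coe, Matrix.mul_apply, Fin.sum_univ_two, hc]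
  field_simp

lemma bruhat (g : SpecialLinearGroup (Fin 2) F) :
    (∃ (s c t : F) (hc : c ≠ 0), g = ll s * dd c hc * uu t) ∨
      (∃ (b t : F) (hb : b ≠ 0), g = ww b hb * uu t) := by
  have hdet : (g : Matrix (Fin 2) (Fin 2) F) 0 0 * (g : Matrix (Fin 2) (Fin 2) F) 1 1 -
      (g : Matrix (Fin 2) (Fin 2) F) 0 1 * (g : Matrix (Fin 2) (Fin 2) F) 1 0 = 1 := by
    have := g.2
    rwa [Matrix.det_fin_two] at this
  by_cases ha : (g : Matrix (Fin 2) (Fin 2) F) 0 0 = 0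
  · right
    rw [ha, zero_mul, zero_sub] at hdet
    have hb : (g : Matrix (Fin 2) (Fin 2) F) 0 1 ≠ 0 := by
      intro h
      rw [h, zero_mul, neg_zero] at hdet
      exact zero_ne_one hdet
    refine ⟨(g : Matrix (Fin 2) (Fin 2) F) 0 1,
      -((g : Matrix (Fin 2) (Fin 2) F) 1 1 * (g : Matrix (Fin 2) (Fin 2) F) 0 1), hb, ?_⟩
    have h10 : (g : Matrix (Fin 2) (Fin 2) F) 1 0 = -((g : Matrix (Fin 2) (Fin 2) F) 0 1)⁻¹ := by
      field_simp
      linear_combination -hdet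
    apply sl_ext
    · simp [mul_coe, uu_coe, ww_coe, Matrix.mul_apply, Fin.sum_univ_two, ha]
    · simp [mul_coe, uu_coe, ww_coe, Matrix.mul_apply, Fin.sum_univ_two]
    · simp [mul_coe, uu_coe, ww_coe, Matrix.mul_apply, Fin.sum_univ_two, h10]
    · simp [mul_coe, uu_coe, ww_coe, Matrix.mul_apply, Fin.sum_univ_two]
      field_simp
  · left
    refine ⟨(g : Matrix (Fin 2) (Fin 2) F) 1 0 / (g : Matrix (Fin 2) (Fin 2) F) 0 0,
      (g : Matrix (Fin 2) (Fin 2) F) 0 0,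
      (g : Matrix (Fin 2) (Fin 2) F) 0 1 / (g : Matrix (Fin 2) (Fin 2) F) 0 0, ha, ?_⟩
    apply sl_ext
    · simp [mul_coe, uu_coe, ll_coe, dd_coe, Matrix.mul_apply, Fin.sum_univ_two]
    · simp [mul_coe, uu_coe, ll_coe, dd_coe, Matrix.mul_apply, Fin.sum_univ_two]
      field_simp
    · simp [mul_coe, uu_coe, ll_coe, dd_coe, Matrix.mul_apply, Fin.sum_univ_two]
      field_simp
    · simp [mul_coe, uu_coe, ll_coe, dd_coe, Matrix.mul_apply, Fin.sum_univ_two]
      field_simp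
      linear_combination hdet

lemma closure_uu_ll :
    Subgroup.closure (Set.range (uu : F → SpecialLinearGroup (Fin 2) F) ∪ Set.range ll) = ⊤ := by
  rw [eq_top_iff]
  intro g _
  have hu : ∀ t : F, uu t ∈ Subgroup.closure
      (Set.range (uu : F → SpecialLinearGroup (Fin 2) F) ∪ Set.range ll) :=
    fun t => Subgroup.subset_closure (Or.inl ⟨t, rfl⟩)
  have hl : ∀ t : F, ll t ∈ Subgroup.closure
      (Set.range (uu : F → SpecialLinearGroup (Fin 2) F) ∪ Set.range ll) :=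
    fun t => Subgroup.subset_closure (Or.inr ⟨t, rfl⟩)
  have hw : ∀ (c : F) (hc : c ≠ 0), ww c hc ∈ Subgroup.closure
      (Set.range (uu : F → SpecialLinearGroup (Fin 2) F) ∪ Set.range ll) := by
    intro c hc
    rw [ww_eq]
    exact mul_mem (mul_mem (hu _) (hl _)) (hu _)
  have hd : ∀ (c : F) (hc : c ≠ 0), dd c hc ∈ Subgroup.closure
      (Set.range (uu : F → SpecialLinearGroup (Fin 2) F) ∪ Set.range ll) := by
    intro c hc
    rw [dd_eq]
    exact mul_mem (hw _ _) (hw _ _)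
  rcases bruhat g with ⟨s, c, t, hc, rfl⟩ | ⟨b, t, hb, rfl⟩
  · exact mul_mem (mul_mem (hl _) (hd _ _)) (hu _)
  · exact mul_mem (hw _ _) (hu _)

end Cfsg.Agent.Lib.helper15.QS
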