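import Mathlib
import Cfsg.Agent.Lib.helper15.QS1

set_option autoImplicit false
set_option linter.unusedSimpArgs false
set_option linter.unusedVariables false

namespace Cfsg.Agent.Lib.helper15.QS

open Matrix Cfsg.Agent.Lib.helper15.NatMod

variable (F : Type*) [Field F] (A : Type*) [AddCommGroup A]
  [DistribMulAction (SpecialLinearGroup (Fin 2) F) A]

def fixU : AddSubgroup A where
  carrier := {a | ∀ t : F, uu t • a = a}
  zero_mem' := fun t => smul_zero _
  add_mem' := fun {a b} ha hb t => by rw [smul_add, ha t, hb t]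
  neg_mem' := fun {a} ha t => by rw [smul_neg, ha t]

def fixL : AddSubgroup A where
  carrier := {a | ∀ t : F, ll t • a = a}
  zero_mem' := fun t => smul_zero _
  add_mem' := fun {a b} ha hb t => by rw [smul_add, ha t, hb t]
  neg_mem' := fun {a} ha t => by rw [smul_neg, ha t]

variable {F A}

lemma mem_fixU {a : A} : a ∈ fixU F A ↔ ∀ t : F, uu t • a = a := Iff.rfl
lemma mem_fixL {a : A} : a ∈ fixL F A ↔ ∀ t : F, ll t • a = a := Iff.rfl

def NN (t : F) (a : A) : A := uu t • a - a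
def MM (t : F) (a : A) : A := ll t • a - a

lemma NN_add (t : F) (a b : A) : NN t (a + b) = NN t a + NN t b := by
  unfold NN; rw [smul_add]; abel

lemma MM_add (t : F) (a b : A) : MM t (a + b) = MM t a + MM t b := by
  unfold MM; rw [smul_add]; abel

lemma NN_zero (t : F) : NN t (0 : A) = 0 := by
  unfold NN; rw [smul_zero, sub_zero]

lemma MM_zero (t : F) : MM t (0 : A) = 0 := by
  unfold MM; rw [smul_zero, sub_zero]

lemma NN_neg (t : F) (a : A) : NN t (-a) = -NN t a := by
  unfold NN; rw [smul_neg]; abel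

lemma MM_neg (t : F) (a : A) : MM t (-a) = -MM t a := by
  unfold MM; rw [smul_neg]; abel

lemma NN_of_fix {a : A} (ha : a ∈ fixU F A) (t : F) : NN t a = 0 := by
  unfold NN; rw [ha t, sub_self]

lemma MM_of_fix {a : A} (ha : a ∈ fixL F A) (t : F) : MM t a = 0 := by
  unfold MM; rw [ha t, sub_self]

lemma uu_apply (t : F) (a : A) : uu t • a = a + NN t a := by
  unfold NN; abel

lemma ll_apply (t : F) (a : A) : ll t • a = a + MM t a := by
  unfold MM; abel

lemma NN_param_zero (a : A) : NN (0 : F) a = 0 := by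
  unfold NN; rw [uu_zero, one_smul, sub_self]

lemma MM_param_zero (a : A) : MM (0 : F) a = 0 := by
  unfold MM; rw [ll_zero, one_smul, sub_self]

variable (F A)

structure QHyp : Prop where
  h0 : ∀ a : A, a ∈ fixU F A → a ∈ fixL F A → a = 0
  hS : ∀ (t : F) (a : A), NN t a ∈ fixU F A
  hT : ∀ (t : F) (a : A), MM t a ∈ fixL F A

variable {F A}

lemma QHyp.NN_param_add (h : QHyp F A) (s t : F) (a : A) :
    NN (s + t) a = NN s a + NN t a := by
  have h1 : uu (s + t) • a = uu s • (uu t • a) := by rw [← uu_mul, mul_smul]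
  have h2 : uu s • (NN t a) = NN t a := h.hS t a s
  unfold NN at h2 ⊢
  rw [h1]
  have h3 : uu s • (uu t • a) = uu s • (uu t • a - a) + uu s • a := by
    rw [← smul_add]; congr 1; abel
  rw [h3, h2]; abel

lemma QHyp.MM_param_add (h : QHyp F A) (s t : F) (a : A) :
    MM (s + t) a = MM s a + MM t a := by
  have h1 : ll (s + t) • a = ll s • (ll t • a) := by rw [← ll_mul, mul_smul]
  have h2 : ll s • (MM t a) = MM t a := h.hT t a s
  unfold MM at h2 ⊢
  rw [h1]
  have h3 : ll s • (ll t • a) = ll s • (ll t • a - a) + ll s • a := by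
    rw [← smul_add]; congr 1; abel
  rw [h3, h2]; abel

lemma QHyp.MM_param_neg (h : QHyp F A) (s : F) (a : A) : MM (-s) a = -MM s a := by
  have := h.MM_param_add (-s) s a
  rw [neg_add_cancel, MM_param_zero] at this
  exact eq_neg_of_add_eq_zero_left this.symm

lemma ww_fixU_mem_fixL (c : F) (hc : c ≠ 0) {x : A} (hx : x ∈ fixU F A) :
    ww c hc • x ∈ fixL F A := by
  intro s
  have h1 : ll s * ww c hc = ww c hc * uu (-(s * c ^ 2)) := by
    rw [ww_mul_uu]; congr 2; field_simp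
  rw [← mul_smul, h1, mul_smul, hx]

lemma ww_fixL_mem_fixU (c : F) (hc : c ≠ 0) {y : A} (hy : y ∈ fixL F A) :
    ww c hc • y ∈ fixU F A := by
  intro s
  have h1 : uu s * ww c hc = ww c hc * ll (-(s / c ^ 2)) := by
    rw [ww_mul_ll]; congr 2; field_simp
  rw [← mul_smul, h1, mul_smul, hy]

lemma QHyp.ww_on_fixU (h : QHyp F A) (c : F) (hc : c ≠ 0) {x : A} (hx : x ∈ fixU F A) :
    NN c (MM (-c⁻¹) x) = -x ∧ ww c hc • x = MM (-c⁻¹) x := by
  have hw : ww c hc • x = x + MM (-c⁻¹) x + NN c (MM (-c⁻¹) x) := by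
    rw [ww_eq, mul_smul, mul_smul, hx c, ll_apply, uu_apply, NN_add, NN_of_fix hx, zero_add]
  have hmem := ww_fixU_mem_fixL c hc hx
  have h1 : x + NN c (MM (-c⁻¹) x) ∈ fixL F A := by
    have : x + NN c (MM (-c⁻¹) x) = ww c hc • x - MM (-c⁻¹) x := by rw [hw]; abel
    rw [this]
    exact (fixL F A).sub_mem hmem (h.hT _ _)
  have h2 : x + NN c (MM (-c⁻¹) x) ∈ fixU F A := (fixU F A).add_mem hx (h.hS _ _)
  have h3 := h.h0 _ h2 h1
  have h4 : NN c (MM (-c⁻¹) x) = -x := by
    rw [add_comm] at h3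
    exact eq_neg_of_add_eq_zero_left h3
  refine ⟨h4, ?_⟩
  rw [hw, h4]; abel

lemma QHyp.ww_on_fixL (h : QHyp F A) (c : F) (hc : c ≠ 0) {y : A} (hy : y ∈ fixL F A) :
    MM (-c⁻¹) (NN c y) = -y ∧ ww c hc • y = NN c y := by
  have hn : NN c y ∈ fixU F A := h.hS c y
  have hm : MM (-c⁻¹) (NN c y) ∈ fixL F A := h.hT _ _
  have hw : ww c hc • y = y + NN c y + NN c y + MM (-c⁻¹) (NN c y)
      + NN c (MM (-c⁻¹) (NN c y)) := by
    have e1 : uu c • y = y + NN c y := uu_apply c y
    have e2 : ll (-c⁻¹) • (y + NN c y) = y + NN c y + MM (-c⁻¹) (NN c y) := by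
      rw [smul_add, hy (-c⁻¹), ll_apply (-c⁻¹) (NN c y)]; abel
    have e3 : uu c • (y + NN c y + MM (-c⁻¹) (NN c y)) = y + NN c y + NN c y + MM (-c⁻¹) (NN c y)
        + NN c (MM (-c⁻¹) (NN c y)) := by
      rw [smul_add, smul_add, hn c, uu_apply c y, uu_apply c (MM (-c⁻¹) (NN c y))]; abel
    rw [ww_eq, mul_smul, mul_smul, e1, e2, e3]
  have hmem := ww_fixL_mem_fixU c hc hy
  have h1 : y + MM (-c⁻¹) (NN c y) ∈ fixU F A := by
    have : y + MM (-c⁻¹) (NN c y) = ww c hc • y - (NN c y + NN c y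
        + NN c (MM (-c⁻¹) (NN c y))) := by rw [hw]; abel
    rw [this]
    exact (fixU F A).sub_mem hmem ((fixU F A).add_mem ((fixU F A).add_mem hn hn) (h.hS _ _))
  have h2 : y + MM (-c⁻¹) (NN c y) ∈ fixL F A := (fixL F A).add_mem hy hm
  have h3 := h.h0 _ h1 h2
  have h4 : MM (-c⁻¹) (NN c y) = -y := by
    rw [add_comm] at h3
    exact eq_neg_of_add_eq_zero_left h3
  refine ⟨h4, ?_⟩
  rw [hw, h4, NN_neg]; abel


def star (c : F) (x : A) : A := NN c (MM (1 : F) x)

lemma QHyp.star_mem (h : QHyp F A) (c : F) (x : A) : star c x ∈ fixU F A := h.hS _ _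

lemma QHyp.star_add_left (h : QHyp F A) (c d : F) (x : A) :
    star (c + d) x = star c x + star d x := h.NN_param_add _ _ _

lemma star_add_right (c : F) (x y : A) : star c (x + y) = star c x + star c y := by
  unfold star; rw [MM_add, NN_add]

lemma star_zero_left (x : A) : star (0 : F) x = 0 := NN_param_zero _

lemma star_zero_right (c : F) : star c (0 : A) = 0 := by
  unfold star; rw [MM_zero, NN_zero]

lemma QHyp.ww_neg_one (h : QHyp F A) {x : A} (hx : x ∈ fixU F A) :
    ww (-1 : F) (by simp) • x = MM (1 : F) x := by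
  have := (h.ww_on_fixU (-1) (by simp) hx).2
  rw [this]
  congr 1
  rw [inv_neg_one, neg_neg]

lemma QHyp.star_eq_dd (h : QHyp F A) (c : F) (hc : c ≠ 0) {x : A} (hx : x ∈ fixU F A) :
    star c x = dd c hc • x := by
  rw [dd_eq, mul_smul, h.ww_neg_one hx, (h.ww_on_fixL c hc (h.hT (1 : F) x)).2]
  rfl

lemma QHyp.star_one (h : QHyp F A) {x : A} (hx : x ∈ fixU F A) : star (1 : F) x = x := by
  rw [h.star_eq_dd 1 one_ne_zero hx, dd_one, one_smul]

lemma QHyp.star_mul (h : QHyp F A) (c d : F) {x : A} (hx : x ∈ fixU F A) :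
    star (c * d) x = star c (star d x) := by
  by_cases hc : c = 0
  · subst hc; rw [zero_mul, star_zero_left, star_zero_left]
  by_cases hd : d = 0
  · subst hd; rw [mul_zero, star_zero_left, star_zero_right]
  rw [h.star_eq_dd _ (mul_ne_zero hc hd) hx, h.star_eq_dd c hc (h.star_mem d x),
    h.star_eq_dd d hd hx, ← mul_smul, dd_mul]

lemma QHyp.MM_eq (h : QHyp F A) (s : F) {x : A} (hx : x ∈ fixU F A) :
    MM s x = MM (1 : F) (star s x) := by
  by_cases hs : s = 0
  · subst hs; rw [MM_param_zero, star_zero_left, MM_zero]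
  have ht : s⁻¹ ≠ 0 := inv_ne_zero hs
  have key := (h.ww_on_fixL s⁻¹ ht (h.hT (1 : F) (star s x))).1
  have e1 : NN s⁻¹ (MM (1 : F) (star s x)) = x := by
    show star s⁻¹ (star s x) = x
    rw [← h.star_mul _ _ hx, inv_mul_cancel₀ hs, h.star_one hx]
  rw [e1, inv_inv, h.MM_param_neg] at key
  exact neg_injective key

lemma ll_mulVec (a : F) (w : Fin 2 → F) :
    ((ll a : SpecialLinearGroup (Fin 2) F) : Matrix (Fin 2) (Fin 2) F).mulVec w =
      ![w 0, a * w 0 + w 1] := by
  ext i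
  fin_cases i <;> simp [ll_coe, Matrix.mulVec, dotProduct, Fin.sum_univ_two]

def iota (x₀ : A) (v : Fin 2 → F) : A := star (v 0) x₀ + MM (1 : F) (star (v 1) x₀)

lemma QHyp.iota_add (h : QHyp F A) (x₀ : A) (v w : Fin 2 → F) :
    iota x₀ (v + w) = iota x₀ v + iota x₀ w := by
  unfold iota
  simp only [Pi.add_apply]
  rw [h.star_add_left, h.star_add_left, MM_add]; abel

lemma QHyp.iota_uu (h : QHyp F A) {x₀ : A} (hx₀ : x₀ ∈ fixU F A) (t : F) (v : Fin 2 → F) :
    uu t • iota x₀ v =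
      iota x₀ (((uu t : SpecialLinearGroup (Fin 2) F) : Matrix (Fin 2) (Fin 2) F).mulVec v) := by
  rw [uu_mulVec]
  unfold iota
  simp only [Matrix.cons_val_zero, Matrix.cons_val_one]
  have e : NN t (MM (1 : F) (star (v 1) x₀)) = star (t * v 1) x₀ := by
    rw [h.star_mul _ _ hx₀]; rfl
  rw [smul_add, h.star_mem _ _ t, uu_apply t (MM (1 : F) (star (v 1) x₀)), e, h.star_add_left]; abel

lemma QHyp.iota_ll (h : QHyp F A) {x₀ : A} (hx₀ : x₀ ∈ fixU F A) (t : F) (v : Fin 2 → F) :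
    ll t • iota x₀ v =
      iota x₀ (((ll t : SpecialLinearGroup (Fin 2) F) : Matrix (Fin 2) (Fin 2) F).mulVec v) := by
  rw [ll_mulVec]
  unfold iota
  simp only [Matrix.cons_val_zero, Matrix.cons_val_one]
  rw [smul_add, h.hT (1 : F) _ t, ll_apply t (star (v 0) x₀), h.MM_eq t (h.star_mem _ _),
    ← h.star_mul _ _ hx₀, h.star_add_left, MM_add]; abel

lemma one_coe : ((1 : SpecialLinearGroup (Fin 2) F) : Matrix (Fin 2) (Fin 2) F) = 1 := rfl

lemma QHyp.iota_equiv (h : QHyp F A) {x₀ : A} (hx₀ : x₀ ∈ fixU F A)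
    (g : SpecialLinearGroup (Fin 2) F) (v : Fin 2 → F) :
    g • iota x₀ v = iota x₀ ((g : Matrix (Fin 2) (Fin 2) F).mulVec v) := by
  have hg : g ∈ Subgroup.closure
      (Set.range (uu : F → SpecialLinearGroup (Fin 2) F) ∪ Set.range ll) := by
    rw [closure_uu_ll]; trivial
  revert v
  induction hg using Subgroup.closure_induction with
  | mem x hx =>
    intro v
    rcases hx with ⟨t, rfl⟩ | ⟨t, rfl⟩
    · exact h.iota_uu hx₀ t v
    · exact h.iota_ll hx₀ t v
  | one =>
    intro v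
    rw [one_smul, one_coe, Matrix.one_mulVec]
  | mul x y _ _ ihx ihy =>
    intro v
    rw [mul_smul, ihy, ihx, mul_coe, Matrix.mulVec_mulVec]
  | inv x _ ihx =>
    intro v
    have e : ((x : Matrix (Fin 2) (Fin 2) F)).mulVec
        (((x⁻¹ : SpecialLinearGroup (Fin 2) F) : Matrix (Fin 2) (Fin 2) F).mulVec v) = v := by
      rw [Matrix.mulVec_mulVec, ← mul_coe, mul_inv_cancel, one_coe, Matrix.one_mulVec]
    have := ihx (((x⁻¹ : SpecialLinearGroup (Fin 2) F) : Matrix (Fin 2) (Fin 2) F).mulVec v)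
    rw [e] at this
    rw [← this, ← mul_smul, inv_mul_cancel, one_smul]

lemma QHyp.star_eq_zero (h : QHyp F A) {x₀ : A} (hx₀ : x₀ ∈ fixU F A) (hne : x₀ ≠ 0) {c : F}
    (hc : star c x₀ = 0) : c = 0 := by
  by_contra hc0
  rw [h.star_eq_dd c hc0 hx₀] at hc
  apply hne
  have : (dd c hc0)⁻¹ • (dd c hc0 • x₀) = x₀ := by rw [← mul_smul, inv_mul_cancel, one_smul]
  rw [← this, hc, smul_zero]

lemma QHyp.iota_injective (h : QHyp F A) {x₀ : A} (hx₀ : x₀ ∈ fixU F A) (hne : x₀ ≠ 0) :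
    Function.Injective (iota (F := F) x₀) := by
  have hz : ∀ v : Fin 2 → F, iota x₀ v = 0 → v = 0 := by
    intro v hv
    unfold iota at hv
    have h1 : star (v 0) x₀ ∈ fixL F A := by
      have : star (v 0) x₀ = -MM (1 : F) (star (v 1) x₀) := eq_neg_of_add_eq_zero_left hv
      rw [this]
      exact (fixL F A).neg_mem (h.hT _ _)
    have h2 : star (v 0) x₀ = 0 := h.h0 _ (h.star_mem _ _) h1
    have h3 : MM (1 : F) (star (v 1) x₀) = 0 := by rw [h2, zero_add] at hv; exact hv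
    have h4 : star (v 1) x₀ = 0 := by
      rw [← h.ww_neg_one (h.star_mem _ _)] at h3
      have : (ww (-1 : F) (by simp))⁻¹ • (ww (-1 : F) (by simp) • star (v 1) x₀) = star (v 1) x₀ := by
        rw [← mul_smul, inv_mul_cancel, one_smul]
      rw [← this, h3, smul_zero]
    ext i
    fin_cases i
    · exact h.star_eq_zero hx₀ hne h2
    · exact h.star_eq_zero hx₀ hne h4
  intro v w hvw
  have : iota x₀ (v - w) = 0 := by
    have e := h.iota_add x₀ (v - w) w
    rw [sub_add_cancel, hvw] at e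
    exact (add_eq_right.mp e.symm)
  exact sub_eq_zero.mp (hz _ this)

theorem QHyp.exists_equiv (h : QHyp F A)
    (hirr : ∀ B : AddSubgroup A,
      (∀ (g : SpecialLinearGroup (Fin 2) F), ∀ b ∈ B, g • b ∈ B) → B = ⊥ ∨ B = ⊤)
    (hA : ∃ a : A, a ≠ 0) :
    ∃ ψ : A ≃+ (Fin 2 → F), ∀ (g : SpecialLinearGroup (Fin 2) F) (a : A),
      ψ (g • a) = (g : Matrix (Fin 2) (Fin 2) F).mulVec (ψ a) := by
  obtain ⟨x₀, hx₀, hne⟩ : ∃ x₀ : A, x₀ ∈ fixU F A ∧ x₀ ≠ 0 := by
    by_contra hcon
    obtain ⟨a, ha⟩ := hA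
    apply ha
    have hall : ∀ b : A, b ∈ fixU F A → b = 0 := by
      intro b hb
      by_contra hb0
      exact hcon ⟨b, hb, hb0⟩
    have : a ∈ fixU F A := by
      intro t
      have := hall _ (h.hS t a)
      unfold NN at this
      exact sub_eq_zero.mp this
    exact hall a this
  let ι : (Fin 2 → F) →+ A :=
    { toFun := iota x₀
      map_zero' := by
        unfold iota
        simp only [Pi.zero_apply]
        rw [star_zero_left, MM_zero, add_zero]
      map_add' := h.iota_add x₀ }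
  have hinj : Function.Injective ι := h.iota_injective hx₀ hne
  have hsurj : Function.Surjective ι := by
    have hB : ι.range = ⊥ ∨ ι.range = ⊤ := by
      apply hirr
      rintro g _ ⟨v, rfl⟩
      exact ⟨_, (h.iota_equiv hx₀ g v).symm⟩
    rcases hB with hB | hB
    · exfalso
      have h1 : ι ![1, 0] ∈ ι.range := ⟨_, rfl⟩
      rw [hB, AddSubgroup.mem_bot] at h1
      have h2 := hinj (h1.trans (map_zero ι).symm)
      have := congrFun h2 0
      simp at this
    · exact AddMonoidHom.range_eq_top.mp hB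
  let e : (Fin 2 → F) ≃+ A := AddEquiv.ofBijective ι ⟨hinj, hsurj⟩
  refine ⟨e.symm, fun g a => ?_⟩
  obtain ⟨v, rfl⟩ := e.surjective a
  rw [AddEquiv.symm_apply_apply]
  apply e.injective
  rw [AddEquiv.apply_symm_apply]
  exact h.iota_equiv hx₀ g v

end Cfsg.Agent.Lib.helper15.QS
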