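import Mathlib
import Cfsg.Agent.Lib.helper15.QS2

set_option autoImplicit false
set_option linter.unusedSimpArgs false
set_option linter.unusedVariables false

namespace Cfsg.Agent.Lib.helper15.QS

open Matrix Cfsg.Agent.Lib.helper15.NatMod

variable {F : Type*} [Field F] {A : Type*} [AddCommGroup A]
  [DistribMulAction (SpecialLinearGroup (Fin 2) F) A]

lemma fixed_of_fixU_fixL {a : A} (hU : a ∈ fixU F A) (hL : a ∈ fixL F A)
    (g : SpecialLinearGroup (Fin 2) F) : g • a = a := by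
  have hle : Subgroup.closure (Set.range (uu : F → SpecialLinearGroup (Fin 2) F) ∪ Set.range ll) ≤
      MulAction.stabilizer (SpecialLinearGroup (Fin 2) F) a := by
    rw [Subgroup.closure_le]
    rintro _ (⟨t, rfl⟩ | ⟨t, rfl⟩)
    · exact hU t
    · exact hL t
  rw [closure_uu_ll] at hle
  exact hle (Subgroup.mem_top g)

lemma h0_of_irr
    (hirr : ∀ B : AddSubgroup A,
      (∀ (g : SpecialLinearGroup (Fin 2) F), ∀ b ∈ B, g • b ∈ B) → B = ⊥ ∨ B = ⊤)
    (hnt : ∃ (g : SpecialLinearGroup (Fin 2) F) (a : A), g • a ≠ a) :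
    ∀ a : A, a ∈ fixU F A → a ∈ fixL F A → a = 0 := by
  let B : AddSubgroup A :=
    { carrier := {a | ∀ g : SpecialLinearGroup (Fin 2) F, g • a = a}
      zero_mem' := fun g => smul_zero _
      add_mem' := fun {a b} ha hb g => by rw [smul_add, ha g, hb g]
      neg_mem' := fun {a} ha g => by rw [smul_neg, ha g] }
  have hB : B = ⊥ ∨ B = ⊤ := by
    apply hirr
    intro g b hb h
    show h • (g • b) = g • b
    rw [hb g, hb h]
  intro a hU hL
  have haB : a ∈ B := fun g => fixed_of_fixU_fixL hU hL g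
  rcases hB with hB | hB
  · rw [hB, AddSubgroup.mem_bot] at haB
    exact haB
  · exfalso
    obtain ⟨g, b, hgb⟩ := hnt
    have : b ∈ B := by rw [hB]; trivial
    exact hgb (this g)

lemma ll_eq_conj (r : F) : ll r = ww (1 : F) one_ne_zero * uu (-r) * (ww (1 : F) one_ne_zero)⁻¹ := by
  rw [ww_mul_uu, mul_inv_cancel_right]
  congr 1
  simp

lemma uu_eq_conj (r : F) : uu r = ww (1 : F) one_ne_zero * ll (-r) * (ww (1 : F) one_ne_zero)⁻¹ := by
  rw [ww_mul_ll, mul_inv_cancel_right]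
  congr 1
  simp

lemma hT_of_hS (hS : ∀ (t : F) (a : A), NN t a ∈ fixU F A) :
    ∀ (t : F) (a : A), MM t a ∈ fixL F A := by
  intro t a
  have e : MM t a = ww (1 : F) one_ne_zero • NN (-t) ((ww (1 : F) one_ne_zero)⁻¹ • a) := by
    unfold MM NN
    rw [smul_sub, ← mul_smul, ← mul_smul, ← mul_smul, mul_inv_cancel, one_smul, ← ll_eq_conj]
  rw [e]
  exact ww_fixU_mem_fixL 1 one_ne_zero (hS _ _)

lemma hS_of_hT (hT : ∀ (t : F) (a : A), MM t a ∈ fixL F A) :
    ∀ (t : F) (a : A), NN t a ∈ fixU F A := by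
  intro t a
  have e : NN t a = ww (1 : F) one_ne_zero • MM (-t) ((ww (1 : F) one_ne_zero)⁻¹ • a) := by
    unfold MM NN
    rw [smul_sub, ← mul_smul, ← mul_smul, ← mul_smul, mul_inv_cancel, one_smul, ← uu_eq_conj]
  rw [e]
  exact ww_fixL_mem_fixU 1 one_ne_zero (hT _ _)

theorem QHyp_of_quadratic
    (hirr : ∀ B : AddSubgroup A,
      (∀ (g : SpecialLinearGroup (Fin 2) F), ∀ b ∈ B, g • b ∈ B) → B = ⊥ ∨ B = ⊤)
    (hnt : ∃ (g : SpecialLinearGroup (Fin 2) F) (a : A), g • a ≠ a)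
    (hS : ∀ (t : F) (a : A), NN t a ∈ fixU F A) : QHyp F A :=
  ⟨h0_of_irr hirr hnt, hS, hT_of_hS hS⟩

lemma dd_fixU (c : F) (hc : c ≠ 0) {x : A} (hx : x ∈ fixU F A) : dd c hc • x ∈ fixU F A := by
  intro t
  have h1 : uu t * dd c hc = dd c hc * uu (t / c ^ 2) := by
    rw [dd_mul_uu]; congr 2; field_simp
  rw [← mul_smul, h1, mul_smul, hx]

lemma dd_fixL (c : F) (hc : c ≠ 0) {x : A} (hx : x ∈ fixL F A) : dd c hc • x ∈ fixL F A := by
  intro t
  have h1 : ll t * dd c hc = dd c hc * ll (t * c ^ 2) := by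
    rw [dd_mul_ll]; congr 2; field_simp
  rw [← mul_smul, h1, mul_smul, hx]

lemma MM_dd (c : F) (hc : c ≠ 0) (s : F) (x : A) :
    MM s (dd c hc • x) = dd c hc • MM (s * c ^ 2) x := by
  have h1 : ll s * dd c hc = dd c hc * ll (s * c ^ 2) := by
    rw [dd_mul_ll]; congr 2; field_simp
  unfold MM
  rw [smul_sub, ← mul_smul, ← mul_smul, h1]

end Cfsg.Agent.Lib.helper15.QS
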