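import Mathlib
import Cfsg.Agent.Lib.helper15.QS3

set_option autoImplicit false
set_option linter.unusedSimpArgs false
set_option linter.unusedVariables false

namespace Cfsg.Agent.Lib.helper15.QS

open Matrix Cfsg.Agent.Lib.helper15.NatMod

variable {F : Type*} [Field F] {A : Type*} [AddCommGroup A]
  [DistribMulAction (SpecialLinearGroup (Fin 2) F) A]

lemma card_fixL_eq_card_fixU [Finite A] :
    Nat.card (fixL F A) = Nat.card (fixU F A) := by
  apply le_antisymm
  · refine Nat.card_le_card_of_injective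
      (fun y : fixL F A => (⟨ww (1 : F) one_ne_zero • (y : A),
        ww_fixL_mem_fixU 1 one_ne_zero y.2⟩ : fixU F A)) ?_
    intro y y' h
    have h1 : ww (1 : F) one_ne_zero • (y : A) = ww (1 : F) one_ne_zero • (y' : A) :=
      congrArg Subtype.val h
    exact Subtype.ext (smul_left_cancel _ h1)
  · refine Nat.card_le_card_of_injective
      (fun y : fixU F A => (⟨ww (1 : F) one_ne_zero • (y : A),
        ww_fixU_mem_fixL 1 one_ne_zero y.2⟩ : fixL F A)) ?_
    intro y y' h
    have h1 : ww (1 : F) one_ne_zero • (y : A) = ww (1 : F) one_ne_zero • (y' : A) :=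
      congrArg Subtype.val h
    exact Subtype.ext (smul_left_cancel _ h1)

lemma exists_decomp [Finite A]
    (h0 : ∀ a : A, a ∈ fixU F A → a ∈ fixL F A → a = 0)
    (hcard : Nat.card A ≤ Nat.card (fixU F A) ^ 2) (a : A) :
    ∃ x ∈ fixU F A, ∃ y ∈ fixL F A, a = x + y := by
  let f : fixU F A × fixL F A → A := fun xy => (xy.1 : A) + (xy.2 : A)
  have hinj : Function.Injective f := by
    rintro ⟨x, y⟩ ⟨x', y'⟩ h
    have h' : (x : A) + (y : A) = (x' : A) + (y' : A) := h
    have h1 : (x : A) - (x' : A) = (y' : A) - (y : A) := by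
      rw [sub_eq_sub_iff_add_eq_add]
      rw [h']; abel
    have h2 : (x : A) - (x' : A) = 0 := by
      apply h0
      · exact (fixU F A).sub_mem x.2 x'.2
      · rw [h1]; exact (fixL F A).sub_mem y'.2 y.2
    have h3 : (y' : A) - (y : A) = 0 := by rw [← h1, h2]
    have hx : x = x' := Subtype.ext (sub_eq_zero.mp h2)
    have hy : y = y' := Subtype.ext (sub_eq_zero.mp h3).symm
    rw [hx, hy]
  have hc : Nat.card A ≤ Nat.card (fixU F A × fixL F A) := by
    rw [Nat.card_prod, card_fixL_eq_card_fixU, ← pow_two]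
    exact hcard
  have hbij := hinj.bijective_of_nat_card_le hc
  obtain ⟨⟨x, y⟩, hxy⟩ := hbij.2 a
  exact ⟨x, x.2, y, y.2, hxy.symm⟩


variable (F A) in
def lmap (s : F) : A →+ A := DistribSMul.toAddMonoidHom A (ll s)

lemma lmap_apply (s : F) (a : A) : lmap F A s a = ll s • a := rfl

lemma fixL_le_comap (s : F) : fixL F A ≤ (fixL F A).comap (lmap F A s) := by
  intro y hy
  show ll s • y ∈ fixL F A
  rw [hy s]; exact hy

variable (F A) in
@[reducible] def qact : MulAction (Multiplicative F) (A ⧸ fixL F A) where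
  smul s q := QuotientAddGroup.map (fixL F A) (fixL F A) (lmap F A (Multiplicative.toAdd s))
    (fixL_le_comap _) q
  one_smul q := by
    induction q using QuotientAddGroup.induction_on with
    | _ z =>
      show QuotientAddGroup.map (fixL F A) (fixL F A) (lmap F A (Multiplicative.toAdd 1))
        (fixL_le_comap _) (z : A ⧸ fixL F A) = _
      rw [QuotientAddGroup.map_mk, lmap_apply, toAdd_one, ll_zero, one_smul]
  mul_smul s t q := by
    induction q using QuotientAddGroup.induction_on with
    | _ z =>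
      show QuotientAddGroup.map (fixL F A) (fixL F A) (lmap F A (Multiplicative.toAdd (s * t)))
        (fixL_le_comap _) (z : A ⧸ fixL F A) =
        QuotientAddGroup.map (fixL F A) (fixL F A) (lmap F A (Multiplicative.toAdd s))
        (fixL_le_comap _) (QuotientAddGroup.map (fixL F A) (fixL F A)
          (lmap F A (Multiplicative.toAdd t)) (fixL_le_comap _) (z : A ⧸ fixL F A))
      rw [QuotientAddGroup.map_mk, QuotientAddGroup.map_mk, QuotientAddGroup.map_mk, lmap_apply,
        lmap_apply, lmap_apply, toAdd_mul, ← ll_mul, mul_smul]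

lemma qact_smul_mk (s : Multiplicative F) (z : A) :
    (qact F A).smul s (z : A ⧸ fixL F A) = ((ll (Multiplicative.toAdd s) • z : A) : A ⧸ fixL F A) := by
  show QuotientAddGroup.map (fixL F A) (fixL F A) (lmap F A (Multiplicative.toAdd s))
    (fixL_le_comap _) (z : A ⧸ fixL F A) = _
  rw [QuotientAddGroup.map_mk, lmap_apply]

lemma exists_second_fixed [Finite A] [Fintype F] {p n : ℕ} [Fact p.Prime]
    (hF : Fintype.card F = p ^ n) (hp : ∀ a : A, p • a = 0)
    (hne : ∃ a : A, a ∉ fixL F A) :
    ∃ x : A, x ∉ fixL F A ∧ ∀ s : F, MM s x ∈ fixL F A := by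
  have hP : IsPGroup p (Multiplicative F) := by
    apply IsPGroup.of_card (n := n)
    rw [← hF, ← Nat.card_eq_fintype_card]
    exact Nat.card_congr Multiplicative.toAdd
  let _inst := qact F A
  have hdvd : p ∣ Nat.card (A ⧸ fixL F A) := by
    obtain ⟨a, ha⟩ := hne
    have hq : ((a : A) : A ⧸ fixL F A) ≠ 0 := by
      rw [Ne, QuotientAddGroup.eq_zero_iff]; exact ha
    have h1 : addOrderOf ((a : A) : A ⧸ fixL F A) ∣ p := by
      apply addOrderOf_dvd_of_nsmul_eq_zero
      rw [← QuotientAddGroup.mk_nsmul, hp a]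
      rfl
    have h2 : addOrderOf ((a : A) : A ⧸ fixL F A) = p := by
      rcases (Nat.dvd_prime (Fact.out : p.Prime)).mp h1 with h | h
      · exfalso; exact hq (AddMonoid.addOrderOf_eq_one_iff.mp h)
      · exact h
    rw [← h2]
    exact addOrderOf_dvd_natCard _
  have hfix0 : (0 : A ⧸ fixL F A) ∈ MulAction.fixedPoints (Multiplicative F) (A ⧸ fixL F A) := by
    intro s
    have : (0 : A ⧸ fixL F A) = ((0 : A) : A ⧸ fixL F A) := rfl
    rw [this]
    show (qact F A).smul s ((0 : A) : A ⧸ fixL F A) = _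
    rw [qact_smul_mk, smul_zero]
  obtain ⟨b, hb, hb0⟩ := hP.exists_fixed_point_of_prime_dvd_card_of_fixed_point
    (A ⧸ fixL F A) hdvd hfix0
  induction b using QuotientAddGroup.induction_on with
  | _ x =>
    refine ⟨x, ?_, ?_⟩
    · intro hx
      apply hb0
      exact ((QuotientAddGroup.eq_zero_iff x).mpr hx).symm
    · intro s
      have h1 := hb (Multiplicative.ofAdd s)
      have h2 : (qact F A).smul (Multiplicative.ofAdd s) (x : A ⧸ fixL F A) = (x : A ⧸ fixL F A) := h1
      rw [qact_smul_mk, toAdd_ofAdd, QuotientAddGroup.eq] at h2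
      unfold MM
      have : ll s • x - x = -(-(ll s • x) + x) := by abel
      rw [this]
      exact (fixL F A).neg_mem h2

end Cfsg.Agent.Lib.helper15.QS
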