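import Mathlib
import Cfsg.Agent.Lib.helper15.QS4

set_option autoImplicit false
set_option linter.unusedSimpArgs false
set_option linter.unusedVariables false

namespace Cfsg.Agent.Lib.helper15.QS

open Matrix Cfsg.Agent.Lib.helper15.NatMod

variable {F : Type*} [Field F] {A : Type*} [AddCommGroup A]
  [DistribMulAction (SpecialLinearGroup (Fin 2) F) A]

variable (F A) in
def ZZ : AddSubgroup A where
  carrier := {x | x ∈ fixU F A ∧ ∀ s : F, MM s x ∈ fixL F A}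
  zero_mem' := ⟨zero_mem _, fun s => by rw [MM_zero]; exact zero_mem _⟩
  add_mem' := fun {a b} ha hb =>
    ⟨add_mem ha.1 hb.1, fun s => by rw [MM_add]; exact add_mem (ha.2 s) (hb.2 s)⟩
  neg_mem' := fun {a} ha => ⟨neg_mem ha.1, fun s => by rw [MM_neg]; exact neg_mem (ha.2 s)⟩

lemma mem_ZZ {x : A} : x ∈ ZZ F A ↔ x ∈ fixU F A ∧ ∀ s : F, MM s x ∈ fixL F A := Iff.rfl

lemma dd_ZZ (c : F) (hc : c ≠ 0) {z : A} (hz : z ∈ ZZ F A) : dd c hc • z ∈ ZZ F A :=
  ⟨dd_fixU c hc hz.1, fun s => by rw [MM_dd]; exact dd_fixL c hc (hz.2 _)⟩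

lemma smul_ZZ_mem (g : SpecialLinearGroup (Fin 2) F) {z : A} (hz : z ∈ ZZ F A) :
    g • z ∈ ZZ F A ⊔ fixL F A := by
  rcases bruhat g with ⟨s, c, t, hc, rfl⟩ | ⟨b, t, hb, rfl⟩
  · rw [mul_smul, mul_smul, hz.1 t]
    have hz' := dd_ZZ c hc hz
    rw [ll_apply]
    exact AddSubgroup.add_mem_sup hz' (hz'.2 s)
  · rw [mul_smul, hz.1 t]
    exact AddSubgroup.mem_sup_right (ww_fixU_mem_fixL b hb hz.1)

theorem hT_of_card [Finite A] [Fintype F] {p n : ℕ} [Fact p.Prime]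
    (hF : Fintype.card F = p ^ n) (hp : ∀ a : A, p • a = 0)
    (hirr : ∀ B : AddSubgroup A,
      (∀ (g : SpecialLinearGroup (Fin 2) F), ∀ b ∈ B, g • b ∈ B) → B = ⊥ ∨ B = ⊤)
    (hnt : ∃ (g : SpecialLinearGroup (Fin 2) F) (a : A), g • a ≠ a)
    (hcard : Nat.card A ≤ Nat.card (fixU F A) ^ 2) :
    ∀ (t : F) (a : A), MM t a ∈ fixL F A := by
  have h0 := h0_of_irr hirr hnt
  have hdec := exists_decomp h0 hcard
  have hne : ∃ a : A, a ∉ fixL F A := by
    obtain ⟨g, a, hga⟩ := hnt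
    have ha0 : a ≠ 0 := by rintro rfl; exact hga (smul_zero g)
    by_cases haL : a ∈ fixL F A
    · refine ⟨ww (1 : F) one_ne_zero • a, fun hcon => ?_⟩
      have hU := ww_fixL_mem_fixU (1 : F) one_ne_zero haL
      have h1 := h0 _ hU hcon
      apply ha0
      have e : (ww (1 : F) one_ne_zero)⁻¹ • (ww (1 : F) one_ne_zero • a) = a := by
        rw [← mul_smul, inv_mul_cancel, one_smul]
      rw [← e, h1, smul_zero]
    · exact ⟨a, haL⟩
  obtain ⟨x, hxL, hx⟩ := exists_second_fixed hF hp hne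
  obtain ⟨x₁, hx₁, x₂, hx₂, rfl⟩ := hdec x
  have hz₁ : x₁ ∈ ZZ F A := ⟨hx₁, fun s => by
    have := hx s
    rw [MM_add, MM_of_fix hx₂, add_zero] at this
    exact this⟩
  have hx₁0 : x₁ ≠ 0 := by
    rintro rfl
    apply hxL
    rw [zero_add]
    exact hx₂
  let W : AddSubgroup A :=
    AddSubgroup.closure {b | ∃ g : SpecialLinearGroup (Fin 2) F, ∃ z ∈ ZZ F A, b = g • z}
  have hWinv : ∀ (g : SpecialLinearGroup (Fin 2) F), ∀ b ∈ W, g • b ∈ W := by
    intro g b hb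
    induction hb using AddSubgroup.closure_induction with
    | mem b hb =>
      obtain ⟨g', z, hz, rfl⟩ := hb
      rw [← mul_smul]
      exact AddSubgroup.subset_closure ⟨_, z, hz, rfl⟩
    | zero => rw [smul_zero]; exact zero_mem _
    | add a b _ _ iha ihb => rw [smul_add]; exact add_mem iha ihb
    | neg a _ iha => rw [smul_neg]; exact neg_mem iha
  have hWtop : W = ⊤ := by
    rcases hirr W hWinv with h | h
    · exfalso
      apply hx₁0
      have : x₁ ∈ W := AddSubgroup.subset_closure ⟨1, x₁, hz₁, (one_smul _ _).symm⟩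
      rw [h, AddSubgroup.mem_bot] at this
      exact this
    · exact h
  have hWle : W ≤ ZZ F A ⊔ fixL F A := by
    rw [AddSubgroup.closure_le]
    rintro _ ⟨g, z, hz, rfl⟩
    exact smul_ZZ_mem g hz
  have hUZ : ∀ x ∈ fixU F A, x ∈ ZZ F A := by
    intro x hx
    have hxW : x ∈ ZZ F A ⊔ fixL F A := hWle (by rw [hWtop]; trivial)
    obtain ⟨z, hz, y, hy, rfl⟩ := AddSubgroup.mem_sup.mp hxW
    have hy0 : y = 0 := by
      apply h0 _ _ hy
      have : y = (z + y) - z := by abel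
      rw [this]
      exact sub_mem hx hz.1
    rw [hy0, add_zero]
    exact hz
  intro t a
  obtain ⟨x, hx, y, hy, rfl⟩ := hdec a
  rw [MM_add, MM_of_fix hy, add_zero]
  exact (hUZ x hx).2 t

theorem natural_of_hyp [Finite A] [Fintype F] {p n : ℕ} [Fact p.Prime]
    (hF : Fintype.card F = p ^ n) (hp : ∀ a : A, p • a = 0)
    (hirr : ∀ B : AddSubgroup A,
      (∀ (g : SpecialLinearGroup (Fin 2) F), ∀ b ∈ B, g • b ∈ B) → B = ⊥ ∨ B = ⊤)
    (hnt : ∃ (g : SpecialLinearGroup (Fin 2) F) (a : A), g • a ≠ a)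
    (hyp : (∀ (t : F) (a : A), NN t a ∈ fixU F A) ∨ Nat.card A ≤ Nat.card (fixU F A) ^ 2) :
    ∃ ψ : A ≃+ (Fin 2 → F), ∀ (g : SpecialLinearGroup (Fin 2) F) (a : A),
      ψ (g • a) = (g : Matrix (Fin 2) (Fin 2) F).mulVec (ψ a) := by
  have hA : ∃ a : A, a ≠ 0 := by
    obtain ⟨g, a, hga⟩ := hnt
    exact ⟨a, by rintro rfl; exact hga (smul_zero g)⟩
  have hQ : QHyp F A := by
    rcases hyp with hS | hcard
    · exact QHyp_of_quadratic hirr hnt hS
    · have hT := hT_of_card hF hp hirr hnt hcard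
      exact ⟨h0_of_irr hirr hnt, hS_of_hT hT, hT⟩
  exact hQ.exists_equiv hirr hA

end Cfsg.Agent.Lib.helper15.QS
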