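import Mathlib
import Cfsg.Prelude.Def_GeometricClasses

set_option autoImplicit false
set_option linter.unusedVariables false
set_option linter.unusedSectionVars false

/-!
# Block NP (helper9), piece NP3A (helper15): normal form `⟨1, …, 1, d⟩` of a non-degenerate quadratic space over a finite field
of odd order
-/

namespace Cfsg.Agent.Lib.Helper9.NotPlus

open Cfsg Cfsg.Geo
open scoped MatrixGroups Matrix

variable {n : ℕ} {F : Type*} [Field F]

open Polynomial in
/-- a binary diagonal form over a finite field of odd characteristic represents `1` -/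
theorem npnp3a_repr [Fintype F] (h2 : (2 : F) ≠ 0) (a γ : F) (ha : a ≠ 0) (hγ : γ ≠ 0) :
    ∃ s t : F, a * s ^ 2 + γ * t ^ 2 = 1 := by
  classical
  have hch : ringChar F ≠ 2 := by
    intro h
    apply h2
    have := CharP.cast_eq_zero F (ringChar F)
    rw [h] at this
    exact_mod_cast this
  have hF : Fintype.card F % 2 = 1 := FiniteField.odd_card_of_char_ne_two hch
  have hf : (C a * X ^ 2 : F[X]).degree = 2 := by
    rw [Polynomial.degree_C_mul_X_pow 2 ha]; rfl
  have hg : (C γ * X ^ 2 - C 1 : F[X]).degree = 2 := by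
    rw [Polynomial.degree_sub_eq_left_of_degree_lt]
    · rw [Polynomial.degree_C_mul_X_pow 2 hγ]; rfl
    · rw [Polynomial.degree_C_mul_X_pow 2 hγ]
      exact lt_of_le_of_lt Polynomial.degree_C_le (by norm_num)
  obtain ⟨s, t, h⟩ := FiniteField.exists_root_sum_quadratic hf hg hF
  refine ⟨s, t, ?_⟩
  simp only [eval_mul, eval_C, eval_pow, eval_X, eval_sub] at h
  linear_combination h

theorem npnp3a_polar_smul_right (Q : QuadraticForm F (Fin n → F)) (s : F) (a b : Fin n → F) :
    QuadraticMap.polar (⇑Q) a (s • b) = s * QuadraticMap.polar (⇑Q) a b := by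
  rw [QuadraticMap.polar_smul_right, smul_eq_mul]

theorem npnp3a_polar_smul_left (Q : QuadraticForm F (Fin n → F)) (s : F) (a b : Fin n → F) :
    QuadraticMap.polar (⇑Q) (s • a) b = s * QuadraticMap.polar (⇑Q) a b := by
  rw [QuadraticMap.polar_smul_left, smul_eq_mul]

theorem npnp3a_polar_self (Q : QuadraticForm F (Fin n → F)) (a : Fin n → F) :
    QuadraticMap.polar (⇑Q) a a = 2 * Q a := by
  rw [QuadraticMap.polar_self]
  simp

theorem npnp3a_Q_smul (Q : QuadraticForm F (Fin n → F)) (s : F) (a : Fin n → F) :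
    Q (s • a) = s * s * Q a := by
  rw [QuadraticMap.map_smul]
  rfl

/-- a non-zero non-degenerate subspace contains a non-singular vector (`2 ≠ 0` is not needed) -/
theorem npnp3a_exists_nonsing (Q : QuadraticForm F (Fin n → F))
    (W : Submodule F (Fin n → F)) (hW : IsNondegenerateOn (QuadraticMap.polar (⇑Q)) W) (hne : W ≠ ⊥) :
    ∃ x ∈ W, Q x ≠ 0 := by
  obtain ⟨w, hwW, hw0⟩ := Submodule.exists_mem_ne_zero_of_ne_bot hne
  obtain ⟨⟨x, hxW, hxw⟩, _⟩ := hW w hwW hw0
  by_cases h1 : Q x = 0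
  · by_cases h3 : Q w = 0
    · refine ⟨x + w, W.add_mem hxW hwW, ?_⟩
      rw [QuadraticMap.map_add Q x w, h1, h3, zero_add, zero_add]
      exact hxw
    · exact ⟨w, hwW, h3⟩
  · exact ⟨x, hxW, h1⟩

/-- the orthogonal complement, inside `W`, of a vector -/
def npnp3aPerp (Q : QuadraticForm F (Fin n → F)) (W : Submodule F (Fin n → F)) (x : Fin n → F) :
    Submodule F (Fin n → F) :=
  W ⊓ LinearMap.ker (QuadraticMap.polarBilin Q x)

theorem npnp3a_mem_perp (Q : QuadraticForm F (Fin n → F)) (W : Submodule F (Fin n → F)) (x y : Fin n → F) :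
    y ∈ npnp3aPerp Q W x ↔ y ∈ W ∧ QuadraticMap.polar (⇑Q) x y = 0 := by
  unfold npnp3aPerp
  rw [Submodule.mem_inf, LinearMap.mem_ker]
  rfl

/-- the orthogonal complement in `W` of a non-singular vector of `W` is non-degenerate -/
theorem npnp3a_perp_nondeg (h2 : (2 : F) ≠ 0) (Q : QuadraticForm F (Fin n → F))
    (W : Submodule F (Fin n → F)) (hW : IsNondegenerateOn (QuadraticMap.polar (⇑Q)) W)
    (x : Fin n → F) (hx : x ∈ W) (hQx : Q x ≠ 0) :
    IsNondegenerateOn (QuadraticMap.polar (⇑Q)) (npnp3aPerp Q W x) := by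
  have hxx : QuadraticMap.polar (⇑Q) x x ≠ 0 := by
    rw [npnp3a_polar_self]
    exact mul_ne_zero h2 hQx
  have key : ∀ w ∈ npnp3aPerp Q W x, w ≠ 0 →
      ∃ y ∈ npnp3aPerp Q W x, QuadraticMap.polar (⇑Q) y w ≠ 0 := by
    intro w hw hw0
    rw [npnp3a_mem_perp] at hw
    obtain ⟨⟨y, hyW, hyw⟩, _⟩ := hW w hw.1 hw0
    obtain ⟨c, hc⟩ : ∃ c : F, c = QuadraticMap.polar (⇑Q) x y / QuadraticMap.polar (⇑Q) x x := ⟨_, rfl⟩
    refine ⟨y - c • x, ?_, ?_⟩
    · rw [npnp3a_mem_perp]
      refine ⟨W.sub_mem hyW (W.smul_mem _ hx), ?_⟩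
      rw [QuadraticMap.polar_sub_right, npnp3a_polar_smul_right, hc, div_mul_cancel₀ _ hxx, sub_self]
    · rw [QuadraticMap.polar_sub_left, npnp3a_polar_smul_left, hw.2, mul_zero, sub_zero]
      exact hyw
  intro w hw hw0
  obtain ⟨y, hy, hyw⟩ := key w hw hw0
  exact ⟨⟨y, hy, hyw⟩, ⟨y, hy, by rwa [QuadraticMap.polar_comm]⟩⟩

/-- the dimension of the orthogonal complement in `W` of a non-singular vector of `W` -/
theorem npnp3a_perp_finrank (h2 : (2 : F) ≠ 0) (Q : QuadraticForm F (Fin n → F))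
    (W : Submodule F (Fin n → F)) (x : Fin n → F) (hx : x ∈ W) (hQx : Q x ≠ 0) :
    Module.finrank F (npnp3aPerp Q W x) + 1 = Module.finrank F W := by
  have hxx : QuadraticMap.polar (⇑Q) x x ≠ 0 := by
    rw [npnp3a_polar_self]
    exact mul_ne_zero h2 hQx
  have hx0 : x ≠ 0 := by
    intro h
    apply hQx
    rw [h, map_zero]
  have hsup : Submodule.span F {x} ⊔ npnp3aPerp Q W x = W := by
    apply le_antisymm
    · apply sup_le
      · rw [Submodule.span_le]
        intro z hz
        rw [Set.mem_singleton_iff] at hz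
        rw [hz]
        exact hx
      · exact inf_le_left
    · intro w hw
      obtain ⟨c, hc⟩ : ∃ c : F, c = QuadraticMap.polar (⇑Q) x w / QuadraticMap.polar (⇑Q) x x := ⟨_, rfl⟩
      rw [Submodule.mem_sup]
      refine ⟨c • x, Submodule.smul_mem _ _ (Submodule.mem_span_singleton_self x), w - c • x, ?_, by abel⟩
      rw [npnp3a_mem_perp]
      refine ⟨W.sub_mem hw (W.smul_mem _ hx), ?_⟩
      rw [QuadraticMap.polar_sub_right, npnp3a_polar_smul_right, hc, div_mul_cancel₀ _ hxx, sub_self]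
  have hinf : Submodule.span F {x} ⊓ npnp3aPerp Q W x = ⊥ := by
    rw [eq_bot_iff]
    intro z hz
    rw [Submodule.mem_inf] at hz
    obtain ⟨c, rfl⟩ := Submodule.mem_span_singleton.1 hz.1
    have h := ((npnp3a_mem_perp Q W x _).1 hz.2).2
    rw [npnp3a_polar_smul_right] at h
    rcases mul_eq_zero.1 h with h | h
    · rw [h, zero_smul]
      exact Submodule.zero_mem _
    · exact absurd h hxx
  have h := Submodule.finrank_sup_add_finrank_inf_eq (Submodule.span F {x}) (npnp3aPerp Q W x)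
  rw [hsup, hinf, finrank_bot, add_zero, finrank_span_singleton hx0] at h
  omega

/-- a non-degenerate subspace of dimension at least two represents `1` -/
theorem npnp3a_repr_one [Fintype F] (h2 : (2 : F) ≠ 0) (Q : QuadraticForm F (Fin n → F))
    (W : Submodule F (Fin n → F)) (hW : IsNondegenerateOn (QuadraticMap.polar (⇑Q)) W)
    (hd : 2 ≤ Module.finrank F W) : ∃ w ∈ W, Q w = 1 := by
  have hne : W ≠ ⊥ := by
    intro h
    rw [h, finrank_bot] at hd
    omega
  obtain ⟨x, hxW, hQx⟩ := npnp3a_exists_nonsing Q W hW hne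
  have h1 := npnp3a_perp_finrank h2 Q W x hxW hQx
  have hne' : npnp3aPerp Q W x ≠ ⊥ := by
    intro h
    rw [h, finrank_bot] at h1
    omega
  obtain ⟨y, hyW', hQy⟩ := npnp3a_exists_nonsing Q _ (npnp3a_perp_nondeg h2 Q W hW x hxW hQx) hne'
  rw [npnp3a_mem_perp] at hyW'
  obtain ⟨s, t, hst⟩ := npnp3a_repr h2 (Q x) (Q y) hQx hQy
  refine ⟨s • x + t • y, W.add_mem (W.smul_mem _ hxW) (W.smul_mem _ hyW'.1), ?_⟩
  rw [QuadraticMap.map_add Q, npnp3a_Q_smul, npnp3a_Q_smul, npnp3a_polar_smul_left, npnp3a_polar_smul_right,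
    hyW'.2, ← hst]
  ring

/-- NP3a -/
theorem odd_normal_form [Fintype F] (h2 : (2 : F) ≠ 0) (Q : QuadraticForm F (Fin n → F)) (m : ℕ)
    (W : Submodule F (Fin n → F)) (hW : IsNondegenerateOn (QuadraticMap.polar (⇑Q)) W)
    (hd : Module.finrank F W = m + 1) :
    ∃ b : Fin (m + 1) → (Fin n → F), (∀ j, b j ∈ W) ∧ LinearIndependent F b ∧
      (∀ i j, i ≠ j → QuadraticMap.polar (⇑Q) (b i) (b j) = 0) ∧
      (∀ j : Fin m, Q (b j.castSucc) = 1) ∧ Q (b (Fin.last m)) ≠ 0 := by
  induction m generalizing W with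
  | zero =>
    have hne : W ≠ ⊥ := by
      intro h
      rw [h, finrank_bot] at hd
      omega
    obtain ⟨x, hxW, hQx⟩ := npnp3a_exists_nonsing Q W hW hne
    have hx0 : x ≠ 0 := by
      intro h
      apply hQx
      rw [h, map_zero]
    have : Subsingleton (Fin (0 + 1)) := (inferInstance : Subsingleton (Fin 1))
    refine ⟨fun _ => x, fun _ => hxW, ?_, ?_, ?_, hQx⟩
    · rw [linearIndependent_subsingleton_index_iff]
      exact fun _ => hx0
    · intro i j hij
      exact absurd (Subsingleton.elim i j) hij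
    · intro j
      exact j.elim0
  | succ m ih =>
    obtain ⟨w₁, hw₁W, hQw₁⟩ := npnp3a_repr_one h2 Q W hW (by omega)
    have hQw₁' : Q w₁ ≠ 0 := by rw [hQw₁]; exact one_ne_zero
    have hfr := npnp3a_perp_finrank h2 Q W w₁ hw₁W hQw₁'
    obtain ⟨b', hb'W, hb'li, hb'o, hb'1, hb'l⟩ :=
      ih (npnp3aPerp Q W w₁) (npnp3a_perp_nondeg h2 Q W hW w₁ hw₁W hQw₁') (by omega)
    have hb'mem : ∀ j, b' j ∈ W ∧ QuadraticMap.polar (⇑Q) w₁ (b' j) = 0 :=
      fun j => (npnp3a_mem_perp Q W w₁ _).1 (hb'W j)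
    refine ⟨Fin.cons w₁ b', ?_, ?_, ?_, ?_, ?_⟩
    · intro j
      refine Fin.cases ?_ (fun j' => ?_) j
      · rw [Fin.cons_zero]
        exact hw₁W
      · rw [Fin.cons_succ]
        exact (hb'mem j').1
    · rw [linearIndependent_finCons]
      refine ⟨hb'li, ?_⟩
      intro hmem
      have hle : Submodule.span F (Set.range b') ≤ npnp3aPerp Q W w₁ := by
        rw [Submodule.span_le]
        rintro _ ⟨j, rfl⟩
        exact hb'W j
      have h := ((npnp3a_mem_perp Q W w₁ _).1 (hle hmem)).2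
      rw [npnp3a_polar_self, hQw₁, mul_one] at h
      exact h2 h
    · intro i j
      refine Fin.cases ?_ (fun i' => ?_) i
      · refine Fin.cases ?_ (fun j' => ?_) j
        · intro h
          exact absurd rfl h
        · intro _
          rw [Fin.cons_zero, Fin.cons_succ]
          exact (hb'mem j').2
      · refine Fin.cases ?_ (fun j' => ?_) j
        · intro _
          rw [Fin.cons_zero, Fin.cons_succ, QuadraticMap.polar_comm]
          exact (hb'mem i').2
        · intro h
          rw [Fin.cons_succ, Fin.cons_succ]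
          apply hb'o
          intro h'
          apply h
          rw [h']
    · intro j
      refine Fin.cases ?_ (fun j' => ?_) j
      · rw [Fin.castSucc_zero, Fin.cons_zero]
        exact hQw₁
      · rw [← Fin.succ_castSucc, Fin.cons_succ]
        exact hb'1 j'
    · rw [← Fin.succ_last, Fin.cons_succ]
      exact hb'l

end Cfsg.Agent.Lib.Helper9.NotPlus
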