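import Mathlib
import Cfsg.Agent.Lib.Helper13.OTS.Defs
import Cfsg.Agent.Lib.helper15.S5972STDCTX

/-!
# Project OTS, row STDCTX (`q_std_ctx`, `q_omega_le`, `q_realize`), verbatim from `Helper13/OTS/Skel.lean.txt`
(port of `helper15/S5972STDCTX.lean` to a general quadratic form in coordinates, all characteristics).
-/

set_option autoImplicit false

namespace Cfsg.Agent.Lib.Helper13.OTS

open Polynomial Module Matrix Cfsg.Agent.Lib.Helper13.S5955 Cfsg.Agent.Lib.helper15.S5972

/-- an endomorphism preserving `Q` preserves its polar form -/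
theorem otsstdctx_polar {F : Type*} [Field F] {V : Type*} [AddCommGroup V] [Module F V]
    (Q : QuadraticForm F V) (y : Module.End F V) (hy : ∀ v, Q (y v) = Q v) (u v : V) :
    QuadraticMap.polar Q (y u) (y v) = QuadraticMap.polar Q u v := by
  unfold QuadraticMap.polar
  rw [← map_add, hy, hy, hy]

theorem q_std_ctx {F : Type*} [Field F] {ι : Type} [Fintype ι] [DecidableEq ι]
    (Qs : QuadraticForm F (ι → F)) (hnd : (QuadraticMap.polarBilin Qs).Nondegenerate) (r : ℕ)
    (x : GL ι F) (hx : x ∈ Cfsg.isometryGroup F (⇑Qs)) (hxr : x ^ r = 1) :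
    QCtx r Qs (Matrix.toLin' (x : Matrix ι ι F)) := by
  refine ⟨?_, ?_, ?_⟩
  · intro u hu
    apply hnd.1
    intro v
    rw [QuadraticMap.polarBilin_apply_apply]
    exact hu v
  · intro v
    rw [Matrix.toLin'_apply]
    exact hx v v
  · rw [s5972stdctx_pow, hxr, Units.val_one, Matrix.toLin'_one]
    rfl

theorem q_omega_le {F : Type*} [Field F] {ι : Type} [Fintype ι] [DecidableEq ι]
    (Qs : QuadraticForm F (ι → F)) (x : GL ι F) (hx : x ∈ Cfsg.Geo.omegaGL (⇑Qs)) :
    x ∈ Cfsg.isometryGroup F (⇑Qs) := by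
  obtain ⟨g, _, rfl⟩ := hx
  exact g.2

theorem q_realize {F : Type*} [Field F] {ι : Type} [Fintype ι] [DecidableEq ι]
    (Qs : QuadraticForm F (ι → F)) (r : ℕ) (y : Module.End F (ι → F)) (h : QCtx r Qs y) :
    ∃ x : GL ι F, x ∈ Cfsg.isometryGroup F (⇑Qs) ∧ Matrix.toLin' (x : Matrix ι ι F) = y ∧
      x ^ r = 1 := by
  classical
  have hinj : Function.Injective y := by
    rw [← LinearMap.ker_eq_bot, LinearMap.ker_eq_bot']
    intro u hu
    apply h.nd
    intro v
    rw [← otsstdctx_polar Qs y h.pres u v, hu]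
    simp
  have hbij : Function.Bijective y := ⟨hinj, LinearMap.surjective_of_injective hinj⟩
  let e : (ι → F) ≃ₗ[F] (ι → F) := LinearEquiv.ofBijective y hbij
  let M : Matrix ι ι F := LinearMap.toMatrix' y
  let Mi : Matrix ι ι F := LinearMap.toMatrix' (e.symm : (ι → F) →ₗ[F] (ι → F))
  have h1 : M * Mi = 1 := by
    rw [← LinearMap.toMatrix'_comp, ← LinearMap.toMatrix'_id]
    congr 1
    apply LinearMap.ext
    intro v
    exact e.apply_symm_apply v
  have h2' : Mi * M = 1 := by
    rw [← LinearMap.toMatrix'_comp, ← LinearMap.toMatrix'_id]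
    congr 1
    apply LinearMap.ext
    intro v
    exact e.symm_apply_apply v
  let x : GL ι F := ⟨M, Mi, h1, h2'⟩
  have hxy : Matrix.toLin' (x : Matrix ι ι F) = y := Matrix.toLin'_toMatrix' y
  refine ⟨x, ?_, hxy, ?_⟩
  · intro v _
    have hv : (x : Matrix ι ι F) *ᵥ v = y v := by
      rw [← Matrix.toLin'_apply, hxy]
    change Qs ((x : Matrix ι ι F) *ᵥ v) = Qs v
    rw [hv]
    exact h.pres v
  · apply Units.ext
    rw [Units.val_pow_eq_pow_val, Units.val_one]
    apply Matrix.toLin'.injective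
    have hp := s5972stdctx_pow x r
    rw [hxy, h.pow] at hp
    rw [← Units.val_pow_eq_pow_val, ← hp, Matrix.toLin'_one]
    rfl

end Cfsg.Agent.Lib.Helper13.OTS
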