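import Mathlib
import Cfsg.Prelude.Def_Classical
import Cfsg.Agent.Lib.Helper19.SO8.Defs
import Cfsg.Agent.Lib.Helper21.OTSISOSTD
import Cfsg.Agent.Lib.Helper16.OTSTYTOP
import Cfsg.Agent.Lib.helper15.OTSSTDCTX
import Cfsg.Agent.Lib.Helper25.BCGX4

set_option autoImplicit false

/-!
# Project SO8 (designer helper19), row XFER (`oreal_xfer`), verbatim from `Helper19/SO8/Skel.lean.txt` (helper15).
An element order realised on SOME standard space of dimension `2d` and type `s` is realised on EVERY one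
(`q_iso_std` + `q_realize`).
-/

namespace Cfsg.Agent.Lib.Helper19.SO8

open Polynomial Cfsg.Agent.Lib.Helper13.OTS

/-- powers of a conjugate by a linear equivalence -/
theorem so8xfer_conj_pow {F : Type*} [Field F] {V W : Type*} [AddCommGroup V] [Module F V]
    [AddCommGroup W] [Module F W] (ψ : V ≃ₗ[F] W) (T : Module.End F W) (k : ℕ) :
    (ψ.symm.toLinearMap ∘ₗ T ∘ₗ ψ.toLinearMap : Module.End F V) ^ k =
      ψ.symm.toLinearMap ∘ₗ (T ^ k) ∘ₗ ψ.toLinearMap := by
  induction k with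
  | zero =>
    apply LinearMap.ext
    intro v
    simp
  | succ k ih =>
    rw [pow_succ, ih, pow_succ]
    apply LinearMap.ext
    intro v
    simp [Module.End.mul_apply]

/-- a conjugate by a linear equivalence is `1` iff the map is -/
theorem so8xfer_conj_eq_one {F : Type*} [Field F] {V W : Type*} [AddCommGroup V] [Module F V]
    [AddCommGroup W] [Module F W] (ψ : V ≃ₗ[F] W) (T : Module.End F W) :
    (ψ.symm.toLinearMap ∘ₗ T ∘ₗ ψ.toLinearMap : Module.End F V) = 1 ↔ T = 1 := by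
  constructor
  · intro h
    apply LinearMap.ext
    intro w
    have h1 := LinearMap.congr_fun h (ψ.symm w)
    simp only [LinearMap.coe_comp, LinearEquiv.coe_coe, Function.comp_apply,
      LinearEquiv.apply_symm_apply, Module.End.one_apply] at h1
    have h2 := congrArg ψ h1
    rw [LinearEquiv.apply_symm_apply, LinearEquiv.apply_symm_apply] at h2
    rw [h2]
    rfl
  · intro h
    rw [h]
    apply LinearMap.ext
    intro v
    simp

theorem oreal_xfer {F : Type*} [Field F] [Fintype F] {ι : Type} [Fintype ι] [DecidableEq ι]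
    (Qs : QuadraticForm F (ι → F)) (d : ℕ) (s : ℤ) (hs : QStd Qs d s) (N : ℕ) (h : OReal F d s N) :
    ∃ g : ↥(Cfsg.isometryGroup F (⇑Qs)), orderOf g = N := by
  obtain ⟨ι', fι', dι', Qs', hs', g', hg'⟩ := h
  obtain ⟨hty, hV, hnd⟩ := q_ty_top Qs' d s hs'
  obtain ⟨ψ, hψ⟩ := q_iso_std Qs d s hs Qs' hnd hV hty
  have hgN : (g' : Matrix.GeneralLinearGroup ι' F) ^ N = 1 := by
    have h1 : g' ^ N = 1 := by rw [← hg']; exact pow_orderOf_eq_one g'
    have h2 := congrArg (Subtype.val) h1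
    simpa using h2
  have hctx' : QCtx N Qs' (Matrix.toLin' ((g' : Matrix.GeneralLinearGroup ι' F) : Matrix ι' ι' F)) :=
    q_std_ctx Qs' hs'.nd N (g' : Matrix.GeneralLinearGroup ι' F) g'.2 hgN
  obtain ⟨hnd0, hV0, hnd1⟩ := q_ty_top Qs d s hs
  have hctx : QCtx N Qs (ψ.symm.toLinearMap ∘ₗ
      (Matrix.toLin' ((g' : Matrix.GeneralLinearGroup ι' F) : Matrix ι' ι' F)) ∘ₗ ψ.toLinearMap) := by
    refine ⟨hnd1, ?_, ?_⟩
    · intro v
      rw [← hψ]
      simp only [LinearMap.coe_comp, LinearEquiv.coe_coe, Function.comp_apply,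
        LinearEquiv.apply_symm_apply]
      rw [hctx'.pres, hψ]
    · rw [so8xfer_conj_pow, hctx'.pow]
      exact (so8xfer_conj_eq_one ψ 1).mpr rfl
  obtain ⟨x, hx, hxy, hxN⟩ := q_realize Qs N _ hctx
  refine ⟨⟨x, hx⟩, ?_⟩
  rw [← hg']
  apply orderOf_eq_orderOf_iff.mpr
  intro k
  have e1 : (⟨x, hx⟩ : ↥(Cfsg.isometryGroup F (⇑Qs))) ^ k = 1 ↔ x ^ k = 1 := by
    constructor
    · intro h1
      have h2 := congrArg (Subtype.val) h1
      simpa using h2
    · intro h1
      apply Subtype.ext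
      simpa using h1
  have e2 : g' ^ k = 1 ↔ (g' : Matrix.GeneralLinearGroup ι' F) ^ k = 1 := by
    constructor
    · intro h1
      have h2 := congrArg (Subtype.val) h1
      simpa using h2
    · intro h1
      apply Subtype.ext
      simpa using h1
  rw [e1, e2, Cfsg.Agent.Lib.Lead.BCG.gl_same, Cfsg.Agent.Lib.Lead.BCG.gl_same, hxy,
    so8xfer_conj_pow, so8xfer_conj_eq_one]

end Cfsg.Agent.Lib.Helper19.SO8
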