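import Mathlib

set_option autoImplicit false

namespace Cfsg.Agent.Lib.helper15.Spec3

open Polynomial

section basic

variable {F : Type*} [Field F]

theorem pow_eq_of_dvd {R : Type*} [Ring R] [Algebra F R] (A : R) (f : F[X]) (hf : aeval A f = 0)
    (N : ℕ) (c : F) (h : f ∣ X ^ N - C c) : A ^ N = algebraMap F R c := by
  obtain ⟨g, hg⟩ := h
  have h1 := congrArg (aeval A) hg
  rw [map_mul, hf, zero_mul, map_sub, map_pow, aeval_X, aeval_C] at h1
  exact sub_eq_zero.mp h1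

theorem lin_dvd_iff (a c : F) (N : ℕ) : X - C a ∣ X ^ N - C c ↔ a ^ N = c := by
  rw [dvd_iff_isRoot, IsRoot.def, eval_sub, eval_pow, eval_X, eval_C, sub_eq_zero]

theorem coprime_lin (a b : F) (h : a ≠ b) : IsCoprime (X - C a) (X - C b) :=
  isCoprime_X_sub_C_of_isUnit_sub (sub_ne_zero.mpr h).isUnit

theorem two_dvd (a b e : F) (N : ℕ) (hab : a ≠ b) (ha : a ^ N = e) (hb : b ^ N = e) :
    (X - C a) * (X - C b) ∣ X ^ N - C e :=
  (coprime_lin a b hab).mul_dvd ((lin_dvd_iff a e N).mpr ha) ((lin_dvd_iff b e N).mpr hb)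

theorem three_dvd (a b c e : F) (N : ℕ) (hab : a ≠ b) (hac : a ≠ c) (hbc : b ≠ c)
    (ha : a ^ N = e) (hb : b ^ N = e) (hc : c ^ N = e) :
    (X - C a) * (X - C b) * (X - C c) ∣ X ^ N - C e := by
  have h1 : IsCoprime ((X - C a) * (X - C b)) (X - C c) :=
    IsCoprime.mul_left (coprime_lin a c hac) (coprime_lin b c hbc)
  exact h1.mul_dvd (two_dvd a b e N hab ha hb) ((lin_dvd_iff c e N).mpr hc)

theorem pow_sub_dvd (f : F[X]) (c : F) (N k : ℕ) (h : f ∣ X ^ N - C c) :
    f ∣ X ^ (N * k) - C (c ^ k) := by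
  refine h.trans ?_
  rw [pow_mul, C_pow]
  exact sub_dvd_pow_sub_pow _ _ k

variable (p : ℕ) [hp : Fact p.Prime] [CharP F p]

theorem double_dvd (a b e : F) (M : ℕ) (hab : a ≠ b) (ha : (a ^ p) ^ M = e) (hb : (b ^ p) ^ M = e) :
    (X - C a) ^ 2 * (X - C b) ∣ X ^ (p * M) - C e := by
  have hp2 : 2 ≤ p := hp.out.two_le
  have hab' : a ^ p ≠ b ^ p := by
    intro h
    exact hab (frobenius_inj F p h)
  have h0 := two_dvd (a ^ p) (b ^ p) e M hab' ha hb
  have h1 := map_dvd (expand F p) h0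
  simp only [map_mul, map_sub, map_pow, expand_X, expand_C] at h1
  rw [← pow_mul] at h1
  refine dvd_trans ?_ h1
  rw [← sub_pow_char, ← sub_pow_char]
  exact mul_dvd_mul (pow_dvd_pow _ hp2) (dvd_pow_self _ (by omega))

theorem triple_dvd_odd (a : F) (hp3 : 3 ≤ p) : (X - C a) ^ 3 ∣ X ^ p - C (a ^ p) := by
  have e1 : (X : F[X]) ^ p - C (a ^ p) = (X - C a) ^ p := by
    rw [sub_pow_char, C_pow]
  rw [e1]
  exact pow_dvd_pow _ hp3

theorem triple_dvd_two (a : F) (hp2 : p = 2) : (X - C a) ^ 3 ∣ X ^ 4 - C (a ^ 4) := by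
  subst hp2
  have e1 : (X : F[X]) ^ 4 - C (a ^ 4) = (X - C a) ^ 4 := by
    have := sub_pow_char_pow (R := F[X]) (p := 2) (n := 2) (X : F[X]) (C a)
    norm_num at this
    rw [this, C_pow]
  rw [e1]
  exact pow_dvd_pow _ (by norm_num)

theorem double_case (a c : F) (M' : ℕ) (hac : a ≠ c) (hprod : a * a * c = 1) (ha : a ^ M' = 1) :
    ∃ e : F, (X - C a) ^ 2 * (X - C c) ∣ X ^ (p * (M' / Nat.gcd 3 M')) - C e := by
  have hd3 : Nat.gcd 3 M' ∣ 3 := Nat.gcd_dvd_left _ _
  have hdM : Nat.gcd 3 M' ∣ M' := Nat.gcd_dvd_right _ _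
  have hdpos : 0 < Nat.gcd 3 M' := Nat.gcd_pos_of_pos_left _ (by norm_num)
  obtain ⟨k, hk⟩ := hd3
  obtain ⟨M, hM⟩ := hdM
  have hdiv : M' / Nat.gcd 3 M' = M := Nat.div_eq_of_eq_mul_right hdpos hM
  rw [hdiv]
  have h3M : 3 * M = k * M' := by
    conv_rhs => rw [hM]
    conv_lhs => rw [hk]
    ring
  have ha3 : a ^ (3 * M) = 1 := by rw [h3M, mul_comm, pow_mul, ha, one_pow]
  have ha0 : a ≠ 0 := by
    rintro rfl
    simp at hprod
  have hc : (c ^ p) ^ M = (a ^ p) ^ M := by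
    have h1 : (a * a * c) ^ (p * M) = 1 := by rw [hprod, one_pow]
    have h2 : a ^ (p * M) * a ^ (p * M) * a ^ (p * M) = 1 := by
      rw [← pow_add, ← pow_add]
      have : p * M + p * M + p * M = 3 * M * p := by ring
      rw [this, pow_mul, ha3, one_pow]
    rw [mul_pow, mul_pow, ← h2] at h1
    rw [← pow_mul, ← pow_mul]
    exact mul_left_cancel₀ (mul_ne_zero (pow_ne_zero _ ha0) (pow_ne_zero _ ha0)) h1
  exact ⟨(a ^ p) ^ M, double_dvd p a c _ M hac rfl hc⟩

theorem split_dvd (a b c : F) (M' : ℕ) (habc : a * b * c = 1) (ha : a ^ M' = 1) (hb : b ^ M' = 1)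
    (hc : c ^ M' = 1) :
    (∃ e : F, (X - C a) * (X - C b) * (X - C c) ∣ X ^ M' - C e) ∨
    (∃ e : F, (X - C a) * (X - C b) * (X - C c) ∣ X ^ (p * (M' / Nat.gcd 3 M')) - C e) ∨
    (p = 2 ∧ ∃ e : F, (X - C a) * (X - C b) * (X - C c) ∣ X ^ 4 - C e) := by
  by_cases hab : a = b
  · by_cases hac : a = c
    · subst hab
      subst hac
      have hpoly : (X - C a) * (X - C a) * (X - C a) = (X - C a) ^ 3 := by ring
      rw [hpoly]
      rcases Nat.lt_or_ge p 3 with hlt | hge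
      · have hp2 : p = 2 := by
          have := hp.out.two_le
          omega
        right; right
        exact ⟨hp2, a ^ 4, triple_dvd_two p a hp2⟩
      · right; left
        refine ⟨(a ^ p) ^ (M' / Nat.gcd 3 M'), ?_⟩
        exact pow_sub_dvd _ _ _ _ (triple_dvd_odd p a hge)
    · subst hab
      right; left
      have hpoly : (X - C a) * (X - C a) * (X - C c) = (X - C a) ^ 2 * (X - C c) := by ring
      rw [hpoly]
      exact double_case p a c M' hac habc ha
  · by_cases hac : a = c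
    · subst hac
      right; left
      have hpoly : (X - C a) * (X - C b) * (X - C a) = (X - C a) ^ 2 * (X - C b) := by ring
      rw [hpoly]
      exact double_case p a b M' hab (by rw [← habc]; ring) ha
    · by_cases hbc : b = c
      · subst hbc
        right; left
        have hpoly : (X - C a) * (X - C b) * (X - C b) = (X - C b) ^ 2 * (X - C a) := by ring
        rw [hpoly]
        exact double_case p b a M' (Ne.symm hab) (by rw [← habc]; ring) hb
      · left
        exact ⟨1, three_dvd a b c 1 M' hab hac hbc ha hb hc⟩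

end basic

section adjoin

universe u

theorem exists_root_field {F : Type u} [Field F] [Fintype F] (g : F[X]) (hg : Irreducible g)
    (hm : g.Monic) :
    ∃ (E : Type u) (_ : Field E) (_ : Algebra F E) (_ : Finite E) (β : E),
      Module.finrank F E = g.natDegree ∧
      Algebra.norm F β = (-1) ^ g.natDegree * g.coeff 0 ∧
      aeval β g = 0 ∧
      (∀ h : F[X], aeval β h = 0 → g ∣ h) ∧
      ∀ β' : E, aeval β' g = 0 → ∃ i : ℕ, i < g.natDegree ∧ β' = β ^ (Fintype.card F ^ i) := by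
  haveI : Fact (Irreducible g) := ⟨hg⟩
  have hne : g ≠ 0 := hg.ne_zero
  let pb := AdjoinRoot.powerBasis hne
  haveI : Module.Finite F (AdjoinRoot g) := pb.finite
  haveI : Finite (AdjoinRoot g) := Module.finite_of_finite F
  have hfr : Module.finrank F (AdjoinRoot g) = g.natDegree := by
    rw [pb.finrank, AdjoinRoot.powerBasis_dim]
  have hmin : minpoly F (AdjoinRoot.root g) = g := by
    rw [AdjoinRoot.minpoly_root hne, hm.leadingCoeff, inv_one, C_1, mul_one]
  refine ⟨AdjoinRoot g, inferInstance, inferInstance, inferInstance, AdjoinRoot.root g, hfr, ?_, ?_,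
    ?_, ?_⟩
  · have h1 := Algebra.PowerBasis.norm_gen_eq_coeff_zero_minpoly pb
    rw [AdjoinRoot.powerBasis_gen, AdjoinRoot.powerBasis_dim, hmin] at h1
    exact h1
  · rw [AdjoinRoot.aeval_eq, AdjoinRoot.mk_self]
  · intro h hh
    rw [AdjoinRoot.aeval_eq, AdjoinRoot.mk_eq_zero] at hh
    exact hh
  · intro β' hβ'
    have hβ'' : g.eval₂ (Algebra.ofId F (AdjoinRoot g)) β' = 0 := hβ'
    let τ : AdjoinRoot g →ₐ[F] AdjoinRoot g :=
      AdjoinRoot.liftAlgHom g (Algebra.ofId F (AdjoinRoot g)) β' hβ''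
    obtain ⟨i, hi⟩ := (FiniteField.bijective_frobeniusAlgHom_pow F (AdjoinRoot g)).2 τ
    refine ⟨i.1, ?_, ?_⟩
    · exact lt_of_lt_of_eq i.2 hfr
    · have h1 : τ (AdjoinRoot.root g) = β' := AdjoinRoot.liftAlgHom_root g _ β' hβ''
      have h2 : (FiniteField.frobeniusAlgHom F (AdjoinRoot g) ^ i.1) (AdjoinRoot.root g) =
          τ (AdjoinRoot.root g) := by
        have := congrArg (fun f : AdjoinRoot g →ₐ[F] AdjoinRoot g => f (AdjoinRoot.root g)) hi
        exact this
      rw [← h1, ← h2, AlgHom.coe_pow, FiniteField.coe_frobeniusAlgHom, pow_iterate]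

theorem norm_pow_formula {F E : Type*} [Field F] [Fintype F] [Field E] [Algebra F E] [Finite E]
    (k : ℕ) (hk : Module.finrank F E = k) (x : E) :
    x ^ ((Fintype.card F ^ k - 1) / (Fintype.card F - 1)) = algebraMap F E (Algebra.norm F x) := by
  have h := FiniteField.algebraMap_norm_eq_pow (K := F) (K' := E) (x := x)
  have hc : Nat.card E = Fintype.card F ^ k := by
    rw [← hk, ← Nat.card_eq_fintype_card]
    exact Module.natCard_eq_pow_finrank (K := F) (V := E)
  rw [hc, Nat.card_eq_fintype_card] at h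
  exact h.symm

end adjoin

section linear

universe u

theorem torsion_mem {F L : Type*} [Field F] [Fintype F] [Field L] [Algebra F L] (e : L)
    (he : e ^ (Fintype.card F - 1) = 1) : ∃ c : F, algebraMap F L c = e := by
  classical
  have hq : 1 < Fintype.card F := Fintype.one_lt_card
  have hpos : 0 < Fintype.card F - 1 := by omega
  set S := Polynomial.nthRootsFinset (Fintype.card F - 1) (1 : L) with hS
  set T : Finset L := (Finset.univ : Finset Fˣ).image (fun c : Fˣ => algebraMap F L (c : F)) with hT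
  have hTS : T ⊆ S := by
    intro y hy
    rw [hT, Finset.mem_image] at hy
    obtain ⟨c, _, rfl⟩ := hy
    rw [hS, Polynomial.mem_nthRootsFinset hpos, ← map_pow,
      FiniteField.pow_card_sub_one_eq_one _ c.ne_zero, map_one]
  have hTcard : T.card = Fintype.card F - 1 := by
    rw [hT, Finset.card_image_of_injective, Finset.card_univ, Fintype.card_units]
    intro c c' h
    exact Units.ext ((algebraMap F L).injective h)
  have hScard : S.card ≤ Fintype.card F - 1 := by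
    rw [hS, Polynomial.nthRootsFinset_def]
    exact (Multiset.toFinset_card_le _).trans (Polynomial.card_nthRoots _ _)
  have hTS' : T = S := Finset.eq_of_subset_of_card_le hTS (by rw [hTcard]; exact hScard)
  have heS : e ∈ S := by
    rw [hS, Polynomial.mem_nthRootsFinset hpos]
    exact he
  rw [← hTS', hT, Finset.mem_image] at heS
  obtain ⟨c, _, hc⟩ := heS
  exact ⟨c, hc⟩

theorem gcd3_dvd_phi3 (q : ℕ) (hq : 1 ≤ q) : Nat.gcd 3 (q - 1) ∣ q ^ 2 + q + 1 := by
  have h1 : Nat.gcd 3 (q - 1) ∣ 3 := Nat.gcd_dvd_left _ _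
  have h2 : Nat.gcd 3 (q - 1) ∣ q - 1 := Nat.gcd_dvd_right _ _
  have h3 : q ^ 2 + q + 1 = (q - 1) * (q + 2) + 3 := by
    obtain ⟨k, rfl⟩ : ∃ k, q = k + 1 := ⟨q - 1, by omega⟩
    simp only [Nat.add_sub_cancel]
    ring
  rw [h3]
  exact dvd_add (dvd_mul_of_dvd_left h2 _) h1

theorem geom3 (q : ℕ) (hq : 2 ≤ q) : (q ^ 3 - 1) / (q - 1) = q ^ 2 + q + 1 := by
  apply Nat.div_eq_of_eq_mul_left (by omega)
  obtain ⟨k, rfl⟩ : ∃ k, q = k + 1 := ⟨q - 1, by omega⟩
  simp only [Nat.add_sub_cancel]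
  have : (k + 1) ^ 3 = (k ^ 2 + 3 * k + 3) * k + 1 := by ring
  rw [this, Nat.add_sub_cancel]
  ring

theorem geom2 (q : ℕ) (hq : 2 ≤ q) : (q ^ 2 - 1) / (q - 1) = q + 1 := by
  apply Nat.div_eq_of_eq_mul_left (by omega)
  obtain ⟨k, rfl⟩ : ∃ k, q = k + 1 := ⟨q - 1, by omega⟩
  simp only [Nat.add_sub_cancel]
  have : (k + 1) ^ 2 = (k + 2) * k + 1 := by ring
  rw [this, Nat.add_sub_cancel]

theorem sq_sub_one (q : ℕ) (hq : 1 ≤ q) : q ^ 2 - 1 = (q + 1) * (q - 1) := by
  obtain ⟨k, rfl⟩ : ∃ k, q = k + 1 := ⟨q - 1, by omega⟩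
  simp only [Nat.add_sub_cancel]
  have : (k + 1) ^ 2 = (k + 1 + 1) * k + 1 := by ring
  rw [this, Nat.add_sub_cancel]

theorem irr3_dvd {F : Type u} [Field F] [Fintype F] (χ : F[X]) (hm : χ.Monic)
    (hdeg : χ.natDegree = 3) (h0 : χ.coeff 0 = -1) (hirr : Irreducible χ) :
    ∃ c : F, χ ∣ X ^ ((Fintype.card F ^ 2 + Fintype.card F + 1) /
      Nat.gcd 3 (Fintype.card F - 1)) - C c := by
  set q := Fintype.card F with hq
  have hq2 : 2 ≤ q := Fintype.one_lt_card
  obtain ⟨E, _, _, _, β, hfr, hnorm, hroot, hdvd, _⟩ := exists_root_field χ hirr hm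
  rw [hdeg] at hfr hnorm
  have h1 := norm_pow_formula 3 hfr β
  rw [← hq, geom3 q hq2, hnorm, h0] at h1
  have h2 : β ^ (q ^ 2 + q + 1) = 1 := by
    rw [h1]
    norm_num
  obtain ⟨N, hN⟩ := gcd3_dvd_phi3 q (by omega)
  have hdpos : 0 < Nat.gcd 3 (q - 1) := Nat.gcd_pos_of_pos_left _ (by norm_num)
  have hdiv : (q ^ 2 + q + 1) / Nat.gcd 3 (q - 1) = N := Nat.div_eq_of_eq_mul_right hdpos hN
  rw [hdiv]
  obtain ⟨k, hk⟩ : Nat.gcd 3 (q - 1) ∣ q - 1 := Nat.gcd_dvd_right _ _
  have h3 : (β ^ N) ^ (q - 1) = 1 := by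
    rw [hk, ← pow_mul, ← mul_assoc, mul_comm N, ← hN, pow_mul, h2, one_pow]
  obtain ⟨c, hc⟩ := torsion_mem (F := F) (L := E) (β ^ N) h3
  refine ⟨c, hdvd _ ?_⟩
  rw [map_sub, map_pow, aeval_X, aeval_C, hc, sub_self]

theorem lin_quad_dvd {F : Type u} [Field F] [Fintype F] (lam : F) (hl : lam ≠ 0) (g : F[X])
    (hgm : g.Monic) (hgdeg : g.natDegree = 2) (hg0 : g.coeff 0 = lam⁻¹) (hirr : Irreducible g) :
    ∃ c : F, (X - C lam) * g ∣ X ^ ((Fintype.card F ^ 2 - 1) /
      Nat.gcd 3 (Fintype.card F - 1)) - C c := by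
  set q := Fintype.card F with hq
  have hq2 : 2 ≤ q := Fintype.one_lt_card
  obtain ⟨E, _, _, _, β, hfr, hnorm, hroot, hdvd, _⟩ := exists_root_field g hirr hgm
  rw [hgdeg] at hfr hnorm
  have h1 := norm_pow_formula 2 hfr β
  rw [← hq, geom2 q hq2, hnorm, hg0] at h1
  have h2 : β ^ (q + 1) = algebraMap F E lam⁻¹ := by
    rw [h1]
    norm_num
  have hd3 : Nat.gcd 3 (q - 1) ∣ 3 := Nat.gcd_dvd_left _ _
  have hdpos : 0 < Nat.gcd 3 (q - 1) := Nat.gcd_pos_of_pos_left _ (by norm_num)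
  obtain ⟨M, hM⟩ : Nat.gcd 3 (q - 1) ∣ q - 1 := Nat.gcd_dvd_right _ _
  have hdq2 : Nat.gcd 3 (q - 1) ∣ q + 2 := by
    have : q + 2 = (q - 1) + 3 := by omega
    rw [this]
    exact dvd_add (Nat.gcd_dvd_right _ _) hd3
  obtain ⟨k', hk'⟩ := hdq2
  have hN : (q ^ 2 - 1) / Nat.gcd 3 (q - 1) = (q + 1) * M := by
    apply Nat.div_eq_of_eq_mul_right hdpos
    rw [sq_sub_one q (by omega)]
    conv_lhs => rw [hM]
    ring
  rw [hN]
  have hlam : lam ^ (q - 1) = 1 := FiniteField.pow_card_sub_one_eq_one lam hl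
  have h3 : lam ^ ((q + 1) * M) = lam⁻¹ ^ M := by
    have h4 : lam ^ ((q + 1) * M) * lam ^ M = 1 := by
      rw [← pow_add]
      have : (q + 1) * M + M = k' * (q - 1) := by
        have e1 : (q + 1) * M + M = (q + 2) * M := by ring
        rw [e1, hk']
        conv_rhs => rw [hM]
        ring
      rw [this, mul_comm, pow_mul, hlam, one_pow]
    rw [inv_pow]
    exact eq_inv_of_mul_eq_one_left h4
  refine ⟨lam⁻¹ ^ M, ?_⟩
  have hcop : IsCoprime (X - C lam) g := by
    apply IsCoprime.symm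
    rw [hirr.coprime_iff_not_dvd]
    intro hdiv
    have := natDegree_le_of_dvd hdiv (X_sub_C_ne_zero lam)
    rw [hgdeg, natDegree_X_sub_C] at this
    omega
  apply hcop.mul_dvd
  · rw [lin_dvd_iff]
    exact h3
  · apply hdvd
    rw [map_sub, map_pow, aeval_X, aeval_C, pow_mul, h2, ← map_pow, sub_self]

theorem factor_root {F : Type*} [Field F] (f : F[X]) (hm : f.Monic) (a : F) (ha : f.IsRoot a) :
    ∃ g : F[X], g.Monic ∧ g.natDegree + 1 = f.natDegree ∧ f = (X - C a) * g := by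
  have h : (X - C a) * (f /ₘ (X - C a)) = f := mul_divByMonic_eq_iff_isRoot.mpr ha
  have hgm : (f /ₘ (X - C a)).Monic := (monic_X_sub_C a).of_mul_monic_left (by rw [h]; exact hm)
  refine ⟨f /ₘ (X - C a), hgm, ?_, h.symm⟩
  have := (monic_X_sub_C a).natDegree_mul hgm
  rw [h, natDegree_X_sub_C] at this
  omega

theorem exists_root_of_roots_ne_zero {F : Type*} [Field F] (f : F[X]) (h : f.roots ≠ 0) :
    ∃ a : F, f.IsRoot a := by
  obtain ⟨a, ha⟩ := Multiset.exists_mem_of_ne_zero h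
  exact ⟨a, (mem_roots'.mp ha).2⟩

theorem psl3_poly {F : Type u} [Field F] [Fintype F] (p : ℕ) [Fact p.Prime] [CharP F p]
    (χ : F[X]) (hm : χ.Monic) (hdeg : χ.natDegree = 3) (h0 : χ.coeff 0 = -1) :
    (∃ c : F, χ ∣ X ^ ((Fintype.card F ^ 2 + Fintype.card F + 1) /
        Nat.gcd 3 (Fintype.card F - 1)) - C c) ∨
    (∃ c : F, χ ∣ X ^ ((Fintype.card F ^ 2 - 1) / Nat.gcd 3 (Fintype.card F - 1)) - C c) ∨
    (∃ c : F, χ ∣ X ^ (Fintype.card F - 1) - C c) ∨
    (∃ c : F, χ ∣ X ^ (p * ((Fintype.card F - 1) / Nat.gcd 3 (Fintype.card F - 1))) - C c) ∨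
    (p = 2 ∧ ∃ c : F, χ ∣ X ^ 4 - C c) := by
  by_cases hroots : χ.roots = 0
  · left
    have hirr : Irreducible χ :=
      (hm.irreducible_iff_roots_eq_zero_of_degree_le_three (by omega) (by omega)).mpr hroots
    exact irr3_dvd χ hm hdeg h0 hirr
  · right
    obtain ⟨lam, hlam⟩ := exists_root_of_roots_ne_zero χ hroots
    obtain ⟨g, hgm, hgdeg, hχ⟩ := factor_root χ hm lam hlam
    rw [hdeg] at hgdeg
    have hgdeg2 : g.natDegree = 2 := by omega
    have hc0 : -lam * g.coeff 0 = -1 := by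
      have := congrArg (fun f : F[X] => f.coeff 0) hχ
      simp only [mul_coeff_zero, coeff_sub, coeff_X_zero, coeff_C_zero, zero_sub] at this
      rw [← this, h0]
    have hl0 : lam ≠ 0 := by
      rintro rfl
      simp at hc0
    have hg0 : g.coeff 0 = lam⁻¹ := by
      have h1 : lam * g.coeff 0 = 1 := by
        have := congrArg Neg.neg hc0
        simpa using this
      exact eq_inv_of_mul_eq_one_right h1
    by_cases hgroots : g.roots = 0
    · left
      have hirr : Irreducible g :=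
        (hgm.irreducible_iff_roots_eq_zero_of_degree_le_three (by omega) (by omega)).mpr hgroots
      rw [hχ]
      exact lin_quad_dvd lam hl0 g hgm hgdeg2 hg0 hirr
    · right
      obtain ⟨mu, hmu⟩ := exists_root_of_roots_ne_zero g hgroots
      obtain ⟨h, hhm, hhdeg, hg⟩ := factor_root g hgm mu hmu
      have hhdeg1 : h.natDegree = 1 := by omega
      have hh : h = X - C (-(h.coeff 0)) := by
        conv_lhs => rw [hhm.eq_X_add_C hhdeg1]
        rw [C_neg, sub_neg_eq_add]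
      set nu := -(h.coeff 0) with hnu
      have hfac : χ = (X - C lam) * (X - C mu) * (X - C nu) := by
        rw [hχ, hg, hh, mul_assoc]
      have hprod : lam * mu * nu = 1 := by
        have := congrArg (fun f : F[X] => f.coeff 0) hfac
        simp only [mul_coeff_zero, coeff_sub, coeff_X_zero, coeff_C_zero, zero_sub] at this
        rw [h0] at this
        have h2 : -(lam * mu * nu) = -1 := by rw [this]; ring
        exact neg_injective h2
      have hmu0 : mu ≠ 0 := by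
        rintro rfl
        simp at hprod
      have hnu0 : nu ≠ 0 := by
        intro h
        rw [h] at hprod
        simp at hprod
      have e1 := FiniteField.pow_card_sub_one_eq_one lam hl0
      have e2 := FiniteField.pow_card_sub_one_eq_one mu hmu0
      have e3 := FiniteField.pow_card_sub_one_eq_one nu hnu0
      rw [hfac]
      rcases split_dvd p lam mu nu (Fintype.card F - 1) hprod e1 e2 e3 with h | h | h
      · left; exact h
      · right; left; exact h
      · right; right; exact h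

end linear

section elements

theorem nt_gcd (A B t : ℕ) (hA : 0 < A) : A ∣ B * t ↔ A / Nat.gcd A B ∣ t := by
  obtain ⟨d, hd⟩ : ∃ d, d = Nat.gcd A B := ⟨_, rfl⟩
  have hdpos : 0 < d := by rw [hd]; exact Nat.gcd_pos_of_pos_left _ hA
  obtain ⟨A', hA'⟩ : d ∣ A := by rw [hd]; exact Nat.gcd_dvd_left _ _
  obtain ⟨B', hB'⟩ : d ∣ B := by rw [hd]; exact Nat.gcd_dvd_right _ _
  have hcop : Nat.Coprime A' B' := by
    have h1 := Nat.coprime_div_gcd_div_gcd (m := A) (n := B) (by rw [← hd]; exact hdpos)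
    rw [← hd] at h1
    rwa [Nat.div_eq_of_eq_mul_right hdpos hA', Nat.div_eq_of_eq_mul_right hdpos hB'] at h1
  rw [← hd, Nat.div_eq_of_eq_mul_right hdpos hA']
  have e : B * t = d * (B' * t) := by rw [← mul_assoc, ← hB']
  rw [e, hA']
  constructor
  · intro h
    exact hcop.dvd_of_dvd_mul_left (Nat.dvd_of_mul_dvd_mul_left hdpos h)
  · intro h
    exact Nat.mul_dvd_mul_left d (h.trans (Nat.dvd_mul_left t B'))

theorem phi3_eq (q : ℕ) (hq : 1 ≤ q) : q ^ 2 + q + 1 = (q - 1) * (q + 2) + 3 := by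
  obtain ⟨k, rfl⟩ : ∃ k, q = k + 1 := ⟨q - 1, by omega⟩
  simp only [Nat.add_sub_cancel]
  ring

theorem gcd_phi3 (q : ℕ) (hq : 1 ≤ q) : Nat.gcd (q ^ 2 + q + 1) (q - 1) = Nat.gcd 3 (q - 1) := by
  rw [phi3_eq q hq, Nat.gcd_mul_left_add_left]

theorem cube_sub_one (q : ℕ) (hq : 1 ≤ q) : q ^ 3 - 1 = (q - 1) * (q ^ 2 + q + 1) := by
  obtain ⟨k, rfl⟩ : ∃ k, q = k + 1 := ⟨q - 1, by omega⟩
  simp only [Nat.add_sub_cancel]
  have : (k + 1) ^ 3 = k * ((k + 1) ^ 2 + (k + 1) + 1) + 1 := by ring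
  rw [this, Nat.add_sub_cancel]

theorem mem_base_iff {F K : Type*} [Field F] [Fintype F] [Field K] [Algebra F K] (x : Kˣ) :
    (∃ c : F, algebraMap F K c = (x : K)) ↔ x ^ (Fintype.card F - 1) = 1 := by
  constructor
  · rintro ⟨c, hc⟩
    have hc0 : c ≠ 0 := by
      rintro rfl
      rw [map_zero] at hc
      exact x.ne_zero hc.symm
    apply Units.ext
    rw [Units.val_pow_eq_pow_val, ← hc, ← map_pow, FiniteField.pow_card_sub_one_eq_one c hc0,
      map_one, Units.val_one]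
  · intro h
    apply torsion_mem
    have := congrArg Units.val h
    rwa [Units.val_pow_eq_pow_val, Units.val_one] at this

theorem exists_gen_ext {F K : Type*} [Field F] [Fintype F] [Field K] [Finite K] [Algebra F K]
    (k : ℕ) (hk : Module.finrank F K = k) : ∃ ζ : Kˣ, orderOf ζ = Fintype.card F ^ k - 1 := by
  obtain ⟨ζ, hζ⟩ := IsCyclic.exists_ofOrder_eq_natCard (α := Kˣ)
  refine ⟨ζ, ?_⟩
  rw [hζ, Nat.card_units, ← hk, ← Nat.card_eq_fintype_card]
  congr 1
  exact Module.natCard_eq_pow_finrank (K := F) (V := K)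

theorem sq_sub_one' (q : ℕ) (hq : 2 ≤ q) : q ^ 2 - 1 = (q + 2) * (q - 2) + 3 := by
  obtain ⟨k, rfl⟩ : ∃ k, q = k + 2 := ⟨q - 2, by omega⟩
  simp only [Nat.add_sub_cancel]
  have : (k + 2) ^ 2 = (k + 2 + 2) * k + 3 + 1 := by ring
  rw [this, Nat.add_sub_cancel]

theorem gcd_sq (q : ℕ) (hq : 2 ≤ q) : Nat.gcd (q ^ 2 - 1) (q + 2) = Nat.gcd 3 (q - 1) := by
  rw [sq_sub_one' q hq, Nat.gcd_mul_left_add_left]
  have : q + 2 = (q - 1) + 3 := by omega
  rw [this, Nat.gcd_add_self_right]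

end elements

end Cfsg.Agent.Lib.helper15.Spec3
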