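import Mathlib
import Cfsg.Agent.Lib.Helper1.O9L.Defs
import Cfsg.Agent.Lib.helper4.OTSSTDP
import Cfsg.Agent.Lib.Helper20.O9LSPLUSF
import Cfsg.Agent.Lib.Helper18.O9LSMINUSM
import Cfsg.Agent.Lib.Helper1.O9LFTRANS
import Cfsg.Agent.Lib.Helper1.O9LFREEN

set_option autoImplicit false

/-!
# Project O9L (designer helper1), row PIECES (helper15): `omn_plus`, `omn_minus`
-/

namespace Cfsg.Agent.Lib.Helper1.O9L

open Matrix Module Polynomial Cfsg.Agent.Lib.Helper13.OTS Cfsg.Agent.Lib.Helper16 Cfsg.Agent.Lib.Helper19.O9U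

theorem omn_plus {F : Type*} [Field F] [Fintype F] (h2 : (2 : F) ≠ 0) (k : ℕ) (hk : 1 ≤ k) :
    OmN F k 1 (Fintype.card F ^ k - 1) := by
  obtain ⟨g, hg⟩ := free_plus (F := F) k hk
  refine omn_of_free h2 (qfPlus k F) k 1 (q_std_plus k) hk g _ ?_ hg
  have h1 : 1 ≤ Fintype.card F ^ k := Nat.one_le_pow _ _ Fintype.card_pos
  rw [Nat.cast_sub h1]
  push_cast
  ring

theorem omn_minus {F : Type*} [Field F] [Fintype F] (h2 : (2 : F) ≠ 0) (a b : F) (hab : Aniso a b) (k : ℕ) (hk : 1 ≤ k) :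
    OmN F k (-1) (Fintype.card F ^ k + 1) := by
  obtain ⟨p, hp⟩ := CharP.exists F
  haveI : Fact p.Prime := ⟨CharP.char_is_prime F p⟩
  haveI : NeZero (2 * k) := ⟨by omega⟩
  have hfr : finrank F (FiniteField.Extension F p (2 * k)) = 2 * k :=
    FiniteField.finrank_extension F p (2 * k)
  obtain ⟨Q, x, hnd, hx, hty⟩ :=
    free_minus_model (F := F) h2 (FiniteField.Extension F p (2 * k)) k hk hfr
  have hs := q_std_minus k hk a b hab
  obtain ⟨g, hg⟩ := free_transport (qfMinus (k - 1) F a b) k (-1) hs Q hnd hfr hty x _ hx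
  refine omn_of_free h2 (qfMinus (k - 1) F a b) k (-1) hs hk g _ ?_ hg
  push_cast
  ring

end Cfsg.Agent.Lib.Helper1.O9L
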