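import Mathlib
import Cfsg.Agent.Lib.Helper10.C3E.Defs
import Cfsg.Agent.Lib.Helper16.SpSemi1

/-!
# Project S5975 (designer helper10), row EVEN : `c3e_even_of_nondeg` (verbatim)
-/

set_option autoImplicit false
set_option linter.unusedVariables false
set_option linter.unusedSectionVars false

namespace Cfsg.Agent.Lib.Helper10.C3E

open Module Cfsg.Agent.Lib.helper8.C3S

variable {F K V : Type*} [Field F] [Field K] [Algebra F K] [AddCommGroup V] [Module F V] [Module K V]
  [IsScalarTower F K V]

/-- the general form: a subspace on which an alternating form is non-degenerate has even dimension -/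
theorem c3eeven_even {K V : Type*} [Field K] [AddCommGroup V] [Module K V] [FiniteDimensional K V]
    (B : V →ₗ[K] V →ₗ[K] K) (hB0 : ∀ x, B x x = 0) (W : Submodule K V)
    (hW : ∀ x ∈ W, (∀ y ∈ W, B x y = 0) → x = 0) : Even (finrank K W) := by
  have happ : ∀ x y : W, (LinearMap.BilinForm.restrict B W) x y = B (x : V) (y : V) := fun x y => rfl
  have halt : (LinearMap.BilinForm.restrict B W).IsAlt := by
    intro x
    rw [happ]
    exact hB0 _
  have hswap : ∀ x y : V, B x y = - B y x := by
    intro x y
    have h := hB0 (x + y)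
    simp only [map_add, LinearMap.add_apply, hB0, zero_add, add_zero] at h
    exact eq_neg_of_add_eq_zero_left ((add_comm _ _).trans h)
  have key : ∀ w : W, (∀ u : W, (LinearMap.BilinForm.restrict B W) w u = 0) → w = 0 := by
    intro w hw
    apply Subtype.ext
    apply hW w.1 w.2
    intro v hv
    have := hw ⟨v, hv⟩
    rw [happ] at this
    exact this
  have hnd' : (LinearMap.BilinForm.restrict B W).Nondegenerate := by
    constructor
    · intro w hw
      exact key w (fun u => hw u)
    · intro w hw
      apply key w
      intro u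
      have h2 : (LinearMap.BilinForm.restrict B W) u w = 0 := hw u
      rw [happ] at h2 ⊢
      rw [hswap, h2, neg_zero]
  obtain ⟨k, hk⟩ := Cfsg.Agent.Lib.Helper16.SpSemi.alt_even (finrank K W) rfl
    (LinearMap.BilinForm.restrict B W) halt hnd'
  exact ⟨k, by omega⟩

/-- EVEN : a `K`-subspace on which `f = Tr ∘ B` is non-degenerate has even `K`-dimension. -/
theorem c3e_even_of_nondeg [FiniteDimensional K V] (B : V →ₗ[K] V →ₗ[K] K) (hB0 : ∀ x, B x x = 0) (W : Submodule K V)
    (hW : ∀ x ∈ W, (∀ y ∈ W, Algebra.trace F K (B x y) = 0) → x = 0) : Even (finrank K W) := by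
  apply c3eeven_even B hB0 W
  intro x hx h
  apply hW x hx
  intro y hy
  rw [h y hy, map_zero]

end Cfsg.Agent.Lib.Helper10.C3E
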