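import Mathlib
import Cfsg.Agent.Lib.Helper28.OAll
import Cfsg.Agent.Lib.Helper16.SpinG2
import Cfsg.Agent.Lib.Helper16.OA25

/-!
# Project OMB (matrix side of S2094, designer helper12), the odd twin of OMM O1 (Defs-independent, helper15):
a subgroup of `GL` containing all Siegel elements of `quadFormOdd l F` (`u, v` singular, orthogonal) contains `Ω`.
Transfer of `OGenQ.sgGroupQ_quad … |>.gen` to the index type `Unit ⊕ (Fin l ⊕ Fin l)` (copy of `Helper28.OMMO1`).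
-/

set_option autoImplicit false

namespace Cfsg.Agent.Lib.helper15.OMBO1

open Matrix

universe u

variable {l : ℕ} {F : Type u} [Field F]

/-- odd twin of OMM O1. -/
theorem ombo1_omega_le_of_siegel [Fintype F] (h2 : (2 : F) ≠ 0) (hl : 3 ≤ l)
    (M : Subgroup (Matrix.GeneralLinearGroup (Unit ⊕ (Fin l ⊕ Fin l)) F))
    (hM : ∀ (t : Matrix.GeneralLinearGroup (Unit ⊕ (Fin l ⊕ Fin l)) F) (u v : Unit ⊕ (Fin l ⊕ Fin l) → F) (c : F),
      Cfsg.quadFormOdd l F u = 0 → Cfsg.quadFormOdd l F v = 0 →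
      QuadraticMap.polar (Cfsg.quadFormOdd l F) u v = 0 →
      (∀ x, (t : Matrix (Unit ⊕ (Fin l ⊕ Fin l)) (Unit ⊕ (Fin l ⊕ Fin l)) F) *ᵥ x =
        x + c • (QuadraticMap.polar (Cfsg.quadFormOdd l F) u x • v -
          QuadraticMap.polar (Cfsg.quadFormOdd l F) v x • u)) → t ∈ M) :
    Cfsg.Geo.omegaGL (Cfsg.quadFormOdd l F) ≤ M := by
  classical
  obtain ⟨e, -⟩ : ∃ e : (Unit ⊕ (Fin l ⊕ Fin l)) ≃ Fin (Fintype.card (Unit ⊕ (Fin l ⊕ Fin l))),
    e = Fintype.equivFin _ := ⟨_, rfl⟩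
  have hcard : 7 ≤ Fintype.card (Unit ⊕ (Fin l ⊕ Fin l)) := by
    simp only [Fintype.card_sum, Fintype.card_fin, Fintype.card_unit]; omega
  have hQ := Cfsg.Agent.Lib.Helper16.OA.qfOdd_nondeg (F := F) l h2
  have hQ' := Cfsg.Agent.Lib.Lead.RI.qReindex_nondeg e (Cfsg.Agent.Lib.Helper16.qfOdd l F) hQ
  have hsg := Cfsg.Agent.Lib.Helper28.OGenQ.sgGroupQ_quad hcard
    (Cfsg.Agent.Lib.Lead.RI.qReindex e (Cfsg.Agent.Lib.Helper16.qfOdd l F)) hQ'
  have hcoe : ∀ y : Fin (Fintype.card (Unit ⊕ (Fin l ⊕ Fin l))) → F,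
      (Cfsg.Agent.Lib.Lead.RI.qReindex e (Cfsg.Agent.Lib.Helper16.qfOdd l F)) y =
        Cfsg.quadFormOdd l F (y ∘ e) := fun y => rfl
  have hpol : ∀ y z : Fin (Fintype.card (Unit ⊕ (Fin l ⊕ Fin l))) → F,
      Cfsg.Agent.S0795.pf (Cfsg.Agent.Lib.Lead.RI.qReindex e (Cfsg.Agent.Lib.Helper16.qfOdd l F)) y z =
        QuadraticMap.polar (Cfsg.quadFormOdd l F) (y ∘ e) (z ∘ e) := by
    intro y z
    show QuadraticMap.polar _ y z = _
    unfold QuadraticMap.polar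
    rw [hcoe, hcoe, hcoe]
    rfl
  have hle := hsg.gen (M.map (Cfsg.Agent.Lib.Lead.RI.glReindex (F := F) e).toMonoidHom) (by
    intro t' u' v' c hu' hv' huv' ht'
    rw [Subgroup.mem_map_equiv]
    apply hM _ (u' ∘ e) (v' ∘ e) c
    · rw [← hcoe]; exact hu'
    · rw [← hcoe]; exact hv'
    · rw [← hpol]; exact huv'
    · intro x
      have hh : ((t' : Matrix.GeneralLinearGroup (Fin (Fintype.card (Unit ⊕ (Fin l ⊕ Fin l)))) F) : Matrix _ _ F) =
          Matrix.reindex e e ((((Cfsg.Agent.Lib.Lead.RI.glReindex (F := F) e).symm t' :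
            Matrix.GeneralLinearGroup (Unit ⊕ (Fin l ⊕ Fin l)) F)) :
              Matrix (Unit ⊕ (Fin l ⊕ Fin l)) (Unit ⊕ (Fin l ⊕ Fin l)) F) := by
        rw [← Cfsg.Agent.Lib.Lead.RI.glReindex_coe, MulEquiv.apply_symm_apply]
      have h1 := ht' (x ∘ e.symm)
      rw [hh, Cfsg.Agent.Lib.Lead.RI.reindex_mulVec] at h1
      have e1 : (x ∘ e.symm) ∘ e = x := by funext i; simp
      rw [e1] at h1
      have h2' := congrArg (fun f => f ∘ e) h1
      beta_reduce at h2'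
      have e2 : ∀ f : Unit ⊕ (Fin l ⊕ Fin l) → F, (f ∘ e.symm) ∘ e = f := by intro f; funext i; simp
      rw [e2] at h2'
      rw [h2']
      unfold Cfsg.Agent.Lib.Helper28.OMax.Tv
      rw [hpol, hpol, e1]
      funext i
      simp)
  have hmap := Cfsg.Agent.Lib.Helper28.OTrans.map_omegaGL (F := F) e (Cfsg.quadFormOdd l F)
  have hle' : (Cfsg.Geo.omegaGL (Cfsg.quadFormOdd l F)).map
      (Cfsg.Agent.Lib.Lead.RI.glReindex (F := F) e).toMonoidHom ≤
      M.map (Cfsg.Agent.Lib.Lead.RI.glReindex (F := F) e).toMonoidHom := by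
    rw [hmap]
    exact hle
  exact (Subgroup.map_le_map_iff_of_injective (Cfsg.Agent.Lib.Lead.RI.glReindex (F := F) e).injective).mp hle'

end Cfsg.Agent.Lib.helper15.OMBO1
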