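import Mathlib
import Cfsg.Agent.Lib.helper17.OMP.Defs
import Cfsg.Agent.Lib.Helper26.OMPE5
import Cfsg.Agent.Lib.Helper22.OMPA1

/-!
# Project OMP (designer helper17), block A, row A16 (`Theta_e3`, `Theta_e3_12`, `Theta_e3_21`), VERBATIM vs `helper17/OMP/Skel.lean.txt`.

Extras: `ompa16_embI_tv` (E10 `embI_tv` for `κ` in ANY universe: `Theta` uses `κ = Fin 3 : Type`), `ompa16_yy_base` (= A2 `yy_base`, from the landed A1 `yy_eq`).
-/

set_option autoImplicit false

namespace Cfsg.Agent.Lib.helper17.OMP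

open Matrix Cfsg.Agent.Lib.helper14.CTE Cfsg.Agent.Lib.helper14.CTA Cfsg.Agent.Lib.helper17.SLN Cfsg.Agent.Lib.Helper28.CTD
  Cfsg.Agent.Lib.helper3.STC Cfsg.Agent.Lib.Lead.STD

universe u v w w'

section A

variable {F : Type u} [Field F] {G : Type v} [Group G] {ι : Type w} [Fintype ι] [DecidableEq ι]

/-- E10 for `κ` in any universe. -/
theorem ompa16_embI_tv {κ : Type w'} [Fintype κ] [DecidableEq κ] (f : κ → ι) (hf : Function.Injective f) (a b : κ)
    (hab : a ≠ b) (t : F) :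
    embI f hf (tv a b t : Matrix.SpecialLinearGroup κ F) = tv (f a) (f b) t := by
  have hfab : f a ≠ f b := fun h => hab (hf h)
  apply Subtype.ext
  rw [embI_coe, tv_coe hab, tv_coe hfab]
  unfold embM Matrix.transvection
  rw [add_sub_cancel_left]
  congr 1
  ext i j
  simp only [Matrix.mul_apply, inclI, Matrix.of_apply, Matrix.transpose_apply, Matrix.single_apply]
  rw [Finset.sum_eq_single b]
  · rw [Finset.sum_eq_single a]
    · by_cases hi : i = f a <;> by_cases hj : j = f b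
      · subst hi hj; simp
      · subst hi
        have : ¬ (f b = j) := fun h => hj h.symm
        simp [hj, this]
      · subst hj
        have : ¬ (f a = i) := fun h => hi h.symm
        simp [hi, this]
      · have : ¬ (f a = i) := fun h => hi h.symm
        simp [hi, this]
    · intro x _ hx
      have : ¬ (a = x) := fun h => hx h.symm
      simp [this]
    · intro h; exact absurd (Finset.mem_univ _) h
  · intro c _ hc
    have : ¬ (b = c) := fun h => hc h.symm
    simp [this]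
  · intro h; exact absurd (Finset.mem_univ _) h

/-- A2 `yy_base` (own-name copy, from A1 `yy_eq` with `g = 1`). -/
theorem ompa16_yy_base (p : Pts ι) (Φ : Matrix.SpecialLinearGroup ι F →* G) (y : G)
    (hB : ∀ g : Matrix.SpecialLinearGroup ι F, Mv g p.o0 p.o1 p.o0 p.o1 → Commute y (Φ g)) : yy p Φ y p.o0 p.o1 = y := by
  have h1 : Mv (1 : Matrix.SpecialLinearGroup ι F) p.o0 p.o1 p.o0 p.o1 := by
    rw [Mv_iff]
    exact ⟨Mv1_one _, Mv1_one _⟩
  have h := yy_eq p Φ y hB 1 p.o0 p.o1 h1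
  rw [map_one, one_mul, inv_one, mul_one] at h
  exact h.symm

/-- A16 [S-M] (three statements, one file)  the values of `Theta` (`Theta`, `MonoidHom.comp_apply`, `MulAut.conj_apply`, `e3_eq_tv`, E10 `embI_tv`, `f3`; `yy_base`). -/
theorem Theta_e3 (p : Pts ι) (Φ : Matrix.SpecialLinearGroup ι F →* G) (y : G) (a b : Fin 3) (hab : a ≠ b) (t : F) :
    Theta p Φ y (e3 a b t) = y * Φ (tv (f3 p a) (f3 p b) t) * y⁻¹ := by
  unfold Theta
  rw [MonoidHom.comp_apply, MonoidHom.comp_apply, e3_eq_tv, ompa16_embI_tv _ _ a b hab t]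
  rfl

theorem Theta_e3_12 (p : Pts ι) (Φ : Matrix.SpecialLinearGroup ι F →* G) (y : G)
    (hB : ∀ g : Matrix.SpecialLinearGroup ι F, Mv g p.o0 p.o1 p.o0 p.o1 → Commute y (Φ g)) (t : F) :
    Theta p Φ y (e3 1 2 t) = PP p Φ y p.o2 p.o0 p.o1 t := by
  rw [Theta_e3 p Φ y 1 2 (by decide) t]
  unfold PP
  rw [ompa16_yy_base p Φ y hB]
  rfl

theorem Theta_e3_21 (p : Pts ι) (Φ : Matrix.SpecialLinearGroup ι F →* G) (y : G)
    (hB : ∀ g : Matrix.SpecialLinearGroup ι F, Mv g p.o0 p.o1 p.o0 p.o1 → Commute y (Φ g)) (t : F) :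
    Theta p Φ y (e3 2 1 t) = NN p Φ y p.o2 p.o0 p.o1 t := by
  rw [Theta_e3 p Φ y 2 1 (by decide) t]
  unfold NN
  rw [ompa16_yy_base p Φ y hB]
  rfl

end A

end Cfsg.Agent.Lib.helper17.OMP
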