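import Mathlib
import Cfsg.Agent.Lib.helper17.OMP.Defs

/-!
# Project OMP (designer helper17), block M, row M1 (`phi_wE`, `phi_hE`), VERBATIM vs `helper17/OMP/Skel.lean.txt`.
-/

set_option autoImplicit false

namespace Cfsg.Agent.Lib.helper17.OMP

open Matrix Cfsg.Agent.Lib.helper14.CTE Cfsg.Agent.Lib.helper14.CTA Cfsg.Agent.Lib.helper17.SLN Cfsg.Agent.Lib.Helper28.CTD
  Cfsg.Agent.Lib.helper3.STC Cfsg.Agent.Lib.Lead.STD

universe u v w

section M

variable {K : Type u} [Field K] {G : Type v} [Group G] {ι : Type w} [Fintype ι] [DecidableEq ι]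

/-- M1 [S] (two statements, one file)  the words match (`map_mul`, `hφ`, unfold `wE`, `hE`, `SysD.w`, `SysD.h`; `(-(1:K)⁻¹) = -1`, `-(-1:K)⁻¹ = 1`). -/
theorem phi_wE (S : SysD K ι G) (φ : Matrix.SpecialLinearGroup ι K →* G)
    (hφ : ∀ i j t, φ (tv i j t) = S.x (Sum.inl i) (Sum.inl j) t) (i j : ι) : φ (wE i j) = S.w (Sum.inl i) (Sum.inl j) 1 := by
  unfold wE SysD.w
  rw [map_mul, map_mul, hφ, hφ, inv_one]

theorem phi_hE (S : SysD K ι G) (φ : Matrix.SpecialLinearGroup ι K →* G)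
    (hφ : ∀ i j t, φ (tv i j t) = S.x (Sum.inl i) (Sum.inl j) t) (i j : ι) (s : K) :
    φ (hE i j s) = S.h (Sum.inl i) (Sum.inl j) s := by
  unfold hE SysD.h SysD.w
  rw [map_mul, map_mul, map_mul, map_mul, map_mul, hφ, hφ, hφ, hφ]
  have e : (-(-1 : K)⁻¹) = 1 := by
    rw [inv_neg, inv_one, neg_neg]
  rw [e]

end M

end Cfsg.Agent.Lib.helper17.OMP
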