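import Mathlib
import Cfsg.Agent.Lib.helper17.OMP.Defs
import Cfsg.Agent.Lib.helper6.STDW14
import Cfsg.Agent.Lib.Helper16.STDW13
import Cfsg.Agent.Lib.Lead.STDB1
import Cfsg.Agent.Lib.helper15.OMPM1

/-!
# Project OMP (designer helper17), block M, row M4 (`model_Y02`, `model_Y12`), VERBATIM vs `helper17/OMP/Skel.lean.txt`.

Extra: `ompm4_cj_w` (conjugation of a Weyl element `S.w c d 1` by a Weyl element `S.w a b 1`).
-/

set_option autoImplicit false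

namespace Cfsg.Agent.Lib.helper17.OMP

open Matrix Cfsg.Agent.Lib.helper14.CTE Cfsg.Agent.Lib.helper14.CTA Cfsg.Agent.Lib.helper17.SLN Cfsg.Agent.Lib.Helper28.CTD
  Cfsg.Agent.Lib.helper3.STC Cfsg.Agent.Lib.Lead.STD

universe u v w

section M

variable {K : Type u} [Field K] {G : Type v} [Group G] {ι : Type w} [Fintype ι] [DecidableEq ι]

open Cfsg.Agent.Lib.helper15.St2 in
/-- conjugation of `S.w c d 1` by `S.w a b 1` -/
theorem ompm4_cj_w [Finite K] (S : SysD K ι G) {a b : ι ⊕ ι} (hab : a ≠ b) (hab' : a ≠ ng b) {c d : ι ⊕ ι} (hcd : c ≠ d) :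
    S.w a b 1 * S.w c d 1 * (S.w a b 1)⁻¹ =
      S.w (sws a b c) (sws a b d) (dwd a b (1 : K) c * (dwd a b (1 : K) d)⁻¹) := by
  have hM := S.isMon_w hab hab' (1 : K) one_ne_zero
  have h := SysD.IsMon.cj_w S hM hcd (1 : K) one_ne_zero
  rw [mul_one] at h
  exact h

/-- M4 [M] (two statements, one file)  **the conjugates of `y₀`** (`isMon_w` of `helper6.STDW14`, `IsMon.cj_w` of `Helper16.STDW13`, the values `stdw14_dwd_*`): `φ (wE 2 1) = S.w (inl 2) (inl 1) 1` permutes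
`inl 1 ↔ inl 2`, `inr 1 ↔ inr 2` with coefficients `1` at `inl 0`, `inr 1`: `Y02 = S.w (inl 0) (inr 2) 1`.  `φ (sgE p) = S.w (inl 1) (inl 0) 1 * S.w (inl 2) (inl 1) 1`: `Y12 = S.w (inl 1) (inr 2) 1`. -/
theorem model_Y02 [Finite K] (S : SysD K ι G) (p : Pts ι) (φ : Matrix.SpecialLinearGroup ι K →* G)
    (hφ : ∀ i j t, φ (tv i j t) = S.x (Sum.inl i) (Sum.inl j) t) :
    Y02 p φ (S.w (Sum.inl p.o0) (Sum.inr p.o1) 1) = S.w (Sum.inl p.o0) (Sum.inr p.o2) 1 := by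
  unfold Y02
  rw [phi_wE S φ hφ]
  have hab : (Sum.inl p.o2 : ι ⊕ ι) ≠ Sum.inl p.o1 := fun h => p.h12 (Sum.inl.inj h).symm
  have hab' : (Sum.inl p.o2 : ι ⊕ ι) ≠ ng (Sum.inl p.o1) := fun h => by cases h
  have hcd : (Sum.inl p.o0 : ι ⊕ ι) ≠ Sum.inr p.o1 := fun h => by cases h
  rw [ompm4_cj_w S hab hab' hcd]
  have e1 : sws (Sum.inl p.o2 : ι ⊕ ι) (Sum.inl p.o1) (Sum.inl p.o0) = Sum.inl p.o0 :=
    SysD.sws_of_ne (fun h => p.h02 (Sum.inl.inj h)) (fun h => p.h01 (Sum.inl.inj h))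
      (fun h => by cases h) (fun h => by cases h)
  have e2 : sws (Sum.inl p.o2 : ι ⊕ ι) (Sum.inl p.o1) (Sum.inr p.o1) = Sum.inr p.o2 :=
    SysD.stdx2_sws_nright hab'
  have e3 : dwd (Sum.inl p.o2 : ι ⊕ ι) (Sum.inl p.o1) (1 : K) (Sum.inl p.o0) = 1 :=
    stdw14_dwd_of_ne (fun h => p.h02 (Sum.inl.inj h)) (fun h => p.h01 (Sum.inl.inj h))
      (fun h => by cases h) (fun h => by cases h) 1
  have e4 : dwd (Sum.inl p.o2 : ι ⊕ ι) (Sum.inl p.o1) (1 : K) (Sum.inr p.o1) = 1 := by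
    have := stdw14_dwd_nb hab' (1 : K)
    rw [inv_one] at this
    exact this
  rw [e1, e2, e3, e4, inv_one, mul_one]

theorem model_Y12 [Finite K] (S : SysD K ι G) (p : Pts ι) (φ : Matrix.SpecialLinearGroup ι K →* G)
    (hφ : ∀ i j t, φ (tv i j t) = S.x (Sum.inl i) (Sum.inl j) t) :
    Y12 p φ (S.w (Sum.inl p.o0) (Sum.inr p.o1) 1) = S.w (Sum.inl p.o1) (Sum.inr p.o2) 1 := by
  have h02 := model_Y02 S p φ hφ
  unfold Y02 at h02
  unfold Y12 sgE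
  rw [map_mul]
  have e : φ (wE p.o1 p.o0) * φ (wE p.o2 p.o1) * S.w (Sum.inl p.o0) (Sum.inr p.o1) 1 *
      (φ (wE p.o1 p.o0) * φ (wE p.o2 p.o1))⁻¹ =
      φ (wE p.o1 p.o0) * (φ (wE p.o2 p.o1) * S.w (Sum.inl p.o0) (Sum.inr p.o1) 1 * (φ (wE p.o2 p.o1))⁻¹) *
        (φ (wE p.o1 p.o0))⁻¹ := by
    group
  rw [e, h02, phi_wE S φ hφ]
  have hab : (Sum.inl p.o1 : ι ⊕ ι) ≠ Sum.inl p.o0 := fun h => p.h01 (Sum.inl.inj h).symm
  have hab' : (Sum.inl p.o1 : ι ⊕ ι) ≠ ng (Sum.inl p.o0) := fun h => by cases h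
  have hcd : (Sum.inl p.o0 : ι ⊕ ι) ≠ Sum.inr p.o2 := fun h => by cases h
  rw [ompm4_cj_w S hab hab' hcd]
  have e1 : sws (Sum.inl p.o1 : ι ⊕ ι) (Sum.inl p.o0) (Sum.inl p.o0) = Sum.inl p.o1 :=
    SysD.sws_right hab hab'
  have e2 : sws (Sum.inl p.o1 : ι ⊕ ι) (Sum.inl p.o0) (Sum.inr p.o2) = Sum.inr p.o2 :=
    SysD.sws_of_ne (fun h => by cases h) (fun h => by cases h)
      (fun h => p.h12 (Sum.inr.inj h).symm) (fun h => p.h02 (Sum.inr.inj h).symm)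
  have e3 : dwd (Sum.inl p.o1 : ι ⊕ ι) (Sum.inl p.o0) (1 : K) (Sum.inl p.o0) = 1 :=
    stdw14_dwd_b hab 1
  have e4 : dwd (Sum.inl p.o1 : ι ⊕ ι) (Sum.inl p.o0) (1 : K) (Sum.inr p.o2) = 1 :=
    stdw14_dwd_of_ne (fun h => by cases h) (fun h => by cases h)
      (fun h => p.h12 (Sum.inr.inj h).symm) (fun h => p.h02 (Sum.inr.inj h).symm) 1
  rw [e1, e2, e3, e4, inv_one, mul_one]

end M

end Cfsg.Agent.Lib.helper17.OMP
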