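import Mathlib
import Cfsg.Agent.Lib.helper17.OMP.Defs
import Cfsg.Agent.Lib.helper6.STDW14
import Cfsg.Agent.Lib.Helper16.STDW13
import Cfsg.Agent.Lib.Lead.STDB1
import Cfsg.Agent.Lib.helper15.OMPM1
import Cfsg.Agent.Lib.helper15.OMPM4

/-!
# Project OMP (designer helper17), block M, row M5 (`model_r5`), VERBATIM vs `helper17/OMP/Skel.lean.txt`.
-/

set_option autoImplicit false

namespace Cfsg.Agent.Lib.helper17.OMP

open Matrix Cfsg.Agent.Lib.helper14.CTE Cfsg.Agent.Lib.helper14.CTA Cfsg.Agent.Lib.helper17.SLN Cfsg.Agent.Lib.Helper28.CTD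
  Cfsg.Agent.Lib.helper3.STC Cfsg.Agent.Lib.Lead.STD

universe u v w

section M

variable {K : Type u} [Field K] {G : Type v} [Group G] {ι : Type w} [Fintype ι] [DecidableEq ι]

/-- M5 [M]  **`r5` in the model**: M4, then `cj (S.w (inl 0) (inr 2) 1) (S.w (inl 1) (inl 2) 1) = S.w (inl 1) (inr 0) 1` (`IsMon.cj_w`: `sws (inl 0) (inr 2)` maps `inl 2 ↦ inr 0`, fixes `inl 1`; coefficients `1`), and
`S.w (inl 1) (inr 0) 1 = S.w (inl 0) (inr 1) (-1) = (S.w (inl 0) (inr 1) 1)⁻¹` (`S.sym` on the three factors / `w_sym`, `w_neg` of `Lead.STDB1`). -/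
theorem model_r5 [Finite K] (S : SysD K ι G) (p : Pts ι) (φ : Matrix.SpecialLinearGroup ι K →* G)
    (hφ : ∀ i j t, φ (tv i j t) = S.x (Sum.inl i) (Sum.inl j) t) :
    Y02 p φ (S.w (Sum.inl p.o0) (Sum.inr p.o1) 1) * φ (wE p.o1 p.o2) * (Y02 p φ (S.w (Sum.inl p.o0) (Sum.inr p.o1) 1))⁻¹ =
      (S.w (Sum.inl p.o0) (Sum.inr p.o1) 1)⁻¹ := by
  rw [model_Y02 S p φ hφ, phi_wE S φ hφ]
  have hab : (Sum.inl p.o0 : ι ⊕ ι) ≠ Sum.inr p.o2 := fun h => by cases h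
  have hab' : (Sum.inl p.o0 : ι ⊕ ι) ≠ ng (Sum.inr p.o2) := fun h => p.h02 (Sum.inl.inj h)
  have hcd : (Sum.inl p.o1 : ι ⊕ ι) ≠ Sum.inl p.o2 := fun h => p.h12 (Sum.inl.inj h)
  rw [ompm4_cj_w S hab hab' hcd]
  have e1 : sws (Sum.inl p.o0 : ι ⊕ ι) (Sum.inr p.o2) (Sum.inl p.o1) = Sum.inl p.o1 :=
    SysD.sws_of_ne (fun h => p.h01 (Sum.inl.inj h).symm) (fun h => by cases h)
      (fun h => by cases h) (fun h => p.h12 (Sum.inl.inj h))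
  have e2 : sws (Sum.inl p.o0 : ι ⊕ ι) (Sum.inr p.o2) (Sum.inl p.o2) = Sum.inr p.o0 :=
    SysD.stdx2_sws_nright hab'
  have e3 : dwd (Sum.inl p.o0 : ι ⊕ ι) (Sum.inr p.o2) (1 : K) (Sum.inl p.o1) = 1 :=
    stdw14_dwd_of_ne (fun h => p.h01 (Sum.inl.inj h).symm) (fun h => by cases h)
      (fun h => by cases h) (fun h => p.h12 (Sum.inl.inj h)) 1
  have e4 : dwd (Sum.inl p.o0 : ι ⊕ ι) (Sum.inr p.o2) (1 : K) (Sum.inl p.o2) = 1 := by
    have := stdw14_dwd_nb hab' (1 : K)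
    rw [inv_one] at this
    exact this
  rw [e1, e2, e3, e4, inv_one, mul_one]
  have hab2 : (Sum.inl p.o1 : ι ⊕ ι) ≠ Sum.inr p.o0 := fun h => by cases h
  have hab2' : (Sum.inl p.o1 : ι ⊕ ι) ≠ ng (Sum.inr p.o0) := fun h => p.h01 (Sum.inl.inj h).symm
  have h1 := S.w_sym hab2 hab2' (1 : K)
  rw [h1]
  exact S.w_neg (Sum.inl p.o0) (Sum.inr p.o1) 1

end M

end Cfsg.Agent.Lib.helper17.OMP
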