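import Mathlib
import Cfsg.Agent.Lib.helper17.SLP.Defs
import Cfsg.Agent.Lib.helper17.SL3.Defs
import Cfsg.Agent.Lib.helper4.SL3T1
import Cfsg.Agent.Lib.helper4.SL3T2

/-!
# Project SL3 (S2287, designer helper17), row T3 (`comm_all_of`).
-/

set_option autoImplicit false

namespace Cfsg.Agent.Lib.helper17.SL3

open Cfsg.Agent.Lib.helper17.SLP
open Polynomial

universe u v

variable {F : Type u} [Field F] {G : Type v} [Group G]

/-- T3 [S]  dep T2 (`t = 0`: `x 0 = 1`). -/
theorem comm_all_of (ζ : Fˣ) (hζ : ∀ y : Fˣ, y ∈ Subgroup.zpowers ζ) (x : F → G) (d w c : G)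
    (H : Hyp ζ x d w c) (g : G) (hd : Commute g d) (h1 : Commute g (x 1)) : ∀ t, Commute g (x t) := by
  intro t
  by_cases ht : t = 0
  · rw [ht, (hyp_basic ζ x d w c H).1]
    exact Commute.one_right g
  · obtain ⟨i, -, hxi⟩ := hyp_x_unit ζ hζ x d w c H t ht
    rw [hxi]
    exact ((hd.zpow_right i).mul_right h1).mul_right (hd.zpow_right (-i))

end Cfsg.Agent.Lib.helper17.SL3
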