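import Mathlib
import Cfsg.Agent.Lib.helper17.SLP.Defs
import Cfsg.Agent.Lib.helper17.SL3.Defs
import Cfsg.Agent.Lib.Helper9.SLPB4
import Cfsg.Agent.Lib.helper8.SLPB5
import Cfsg.Agent.Lib.Helper20.SLPF5

/-!
# Project SL3 (S2287, designer helper17), row A5 (`exists_x3`).

Self-contained: own-name copies `sl3a5_aeval_surj` (statement of A2) and `sl3a5_pw_X` (statement of A4),
so the row does not wait for A2 / A4; cites the landed SLP rows `exists_x_Q`, `exists_x_R`,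
`natDegree_minpoly_le_two`.
-/

set_option autoImplicit false

namespace Cfsg.Agent.Lib.helper17.SL3

open Cfsg.Agent.Lib.helper17.SLP
open Polynomial

universe u v

/-- (statement of A2) every element of `F` is a polynomial in a generator `ζ` of `Fˣ`. -/
theorem sl3a5_aeval_surj {F : Type*} [Field F] [Fintype F] (p : ℕ) [Fact p.Prime] [Algebra (ZMod p) F]
    (ζ : Fˣ) (hζ : ∀ y : Fˣ, y ∈ Subgroup.zpowers ζ) :
    Function.Surjective (fun f : (ZMod p)[X] => aeval (ζ : F) f) := by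
  intro y
  by_cases hy : y = 0
  · exact ⟨0, by simp [hy]⟩
  · obtain ⟨i, hi⟩ := Subgroup.mem_zpowers_iff.mp (hζ (Units.mk0 y hy))
    have hpos : 0 < orderOf ζ := orderOf_pos ζ
    have hmod : ζ ^ (i % (orderOf ζ : ℤ)) = ζ ^ i := zpow_mod_orderOf ζ i
    have hnn : 0 ≤ i % (orderOf ζ : ℤ) := Int.emod_nonneg _ (by exact_mod_cast hpos.ne')
    obtain ⟨n, hn⟩ := Int.eq_ofNat_of_zero_le hnn
    rw [hn, zpow_natCast] at hmod
    refine ⟨X ^ n, ?_⟩
    show aeval (ζ : F) (X ^ n) = y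
    rw [map_pow, aeval_X, ← Units.val_pow_eq_pow_val, hmod, hi]
    rfl

/-- (statement of A4) the word of `X`. -/
theorem sl3a5_pw_X {G : Type*} [Group G] (p : ℕ) [Fact p.Prime] (h u : G) (l : ℤ) :
    pw p h u l (X : (ZMod p)[X]) = cj h u l := by
  unfold pw
  rw [natDegree_X]
  have h1 : ((1 : ZMod p)).val = 1 := ZMod.val_one p
  simp [List.range_succ, coeff_X, h1]

/-- A5 [M]  deps A2 A4 + SLP `exists_x_Q`, `exists_x_R`, `natDegree_minpoly_le_two`.  First case: `exists_x_Q` (`lam = ζ`, `hdeg` by F5).  Second case: `exists_x_R` with `l = 1`, `lam = mu = ζ`, `fl = X` (`a5` is `pw_X`). -/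
theorem exists_x3 {G : Type*} [Group G] {F : Type*} [Field F] [Fintype F] (p : ℕ) [Fact p.Prime]
    [Algebra (ZMod p) F] (ζ : Fˣ) (hζ : ∀ y : Fˣ, y ∈ Subgroup.zpowers ζ) (u d : G)
    (a1 : u ^ p = 1) (a2 : Commute u (cj d u 1))
    (a4 : pw p d u 1 (minpoly (ZMod p) (ζ : F)) = 1)
    (a3 : Fintype.card F < p ^ 3 ∨ ∃ k : ℤ, (ζ : F) ^ k = (ζ : F) + 1 ∧ cj d u k = cj d u 1 * u) :
    ∃ x : F → G, (∀ s t, x (s + t) = x s * x t) ∧ (∀ t, d * x t * d⁻¹ = x ((ζ : F) * t)) ∧ x 1 = u := by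
  have hsurj := sl3a5_aeval_surj p ζ hζ
  rcases a3 with hq | ⟨k, hk, hk3⟩
  · obtain ⟨x, h1, h2, h3, -⟩ := exists_x_Q p u d (ζ : F) hsurj
      (natDegree_minpoly_le_two p hq (ζ : F)) a1 a2 a4
    exact ⟨x, h1, h2, h3⟩
  · obtain ⟨x, h1, h2, h3, -⟩ := exists_x_R p u d k 1 (ζ : F) (ζ : F) (Units.ne_zero ζ)
      (zpow_one (ζ : F)).symm hk X (aeval_X (ζ : F)) hsurj a1 a2 hk3 a4 (sl3a5_pw_X p d u 1).symm
    exact ⟨x, h1, h2, h3⟩

end Cfsg.Agent.Lib.helper17.SL3
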