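import Cfsg.Agent.Lib.Helper1.PLK.Defs

set_option autoImplicit false

namespace Cfsg.Agent.Lib.Helper1.PLK

open Polynomial
open Cfsg.Agent.Lib.Helper29.GLK
open Cfsg.Agent.Lib.Helper1.SLK

universe u

/-- an `F[X]`-linear equivalence maps the kernel of `a •` onto the kernel of `a •` -/
theorem plku4b_map_ker {F : Type u} [Field F] {M N : Type*} [AddCommGroup M] [Module F M]
    [Module F[X] M] [IsScalarTower F F[X] M] [AddCommGroup N] [Module F N] [Module F[X] N]
    [IsScalarTower F F[X] N] (Φ : M ≃ₗ[F[X]] N) (a : F[X]) :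
    (LinearMap.ker (sm a M)).map ((Φ.restrictScalars F : M ≃ₗ[F] N) : M →ₗ[F] N) =
      LinearMap.ker (sm a N) := by
  ext y
  rw [Submodule.mem_map, LinearMap.mem_ker, sm_apply]
  constructor
  · rintro ⟨x, hx, rfl⟩
    rw [LinearMap.mem_ker, sm_apply] at hx
    show a • Φ x = 0
    rw [← map_smul, hx, map_zero]
  · intro hy
    refine ⟨Φ.symm y, ?_, ?_⟩
    · rw [LinearMap.mem_ker, sm_apply, ← map_smul, hy, map_zero]
    · show Φ (Φ.symm y) = y
      exact Φ.apply_symm_apply y

/-- U4b [S-M] an `F[X]`-linear equivalence maps the kernel of `a •` onto the kernel of `a •`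
(`LinearEquiv.finrank_eq`, `Submodule.equivMapOfInjective` / `LinearEquiv.ofSubmodules`). -/
theorem finrank_ker_congr {F : Type u} [Field F] {M N : Type*} [AddCommGroup M] [Module F M]
    [Module F[X] M] [IsScalarTower F F[X] M] [AddCommGroup N] [Module F N] [Module F[X] N]
    [IsScalarTower F F[X] N] (Φ : M ≃ₗ[F[X]] N) (a : F[X]) :
    Module.finrank F (LinearMap.ker (sm a M)) = Module.finrank F (LinearMap.ker (sm a N)) :=
  LinearEquiv.finrank_eq
    (LinearEquiv.ofSubmodules (Φ.restrictScalars F : M ≃ₗ[F] N) (LinearMap.ker (sm a M))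
      (LinearMap.ker (sm a N)) (plku4b_map_ker Φ a))

end Cfsg.Agent.Lib.Helper1.PLK
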