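import Mathlib
import Cfsg.Prelude.Def_LocalEven
import Cfsg.Prelude.Def_Solvable

set_option autoImplicit false

namespace Cfsg.Agent.Lib.helper15.Qd

open Matrix

variable (F : Type*) [Field F]

def aff : Subgroup (SpecialLinearGroup (Fin 3) F) where
  carrier := {M | M.1 2 0 = 0 ∧ M.1 2 1 = 0 ∧ M.1 2 2 = 1}
  one_mem' := by simp
  mul_mem' := by
    rintro A B ⟨a0, a1, a2⟩ ⟨b0, b1, b2⟩
    refine ⟨?_, ?_, ?_⟩ <;>
      simp [SpecialLinearGroup.coe_mul, Matrix.mul_apply, Fin.sum_univ_three, a0, a1, a2, b0, b1, b2]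
  inv_mem' := by
    rintro A ⟨a0, a1, a2⟩
    have h : A.1 * (A⁻¹).1 = 1 := by
      show (A * A⁻¹).1 = 1
      rw [mul_inv_cancel]; rfl
    have h0 := congrFun (congrFun h 2) 0
    have h1 := congrFun (congrFun h 2) 1
    have h2 := congrFun (congrFun h 2) 2
    simp only [Matrix.mul_apply, Fin.sum_univ_three, a0, a1, a2, zero_mul, zero_add, one_mul] at h0 h1 h2
    refine ⟨?_, ?_, ?_⟩
    · simpa using h0
    · simpa using h1
    · simpa using h2

lemma qdOver_eq : Cfsg.qdOver F = aff F := by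
  unfold Cfsg.qdOver
  exact Subgroup.closure_eq (aff F)

variable {F}

lemma mem_qdOver_iff (M : SpecialLinearGroup (Fin 3) F) :
    M ∈ Cfsg.qdOver F ↔ M.1 2 0 = 0 ∧ M.1 2 1 = 0 ∧ M.1 2 2 = 1 := by
  rw [qdOver_eq]; rfl

lemma row (M : ↥(Cfsg.qdOver F)) : M.1.1 2 0 = 0 ∧ M.1.1 2 1 = 0 ∧ M.1.1 2 2 = 1 :=
  (mem_qdOver_iff M.1).1 M.2

lemma mul_apply' (A B : ↥(Cfsg.qdOver F)) (i j : Fin 3) :
    (A * B).1.1 i j = A.1.1 i 0 * B.1.1 0 j + A.1.1 i 1 * B.1.1 1 j + A.1.1 i 2 * B.1.1 2 j := by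
  show (A.1.1 * B.1.1) i j = _
  rw [Matrix.mul_apply, Fin.sum_univ_three]

lemma ext' {A B : ↥(Cfsg.qdOver F)} (h : ∀ i j, A.1.1 i j = B.1.1 i j) : A = B := by
  apply Subtype.ext
  apply Subtype.ext
  ext i j
  exact h i j

variable (F)

def blk : ↥(Cfsg.qdOver F) →* SpecialLinearGroup (Fin 2) F where
  toFun M := ⟨!![M.1.1 0 0, M.1.1 0 1; M.1.1 1 0, M.1.1 1 1], by
    obtain ⟨r0, r1, r2⟩ := row M
    have hd := M.1.2
    rw [Matrix.det_fin_three, r0, r1, r2] at hd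
    rw [Matrix.det_fin_two_of]
    linear_combination hd⟩
  map_one' := by
    apply Subtype.ext
    ext i j
    fin_cases i <;> fin_cases j <;> simp
  map_mul' A B := by
    obtain ⟨b0, b1, b2⟩ := row B
    apply Subtype.ext
    show !![(A * B).1.1 0 0, (A * B).1.1 0 1; (A * B).1.1 1 0, (A * B).1.1 1 1] =
      !![A.1.1 0 0, A.1.1 0 1; A.1.1 1 0, A.1.1 1 1] * !![B.1.1 0 0, B.1.1 0 1; B.1.1 1 0, B.1.1 1 1]
    ext i j
    fin_cases i <;> fin_cases j <;>
      simp [mul_apply', Matrix.mul_apply, Fin.sum_univ_two, Fin.sum_univ_three, b0, b1]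

variable {F}

lemma blk_apply (M : ↥(Cfsg.qdOver F)) :
    (blk F M).1 = !![M.1.1 0 0, M.1.1 0 1; M.1.1 1 0, M.1.1 1 1] := rfl

def mk (A : SpecialLinearGroup (Fin 2) F) (v : Fin 2 → F) : ↥(Cfsg.qdOver F) :=
  ⟨⟨!![A.1 0 0, A.1 0 1, v 0; A.1 1 0, A.1 1 1, v 1; 0, 0, 1], by
    have := A.2
    rw [Matrix.det_fin_two] at this
    rw [Matrix.det_fin_three]
    simp
    linear_combination this⟩, (mem_qdOver_iff _).2 (by simp)⟩

lemma mk_apply (A : SpecialLinearGroup (Fin 2) F) (v : Fin 2 → F) :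
    (mk A v).1.1 = !![A.1 0 0, A.1 0 1, v 0; A.1 1 0, A.1 1 1, v 1; 0, 0, 1] := rfl

lemma blk_mk (A : SpecialLinearGroup (Fin 2) F) (v : Fin 2 → F) : blk F (mk A v) = A := by
  apply Subtype.ext
  ext i j
  fin_cases i <;> fin_cases j <;> simp [blk_apply, mk_apply]

lemma blk_surjective : Function.Surjective (blk F) := fun A => ⟨mk A 0, blk_mk A 0⟩

def vec (M : ↥(Cfsg.qdOver F)) : Fin 2 → F := ![M.1.1 0 2, M.1.1 1 2]

lemma vec_mk (A : SpecialLinearGroup (Fin 2) F) (v : Fin 2 → F) : vec (mk A v) = v := by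
  ext i
  fin_cases i <;> simp [vec, mk_apply]

lemma mk_blk_vec (M : ↥(Cfsg.qdOver F)) : mk (blk F M) (vec M) = M := by
  obtain ⟨r0, r1, r2⟩ := row M
  apply ext'
  intro i j
  fin_cases i <;> fin_cases j <;> simp [mk_apply, blk_apply, vec, r0, r1, r2]

lemma mk_mul (A B : SpecialLinearGroup (Fin 2) F) (v w : Fin 2 → F) :
    mk A v * mk B w = mk (A * B) ((A : Matrix (Fin 2) (Fin 2) F).mulVec w + v) := by
  apply ext'
  intro i j
  rw [mul_apply']
  fin_cases i <;> fin_cases j <;>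
    simp [mk_apply, SpecialLinearGroup.coe_mul, Matrix.mul_apply, Fin.sum_univ_two, Matrix.mulVec,
      dotProduct, Matrix.vecHead, Matrix.vecTail]

lemma one_mulVec' (w : Fin 2 → F) :
    ((1 : SpecialLinearGroup (Fin 2) F) : Matrix (Fin 2) (Fin 2) F).mulVec w = w := by
  show (1 : Matrix (Fin 2) (Fin 2) F).mulVec w = w
  exact Matrix.one_mulVec w

lemma mk_one_zero : mk (1 : SpecialLinearGroup (Fin 2) F) 0 = 1 := by
  apply ext'
  intro i j
  fin_cases i <;> fin_cases j <;> simp [mk_apply]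

lemma mk_injective {A B : SpecialLinearGroup (Fin 2) F} {v w : Fin 2 → F} (h : mk A v = mk B w) :
    A = B ∧ v = w := by
  constructor
  · rw [← blk_mk A v, ← blk_mk B w, h]
  · rw [← vec_mk A v, ← vec_mk B w, h]

lemma mem_ker_blk_iff (M : ↥(Cfsg.qdOver F)) :
    M ∈ (blk F).ker ↔ M.1.1 0 0 = 1 ∧ M.1.1 0 1 = 0 ∧ M.1.1 1 0 = 0 ∧ M.1.1 1 1 = 1 := by
  rw [MonoidHom.mem_ker]
  constructor
  · intro h
    have h' := congrArg (fun z : SpecialLinearGroup (Fin 2) F => z.1) h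
    simp only [blk_apply, SpecialLinearGroup.coe_one] at h'
    have e00 := congrFun (congrFun h' 0) 0
    have e01 := congrFun (congrFun h' 0) 1
    have e10 := congrFun (congrFun h' 1) 0
    have e11 := congrFun (congrFun h' 1) 1
    simp at e00 e01 e10 e11
    exact ⟨e00, e01, e10, e11⟩
  · rintro ⟨e00, e01, e10, e11⟩
    apply Subtype.ext
    ext i j
    fin_cases i <;> fin_cases j <;> simp [blk_apply, e00, e01, e10, e11]

lemma mem_ker_blk_iff' (M : ↥(Cfsg.qdOver F)) :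
    M ∈ (blk F).ker ↔ M = mk 1 (vec M) := by
  constructor
  · intro h
    rw [MonoidHom.mem_ker] at h
    conv_lhs => rw [← mk_blk_vec M, h]
  · intro h
    rw [MonoidHom.mem_ker, h, blk_mk]


section Core

variable {p : ℕ} [Fact p.Prime] [CharP F p]

lemma trace_of_pelt (n : SpecialLinearGroup (Fin 2) F) (k : ℕ) (h : n ^ (p ^ k) = 1) :
    n.1 0 0 + n.1 1 1 = 2 := by
  have h1 : n.1 ^ (p ^ k) = 1 := by
    have := congrArg (fun z : SpecialLinearGroup (Fin 2) F => (z : Matrix (Fin 2) (Fin 2) F)) h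
    simpa using this
  have h2 : (n.1 - 1) ^ (p ^ k) = 0 := by
    rw [sub_pow_char_pow_of_commute _ _ (Commute.one_right _), h1, one_pow, sub_self]
  have h3 : IsNilpotent (n.1 - 1) := ⟨p ^ k, h2⟩
  have h4 := Matrix.isNilpotent_trace_of_isNilpotent h3
  have h5 : (n.1 - 1).trace = 0 := h4.eq_zero
  rw [Matrix.trace_sub, Matrix.trace_fin_two, Matrix.trace_one] at h5
  simp at h5
  linear_combination h5

lemma conj_coe (g m : SpecialLinearGroup (Fin 2) F) (a b c d : F) (hg : g.1 = !![a, b; c, d]) :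
    (g * m * g⁻¹).1 = !![a, b; c, d] * m.1 * !![d, -b; -c, a] := by
  have h1 : (g⁻¹).1 = adjugate g.1 := Matrix.SpecialLinearGroup.coe_inv g
  show g.1 * m.1 * (g⁻¹).1 = _
  rw [h1, Matrix.adjugate_fin_two, hg]
  simp

lemma normal_pgroup_trivial (N : Subgroup (SpecialLinearGroup (Fin 2) F)) [N.Normal]
    (hN : IsPGroup p N) : N = ⊥ := by
  have htr : ∀ m ∈ N, m.1 0 0 + m.1 1 1 = 2 := by
    intro m hm
    obtain ⟨k, hk⟩ := hN ⟨m, hm⟩
    have : m ^ (p ^ k) = 1 := by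
      have := congrArg Subtype.val hk
      simpa using this
    exact trace_of_pelt m k this
  have hconj : ∀ (g : SpecialLinearGroup (Fin 2) F), ∀ m ∈ N, g * m * g⁻¹ ∈ N :=
    fun g m hm => Subgroup.Normal.conj_mem inferInstance m hm g
  obtain ⟨w, hw⟩ : ∃ w : SpecialLinearGroup (Fin 2) F, w.1 = !![0, 1; -1, 0] :=
    ⟨⟨!![0, 1; -1, 0], by simp [Matrix.det_fin_two_of]⟩, rfl⟩
  obtain ⟨u, hu⟩ : ∃ u : SpecialLinearGroup (Fin 2) F, u.1 = !![1, 1; 0, 1] :=
    ⟨⟨!![1, 1; 0, 1], by simp [Matrix.det_fin_two_of]⟩, rfl⟩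
  obtain ⟨v, hv⟩ : ∃ v : SpecialLinearGroup (Fin 2) F, v.1 = !![1, 0; 1, 1] :=
    ⟨⟨!![1, 0; 1, 1], by simp [Matrix.det_fin_two_of]⟩, rfl⟩
  have hsym : ∀ m ∈ N, m.1 0 1 = m.1 1 0 := by
    intro m hm
    have h1 := htr _ (N.mul_mem hm (hconj w m hm))
    have hd := m.2
    rw [Matrix.det_fin_two] at hd
    have e : (m * (w * m * w⁻¹)).1 = m.1 * (w * m * w⁻¹).1 := rfl
    rw [e, conj_coe w m _ _ _ _ hw] at h1
    simp only [Matrix.mul_apply, Fin.sum_univ_two, Matrix.of_apply, Matrix.cons_val',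
      Matrix.cons_val_zero, Matrix.cons_val_one, Matrix.empty_val', Matrix.cons_val_fin_one] at h1
    have : (m.1 0 1 - m.1 1 0) ^ 2 = 0 := by linear_combination -h1 + 2 * hd
    exact sub_eq_zero.mp (pow_eq_zero_iff (by norm_num) |>.mp this)
  rw [eq_bot_iff]
  intro m hm
  rw [Subgroup.mem_bot]
  have h0 := hsym m hm
  have h1 := hsym _ (hconj u m hm)
  have h2 := hsym _ (hconj v m hm)
  have ht := htr m hm
  have hd := m.2
  rw [Matrix.det_fin_two] at hd
  rw [conj_coe u m _ _ _ _ hu] at h1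
  rw [conj_coe v m _ _ _ _ hv] at h2
  simp only [Matrix.mul_apply, Fin.sum_univ_two, Matrix.of_apply, Matrix.cons_val',
      Matrix.cons_val_zero, Matrix.cons_val_one, Matrix.empty_val', Matrix.cons_val_fin_one] at h1 h2
  have e1 : 2 * m.1 1 0 = 0 := by linear_combination (-1) * h1 + h2 - h0
  have e2 : m.1 0 0 - m.1 1 1 = m.1 1 0 := by linear_combination (-1) * h2 + 2 * h0
  have hc2 : m.1 1 0 ^ 2 = 0 := by
    linear_combination (m.1 0 0 + m.1 1 1 + 2) * ht - (m.1 0 0 - m.1 1 1 + m.1 1 0) * e2 - 4 * hd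
      - 4 * m.1 1 0 * h0 - 2 * m.1 1 0 * e1
  have hc : m.1 1 0 = 0 := pow_eq_zero_iff (by norm_num) |>.mp hc2
  have hb : m.1 0 1 = 0 := by rw [h0, hc]
  have had : m.1 0 0 = m.1 1 1 := by rw [hc] at e2; exact sub_eq_zero.mp e2
  have ha2 : (m.1 0 0 - 1) ^ 2 = 0 := by
    rw [hb, hc, ← had] at hd
    rw [← had] at ht
    linear_combination hd - ht
  have ha : m.1 0 0 = 1 := sub_eq_zero.mp (pow_eq_zero_iff (by norm_num) |>.mp ha2)
  apply Subtype.ext
  ext i j
  fin_cases i <;> fin_cases j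
  · simpa using ha
  · simpa using hb
  · simpa using hc
  · simpa using (had ▸ ha)

lemma vec_mul_of_ker {M N : ↥(Cfsg.qdOver F)} (hM : M ∈ (blk F).ker) (hN : N ∈ (blk F).ker) :
    vec (M * N) = vec M + vec N := by
  rw [mem_ker_blk_iff'] at hM hN
  conv_lhs => rw [hM, hN, mk_mul, vec_mk]
  rw [one_mulVec', add_comm]

lemma eq_of_vec_eq {M N : ↥(Cfsg.qdOver F)} (hM : M ∈ (blk F).ker) (hN : N ∈ (blk F).ker)
    (h : vec M = vec N) : M = N := by
  rw [mem_ker_blk_iff'] at hM hN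
  rw [hM, hN, h]

lemma mk_one_mem_ker (v : Fin 2 → F) : mk 1 v ∈ (blk F).ker := by
  rw [MonoidHom.mem_ker, blk_mk]

def kerVec : ↥((blk F).ker) →* Multiplicative (Fin 2 → F) where
  toFun M := Multiplicative.ofAdd (vec M.1)
  map_one' := by
    have : vec (1 : ↥(Cfsg.qdOver F)) = 0 := by
      rw [← mk_one_zero, vec_mk]
    show Multiplicative.ofAdd (vec (1 : ↥(Cfsg.qdOver F))) = 1
    rw [this]; rfl
  map_mul' M N := by
    show Multiplicative.ofAdd (vec (M.1 * N.1)) = _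
    rw [vec_mul_of_ker M.2 N.2]; rfl

lemma kerVec_injective : Function.Injective (kerVec (F := F)) := by
  intro M N h
  apply Subtype.ext
  exact eq_of_vec_eq M.2 N.2 (Multiplicative.ofAdd.injective h)

lemma isPGroup_mult : IsPGroup p (Multiplicative (Fin 2 → F)) := by
  intro g
  refine ⟨1, ?_⟩
  rw [pow_one]
  show Multiplicative.ofAdd (p • Multiplicative.toAdd g) = 1
  have : p • Multiplicative.toAdd g = 0 := by
    ext i
    simp [CharP.cast_eq_zero F p]
  rw [this]; rfl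

lemma isPGroup_ker : IsPGroup p ↥((blk F).ker) :=
  IsPGroup.of_injective (isPGroup_mult (F := F) (p := p)) kerVec kerVec_injective

lemma pCore_eq : Cfsg.pCore p ↥(Cfsg.qdOver F) = (blk F).ker := by
  unfold Cfsg.pCore
  apply le_antisymm
  · apply sSup_le
    rintro N ⟨hNn, hNp⟩
    have h1 : (N.map (blk F)).Normal := Subgroup.Normal.map hNn (blk F) blk_surjective
    have h2 : IsPGroup p ↥(N.map (blk F)) := hNp.map (blk F)
    have h3 := normal_pgroup_trivial (p := p) (N.map (blk F)) h2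
    exact (Subgroup.map_eq_bot_iff N).mp h3
  · apply le_sSup
    exact ⟨MonoidHom.normal_ker _, isPGroup_ker⟩

end Core

def emb : SpecialLinearGroup (Fin 2) F →* ↥(Cfsg.qdOver F) where
  toFun A := mk A 0
  map_one' := mk_one_zero
  map_mul' A B := by
    rw [mk_mul, Matrix.mulVec_zero, add_zero]

lemma emb_apply (A : SpecialLinearGroup (Fin 2) F) : emb A = mk A 0 := rfl

lemma emb_injective : Function.Injective (emb (F := F)) := by
  intro A B h
  exact (mk_injective h).1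

lemma mem_range_emb_iff (M : ↥(Cfsg.qdOver F)) :
    M ∈ (emb (F := F)).range ↔ M.1.1 0 2 = 0 ∧ M.1.1 1 2 = 0 := by
  constructor
  · rintro ⟨A, rfl⟩
    simp [emb_apply, mk_apply]
  · rintro ⟨h0, h1⟩
    refine ⟨blk F M, ?_⟩
    rw [emb_apply]
    conv_rhs => rw [← mk_blk_vec M]
    congr 1
    ext i
    fin_cases i <;> simp [vec, h0, h1]

lemma mem_range_emb_iff' (M : ↥(Cfsg.qdOver F)) :
    M ∈ (emb (F := F)).range ↔ M = mk (blk F M) 0 := by
  constructor
  · rintro ⟨A, rfl⟩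
    rw [emb_apply, blk_mk]
  · intro h
    exact ⟨blk F M, h.symm⟩

lemma inf_eq_bot : (emb (F := F)).range ⊓ (blk F).ker = ⊥ := by
  rw [eq_bot_iff]
  rintro M ⟨h1, h2⟩
  rw [Subgroup.mem_bot]
  have h1' := (mem_range_emb_iff' M).1 h1
  have h2' : blk F M = 1 := h2
  rw [h1', h2', mk_one_zero]

lemma sup_eq_top : (emb (F := F)).range ⊔ (blk F).ker = ⊤ := by
  rw [eq_top_iff]
  intro M _
  have : M = mk 1 (vec M) * mk (blk F M) 0 := by
    rw [mk_mul, one_mul, one_mulVec', zero_add, mk_blk_vec]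
  rw [this]
  exact Subgroup.mul_mem _ (Subgroup.mem_sup_right (by rw [MonoidHom.mem_ker, blk_mk]))
    (Subgroup.mem_sup_left ⟨blk F M, rfl⟩)

lemma mulVec_eq_self_imp (A : SpecialLinearGroup (Fin 2) F)
    (h : ∀ w : Fin 2 → F, (A : Matrix (Fin 2) (Fin 2) F).mulVec w = w) : A = 1 := by
  apply Subtype.ext
  ext i j
  have := congrFun (h (Pi.single j 1)) i
  rw [Matrix.mulVec_single_one] at this
  simpa [Matrix.one_apply, Pi.single_apply, eq_comm] using this

end Cfsg.Agent.Lib.helper15.Qd
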