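import Mathlib
import Cfsg.Agent.Lib.helper7.REE.Defs

/-! Project REE (designer helper7), block LA, row LAA `la_irr_deg` (helper15). -/

set_option autoImplicit false

namespace Cfsg.Agent.Lib.helper7.REE

open Matrix Polynomial Cfsg.Agent.Lib.helper8

universe u v

section LA

variable {K : Type v} [Field K] [Fintype K]

/-- `(Q ^ i : ZMod l) = 1 ↔ l ∣ Q ^ i - 1` -/
theorem reelaa_cast (l Q i : ℕ) (hQ : 1 ≤ Q) : ((Q : ZMod l) ^ i = 1) ↔ l ∣ Q ^ i - 1 := by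
  have h1 : 1 ≤ Q ^ i := Nat.one_le_pow _ _ hQ
  have h2 : ((Q : ZMod l) ^ i = 1) ↔ ((Q ^ i : ℕ) : ZMod l) = ((1 : ℕ) : ZMod l) := by
    push_cast
    rfl
  rw [h2, ZMod.natCast_eq_natCast_iff]
  constructor
  · intro h
    exact (Nat.modEq_iff_dvd' h1).mp h.symm
  · intro h
    exact ((Nat.modEq_iff_dvd' h1).mpr h).symm

/-- LAA. An irreducible factor of `X^l - 1` other than `X - 1` has degree 6. -/
theorem la_irr_deg (l : ℕ) (hl : l.Prime) (h6 : l ∣ Fintype.card K ^ 6 - 1)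
    (hmin : ∀ i, 0 < i → i < 6 → ¬ l ∣ Fintype.card K ^ i - 1) (hlK : ¬ l ∣ Fintype.card K)
    (p : K[X]) (hp : Irreducible p) (hpd : p ∣ X ^ l - 1) (hp1 : ¬ p ∣ X - 1) :
    p.natDegree = 6 := by
  obtain ⟨p₀, hp₀⟩ := CharP.exists K
  haveI : Fact p₀.Prime := ⟨CharP.char_is_prime K p₀⟩
  obtain ⟨f, -, hcard⟩ := FiniteField.card K p₀
  have hf : (f : ℕ) ≠ 0 := f.ne_zero
  have hcop : p₀.Coprime l := by
    rw [Nat.coprime_primes (Fact.out : p₀.Prime) hl]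
    rintro rfl
    apply hlK
    rw [hcard]
    exact dvd_pow_self _ hf
  haveI : Fact l.Prime := ⟨hl⟩
  have hcyc : p ∣ cyclotomic l K := by
    have h1 : cyclotomic l K * (X - 1) = X ^ l - 1 := cyclotomic_prime_mul_X_sub_one K l
    rw [← h1] at hpd
    rcases hp.prime.dvd_or_dvd hpd with h | h
    · exact h
    · exact absurd h hp1
  rw [natDegree_of_dvd_cyclotomic_of_irreducible hcard hcop hcyc hp]
  have hQ1 : 1 ≤ Fintype.card K := Fintype.card_pos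
  have hu : ∀ i : ℕ, (ZMod.unitOfCoprime (p₀ ^ (f : ℕ)) (hcop.pow_left f)) ^ i = 1 ↔
      l ∣ Fintype.card K ^ i - 1 := by
    intro i
    rw [← reelaa_cast l _ i hQ1, ← Units.val_inj, Units.val_pow_eq_pow_val, ZMod.coe_unitOfCoprime,
      Units.val_one, hcard]
  rw [orderOf_eq_iff (by norm_num)]
  refine ⟨(hu 6).mpr h6, ?_⟩
  intro i hi6 hi0 h
  exact hmin i hi0 hi6 ((hu i).mp h)

end LA

end Cfsg.Agent.Lib.helper7.REE
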