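import Mathlib
import Cfsg.Agent.Lib.helper7.REE.Defs
import Cfsg.Agent.Lib.helper15.REELAA

/-! Project REE (designer helper7), block LA, row LAB `la_decomp` (helper15). -/

set_option autoImplicit false

namespace Cfsg.Agent.Lib.helper7.REE

open Matrix Polynomial Cfsg.Agent.Lib.helper8

universe u v

section LA

variable {K : Type v} [Field K] [Fintype K]

/-- counting fixed points of an endomorphism of prime order `l` of a finite vector space -/
theorem reelab_count {V : Type*} [AddCommGroup V] [Module K V] [FiniteDimensional K V]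
    (l : ℕ) (hl : l.Prime) (f : V →ₗ[K] V) (hf : f ^ l = 1) :
    Fintype.card K ^ Module.finrank K V ≡
      Fintype.card K ^ Module.finrank K (LinearMap.ker (f - 1)) [MOD l] := by
  classical
  have : Fact l.Prime := ⟨hl⟩
  have : Finite V := Module.finite_of_finite K
  have hl1 : 1 ≤ l := hl.one_lt.le
  let u : (Module.End K V)ˣ := ⟨f, f ^ (l - 1), by rw [← pow_succ', Nat.sub_add_cancel hl1, hf],
    by rw [← pow_succ, Nat.sub_add_cancel hl1, hf]⟩
  have hul : u ^ l = 1 := by
    apply Units.ext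
    rw [Units.val_pow_eq_pow_val]
    exact hf
  have hP : IsPGroup l (Subgroup.zpowers u) := by
    have hdvd : orderOf u ∣ l ^ 1 := by rw [pow_one]; exact orderOf_dvd_of_pow_eq_one hul
    obtain ⟨k, -, hk⟩ := (Nat.dvd_prime_pow hl).mp hdvd
    exact IsPGroup.of_card (n := k) (by rw [Nat.card_zpowers, hk])
  have key := hP.card_modEq_card_fixedPoints V
  have hfix : Nat.card (MulAction.fixedPoints (Subgroup.zpowers u) V) =
      Nat.card (LinearMap.ker (f - 1)) := by
    apply Nat.card_congr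
    apply Equiv.subtypeEquivRight
    intro v
    rw [MulAction.mem_fixedPoints, LinearMap.mem_ker, LinearMap.sub_apply, sub_eq_zero]
    constructor
    · intro h
      exact h ⟨u, Subgroup.mem_zpowers u⟩
    · intro h g
      have hle : Subgroup.zpowers u ≤ MulAction.stabilizer (Module.End K V)ˣ v := by
        rw [Subgroup.zpowers_le, MulAction.mem_stabilizer_iff]
        exact h
      exact MulAction.mem_stabilizer_iff.mp (hle g.2)
  have hc1 : Nat.card V = Fintype.card K ^ Module.finrank K V := by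
    rw [Module.natCard_eq_pow_finrank (K := K) (V := V), Nat.card_eq_fintype_card]
  have hc2 : Nat.card (LinearMap.ker (f - 1)) =
      Fintype.card K ^ Module.finrank K (LinearMap.ker (f - 1)) := by
    rw [Module.natCard_eq_pow_finrank (K := K) (V := LinearMap.ker (f - 1)), Nat.card_eq_fintype_card]
  rw [hfix, hc1, hc2] at key
  exact key

/-- the arithmetic: `Q^7 ≡ Q^e (mod l)`, `e < 7`, `ord_l(Q) = 6` force `e = 1` -/
theorem reelab_dim (l Q : ℕ) (hl : l.Prime) (hQ : 1 ≤ Q) (h6 : l ∣ Q ^ 6 - 1)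
    (hmin : ∀ i, 0 < i → i < 6 → ¬ l ∣ Q ^ i - 1) (hlK : ¬ l ∣ Q) (e : ℕ) (he : e < 7)
    (h : Q ^ 7 ≡ Q ^ e [MOD l]) : e = 1 := by
  obtain ⟨j, hj⟩ : ∃ j, 7 = e + j := ⟨7 - e, by omega⟩
  have hcop : Nat.Coprime l (Q ^ e) := Nat.Coprime.pow_right _ ((Nat.Prime.coprime_iff_not_dvd hl).mpr hlK)
  have h1 : Q ^ e * Q ^ j ≡ Q ^ e * 1 [MOD l] := by
    rw [← pow_add, ← hj, mul_one]; exact h
  have h2 : Q ^ j ≡ 1 [MOD l] := Nat.ModEq.cancel_left_of_coprime hcop h1
  have hj1 : 1 ≤ Q ^ j := Nat.one_le_pow _ _ hQ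
  have h3 : l ∣ Q ^ j - 1 := (Nat.modEq_iff_dvd' hj1).mp h2.symm
  have hjle : j ≤ 7 := by omega
  have hj0 : 0 < j := by omega
  by_cases hj6 : j < 6
  · exact absurd h3 (hmin j hj0 hj6)
  · by_cases hj7 : j = 7
    · exfalso
      subst hj7
      have h61 : 1 ≤ Q ^ 6 := Nat.one_le_pow _ _ hQ
      have h4 : Q ^ 7 - 1 = Q * (Q ^ 6 - 1) + (Q ^ 1 - 1) := by
        have : Q ^ 7 = Q * Q ^ 6 := by ring
        rw [this, pow_one, Nat.mul_sub, mul_one]
        have h5 : Q ≤ Q * Q ^ 6 := Nat.le_mul_of_pos_right _ (by omega)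
        omega
      rw [h4] at h3
      have h5 : l ∣ Q ^ 1 - 1 := (Nat.dvd_add_right (dvd_mul_of_dvd_right h6 Q)).mp h3
      exact hmin 1 (by norm_num) (by norm_num) h5
    · omega

/-- LAB. -/
theorem la_decomp (l : ℕ) (hl : l.Prime) (h6 : l ∣ Fintype.card K ^ 6 - 1)
    (hmin : ∀ i, 0 < i → i < 6 → ¬ l ∣ Fintype.card K ^ i - 1) (hlK : ¬ l ∣ Fintype.card K)
    {V : Type*} [AddCommGroup V] [Module K V] [FiniteDimensional K V]
    (hV : Module.finrank K V = 7) (f : V →ₗ[K] V) (hf : f ^ l = 1) (hf1 : f ≠ 1) :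
    ∃ p : K[X], Irreducible p ∧ p.Monic ∧ p.natDegree = 6 ∧
      Module.finrank K (LinearMap.ker (f - 1)) = 1 ∧
      Module.finrank K (LinearMap.ker (aeval f p)) = 6 ∧
      IsCompl (LinearMap.ker (f - 1)) (LinearMap.ker (aeval f p)) := by
  classical
  have hQ1 : 1 ≤ Fintype.card K := Fintype.card_pos
  -- `dim ker (f - 1) = 1`
  have hle7 : Module.finrank K (LinearMap.ker (f - 1)) ≤ 7 := by
    rw [← hV]; exact Submodule.finrank_le _
  have hne7 : Module.finrank K (LinearMap.ker (f - 1)) ≠ 7 := by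
    intro h
    apply hf1
    have htop : LinearMap.ker (f - 1) = ⊤ := by
      apply Submodule.eq_top_of_finrank_eq
      rw [h, hV]
    have : f - 1 = 0 := LinearMap.ker_eq_top.mp htop
    exact sub_eq_zero.mp this
  have hcnt := reelab_count l hl f hf
  rw [hV] at hcnt
  have he1 : Module.finrank K (LinearMap.ker (f - 1)) = 1 :=
    reelab_dim l _ hl hQ1 h6 hmin hlK _ (by omega) hcnt
  -- `(l : K) ≠ 0`
  have hlK' : (l : K) ≠ 0 := by
    obtain ⟨p₀, hp₀⟩ := CharP.exists K
    intro h0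
    rw [CharP.cast_eq_zero_iff K p₀] at h0
    have hp₀' : p₀.Prime := CharP.char_is_prime K p₀
    have : p₀ = l := (Nat.prime_dvd_prime_iff_eq hp₀' hl).mp h0
    subst this
    apply hlK
    exact (CharP.cast_eq_zero_iff K p₀ _).mp (Nat.cast_card_eq_zero K)
  have hsep : (X ^ l - 1 : K[X]).Separable := X_pow_sub_one_separable_iff.mpr hlK'
  have : Fact l.Prime := ⟨hl⟩
  have hT : cyclotomic l K * (X - 1) = X ^ l - 1 := cyclotomic_prime_mul_X_sub_one K l
  have hcopΦ : IsCoprime (X - 1 : K[X]) (cyclotomic l K) := by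
    rw [← hT] at hsep
    exact hsep.isCoprime.symm
  -- the minimal polynomial
  have hint : IsIntegral K f := Algebra.IsIntegral.isIntegral f
  have hμT : minpoly K f ∣ X ^ l - 1 := by
    apply minpoly.dvd
    simp only [map_sub, map_pow, aeval_X, map_one]
    rw [hf, sub_self]
  have hμmonic : (minpoly K f).Monic := minpoly.monic hint
  -- `X - 1 ∣ μ`
  have hroot : (minpoly K f).IsRoot 1 := by
    have hne : LinearMap.ker (f - 1) ≠ ⊥ := by
      intro h
      rw [h, finrank_bot] at he1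
      omega
    obtain ⟨v, hv, hv0⟩ := (Submodule.ne_bot_iff _).mp hne
    have hfv : f v = (1 : K) • v := by
      rw [one_smul]
      have := LinearMap.mem_ker.mp hv
      rw [LinearMap.sub_apply, sub_eq_zero] at this
      exact this
    have h1 := Module.End.aeval_apply_of_mem_apply_eq_smul (p := minpoly K f) hfv
    rw [minpoly.aeval, LinearMap.zero_apply] at h1
    rcases smul_eq_zero.mp h1.symm with h2 | h2
    · exact h2
    · exact absurd h2 hv0
  obtain ⟨ν, hν⟩ := dvd_iff_isRoot.mpr hroot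
  have hX1 : (X - C (1 : K) : K[X]) = X - 1 := by rw [map_one]
  rw [hX1] at hν
  have hX1monic : (X - 1 : K[X]).Monic := by rw [← hX1]; exact monic_X_sub_C 1
  have hX1ne : (X - 1 : K[X]) ≠ 0 := hX1monic.ne_zero
  have hνmonic : ν.Monic := hX1monic.of_mul_monic_left (hν ▸ hμmonic)
  have hνΦ : ν ∣ cyclotomic l K := by
    rw [hν, ← hT, mul_comm (cyclotomic l K)] at hμT
    exact (mul_dvd_mul_iff_left hX1ne).mp hμT
  have hν1 : ν ≠ 1 := by
    intro h
    apply hf1
    have := minpoly.aeval K f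
    rw [hν, h, mul_one] at this
    simp only [map_sub, aeval_X, map_one] at this
    exact sub_eq_zero.mp this
  have hdegμ : (minpoly K f).natDegree ≤ 7 := by
    rw [← hV, ← LinearMap.charpoly_natDegree f]
    exact natDegree_le_of_dvd (LinearMap.minpoly_dvd_charpoly f) (LinearMap.charpoly_monic f).ne_zero
  have hdegν : ν.natDegree ≤ 6 := by
    rw [hν, hX1monic.natDegree_mul hνmonic] at hdegμ
    have : (X - 1 : K[X]).natDegree = 1 := by rw [← hX1]; exact natDegree_X_sub_C 1
    omega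
  have hνunit : ¬ IsUnit ν := by
    intro h
    exact hν1 (hνmonic.isUnit_iff.mp h)
  obtain ⟨p₁, hp₁, hp₁ν⟩ := WfDvdMonoid.exists_irreducible_factor hνunit hνmonic.ne_zero
  have hp₁deg : p₁.natDegree = 6 := by
    apply la_irr_deg l hl h6 hmin hlK p₁ hp₁
    · rw [← hT]
      exact dvd_mul_of_dvd_left (dvd_trans hp₁ν hνΦ) _
    · intro h
      exact hp₁.not_isUnit (hcopΦ.isUnit_of_dvd' h (dvd_trans hp₁ν hνΦ))
  obtain ⟨c, hc⟩ := hp₁ν
  have hc0 : c ≠ 0 := by
    rintro rfl
    rw [mul_zero] at hc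
    exact hνmonic.ne_zero hc
  have hcdeg : c.natDegree = 0 := by
    have := congrArg natDegree hc
    rw [natDegree_mul hp₁.ne_zero hc0] at this
    omega
  have hcunit : IsUnit c := by
    rw [isUnit_iff_degree_eq_zero, degree_eq_natDegree hc0, hcdeg]
    rfl
  have hνirr : Irreducible ν := by
    have hass : Associated p₁ ν := ⟨hcunit.unit, by rw [hc]; rfl⟩
    exact hass.irreducible hp₁
  have hνdeg : ν.natDegree = 6 := by
    rw [hc, natDegree_mul hp₁.ne_zero hc0, hcdeg, hp₁deg]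
  -- the decomposition
  have hcop : IsCoprime (X - 1 : K[X]) ν := hcopΦ.of_isCoprime_of_dvd_right hνΦ
  have hker1 : LinearMap.ker (aeval f (X - 1 : K[X])) = LinearMap.ker (f - 1) := by
    simp only [map_sub, aeval_X, map_one]
  have hsup := sup_ker_aeval_eq_ker_aeval_mul_of_coprime f hcop
  have hdisj := disjoint_ker_aeval_of_isCoprime f hcop
  rw [← hν, minpoly.aeval, LinearMap.ker_zero, hker1] at hsup
  rw [hker1] at hdisj
  have hcompl : IsCompl (LinearMap.ker (f - 1)) (LinearMap.ker (aeval f ν)) :=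
    ⟨hdisj, codisjoint_iff.mpr hsup⟩
  refine ⟨ν, hνirr, hνmonic, hνdeg, he1, ?_, hcompl⟩
  have := Submodule.finrank_add_eq_of_isCompl hcompl
  rw [hV, he1] at this
  omega

end LA

end Cfsg.Agent.Lib.helper7.REE
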