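import Mathlib
import Cfsg.Agent.Lib.Helper18.REELA.Defs
import Cfsg.Agent.Lib.helper15.REELAB

/-! Project REE, block LA (helper18), row LA04 `la_split`: copy by helper15 (`la_split_h15`), a corollary of `la_decomp`. -/

set_option autoImplicit false

namespace Cfsg.Agent.Lib.helper7.REE

open Matrix Polynomial

universe v

section finite

variable {K : Type v} [Field K] [Fintype K]

theorem la_split_h15 (l : ℕ) (hl : l.Prime) (h6 : l ∣ Fintype.card K ^ 6 - 1)
    (hmin : ∀ i, 0 < i → i < 6 → ¬ l ∣ Fintype.card K ^ i - 1) (hlK : ¬ l ∣ Fintype.card K)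
    (M : GL (Fin 7) K) (hM : orderOf M = l) :
    ∃ p : K[X], p.natDegree = 6 ∧ LaSplit (laHom (Fin 7) K M) p := by
  have hV : Module.finrank K (Fin 7 → K) = 7 := by simp
  have hf : (laHom (Fin 7) K M) ^ l = 1 := by
    rw [← map_pow, ← hM, pow_orderOf_eq_one, map_one]
  have hf1 : laHom (Fin 7) K M ≠ 1 := by
    intro h
    have h1 : M = 1 := laHom_injective (Fin 7) K (by rw [h, map_one])
    rw [h1, orderOf_one] at hM
    exact hl.one_lt.ne' hM.symm
  obtain ⟨p, hirr, -, hdeg, h1, h2, h3⟩ :=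
    la_decomp l hl h6 hmin hlK hV (laHom (Fin 7) K M) hf hf1
  exact ⟨p, hdeg, ⟨hirr, h1, by rw [h2, hdeg], h3⟩⟩

end finite

end Cfsg.Agent.Lib.helper7.REE
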