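import Mathlib
import Cfsg.Agent.Lib.Helper18.REELA.Defs
import Cfsg.Agent.Lib.helper15.REELA04h15

/-! Project REE, block LA (helper18), row LA04 `la_split`, verbatim (helper15; proof = `la_split_h15`, a corollary of `la_decomp`). -/

set_option autoImplicit false

namespace Cfsg.Agent.Lib.helper7.REE

open Matrix Polynomial

universe v

section finite

variable {K : Type v} [Field K] [Fintype K]

/-- LA04 [M]. The splitting `K^7 = ker (M - 1) ⊕ ker p(M)`. -/
theorem la_split (l : ℕ) (hl : l.Prime) (h6 : l ∣ Fintype.card K ^ 6 - 1)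
    (hmin : ∀ i, 0 < i → i < 6 → ¬ l ∣ Fintype.card K ^ i - 1) (hlK : ¬ l ∣ Fintype.card K)
    (M : GL (Fin 7) K) (hM : orderOf M = l) :
    ∃ p : K[X], p.natDegree = 6 ∧ LaSplit (laHom (Fin 7) K M) p :=
  la_split_h15 l hl h6 hmin hlK M hM

end finite

end Cfsg.Agent.Lib.helper7.REE
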