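import Mathlib
import Cfsg.Agent.Lib.helper7.REE.Defs

/-! Project REE (designer helper7), row GENH `cyclic_sub_eq` (helper15). -/

set_option autoImplicit false

namespace Cfsg.Agent.Lib.helper7.REE

open Matrix Polynomial Cfsg.Agent.Lib.helper8

universe u v

section GEN

variable {G : Type u} [Group G] [Finite G]

/-- in a finite cyclic group a subgroup of order `d` contains every element with `a ^ d = 1` -/
theorem reegenh_mem {α : Type*} [Group α] [Finite α] [IsCyclic α] (B : Subgroup α) (a : α)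
    (ha : a ^ Nat.card B = 1) : a ∈ B := by
  classical
  haveI := Fintype.ofFinite α
  set d := Nat.card B with hd
  have hd0 : 0 < d := Nat.card_pos
  let f : B → {a : α // a ^ d = 1} := fun x =>
    ⟨x.1, orderOf_dvd_iff_pow_eq_one.mp (Subgroup.orderOf_dvd_natCard B x.2)⟩
  have hinj : Function.Injective f := by
    intro x y hxy
    apply Subtype.ext
    exact congrArg (fun t : {a : α // a ^ d = 1} => t.1) hxy
  have hcard : Nat.card {a : α // a ^ d = 1} ≤ Nat.card B := by
    rw [Nat.card_eq_fintype_card, Fintype.card_subtype]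
    exact IsCyclic.card_pow_eq_one_le hd0
  obtain ⟨x, hx⟩ := (hinj.bijective_of_nat_card_le hcard).2 ⟨a, ha⟩
  have : x.1 = a := congrArg (fun t : {a : α // a ^ d = 1} => t.1) hx
  rw [← this]
  exact x.2

/-- GENH. A cyclic group has at most one subgroup of each order. -/
theorem cyclic_sub_eq (A A₁ A₂ : Subgroup G) (hA : IsCyclic A) (h₁ : A₁ ≤ A) (h₂ : A₂ ≤ A)
    (hc : Nat.card A₁ = Nat.card A₂) : A₁ = A₂ := by
  have := hA
  have hc1 : Nat.card (A₁.subgroupOf A) = Nat.card A₁ :=
    Nat.card_congr (Subgroup.subgroupOfEquivOfLe h₁).toEquiv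
  have hle : A₂ ≤ A₁ := by
    intro x hx
    have hxA : x ∈ A := h₂ hx
    have hpow : (⟨x, hxA⟩ : A) ^ Nat.card (A₁.subgroupOf A) = 1 := by
      apply Subtype.ext
      rw [hc1, hc]
      exact orderOf_dvd_iff_pow_eq_one.mp (Subgroup.orderOf_dvd_natCard A₂ hx)
    have := reegenh_mem (A₁.subgroupOf A) ⟨x, hxA⟩ hpow
    exact Subgroup.mem_subgroupOf.mp this
  exact (Subgroup.eq_of_le_of_card_ge hle (le_of_eq hc)).symm

end GEN

end Cfsg.Agent.Lib.helper7.REE
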