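import Mathlib
import Cfsg.Agent.Lib.Helper5.S1906.Defs

/-!
# Project S1906, row G1 (helper15): `fix_cz`.
-/

set_option autoImplicit false

namespace Cfsg.Agent.Lib.Helper5.S1906

open scoped IsMulCommutative

/-- the normaliser of `X` fixes `c` under `Ctx` (only needs `cD`, `c2`, `c1`, `invD`) -/
theorem s1906g1_fix_c {G : Type*} [Group G] {X X0 : Subgroup G} {c z : G} (h : Ctx X X0 c z) (n : G)
    (hn : n ∈ Subgroup.normalizer (X : Set G)) : n * c * n⁻¹ = c := by
  have hmap : X.map (MulAut.conj n : G →* G) = X := Subgroup.mem_normalizer_iff_map_conj_eq.mp hn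
  have hmem : n * c * n⁻¹ ∈ ⁅X, X⁆ := by
    have h1 : (MulAut.conj n : G →* G) c ∈ (⁅X, X⁆ : Subgroup G).map (MulAut.conj n : G →* G) :=
      Subgroup.mem_map_of_mem _ h.cD
    rw [Subgroup.map_commutator, hmap] at h1
    exact h1
  have hsq : (n * c * n⁻¹) * (n * c * n⁻¹) = 1 := by
    have : (n * c * n⁻¹) * (n * c * n⁻¹) = n * (c * c) * n⁻¹ := by group
    rw [this, h.c2, mul_one, mul_inv_cancel]
  rcases h.invD _ hmem hsq with h1 | h1
  · exfalso
    apply h.c1
    have : n * c = n := by rw [mul_inv_eq_one] at h1; exact h1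
    exact mul_eq_left.mp this
  · exact h1

/-- conjugation by powers of `n` -/
theorem s1906g1_pow_conj {G : Type*} [Group G] (n z c : G) (h1 : n * z * n⁻¹ = c * z)
    (h2 : n * (c * z) * n⁻¹ = z) (j : ℕ) :
    n ^ j * z * (n ^ j)⁻¹ = if Even j then z else c * z := by
  induction j with
  | zero => simp
  | succ j ih =>
    have : n ^ (j + 1) * z * (n ^ (j + 1))⁻¹ = n * (n ^ j * z * (n ^ j)⁻¹) * n⁻¹ := by
      rw [pow_succ']
      group
    rw [this, ih]
    by_cases hj : Even j
    · have hj' : ¬ Even (j + 1) := by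
        rw [Nat.even_add_one]
        exact fun h => h hj
      rw [if_pos hj, if_neg hj', h1]
    · have hj' : Even (j + 1) := by
        rw [Nat.even_add_one]
        exact hj
      rw [if_neg hj, if_pos hj', h2]

variable {G : Type*} [Group G] [Finite G] (hG : ∀ H : Subgroup G, H.index ≠ 2) (P : Sylow 2 G)
  {X0 : Subgroup G} {c z : G}

/-- G1 -/
theorem fix_cz (h : Ctx (P : Subgroup G) X0 c z) (n : G)
    (hn : n ∈ Subgroup.normalizer ((P : Subgroup G) : Set G)) :
    n * c * n⁻¹ = c ∧ n * z * n⁻¹ = z := by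
  haveI : Fact (Nat.Prime 2) := ⟨Nat.prime_two⟩
  have hc := s1906g1_fix_c h n hn
  refine ⟨hc, ?_⟩
  have hwP : n * z * n⁻¹ ∈ (P : Subgroup G) := (Subgroup.mem_normalizer_iff.mp hn z).mp h.zX
  have hwC : Cen (P : Subgroup G) (n * z * n⁻¹) := by
    intro x hx
    have hy : n⁻¹ * x * n ∈ (P : Subgroup G) := (Subgroup.mem_normalizer_iff''.mp hn x).mp hx
    have := h.zC _ hy
    have e1 : x * (n * z * n⁻¹) = n * ((n⁻¹ * x * n) * z) * n⁻¹ := by group
    have e2 : (n * z * n⁻¹) * x = n * (z * (n⁻¹ * x * n)) * n⁻¹ := by group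
    rw [e1, e2, this]
  have hw2 : (n * z * n⁻¹) * (n * z * n⁻¹) = 1 := by
    have : (n * z * n⁻¹) * (n * z * n⁻¹) = n * (z * z) * n⁻¹ := by group
    rw [this, h.z2, mul_one, mul_inv_cancel]
  rcases h.invZ _ hwP hwC hw2 with h1 | h1 | h1 | h1
  · exfalso
    apply h.z1
    have : n * z = n := by rw [mul_inv_eq_one] at h1; exact h1
    exact mul_eq_left.mp this
  · exfalso
    apply h.cz
    have h3 : n * z * n⁻¹ = n * c * n⁻¹ := by rw [h1, hc]
    have h4 : n * z = n * c := mul_right_cancel h3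
    exact (mul_left_cancel h4).symm
  · exact h1
  · exfalso
    have h2 : n * (c * z) * n⁻¹ = z := by
      have : n * (c * z) * n⁻¹ = (n * c * n⁻¹) * (n * z * n⁻¹) := by group
      rw [this, hc, h1, ← mul_assoc, h.c2, one_mul]
    have hpow := s1906g1_pow_conj n z c h1 h2
    -- an odd power of `n` lies in `P`
    have hk : n ^ ((P : Subgroup G).relIndex (Subgroup.normalizer ((P : Subgroup G) : Set G))) ∈
        (P : Subgroup G) := by
      have := Subgroup.pow_index_mem
        ((P : Subgroup G).subgroupOf (Subgroup.normalizer ((P : Subgroup G) : Set G))) ⟨n, hn⟩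
      rw [Subgroup.mem_subgroupOf] at this
      simp only [SubgroupClass.coe_pow] at this
      exact this
    have hodd : ¬ Even ((P : Subgroup G).relIndex (Subgroup.normalizer ((P : Subgroup G) : Set G))) := by
      intro he
      rw [even_iff_two_dvd] at he
      exact P.not_dvd_index (he.trans (Subgroup.relIndex_dvd_index_of_le Subgroup.le_normalizer))
    have h5 := hpow ((P : Subgroup G).relIndex (Subgroup.normalizer ((P : Subgroup G) : Set G)))
    rw [if_neg hodd] at h5
    have h6 := h.zC _ hk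
    rw [h6, mul_assoc, mul_inv_cancel, mul_one] at h5
    apply h.c1
    exact (mul_eq_right.mp h5.symm)

end Cfsg.Agent.Lib.Helper5.S1906
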