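import Mathlib
import Cfsg.Agent.Lib.Helper5.S1906.Defs
import Cfsg.Agent.Lib.helper15.S1906G1

/-!
# Project S1906, row G2 (helper15): `central_conj`.
-/

set_option autoImplicit false

namespace Cfsg.Agent.Lib.Helper5.S1906

open scoped IsMulCommutative

variable {G : Type*} [Group G] [Finite G] (hG : ∀ H : Subgroup G, H.index ≠ 2) (P : Sylow 2 G)
  {X0 : Subgroup G} {c z : G}

/-- G2 -/
theorem central_conj (h : Ctx (P : Subgroup G) X0 c z) (ω : G) (hω : ω = c ∨ ω = z ∨ ω = c * z)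
    (g : G) (hg : g * ω * g⁻¹ ∈ (P : Subgroup G)) (hcen : Cen (P : Subgroup G) (g * ω * g⁻¹)) :
    g * ω * g⁻¹ = ω := by
  haveI : Fact (Nat.Prime 2) := ⟨Nat.prime_two⟩
  have hczC : Cen (P : Subgroup G) (c * z) := by
    intro x hx
    rw [← mul_assoc, h.cC x hx, mul_assoc, h.zC x hx, mul_assoc]
  have hωC : Cen (P : Subgroup G) ω := by
    rcases hω with rfl | rfl | rfl
    · exact h.cC
    · exact h.zC
    · exact hczC
  have hx : ω ∈ Subgroup.centralizer ((P : Subgroup G) : Set G) := by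
    rw [Subgroup.mem_centralizer_iff]
    intro x hx
    exact hωC x hx
  have hy : (g⁻¹)⁻¹ * ω * g⁻¹ ∈ Subgroup.centralizer ((P : Subgroup G) : Set G) := by
    rw [inv_inv, Subgroup.mem_centralizer_iff]
    intro x hx
    exact hcen x hx
  obtain ⟨n, hn, hn'⟩ := P.conj_eq_normalizer_conj_of_mem_centralizer ω g⁻¹ hx hy
  rw [inv_inv] at hn'
  rw [hn']
  have hninv : n⁻¹ ∈ Subgroup.normalizer ((P : Subgroup G) : Set G) := Subgroup.inv_mem _ hn
  obtain ⟨h1, h2⟩ := fix_cz P h n⁻¹ hninv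
  rw [inv_inv] at h1 h2
  rcases hω with rfl | rfl | rfl
  · exact h1
  · exact h2
  · have : n⁻¹ * (c * z) * n = (n⁻¹ * c * n) * (n⁻¹ * z * n) := by group
    rw [this, h1, h2]

end Cfsg.Agent.Lib.Helper5.S1906
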