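import Mathlib
import Cfsg.Agent.Lib.helper15.SpRegSemi

set_option autoImplicit false

namespace Cfsg.Agent.Lib.helper15.SpRegSemi2

open Polynomial
open Cfsg.Agent.Lib.helper15.URegSemi
open Cfsg.Agent.Lib.helper15.SpRegSemi

variable {K : Type*} [Field K]

theorem pow_eq_one_of_roots [IsAlgClosed K] {n : Type*} [Fintype n] [DecidableEq n]
    (A : Matrix n n K) (M : ℕ) (hM : (M : K) ≠ 0) (hAM : A ^ M = 1) (s : ℕ)
    (hall : ∀ μ : K, A.charpoly.IsRoot μ → μ ^ s = 1) : A ^ s = 1 := by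
  have hss := isSemisimple_of_pow A M hM hAM
  have htop := hss.iSup_eigenspace_eq_top
  have hpow : ∀ (μ : K) (x : n → K), Matrix.toLin' A x = μ • x →
      ∀ t : ℕ, ((Matrix.toLin' A) ^ t) x = μ ^ t • x := by
    intro μ x hx t
    induction t with
    | zero => rw [pow_zero, pow_zero, one_smul, Module.End.one_apply]
    | succ t ih =>
      rw [pow_succ, Module.End.mul_apply, hx, map_smul, ih, smul_smul, pow_succ, mul_comm]
  have hle : ∀ μ : K, Module.End.eigenspace (Matrix.toLin' A : Module.End K (n → K)) μ ≤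
      LinearMap.ker ((Matrix.toLin' A : Module.End K (n → K)) ^ s - 1) := by
    intro μ x hx
    rw [LinearMap.mem_ker, LinearMap.sub_apply, Module.End.one_apply, sub_eq_zero]
    by_cases hbot : Module.End.eigenspace (Matrix.toLin' A : Module.End K (n → K)) μ = ⊥
    · rw [hbot, Submodule.mem_bot] at hx
      rw [hx, map_zero]
    · have hev : Module.End.HasEigenvalue (Matrix.toLin' A : Module.End K (n → K)) μ := hbot
      rw [Module.End.hasEigenvalue_iff_isRoot_charpoly, Matrix.charpoly_toLin'] at hev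
      rw [Module.End.mem_eigenspace_iff] at hx
      rw [hpow μ x hx s, hall μ hev, one_smul]
  have hker : LinearMap.ker ((Matrix.toLin' A : Module.End K (n → K)) ^ s - 1) = ⊤ := by
    rw [eq_top_iff, ← htop]
    exact iSup_le hle
  have h2 : (Matrix.toLin' A : Module.End K (n → K)) ^ s - 1 = 0 := LinearMap.ker_eq_top.1 hker
  have h3 : Matrix.toLin' (A ^ s) = Matrix.toLin' (1 : Matrix n n K) := by
    rw [toLin'_pow, Matrix.toLin'_one]
    exact sub_eq_zero.1 h2
  exact Matrix.toLin'.injective h3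

theorem exists_orbit {n : Type*} [Fintype n] [DecidableEq n] (A : Matrix n n K)
    (Φ : K →+* K) (q : ℕ) (hΦ : ∀ x, Φ x = x ^ q)
    (hfrob : ∀ ν : K, A.charpoly.rootMultiplicity (Φ ν) = A.charpoly.rootMultiplicity ν)
    (hinv : ∀ ν : K, ν ≠ 0 → A.charpoly.rootMultiplicity ν⁻¹ = A.charpoly.rootMultiplicity ν)
    (hroot0 : ∀ ν : K, 0 < A.charpoly.rootMultiplicity ν → ν ≠ 0)
    (r : ℕ) (hr : r.Prime) (hr2 : r ≠ 2) (hrq : ¬ r ∣ q)
    (k ηk : ℕ) (hk : k = orderOf ((q : ℕ) : ZMod r))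
    (hηk : (Odd k ∧ ηk = k) ∨ (Even k ∧ 2 * ηk = k))
    (μ : K) (hμr : μ ^ r = 1) (hμ1 : μ ≠ 1) (hμ : 0 < A.charpoly.rootMultiplicity μ) :
    ∃ S : Finset K, S.card = 2 * ηk ∧ ∀ x ∈ S, x ^ r = 1 ∧ x ≠ 1 ∧
      A.charpoly.rootMultiplicity x = A.charpoly.rootMultiplicity μ := by
  classical
  have hμr1 : μ ^ (r ^ 1) = 1 := by rw [pow_one]; exact hμr
  have gen : ∀ (ψ : K → K) (c : ℤ) (hψ : ∀ u : Kˣ, ψ (u : K) = ((u ^ c : Kˣ) : K))
      (hmult : ∀ ν : K, 0 < A.charpoly.rootMultiplicity ν →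
        A.charpoly.rootMultiplicity (ψ ν) = A.charpoly.rootMultiplicity ν)
      (hrc : ¬ (r : ℤ) ∣ c) (M : ℕ) (hord : ∀ t : ℕ, 1 ≤ t → t < M → ¬ (r : ℤ) ∣ c ^ t - 1),
      ∃ S : Finset K, S.card = M ∧ ∀ x ∈ S, x ^ r = 1 ∧ x ≠ 1 ∧
        A.charpoly.rootMultiplicity x = A.charpoly.rootMultiplicity μ := by
    intro ψ c hψ hmult hrc M hord
    have hinj := iter_injOn ψ c hψ r hr 1 hrc M hord μ hμr1 hμ1
    refine ⟨(Finset.range M).image (fun i : ℕ => ψ^[i] μ), ?_, ?_⟩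
    · rw [Finset.card_image_of_injOn hinj, Finset.card_range]
    · intro x hx
      rw [Finset.mem_image] at hx
      obtain ⟨i, -, rfl⟩ := hx
      refine ⟨?_, iter_ne_one ψ c hψ r hr 1 hrc μ hμr1 hμ1 i, iter_mult A ψ hmult μ hμ i⟩
      obtain ⟨u, hu, -⟩ := exists_unit r hr 1 μ hμr1 hμ1
      rw [← hu, iter_eq_zpow ψ c hψ u i, ← Units.val_pow_eq_pow_val, ← zpow_natCast, ← zpow_mul,
        mul_comm, zpow_mul, zpow_natCast]
      have hur : u ^ r = 1 := by
        apply Units.ext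
        rw [Units.val_pow_eq_pow_val, hu, hμr]
        rfl
      rw [hur, one_zpow]
      rfl
  rcases hηk with ⟨hodd, hη⟩ | ⟨hev, hη⟩
  · rw [hη]
    refine gen (fun x => (Φ x)⁻¹) (-(q : ℤ)) ?_ ?_ ?_ (2 * k) (hord_odd r q k hr hr2 hk hodd)
    · intro w
      show (Φ (w : K))⁻¹ = _
      rw [hΦ, zpow_neg, zpow_natCast, Units.val_inv_eq_inv_val, Units.val_pow_eq_pow_val]
    · intro ν hν
      show A.charpoly.rootMultiplicity (Φ ν)⁻¹ = _
      have hΦν : Φ ν ≠ 0 := by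
        intro h
        exact hroot0 ν hν ((map_eq_zero Φ).1 h)
      rw [hinv (Φ ν) hΦν]
      exact hfrob ν
    · rw [dvd_neg, Int.natCast_dvd_natCast]
      exact hrq
  · rw [hη]
    refine gen (fun x => Φ x) (q : ℤ) ?_ ?_ ?_ k (hord_even r q k hk)
    · intro w
      show Φ (w : K) = _
      rw [hΦ, zpow_natCast, Units.val_pow_eq_pow_val]
    · intro ν hν
      exact hfrob ν
    · rw [Int.natCast_dvd_natCast]
      exact hrq

theorem mult_pow_q {n : Type*} [Fintype n] [DecidableEq n] (A : Matrix n n K)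
    (Φ : K →+* K) (q : ℕ) (hΦ : ∀ x, Φ x = x ^ q)
    (hfrob : ∀ ν : K, A.charpoly.rootMultiplicity (Φ ν) = A.charpoly.rootMultiplicity ν)
    (ν : K) (i : ℕ) :
    A.charpoly.rootMultiplicity (ν ^ (q ^ i)) = A.charpoly.rootMultiplicity ν := by
  induction i with
  | zero => rw [pow_zero, pow_one]
  | succ i ih =>
    rw [pow_succ, pow_mul, ← hΦ, hfrob, ih]

theorem orbit_bound {n : Type*} [Fintype n] [DecidableEq n] (A : Matrix n n K)
    (Φ : K →+* K) (q : ℕ) (hΦ : ∀ x, Φ x = x ^ q)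
    (hfrob : ∀ ν : K, A.charpoly.rootMultiplicity (Φ ν) = A.charpoly.rootMultiplicity ν)
    (hinv : ∀ ν : K, ν ≠ 0 → A.charpoly.rootMultiplicity ν⁻¹ = A.charpoly.rootMultiplicity ν)
    (u : Kˣ) (hu : 0 < A.charpoly.rootMultiplicity (u : K)) (M : ℕ)
    (hinj : ∀ i j : ℕ, i < j → j < M → u ^ (q ^ i) ≠ u ^ (q ^ j))
    (hdisj : ∀ i j : ℕ, i < M → j < M → u ^ (q ^ i) ≠ (u ^ (q ^ j))⁻¹) :
    2 * M ≤ Fintype.card n := by
  classical
  have hχ0 : A.charpoly ≠ 0 := (Matrix.charpoly_monic A).ne_zero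
  have hcard : A.charpoly.roots.card ≤ Fintype.card n := by
    have h1 := Polynomial.card_roots' A.charpoly
    rw [Matrix.charpoly_natDegree_eq_dim] at h1
    exact h1
  obtain ⟨S1, hS1⟩ : ∃ S1 : Finset K,
      S1 = (Finset.range M).image (fun i : ℕ => ((u ^ (q ^ i) : Kˣ) : K)) := ⟨_, rfl⟩
  obtain ⟨S2, hS2⟩ : ∃ S2 : Finset K,
      S2 = (Finset.range M).image (fun i : ℕ => (((u ^ (q ^ i))⁻¹ : Kˣ) : K)) := ⟨_, rfl⟩
  have hinj' : ∀ i j : ℕ, i < M → j < M → u ^ (q ^ i) = u ^ (q ^ j) → i = j := by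
    intro i j hi hj h
    by_contra hne
    rcases lt_or_gt_of_ne hne with h1 | h1
    · exact hinj i j h1 hj h
    · exact hinj j i h1 hi h.symm
  have hc1 : S1.card = M := by
    rw [hS1, Finset.card_image_of_injOn, Finset.card_range]
    intro i hi j hj h
    simp only [Finset.coe_range, Set.mem_Iio] at hi hj
    exact hinj' i j hi hj (Units.ext h)
  have hc2 : S2.card = M := by
    rw [hS2, Finset.card_image_of_injOn, Finset.card_range]
    intro i hi j hj h
    simp only [Finset.coe_range, Set.mem_Iio] at hi hj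
    exact hinj' i j hi hj (inv_injective (Units.ext h))
  have hdis : Disjoint S1 S2 := by
    rw [Finset.disjoint_left]
    intro x hx1 hx2
    rw [hS1, Finset.mem_image] at hx1
    rw [hS2, Finset.mem_image] at hx2
    obtain ⟨i, hi, rfl⟩ := hx1
    obtain ⟨j, hj, hij⟩ := hx2
    rw [Finset.mem_range] at hi hj
    exact hdisj i j hi hj (Units.ext hij.symm)
  have hm1 : ∀ x ∈ S1, 1 ≤ A.charpoly.roots.count x := by
    intro x hx
    rw [hS1, Finset.mem_image] at hx
    obtain ⟨i, -, rfl⟩ := hx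
    rw [Polynomial.count_roots, Units.val_pow_eq_pow_val, mult_pow_q A Φ q hΦ hfrob]
    exact hu
  have hm2 : ∀ x ∈ S2, 1 ≤ A.charpoly.roots.count x := by
    intro x hx
    rw [hS2, Finset.mem_image] at hx
    obtain ⟨i, -, rfl⟩ := hx
    rw [Polynomial.count_roots, Units.val_inv_eq_inv_val, hinv _ (Units.ne_zero _),
      Units.val_pow_eq_pow_val, mult_pow_q A Φ q hΦ hfrob]
    exact hu
  have hsum := sum_count_le A.charpoly.roots (S1 ∪ S2) (by
    intro x hx
    rw [← Multiset.count_pos]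
    rw [Finset.mem_union] at hx
    rcases hx with hx | hx
    · exact hm1 x hx
    · exact hm2 x hx)
  have h3 : (S1 ∪ S2).card ≤ ∑ x ∈ S1 ∪ S2, A.charpoly.roots.count x := by
    rw [Finset.card_eq_sum_ones]
    apply Finset.sum_le_sum
    intro x hx
    rw [Finset.mem_union] at hx
    rcases hx with hx | hx
    · exact hm1 x hx
    · exact hm2 x hx
  rw [Finset.card_union_of_disjoint hdis, hc1, hc2] at h3
  omega

theorem dvd_of_pow_q_eq (u : Kˣ) (r q : ℕ) (hr : r.Prime) (hro : r ∣ orderOf u) (hrq : ¬ r ∣ q)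
    (i j : ℕ) (hij : i < j) (h : u ^ (q ^ i) = u ^ (q ^ j)) :
    orderOf ((q : ℕ) : ZMod r) ∣ j - i := by
  have hfact : Fact r.Prime := ⟨hr⟩
  have h1 : q ^ i ≡ q ^ j [MOD orderOf u] := pow_eq_pow_iff_modEq.1 h
  have h2 : q ^ i ≡ q ^ j [MOD r] := h1.of_dvd hro
  have h3 : ((q ^ i : ℕ) : ZMod r) = ((q ^ j : ℕ) : ZMod r) := (ZMod.natCast_eq_natCast_iff _ _ _).2 h2
  push_cast at h3
  have hq0 : ((q : ℕ) : ZMod r) ≠ 0 := by
    rw [Ne, ZMod.natCast_eq_zero_iff]
    exact hrq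
  have e : j = i + (j - i) := by omega
  rw [e, pow_add] at h3
  have h4 : ((q : ℕ) : ZMod r) ^ (j - i) = 1 := by
    have h5 : ((q : ℕ) : ZMod r) ^ i * 1 = ((q : ℕ) : ZMod r) ^ i * ((q : ℕ) : ZMod r) ^ (j - i) := by
      rw [mul_one]
      exact h3
    exact (mul_left_cancel₀ (pow_ne_zero i hq0) h5).symm
  exact orderOf_dvd_of_pow_eq_one h4

theorem pow_of_pow_q_inv (u : Kˣ) (r q : ℕ) (hr : r.Prime) (hro : r ∣ orderOf u) (hrq : ¬ r ∣ q)
    (i j : ℕ) (h : u ^ (q ^ i) = (u ^ (q ^ j))⁻¹) :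
    ((q : ℕ) : ZMod r) ^ ((j - i) + (i - j)) = -1 := by
  have hfact : Fact r.Prime := ⟨hr⟩
  have h0 : u ^ (q ^ i + q ^ j) = 1 := by
    rw [pow_add, h, inv_mul_cancel]
  have h1 : r ∣ q ^ i + q ^ j := dvd_trans hro (orderOf_dvd_of_pow_eq_one h0)
  have h2 : ((q ^ i + q ^ j : ℕ) : ZMod r) = 0 := (ZMod.natCast_eq_zero_iff _ _).2 h1
  push_cast at h2
  have hq0 : ((q : ℕ) : ZMod r) ≠ 0 := by
    rw [Ne, ZMod.natCast_eq_zero_iff]
    exact hrq
  rcases le_total i j with hij | hij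
  · have e : j = i + (j - i) := by omega
    have e2 : j - i + (i - j) = j - i := by omega
    rw [e2]
    rw [e, pow_add] at h2
    have h5 : ((q : ℕ) : ZMod r) ^ i * (1 + ((q : ℕ) : ZMod r) ^ (j - i)) = 0 := by
      rw [mul_add, mul_one]
      exact h2
    rcases mul_eq_zero.1 h5 with h6 | h6
    · exact absurd h6 (pow_ne_zero i hq0)
    · exact (eq_neg_of_add_eq_zero_right h6)
  · have e : i = j + (i - j) := by omega
    have e2 : j - i + (i - j) = i - j := by omega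
    rw [e2]
    have h5 : ((q : ℕ) : ZMod r) ^ j * (((q : ℕ) : ZMod r) ^ (i - j) + 1) = 0 := by
      rw [mul_add, mul_one, ← pow_add]
      have e3 : j + (i - j) = i := by omega
      rw [e3]
      exact h2
    rcases mul_eq_zero.1 h5 with h6 | h6
    · exact absurd h6 (pow_ne_zero j hq0)
    · exact (eq_neg_of_add_eq_zero_left h6)

theorem dvd_orderOf_of {K : Type*} [Field K] (u : Kˣ) (r s : ℕ) (hr : r.Prime)
    (hrs : u ^ (r * s) = 1) (hs : u ^ s ≠ 1) : r ∣ orderOf u := by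
  by_contra hnr
  have hc : Nat.Coprime (orderOf u) r := Nat.Coprime.symm ((Nat.Prime.coprime_iff_not_dvd hr).2 hnr)
  have h1 : orderOf u ∣ r * s := orderOf_dvd_of_pow_eq_one hrs
  have h2 : orderOf u ∣ s := hc.dvd_of_dvd_mul_left h1
  exact hs (orderOf_dvd_iff_pow_eq_one.1 h2)

theorem one_ne_neg_one (s : ℕ) (hs : s.Prime) (hs2 : s ≠ 2) : (1 : ZMod s) ≠ -1 := by
  have hfact : Fact s.Prime := ⟨hs⟩
  intro h1
  have h6 : (2 : ZMod s) = 0 := by
    have : (1 : ZMod s) + 1 = 0 := by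
      nth_rewrite 1 [h1]
      exact neg_add_cancel 1
    rw [← this]
    norm_num
  have h7 : ((2 : ℕ) : ZMod s) = 0 := by exact_mod_cast h6
  rw [ZMod.natCast_eq_zero_iff] at h7
  exact hs2 ((Nat.prime_dvd_prime_iff_eq hs Nat.prime_two).1 h7)

theorem ord_pos {r q : ℕ} (hr : r.Prime) (hrq : ¬ r ∣ q) : 0 < orderOf ((q : ℕ) : ZMod r) := by
  have hfact : Fact r.Prime := ⟨hr⟩
  have hq0 : ((q : ℕ) : ZMod r) ≠ 0 := by
    rw [Ne, ZMod.natCast_eq_zero_iff]
    exact hrq
  have h1 := ZMod.pow_card_sub_one_eq_one hq0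
  rw [orderOf_pos_iff, isOfFinOrder_iff_pow_eq_one]
  exact ⟨r - 1, by have := hr.two_le; omega, h1⟩

theorem rs_root_contra {K : Type*} [Field K] (u : Kˣ) (r s q : ℕ) (hr : r.Prime) (hs : s.Prime)
    (hr2 : r ≠ 2) (hs2 : s ≠ 2) (hrq : ¬ r ∣ q) (hsq : ¬ s ∣ q)
    (hro : r ∣ orderOf u) (hso : s ∣ orderOf u)
    (k l ηk ηl : ℕ) (hk : k = orderOf ((q : ℕ) : ZMod r)) (hl : l = orderOf ((q : ℕ) : ZMod s))
    (hηk : (Odd k ∧ ηk = k) ∨ (Even k ∧ 2 * ηk = k))
    (hηl : (Odd l ∧ ηl = l) ∨ (Even l ∧ 2 * ηl = l)) (hkl : ηk ≤ ηl)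
    (n : ℕ) (hn : n < ηk + ηl) (hodd : ¬ ∃ t : ℕ, Odd t ∧ l = k * t)
    (hbound : ∀ M : ℕ, (∀ i j : ℕ, i < j → j < M → u ^ (q ^ i) ≠ u ^ (q ^ j)) →
      (∀ i j : ℕ, i < M → j < M → u ^ (q ^ i) ≠ (u ^ (q ^ j))⁻¹) → 2 * M ≤ 2 * n) : False := by
  have hlpos : 0 < l := by rw [hl]; exact ord_pos hs hsq
  have hkpos : 0 < k := by rw [hk]; exact ord_pos hr hrq
  rcases hηl with ⟨hlodd, hηl⟩ | ⟨hlev, hηl⟩
  · by_cases hkdl : k ∣ l
    · obtain ⟨t, ht⟩ := hkdl
      apply hodd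
      refine ⟨t, ?_, ht⟩
      rw [ht] at hlodd
      exact (Nat.odd_mul.1 hlodd).2
    · have h1 := hbound (2 * l) (by
        intro i j hij hj h
        have h2 := dvd_of_pow_q_eq u r q hr hro hrq i j hij h
        have h3 := dvd_of_pow_q_eq u s q hs hso hsq i j hij h
        rw [← hk] at h2
        rw [← hl] at h3
        obtain ⟨c, hc⟩ := h3
        have hc1 : c = 1 := by
          have h4 : l * c < l * 2 := by
            rw [← hc]
            omega
          have h5 : c < 2 := Nat.lt_of_mul_lt_mul_left h4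
          have h6 : c ≠ 0 := by
            intro h0
            rw [h0, mul_zero] at hc
            omega
          omega
        rw [hc1, mul_one] at hc
        rw [hc] at h2
        exact hkdl h2) (by
        intro i j hi hj h
        have h2 := pow_of_pow_q_inv u s q hs hso hsq i j h
        have h3 : ((q : ℕ) : ZMod s) ^ (2 * ((j - i) + (i - j))) = 1 := by
          rw [mul_comm, pow_mul, h2, neg_one_sq]
        have h4 : l ∣ 2 * ((j - i) + (i - j)) := by
          rw [hl]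
          exact orderOf_dvd_of_pow_eq_one h3
        have hcop : Nat.Coprime l 2 := Nat.Coprime.symm (Nat.coprime_two_left.2 hlodd)
        have h5 : l ∣ (j - i) + (i - j) := hcop.dvd_of_dvd_mul_left h4
        rw [hl] at h5
        have h6 := orderOf_dvd_iff_pow_eq_one.1 h5
        rw [h2] at h6
        exact one_ne_neg_one s hs hs2 h6.symm)
      omega
  · by_cases hneg : ((q : ℕ) : ZMod r) ^ ηl = -1
    · have h1 : ((q : ℕ) : ZMod r) ^ l = 1 := by
        rw [← hηl, mul_comm, pow_mul, hneg, neg_one_sq]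
      have hkdl : k ∣ l := by
        rw [hk]
        exact orderOf_dvd_of_pow_eq_one h1
      obtain ⟨t, ht⟩ := hkdl
      apply hodd
      refine ⟨t, ?_, ht⟩
      rcases Nat.even_or_odd t with hev | ho
      · exfalso
        obtain ⟨t', ht'⟩ := hev
        have h2 : ηl = k * t' := by
          have : 2 * ηl = 2 * (k * t') := by
            rw [hηl, ht, ht']
            ring
          omega
        have h3 : ((q : ℕ) : ZMod r) ^ ηl = 1 := by
          rw [h2, pow_mul, hk, pow_orderOf_eq_one, one_pow]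
        rw [h3] at hneg
        exact one_ne_neg_one r hr hr2 hneg
      · exact ho
    · have h1 := hbound l (by
        intro i j hij hj h
        have h3 := dvd_of_pow_q_eq u s q hs hso hsq i j hij h
        rw [← hl] at h3
        have := Nat.le_of_dvd (by omega) h3
        omega) (by
        intro i j hi hj h
        have h2 := pow_of_pow_q_inv u s q hs hso hsq i j h
        have h2r := pow_of_pow_q_inv u r q hr hro hrq i j h
        have h3 : ((q : ℕ) : ZMod s) ^ (2 * ((j - i) + (i - j))) = 1 := by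
          rw [mul_comm, pow_mul, h2, neg_one_sq]
        have h4 : l ∣ 2 * ((j - i) + (i - j)) := by
          rw [hl]
          exact orderOf_dvd_of_pow_eq_one h3
        obtain ⟨c, hc⟩ := h4
        have hc2 : c < 2 := by
          have h4 : l * c < l * 2 := by
            rw [← hc]
            omega
          exact Nat.lt_of_mul_lt_mul_left h4
        have hc0 : c ≠ 0 := by
          intro h0
          rw [h0, mul_zero] at hc
          have hd0 : (j - i) + (i - j) = 0 := by omega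
          rw [hd0, pow_zero] at h2
          exact one_ne_neg_one s hs hs2 h2
        have hc1 : c = 1 := by omega
        rw [hc1, mul_one] at hc
        have hd : (j - i) + (i - j) = ηl := by omega
        rw [hd] at h2r
        exact hneg h2r)
      omega

theorem sp_no_rs {F : Type*} [Field F] [Fintype F] (p : ℕ) [Fact p.Prime] [CharP F p]
    (n : ℕ) (r s : ℕ) (hr : r.Prime) (hs : s.Prime) (hr2 : r ≠ 2) (hs2 : s ≠ 2)
    (hrp : r ≠ p) (hsp : s ≠ p) (hrs : r ≠ s)
    (k l ηk ηl : ℕ) (hk : k = orderOf ((Fintype.card F : ℕ) : ZMod r))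
    (hl : l = orderOf ((Fintype.card F : ℕ) : ZMod s))
    (hηk : (Odd k ∧ ηk = k) ∨ (Even k ∧ 2 * ηk = k))
    (hηl : (Odd l ∧ ηl = l) ∨ (Even l ∧ 2 * ηl = l)) (hkl : ηk ≤ ηl)
    (hn : n < ηk + ηl) (hodd : ¬ ∃ t : ℕ, Odd t ∧ l = k * t)
    (y : Matrix.symplecticGroup (Fin n) F) (hy : y ^ (r * s) = 1) (hyr : y ^ r ≠ 1)
    (hys : y ^ s ≠ 1) : False := by
  classical
  have hp : p.Prime := Fact.out
  obtain ⟨q, hq⟩ : ∃ q : ℕ, q = Fintype.card F := ⟨_, rfl⟩
  obtain ⟨f, hqf⟩ : ∃ f : ℕ, q = p ^ f := by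
    obtain ⟨n, -, hn⟩ := FiniteField.card F p
    exact ⟨n, by rw [hq, hn]⟩
  obtain ⟨ι, hι⟩ : ∃ ι : F →+* AlgebraicClosure F, ι = algebraMap F (AlgebraicClosure F) := ⟨_, rfl⟩
  have hιinj : Function.Injective ι := ι.injective
  have hcharK : CharP (AlgebraicClosure F) p := by
    rw [hι] at hιinj
    exact charP_of_injective_algebraMap hιinj p
  obtain ⟨Φ, hΦ⟩ : ∃ Φ : AlgebraicClosure F →+* AlgebraicClosure F, ∀ x, Φ x = x ^ q := by
    refine ⟨iterateFrobenius (AlgebraicClosure F) p f, fun x => ?_⟩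
    rw [iterateFrobenius_def, hqf]
  have hfix : ∀ a : F, Φ (algebraMap F (AlgebraicClosure F) a) = algebraMap F (AlgebraicClosure F) a := by
    intro a
    rw [hΦ, ← map_pow, hq, FiniteField.pow_card]
  obtain ⟨S, hS⟩ : ∃ S : Matrix (Fin n ⊕ Fin n) (Fin n ⊕ Fin n) F, S = y.1 := ⟨_, rfl⟩
  have hSmem : S.map (algebraMap F (AlgebraicClosure F)) ∈
      Matrix.symplecticGroup (Fin n) (AlgebraicClosure F) := by
    rw [hS]
    exact SymplecticGroup.map_mem y.2 (algebraMap F (AlgebraicClosure F))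
  have hcoepow : ∀ t : ℕ, ((y ^ t : Matrix.symplecticGroup (Fin n) F) :
      Matrix (Fin n ⊕ Fin n) (Fin n ⊕ Fin n) F) = S ^ t := by
    intro t
    rw [hS]
    rfl
  have hSpow : S ^ (r * s) = 1 := by
    rw [← hcoepow, hy]
    rfl
  have hSr : S ^ r ≠ 1 := by
    intro h
    apply hyr
    apply Subtype.ext
    rw [hcoepow, h]
    rfl
  have hSs : S ^ s ≠ 1 := by
    intro h
    apply hys
    apply Subtype.ext
    rw [hcoepow, h]
    rfl
  have hmappow : ∀ (M : Matrix (Fin n ⊕ Fin n) (Fin n ⊕ Fin n) F) (k : ℕ),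
      (M ^ k).map ι = (M.map ι) ^ k := by
    intro M k
    exact map_pow ι.mapMatrix M k
  have hmapne : ∀ M : Matrix (Fin n ⊕ Fin n) (Fin n ⊕ Fin n) F, M ≠ 1 → M.map ι ≠ 1 := by
    intro M hM h
    apply hM
    have h2 : M.map ι = (1 : Matrix (Fin n ⊕ Fin n) (Fin n ⊕ Fin n) F).map ι := by
      rw [h, Matrix.map_one _ (map_zero ι) (map_one ι)]
    exact Matrix.map_injective hιinj h2
  have hApow : (S.map ι) ^ (r * s) = 1 := by
    rw [← hmappow, hSpow, Matrix.map_one _ (map_zero ι) (map_one ι)]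
  have hAr : (S.map ι) ^ r ≠ 1 := by
    rw [← hmappow]
    exact hmapne _ hSr
  have hAs : (S.map ι) ^ s ≠ 1 := by
    rw [← hmappow]
    exact hmapne _ hSs
  have hrK : ((r : ℕ) : AlgebraicClosure F) ≠ 0 := by
    rw [Ne, CharP.cast_eq_zero_iff (AlgebraicClosure F) p]
    intro h
    exact hrp ((Nat.prime_dvd_prime_iff_eq hp hr).1 h).symm
  have hsK : ((s : ℕ) : AlgebraicClosure F) ≠ 0 := by
    rw [Ne, CharP.cast_eq_zero_iff (AlgebraicClosure F) p]
    intro h
    exact hsp ((Nat.prime_dvd_prime_iff_eq hp hs).1 h).symm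
  have hrsK : ((r * s : ℕ) : AlgebraicClosure F) ≠ 0 := by
    rw [Nat.cast_mul]
    exact mul_ne_zero hrK hsK
  have hrq : ¬ r ∣ q := by
    rw [hqf]
    intro h
    exact hrp ((Nat.prime_dvd_prime_iff_eq hr hp).1 (hr.dvd_of_dvd_pow h))
  have hsq : ¬ s ∣ q := by
    rw [hqf]
    intro h
    exact hsp ((Nat.prime_dvd_prime_iff_eq hs hp).1 (hs.dvd_of_dvd_pow h))
  have hχ0 : (S.map ι).charpoly ≠ 0 := (Matrix.charpoly_monic _).ne_zero
  have hrootrs : ∀ ν : AlgebraicClosure F, (S.map ι).charpoly.IsRoot ν → ν ^ (r * s) = 1 :=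
    fun ν hν => root_pow_eq_one (S.map ι) (r * s) hApow ν hν
  have hrspos : 0 < r * s := Nat.mul_pos hr.pos hs.pos
  have hroot0 : ∀ ν : AlgebraicClosure F, 0 < (S.map ι).charpoly.rootMultiplicity ν → ν ≠ 0 := by
    intro ν hν h0
    have h1 := hrootrs ν ((Polynomial.rootMultiplicity_pos hχ0).1 hν)
    rw [h0, zero_pow hrspos.ne'] at h1
    exact zero_ne_one h1
  have hcardn : Fintype.card (Fin n ⊕ Fin n) = 2 * n := by
    rw [Fintype.card_sum, Fintype.card_fin]
    ring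
  have hfrob : ∀ ν : AlgebraicClosure F,
      (S.map ι).charpoly.rootMultiplicity (Φ ν) = (S.map ι).charpoly.rootMultiplicity ν := by
    intro ν
    rw [hι]
    exact mult_frob S Φ hfix ν
  have hinv : ∀ ν : AlgebraicClosure F, ν ≠ 0 →
      (S.map ι).charpoly.rootMultiplicity ν⁻¹ = (S.map ι).charpoly.rootMultiplicity ν := by
    intro ν hν
    exact mult_inv_symp ⟨S.map ι, by rw [hι]; exact hSmem⟩ ν hν
  have hkq : k = orderOf ((q : ℕ) : ZMod r) := by rw [hq]; exact hk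
  have hlq : l = orderOf ((q : ℕ) : ZMod s) := by rw [hq]; exact hl
  obtain ⟨ν₁, hν₁root, hν₁⟩ : ∃ ν : AlgebraicClosure F, (S.map ι).charpoly.IsRoot ν ∧ ν ^ s ≠ 1 := by
    by_contra hcon
    apply hAs
    apply pow_eq_one_of_roots (S.map ι) (r * s) hrsK hApow s
    intro μ hμ
    by_contra h1
    exact hcon ⟨μ, hμ, h1⟩
  obtain ⟨ν₂, hν₂root, hν₂⟩ : ∃ ν : AlgebraicClosure F, (S.map ι).charpoly.IsRoot ν ∧ ν ^ r ≠ 1 := by
    by_contra hcon
    apply hAr
    apply pow_eq_one_of_roots (S.map ι) (r * s) hrsK hApow r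
    intro μ hμ
    by_contra h1
    exact hcon ⟨μ, hμ, h1⟩
  by_cases hex : ∃ ν : AlgebraicClosure F, (S.map ι).charpoly.IsRoot ν ∧ ν ^ r ≠ 1 ∧ ν ^ s ≠ 1
  · obtain ⟨ν, hνroot, hνr, hνs⟩ := hex
    have hνpos : 0 < (S.map ι).charpoly.rootMultiplicity ν := (Polynomial.rootMultiplicity_pos hχ0).2 hνroot
    have hν0 : ν ≠ 0 := hroot0 ν hνpos
    obtain ⟨u, hu⟩ : ∃ u : (AlgebraicClosure F)ˣ, (u : AlgebraicClosure F) = ν := ⟨Units.mk0 ν hν0, rfl⟩
    have hurs : u ^ (r * s) = 1 := by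
      apply Units.ext
      rw [Units.val_pow_eq_pow_val, hu, hrootrs ν hνroot]
      rfl
    have hur : u ^ r ≠ 1 := by
      intro h
      apply hνr
      rw [← hu, ← Units.val_pow_eq_pow_val, h]
      rfl
    have hus : u ^ s ≠ 1 := by
      intro h
      apply hνs
      rw [← hu, ← Units.val_pow_eq_pow_val, h]
      rfl
    have hro : r ∣ orderOf u := dvd_orderOf_of u r s hr hurs hus
    have hso : s ∣ orderOf u := dvd_orderOf_of u s r hs (by rw [mul_comm]; exact hurs) hur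
    refine rs_root_contra u r s q hr hs hr2 hs2 hrq hsq hro hso k l ηk ηl hkq hlq hηk hηl hkl n hn hodd ?_
    intro M hinj hdisj
    have h1 := orbit_bound (S.map ι) Φ q hΦ hfrob hinv u (by rw [hu]; exact hνpos) M hinj hdisj
    rw [hcardn] at h1
    exact h1
  · have hν₁r : ν₁ ^ r = 1 := by
      by_contra h
      exact hex ⟨ν₁, hν₁root, h, hν₁⟩
    have hν₂s : ν₂ ^ s = 1 := by
      by_contra h
      exact hex ⟨ν₂, hν₂root, hν₂, h⟩
    have hν₁1 : ν₁ ≠ 1 := by
      intro h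
      apply hν₁
      rw [h, one_pow]
    have hν₂1 : ν₂ ≠ 1 := by
      intro h
      apply hν₂
      rw [h, one_pow]
    have hν₁pos : 0 < (S.map ι).charpoly.rootMultiplicity ν₁ := (Polynomial.rootMultiplicity_pos hχ0).2 hν₁root
    have hν₂pos : 0 < (S.map ι).charpoly.rootMultiplicity ν₂ := (Polynomial.rootMultiplicity_pos hχ0).2 hν₂root
    obtain ⟨S1, hS1c, hS1⟩ := exists_orbit (S.map ι) Φ q hΦ hfrob hinv hroot0 r hr hr2 hrq k ηk hkq hηk
      ν₁ hν₁r hν₁1 hν₁pos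
    obtain ⟨S2, hS2c, hS2⟩ := exists_orbit (S.map ι) Φ q hΦ hfrob hinv hroot0 s hs hs2 hsq l ηl hlq hηl
      ν₂ hν₂s hν₂1 hν₂pos
    have hdis : Disjoint S1 S2 := by
      rw [Finset.disjoint_left]
      intro x hx1 hx2
      obtain ⟨h1, h2, -⟩ := hS1 x hx1
      obtain ⟨h3, -, -⟩ := hS2 x hx2
      have h4 : x ^ (Nat.gcd r s) = 1 := pow_gcd_eq_one.2 ⟨h1, h3⟩
      rw [(Nat.coprime_primes hr hs).2 hrs, pow_one] at h4
      exact h2 h4
    have hcard : (S.map ι).charpoly.roots.card ≤ 2 * n := by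
      have h1 := Polynomial.card_roots' (S.map ι).charpoly
      rw [Matrix.charpoly_natDegree_eq_dim, hcardn] at h1
      exact h1
    have hm : ∀ x ∈ S1 ∪ S2, 1 ≤ (S.map ι).charpoly.roots.count x := by
      intro x hx
      rw [Polynomial.count_roots]
      rw [Finset.mem_union] at hx
      rcases hx with hx | hx
      · rw [(hS1 x hx).2.2]
        exact hν₁pos
      · rw [(hS2 x hx).2.2]
        exact hν₂pos
    have hsum := sum_count_le (S.map ι).charpoly.roots (S1 ∪ S2) (by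
      intro x hx
      rw [← Multiset.count_pos]
      exact hm x hx)
    have h3 : (S1 ∪ S2).card ≤ ∑ x ∈ S1 ∪ S2, (S.map ι).charpoly.roots.count x := by
      rw [Finset.card_eq_sum_ones]
      exact Finset.sum_le_sum hm
    rw [Finset.card_union_of_disjoint hdis, hS1c, hS2c] at h3
    omega

end Cfsg.Agent.Lib.helper15.SpRegSemi2
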