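import Mathlib
import Cfsg.Agent.Lib.Helper24.SCH.Defs

/-!
# Project SCH (S4394, designer helper24), row D1 (`schP_equiv`), verbatim.
-/

set_option autoImplicit false

namespace Cfsg.Agent.Lib.Helper24.SCH

open scoped commutatorElement

universe u v

theorem schd1_center {T : Type u} {T' : Type v} [Group T] [Group T'] (e : T ≃* T') (z : T) :
    z ∈ Subgroup.center T ↔ e z ∈ Subgroup.center T' := by
  constructor
  · intro hz
    rw [Subgroup.mem_center_iff] at hz ⊢
    intro g'
    have := hz (e.symm g')
    have h2 := congrArg e this
    rwa [map_mul, map_mul, MulEquiv.apply_symm_apply] at h2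
  · intro hz
    rw [Subgroup.mem_center_iff] at hz ⊢
    intro g
    have := hz (e g)
    rw [← map_mul, ← map_mul] at this
    exact e.injective this

theorem schd1_comm {T : Type u} {T' : Type v} [Group T] [Group T'] (e : T ≃* T') (z : T)
    (hz : z ∈ commutator T) : e z ∈ commutator T' := by
  have h1 : (commutator T).map e.toMonoidHom = commutator T' := by
    rw [commutator_def, commutator_def, Subgroup.map_commutator,
      Subgroup.map_top_of_surjective _ e.surjective]
  rw [← h1]
  exact Subgroup.mem_map_of_mem _ hz

section D

variable {G : Type u} [Group G] [Finite G] {p : ℕ} [Fact p.Prime]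

/-- D1 [S-M]. Transport along an isomorphism. -/
theorem schP_equiv {T : Type u} {T' : Type v} [Group T] [Group T'] (e : T ≃* T') (h : SchP p T) :
    SchP p T' := by
  refine ⟨?_, ?_, ?_, ?_, ?_⟩
  · intro x y z
    have := congrArg e (h.class2 (e.symm x) (e.symm y) (e.symm z))
    rwa [map_mul, map_mul, map_commutatorElement, MulEquiv.apply_symm_apply,
      MulEquiv.apply_symm_apply, MulEquiv.apply_symm_apply] at this
  · intro x hx u v
    have hx' : e.symm x ∉ Subgroup.center T := by
      intro hc
      apply hx
      have := (schd1_center e (e.symm x)).mp hc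
      rwa [MulEquiv.apply_symm_apply] at this
    obtain ⟨y, hy⟩ := h.semi (e.symm x) hx' (e.symm u) (e.symm v)
    refine ⟨e y, ?_⟩
    have := congrArg e hy
    rwa [map_commutatorElement, map_commutatorElement, MulEquiv.apply_symm_apply,
      MulEquiv.apply_symm_apply, MulEquiv.apply_symm_apply] at this
  · intro x y
    have := congrArg e (h.powp (e.symm x) (e.symm y))
    rwa [map_mul, map_mul, map_pow, MulEquiv.apply_symm_apply, MulEquiv.apply_symm_apply] at this
  · intro z hz
    have hz' : e.symm z ∈ Subgroup.center T := by
      rw [schd1_center e, MulEquiv.apply_symm_apply]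
      exact hz
    have := schd1_comm e _ (h.cen hz')
    rwa [MulEquiv.apply_symm_apply] at this
  · intro hp3 hcard a ha
    have hcard' : Nat.card T = p ^ 3 := by
      rw [Nat.card_congr e.toEquiv]
      exact hcard
    have ha' : (e.symm a) ^ p = 1 := by
      rw [← map_pow, ha, map_one]
    have := (schd1_center e _).mp (h.small hp3 hcard' (e.symm a) ha')
    rwa [MulEquiv.apply_symm_apply] at this

end D

end Cfsg.Agent.Lib.Helper24.SCH
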