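import Mathlib
import Cfsg.Agent.Lib.Helper24.SCH.Defs
import Cfsg.Agent.Lib.Helper1.Cores

/-!
# Project SCH (S4394, designer helper24), row C14 (`card_comm`): the core, on the statements of the cited
rows C3 (`sylow_le_sN`) and C4 (`sN_inf_cent`).
-/

set_option autoImplicit false

namespace Cfsg.Agent.Lib.Helper24.SCH

open scoped commutatorElement

universe u

/-- abstract form: `T` with the class-2 and semi-extraspecial properties, `a` non-central, `K ≤ C_T(a)` of prime
index: `|T'| = p`. -/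
theorem schc14_abs {T : Type u} [Group T] [Finite T] {p : ℕ} (hp : p.Prime)
    (class2 : ∀ x y z : T, ⁅x, y⁆ * z = z * ⁅x, y⁆)
    (a : T) (ha : a ∉ Subgroup.center T)
    (semi : ∀ u v : T, ∃ y : T, ⁅a, y⁆ = ⁅u, v⁆)
    (K : Subgroup T) (hK : ∀ k ∈ K, a * k = k * a) (hidx : K.index = p) :
    Nat.card ↥(commutator T) = p := by
  -- the homomorphism `y ↦ ⁅a, y⁆`
  have hmul : ∀ y z : T, ⁅a, y * z⁆ = ⁅a, y⁆ * ⁅a, z⁆ := by
    intro y z
    have e : ⁅a, y * z⁆ = ⁅a, y⁆ * (y * ⁅a, z⁆ * y⁻¹) := by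
      simp only [commutatorElement_def]
      group
    have c : y * ⁅a, z⁆ * y⁻¹ = ⁅a, z⁆ := by
      rw [← class2 a z y, mul_assoc, mul_inv_cancel, mul_one]
    rw [e, c]
  let φ : T →* T := MonoidHom.mk' (fun y => ⁅a, y⁆) hmul
  have hφ : ∀ y, φ y = ⁅a, y⁆ := fun y => rfl
  have hrange : commutator T = φ.range := by
    apply le_antisymm
    · rw [commutator_eq_closure, Subgroup.closure_le]
      rintro g ⟨u, v, rfl⟩
      obtain ⟨y, hy⟩ := semi u v
      exact ⟨y, by rw [hφ, hy]⟩
    · rintro g ⟨y, rfl⟩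
      rw [hφ, commutator_def]
      exact Subgroup.commutator_mem_commutator (Subgroup.mem_top a) (Subgroup.mem_top y)
  have hKle : K ≤ φ.ker := by
    intro k hk
    rw [MonoidHom.mem_ker, hφ, commutatorElement_eq_one_iff_mul_comm]
    exact hK k hk
  have hdvd : φ.ker.index ∣ p := by
    rw [← hidx]
    exact Subgroup.index_dvd_of_le hKle
  have hne : φ.ker.index ≠ 1 := by
    intro h1
    rw [Subgroup.index_eq_one] at h1
    apply ha
    rw [Subgroup.mem_center_iff]
    intro y
    have : y ∈ φ.ker := by rw [h1]; exact Subgroup.mem_top y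
    rw [MonoidHom.mem_ker, hφ, commutatorElement_eq_one_iff_mul_comm] at this
    exact this.symm
  have hkp : φ.ker.index = p := by
    rcases (Nat.dvd_prime hp).mp hdvd with h | h
    · exact absurd h hne
    · exact h
  rw [hrange, ← Subgroup.index_ker, hkp]

/-- C14 core. -/
theorem schc14_core {G : Type u} [Group G] [Finite G] {p : ℕ} [Fact p.Prime] (Q : Sylow p G)
    (h3 : (Q : Subgroup G) ≤ sN p G)
    (h4 : sN p G ⊓ Subgroup.centralizer (sA p G : Set G) ≤ Cfsg.pCore p G)
    (hC : sA p G ≤ Cfsg.pCore p G) (hS : SchP p ↥(Q : Subgroup G))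
    (hidx : (Cfsg.pCore p G).relIndex (Q : Subgroup G) = p) :
    Nat.card ↥(⁅(Q : Subgroup G), (Q : Subgroup G)⁆) = p := by
  have hp : p.Prime := Fact.out
  have hFQ : Cfsg.pCore p G ≤ (Q : Subgroup G) := Cfsg.Agent.Lib.Helper1.pCore_le_sylow p Q
  -- a non-central element of `A`
  have hex : ∃ a ∈ sA p G, ∃ y ∈ (Q : Subgroup G), a * y ≠ y * a := by
    by_contra hall
    push Not at hall
    have hle : (Q : Subgroup G) ≤ Cfsg.pCore p G := by
      intro y hy
      apply h4
      have hc : y ∈ Subgroup.centralizer (sA p G : Set G) := by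
        rw [Subgroup.mem_centralizer_iff]
        intro a ha
        exact hall a ha y hy
      exact Subgroup.mem_inf.mpr ⟨h3 hy, hc⟩
    have h1 : (Cfsg.pCore p G).relIndex (Q : Subgroup G) = 1 := Subgroup.relIndex_eq_one.mpr hle
    rw [hidx] at h1
    exact hp.one_lt.ne' h1
  obtain ⟨a, ha, y, hy, hay⟩ := hex
  let a' : ↥(Q : Subgroup G) := ⟨a, hFQ (hC ha)⟩
  have ha' : a' ∉ Subgroup.center ↥(Q : Subgroup G) := by
    intro hc
    rw [Subgroup.mem_center_iff] at hc
    have := hc ⟨y, hy⟩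
    apply hay
    have h := congrArg Subtype.val this
    exact h.symm
  have hK : ∀ k ∈ (Cfsg.pCore p G).subgroupOf (Q : Subgroup G), a' * k = k * a' := by
    intro k hk
    rw [Subgroup.mem_subgroupOf] at hk
    have := (Subgroup.mem_centralizer_iff.mp ha) (k : G) hk
    apply Subtype.ext
    exact this.symm
  have hcard := schc14_abs hp hS.class2 a' ha' (hS.semi a' ha')
    ((Cfsg.pCore p G).subgroupOf (Q : Subgroup G)) hK hidx
  rw [← Subgroup.map_subtype_commutator,
    Subgroup.card_map_of_injective (Subgroup.subtype_injective _), hcard]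

end Cfsg.Agent.Lib.Helper24.SCH
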