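import Mathlib
import Cfsg.Agent.Lib.Helper24.SCH.Defs
import Cfsg.Agent.Lib.helper15.SCHC14core
import Cfsg.Agent.Lib.Helper25.SCHC3

/-!
# Project SCH (S4394, designer helper24), row C14 (`card_comm`), verbatim (wrapper of `schc14_core`).
-/

set_option autoImplicit false

namespace Cfsg.Agent.Lib.Helper24.SCH

open scoped commutatorElement

universe u v

section C

variable {G : Type u} [Group G] [Finite G] {p : ℕ} [Fact p.Prime]

/-- C14 [M]. `Q = F ⟨x⟩`; some `a ∈ A` is not central in `Q` (else `Q ≤ C(A)`, `Q ≤ F` by C3, C4); `semi`: every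
commutator of `Q` is `⁅a, y⁆`, `y = f * x ^ i`, `= ⁅a, x⁆ ^ i` (`f` commutes with `a`, class 2), and `⁅a, x⁆ ^ p = ⁅a, x ^ p⁆ = 1`. -/
theorem card_comm (hC : sA p G ≤ Cfsg.pCore p G) (Q : Sylow p G) (hS : SchP p ↥(Q : Subgroup G))
    (hidx : (Cfsg.pCore p G).relIndex (Q : Subgroup G) = p) :
    Nat.card ↥(⁅(Q : Subgroup G), (Q : Subgroup G)⁆) = p :=
  schc14_core Q (sylow_le_sN Q hS) (sN_inf_cent hC) hC hS hidx

end C

end Cfsg.Agent.Lib.Helper24.SCH
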