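import Mathlib
import Cfsg.Agent.Lib.Helper24.SCH.Defs
import Cfsg.Agent.Lib.Helper1.Cores
import Cfsg.Agent.Lib.helper15.SCHC14
import Cfsg.Agent.Lib.Helper25.SCHC1
import Cfsg.Agent.Lib.Helper25.SCHC3
import Cfsg.Agent.Lib.Helper20.SCHC9
import Cfsg.Agent.Lib.Helper20.SCHC10

/-!
# Project SCH (S4394, designer helper24), row C16 (`pCore_abelian`): the core.

The hypothesis `h_kl4` is the instance of B7 (`kl4`) for `Γ = sGam p G`, `ρ = (sGam p G).subtype`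
(with C6 `gam_core` for `O_p(Γ) = 1`).
-/

set_option autoImplicit false

namespace Cfsg.Agent.Lib.Helper24.SCH

open scoped commutatorElement

universe u

theorem schc16_core {G : Type u} [Group G] [Finite G] {p : ℕ} [Fact p.Prime]
    (hC : sA p G ≤ Cfsg.pCore p G) (Q : Sylow p G) (hS : SchP p ↥(Q : Subgroup G))
    (hidx : (Cfsg.pCore p G).relIndex (Q : Subgroup G) = p)
    (h_kl4 : ∀ D : Subgroup ↥(sA p G),
      (∀ γ : ↥(sGam p G), ∀ d ∈ D, (γ : MulAut ↥(sA p G)) d ∈ D) →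
      ∀ γ : ↥(sGam p G), (∀ a : ↥(sA p G), (γ : MulAut ↥(sA p G)) a / a ∈ D) →
        (∀ d ∈ D, (γ : MulAut ↥(sA p G)) d = d) → γ = 1) :
    Cfsg.pCore p G ≤ sA p G := by
  have hp : p.Prime := Fact.out
  haveI hFn : (Cfsg.pCore p G).Normal := Cfsg.Agent.Lib.Helper1.pCore_normal p
  have hFQ : Cfsg.pCore p G ≤ (Q : Subgroup G) := Cfsg.Agent.Lib.Helper1.pCore_le_sylow p Q
  by_contra hnot
  -- `⁅F, F⁆ ≠ ⊥`
  obtain ⟨f, hf, hfA⟩ := SetLike.not_le_iff_exists.mp hnot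
  have hfA' : ¬ ∀ h ∈ Cfsg.pCore p G, h * f = f * h := fun hh =>
    hfA (Subgroup.mem_centralizer_iff.mpr hh)
  push Not at hfA'
  obtain ⟨h, hh, hhf⟩ := hfA'
  have hc1 : ⁅h, f⁆ ≠ 1 := fun e => hhf (commutatorElement_eq_one_iff_mul_comm.mp e)
  have hcm : ⁅h, f⁆ ∈ ⁅Cfsg.pCore p G, Cfsg.pCore p G⁆ := Subgroup.commutator_mem_commutator hh hf
  have hle : ⁅Cfsg.pCore p G, Cfsg.pCore p G⁆ ≤ ⁅(Q : Subgroup G), (Q : Subgroup G)⁆ :=
    Subgroup.commutator_mono hFQ hFQ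
  have hcardQ := card_comm hC Q hS hidx
  have hcardF : Nat.card ↥(⁅Cfsg.pCore p G, Cfsg.pCore p G⁆) = p := by
    have hdvd := Subgroup.card_dvd_of_le hle
    rw [hcardQ] at hdvd
    rcases (Nat.dvd_prime hp).mp hdvd with h1 | h1
    · exfalso
      rw [Subgroup.card_eq_one] at h1
      rw [h1, Subgroup.mem_bot] at hcm
      exact hc1 hcm
    · exact h1
  have heq : ⁅Cfsg.pCore p G, Cfsg.pCore p G⁆ = ⁅(Q : Subgroup G), (Q : Subgroup G)⁆ :=
    Subgroup.eq_of_le_of_card_ge hle (by rw [hcardQ, hcardF])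
  have hQn : (⁅(Q : Subgroup G), (Q : Subgroup G)⁆).Normal := by
    rw [← heq]
    exact Subgroup.commutator_normal _ _
  -- an element of `Q` outside `F`
  have hex : ∃ x ∈ (Q : Subgroup G), x ∉ Cfsg.pCore p G := by
    by_contra hall
    push Not at hall
    have h1 : (Cfsg.pCore p G).relIndex (Q : Subgroup G) = 1 := Subgroup.relIndex_eq_one.mpr hall
    rw [hidx] at h1
    exact hp.one_lt.ne' h1
  obtain ⟨x, hxQ, hxF⟩ := hex
  have hxN : x ∈ sN p G := sylow_le_sN Q hS hxQ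
  let γ : ↥(sGam p G) := ⟨sRho p G x, Subgroup.mem_map_of_mem _ hxN⟩
  have hγE : γ ∈ sE (p := p) (Q : Subgroup G) := by
    show (γ : MulAut ↥(sA p G)) ∈ (Q : Subgroup G).map (sRho p G)
    exact Subgroup.mem_map_of_mem _ hxQ
  have hinv : ∀ γ' : ↥(sGam p G), ∀ d ∈ sD (p := p) (Q : Subgroup G),
      (γ' : MulAut ↥(sA p G)) d ∈ sD (p := p) (Q : Subgroup G) := by
    intro γ' d hd
    obtain ⟨n, -, hn⟩ := γ'.2
    show (((γ' : MulAut ↥(sA p G)) d : ↥(sA p G)) : G) ∈ ⁅(Q : Subgroup G), (Q : Subgroup G)⁆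
    rw [← hn, sRho_apply]
    exact hQn.conj_mem _ hd n
  have hγ1 : γ = 1 := h_kl4 (sD (p := p) (Q : Subgroup G)) hinv γ (hyp_a hC Q γ hγE)
    (fun d hd => hyp_b Q γ hγE d (sD_le_sZ Q hS hd))
  -- so `x` centralises `A`
  have hxc : x ∈ Subgroup.centralizer (sA p G : Set G) := by
    rw [Subgroup.mem_centralizer_iff]
    intro a ha
    have h1 : (γ : MulAut ↥(sA p G)) ⟨a, ha⟩ = ⟨a, ha⟩ := by
      rw [hγ1]
      rfl
    have h2 := congrArg Subtype.val h1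
    have h3 : x * a * x⁻¹ = a := by
      have := sRho_apply p G x ⟨a, ha⟩
      exact this.symm.trans h2
    calc a * x = x * a * x⁻¹ * x := by rw [h3]
      _ = x * a := by group
  exact hxF (sN_inf_cent hC (Subgroup.mem_inf.mpr ⟨hxN, hxc⟩))

end Cfsg.Agent.Lib.Helper24.SCH
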