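import Mathlib
import Cfsg.Agent.Lib.Helper24.SCH.Defs
import Cfsg.Agent.Lib.helper15.SCHC16core
import Cfsg.Agent.Lib.Helper9.SCHB6

/-!
# Project SCH, row C16 (`pCore_abelian`) on the statement of C6 (`gam_core`) only: `kl4` (B7) is applied here.
-/

set_option autoImplicit false

namespace Cfsg.Agent.Lib.Helper24.SCH

open scoped commutatorElement

universe u

theorem schc16_pre {G : Type u} [Group G] [Finite G] {p : ℕ} [Fact p.Prime]
    (hC : sA p G ≤ Cfsg.pCore p G) (Q : Sylow p G) (hS : SchP p ↥(Q : Subgroup G))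
    (hidx : (Cfsg.pCore p G).relIndex (Q : Subgroup G) = p)
    (h_gam_core : Cfsg.pCore p ↥(sGam p G) = ⊥) :
    Cfsg.pCore p G ≤ sA p G := by
  refine schc16_core hC Q hS hidx ?_
  intro D hD γ h1 h2
  have hcomm : ∀ a b : ↥(sA p G), a * b = b * a := by
    intro a b
    apply Subtype.ext
    have := (Subgroup.mem_centralizer_iff.mp a.2) (b : G) (hC b.2)
    exact this.symm
  letI : CommGroup ↥(sA p G) := { (inferInstance : Group ↥(sA p G)) with mul_comm := hcomm }
  have hA : IsPGroup p ↥(sA p G) :=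
    (Cfsg.Agent.Lib.Helper1.pCore_isPGroup p).to_le hC
  exact kl4 hA (sGam p G).subtype Subtype.val_injective h_gam_core D hD γ h1 h2

end Cfsg.Agent.Lib.Helper24.SCH
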