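import Mathlib
import Cfsg.Agent.Lib.Helper24.SCH.Defs
import Cfsg.Agent.Lib.helper15.SCHC16pre
import Cfsg.Agent.Lib.Helper20.SCHC6

/-!
# Project SCH (S4394, designer helper24), row C16 (`pCore_abelian`), verbatim (wrapper of `schc16_pre`).
-/

set_option autoImplicit false

namespace Cfsg.Agent.Lib.Helper24.SCH

open scoped commutatorElement

universe u v

section C

variable {G : Type u} [Group G] [Finite G] {p : ℕ} [Fact p.Prime]

/-- C16 [M]. If `F` is not abelian then `⁅F, F⁆ ≠ ⊥` lies in `⁅Q, Q⁆` of order `p` (C14), so they are equal and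
`sD Q` is `Γ`-invariant (`⁅F, F⁆` is normal in `G`); for `x ∈ Q \ F`, `γ := ρ x ∈ Γ` satisfies `kl4` (C9, C10, C12), so `ρ x = 1`,
`x ∈ Q ⊓ C(A) ≤ F` (C3, C4). -/
theorem pCore_abelian (hC : sA p G ≤ Cfsg.pCore p G) (Q : Sylow p G) (hS : SchP p ↥(Q : Subgroup G))
    (hidx : (Cfsg.pCore p G).relIndex (Q : Subgroup G) = p) : Cfsg.pCore p G ≤ sA p G :=
  schc16_pre hC Q hS hidx (gam_core hC)

end C

end Cfsg.Agent.Lib.Helper24.SCH
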