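import Mathlib

set_option autoImplicit false

namespace Cfsg.Agent.Lib.helper15.FourierIdem

open Matrix

section basic

variable {F : Type*} [Field F] [Fintype F] [DecidableEq F] {L : Type*} [Field L]
  {ι : Type*} [Fintype ι] [DecidableEq ι]

lemma sum_char (ψ : AddChar F L) (hψ : ψ.IsPrimitive) (x : ι → F) :
    ∑ l : ι → F, ψ (l ⬝ᵥ x) = if x = 0 then (Fintype.card (ι → F) : L) else 0 := by
  classical
  split_ifs with hx
  · subst hx
    simp
  · let f : (ι → F) →+ F :=
      { toFun := fun l => l ⬝ᵥ x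
        map_zero' := zero_dotProduct x
        map_add' := fun a b => add_dotProduct a b x }
    have hne : ψ.compAddMonoidHom f ≠ 1 := by
      obtain ⟨j, hj⟩ : ∃ j, x j ≠ 0 := by
        by_contra h
        push Not at h
        exact hx (funext h)
      obtain ⟨c, hc⟩ := AddChar.ne_one_iff.1 (hψ hj)
      refine AddChar.ne_one_iff.2 ⟨Pi.single j c, ?_⟩
      rw [AddChar.mulShift_apply] at hc
      simp only [AddChar.compAddMonoidHom_apply, AddMonoidHom.coe_mk, ZeroHom.coe_mk, f,
        single_dotProduct]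
      rwa [mul_comm]
    exact AddChar.sum_eq_zero_of_ne_one hne

lemma sum_char' (ψ : AddChar F L) (hψ : ψ.IsPrimitive) (x : ι → F) :
    ∑ l : ι → F, ψ (x ⬝ᵥ l) = if x = 0 then (Fintype.card (ι → F) : L) else 0 := by
  simp_rw [dotProduct_comm x]
  exact sum_char ψ hψ x

end basic

section idem

variable {F : Type*} [Field F] [Fintype F] [DecidableEq F] {L : Type*} [Field L]
  {ι : Type*} [Fintype ι] [DecidableEq ι] {R : Type*} [Ring R] [Algebra L R]

noncomputable def idem (ψ : AddChar F L) (r : (ι → F) → R) (l : ι → F) : R :=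
  (Fintype.card (ι → F) : L)⁻¹ • ∑ v : ι → F, ψ (-(l ⬝ᵥ v)) • r v

variable (ψ : AddChar F L) (hψ : ψ.IsPrimitive) (r : (ι → F) → R)
  (hc : (Fintype.card (ι → F) : L) ≠ 0)

include hψ hc in
lemma sum_idem (hr0 : r 0 = 1) : ∑ l : ι → F, idem ψ r l = 1 := by
  classical
  unfold idem
  rw [← Finset.smul_sum, Finset.sum_comm]
  have h1 : ∀ v : ι → F, ∑ l : ι → F, ψ (-(l ⬝ᵥ v)) • r v =
      (if v = 0 then (Fintype.card (ι → F) : L) else 0) • r v := by
    intro v
    rw [← Finset.sum_smul]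
    congr 1
    have := sum_char ψ hψ (-v)
    simpa only [dotProduct_neg, neg_eq_zero] using this
  simp_rw [h1]
  rw [Finset.sum_eq_single (0 : ι → F)]
  · rw [if_pos rfl, hr0, smul_smul, inv_mul_cancel₀ hc, one_smul]
  · intro b _ hb
    rw [if_neg hb, zero_smul]
  · intro h
    exact absurd (Finset.mem_univ _) h

lemma r_mul_idem (hr : ∀ v w, r (v + w) = r v * r w) (w l : ι → F) :
    r w * idem ψ r l = ψ (l ⬝ᵥ w) • idem ψ r l := by
  classical
  unfold idem
  rw [mul_smul_comm, Finset.mul_sum, smul_comm]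
  congr 1
  rw [Finset.smul_sum]
  rw [← Equiv.sum_comp (Equiv.addLeft w) (fun u => ψ (l ⬝ᵥ w) • ψ (-(l ⬝ᵥ u)) • r u)]
  refine Finset.sum_congr rfl fun v _ => ?_
  rw [mul_smul_comm, ← hr, smul_smul, ← AddChar.map_add_eq_mul]
  simp only [Equiv.coe_addLeft, dotProduct_add]
  congr 2
  ring

include hψ hc in
lemma idem_mul_idem (hr : ∀ v w, r (v + w) = r v * r w) (m l : ι → F) :
    idem ψ r m * idem ψ r l = if m = l then idem ψ r l else 0 := by
  classical
  have h1 : idem ψ r m * idem ψ r l =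
      (Fintype.card (ι → F) : L)⁻¹ • ∑ w : ι → F, ψ ((l - m) ⬝ᵥ w) • idem ψ r l := by
    conv_lhs => rw [idem]
    rw [smul_mul_assoc, Finset.sum_mul]
    congr 1
    refine Finset.sum_congr rfl fun w _ => ?_
    rw [smul_mul_assoc, r_mul_idem ψ r hr, smul_smul, ← AddChar.map_add_eq_mul]
    congr 2
    rw [sub_dotProduct]
    ring
  rw [h1, ← Finset.sum_smul, sum_char' ψ hψ]
  split_ifs with h2 h3 h3
  · rw [smul_smul, inv_mul_cancel₀ hc, one_smul]
  · exact absurd (sub_eq_zero.1 h2).symm h3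
  · exact absurd (sub_eq_zero.2 h3.symm) h2
  · rw [zero_smul, smul_zero]

lemma conj_idem (s : R) (T : (ι → F) ≃ (ι → F)) (hs : ∀ v, s * r v = r (T v) * s)
    (l m : ι → F) (hlm : ∀ v, m ⬝ᵥ T v = l ⬝ᵥ v) : s * idem ψ r l = idem ψ r m * s := by
  unfold idem
  rw [mul_smul_comm, smul_mul_assoc, Finset.mul_sum, Finset.sum_mul]
  congr 1
  rw [← Equiv.sum_comp T (fun u => ψ (-(m ⬝ᵥ u)) • r u * s)]
  refine Finset.sum_congr rfl fun v _ => ?_
  rw [mul_smul_comm, hs, hlm, smul_mul_assoc]

end idem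

section matrix

variable {F : Type*} [Field F] [Fintype F] [DecidableEq F] {L : Type*} [Field L]
  {ι : Type*} [Fintype ι] [DecidableEq ι] {d : ℕ}

lemma card_support_le (ψ : AddChar F L) (hψ : ψ.IsPrimitive)
    (r : (ι → F) → Matrix (Fin d) (Fin d) L)
    (hc : (Fintype.card (ι → F) : L) ≠ 0) (hr : ∀ v w, r (v + w) = r v * r w)
    (S : Finset (ι → F)) (hS : ∀ l ∈ S, idem ψ r l ≠ 0) : S.card ≤ d := by
  classical
  have hex : ∀ l : S, ∃ y : Fin d → L, idem ψ r l.1 *ᵥ y ≠ 0 := by
    intro l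
    by_contra h
    push Not at h
    apply hS l.1 l.2
    ext i j
    have := congrFun (h (Pi.single j 1)) i
    simpa using this
  choose y hy using hex
  have hli : LinearIndependent L (fun l : S => idem ψ r l.1 *ᵥ y l) := by
    rw [Fintype.linearIndependent_iff]
    intro g hg l
    have h1 := congrArg (fun x => idem ψ r l.1 *ᵥ x) hg
    simp only [mulVec_sum, mulVec_smul, mulVec_mulVec, mulVec_zero] at h1
    rw [Finset.sum_eq_single l] at h1
    · rw [idem_mul_idem ψ hψ r hc hr, if_pos rfl] at h1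
      rcases smul_eq_zero.1 h1 with h2 | h2
      · exact h2
      · exact absurd h2 (hy l)
    · intro b _ hb
      rw [idem_mul_idem ψ hψ r hc hr, if_neg, zero_mulVec, smul_zero]
      intro h
      exact hb (Subtype.ext h.symm)
    · intro h
      exact absurd (Finset.mem_univ _) h
  have := hli.fintype_card_le_finrank
  simpa using this

end matrix

end Cfsg.Agent.Lib.helper15.FourierIdem
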