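import Mathlib
import Cfsg.Agent.Lib.Lead.STB.Defs
import Cfsg.Agent.Lib.Lead.STB.Defs3
import Cfsg.Agent.Lib.Helper24.STCI1

/-!
# STB N4a (`SysB.Yg_comm`): `Yg o` is abelian.  Self-contained on `STB/Defs.lean`.
-/

set_option autoImplicit false

namespace Cfsg.Agent.Lib.Lead.STB

open Cfsg.Agent.Lib.helper15.St2 Cfsg.Agent.Lib.helper3.STC Cfsg.Agent.Lib.Lead.STD

universe v w

/-- a subgroup generated by pairwise commuting elements is abelian. -/
theorem stbn4a_comm_of_gens {G : Type*} [Group G] (T : Set G) (h : ∀ g ∈ T, ∀ k ∈ T, g * k = k * g) :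
    ∀ y ∈ Subgroup.closure T, ∀ z ∈ Subgroup.closure T, y * z = z * y := by
  have h1 : ∀ g ∈ T, ∀ y ∈ Subgroup.closure T, g * y = y * g := by
    intro g hg y hy
    induction hy using Subgroup.closure_induction with
    | mem k hk => exact h g hg k hk
    | one => rw [mul_one, one_mul]
    | mul a b _ _ ha hb => rw [← mul_assoc, ha, mul_assoc, hb, mul_assoc]
    | inv a _ ha =>
      have : a⁻¹ * (g * a) * a⁻¹ = a⁻¹ * (a * g) * a⁻¹ := by rw [ha]
      simpa [mul_assoc] using this.symm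
  intro y hy z hz
  induction hy using Subgroup.closure_induction with
  | mem g hg => exact h1 g hg z hz
  | one => rw [mul_one, one_mul]
  | mul a b _ _ ha hb => rw [mul_assoc, hb, ← mul_assoc, ha, mul_assoc]
  | inv a _ ha =>
    have : a⁻¹ * (a * z) * a⁻¹ = a⁻¹ * (z * a) * a⁻¹ := by rw [ha]
    simpa [mul_assoc] using this.symm

namespace SysB

variable {K : Type*} [Field K] {ι : Type*} [DecidableEq ι] {G : Type*} [Group G] (S : SysB K ι G)

section N
variable (o : ι ⊕ ι)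

omit [DecidableEq ι] in
/-- two long generators of `Yg o` commute. -/
theorem stbn4a_xx {a b : ι ⊕ ι} (ha : a ≠ o) (ha' : a ≠ ng o) (hb : b ≠ o) (hb' : b ≠ ng o) (t u : K) :
    S.x a o t * S.x b o u = S.x b o u * S.x a o t := by
  by_cases hba : b = ng a
  · subst hba
    have h1 : ng o ≠ ng a := fun e => ha (ng_inj.1 e).symm
    have h2 : ng o ≠ ng (ng a) := by rw [ng_ng]; exact fun e => ha' e.symm
    have hsym : S.x a o t = S.x (ng o) (ng a) (-t) := S.sym a o ha ha' t
    have hsso := S.sso (ng o) (ng a) h1 h2 (-t) u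
    rw [ng_ng] at hsso
    rw [hsym, hsso]
  · exact S.comm a o b o ha ha' hb hb' (fun e => hb e.symm) ha (ne_ng o)
      (fun e => hba (by rw [e, ng_ng])) t u

omit [DecidableEq ι] in
/-- a long generator of `Yg o` commutes with the short one. -/
theorem stbn4a_xxs {a : ι ⊕ ι} (ha : a ≠ o) (ha' : a ≠ ng o) (t u : K) :
    S.x a o t * S.xs (ng o) u = S.xs (ng o) u * S.x a o t :=
  (S.comm_ls (ng o) a o ha ha' (ne_ng o) (by rw [ng_ng]; exact ha) u t).symm

omit [DecidableEq ι] in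
/-- N4a [S-M]  `Yg o` is abelian. -/
theorem Yg_comm : ∀ y ∈ S.Yg o, ∀ z ∈ S.Yg o, y * z = z * y := by
  unfold Yg XQ
  apply stbn4a_comm_of_gens
  intro g hg k hk
  rcases hg with ⟨a, d, t, had, had', hd, rfl⟩ | ⟨a, t, ha, rfl⟩
  · rw [hd] at had had' ⊢
    rcases hk with ⟨b, d', u, hbd, hbd', hd', rfl⟩ | ⟨b, u, hb, rfl⟩
    · rw [hd'] at hbd hbd' ⊢
      exact S.stbn4a_xx o had had' hbd hbd' t u
    · rw [hb]
      exact S.stbn4a_xxs o had had' t u
  · rw [ha]
    rcases hk with ⟨b, d', u, hbd, hbd', hd', rfl⟩ | ⟨b, u, hb, rfl⟩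
    · rw [hd'] at hbd hbd' ⊢
      exact (S.stbn4a_xxs o hbd hbd' u t).symm
    · rw [hb, S.adds, S.adds, add_comm]

end N

end SysB

end Cfsg.Agent.Lib.Lead.STB
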