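import Mathlib
import Cfsg.Agent.Lib.Lead.STB.Defs
import Cfsg.Agent.Lib.Lead.STB.Defs3
import Cfsg.Agent.Lib.Helper24.STCI1

/-!
# STB N2s (`SysB.xs_cj_mem_Yg`): a SHORT root element of the Levi factor normalises `Yg o`.  Self-contained on `STB/Defs.lean`.
-/

set_option autoImplicit false

namespace Cfsg.Agent.Lib.Lead.STB

open Cfsg.Agent.Lib.helper15.St2 Cfsg.Agent.Lib.helper3.STC Cfsg.Agent.Lib.Lead.STD

universe v w

namespace SysB

variable {K : Type*} [Field K] {ι : Type*} [DecidableEq ι] {G : Type*} [Group G] (S : SysB K ι G)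

section N
variable (o : ι ⊕ ι)

omit [DecidableEq ι] in
/-- a long generator of `Yg o`. -/
theorem stbn2s_x_mem {c : ι ⊕ ι} (hc : c ≠ o) (hc' : c ≠ ng o) (u : K) : S.x c o u ∈ S.Yg o :=
  Subgroup.subset_closure (Or.inl ⟨c, o, u, hc, hc', rfl, rfl⟩)

omit [DecidableEq ι] in
/-- the short generator of `Yg o`. -/
theorem stbn2s_xs_mem (u : K) : S.xs (ng o) u ∈ S.Yg o :=
  Subgroup.subset_closure (Or.inr ⟨ng o, u, rfl, rfl⟩)

omit [DecidableEq ι] in
/-- `x (ng o) b u ∈ Yg o` for `b ≠ o`, `b ≠ ng o`. -/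
theorem stbn2s_x_mem' {b : ι ⊕ ι} (hb : b ≠ o) (hb' : b ≠ ng o) (u : K) : S.x (ng o) b u ∈ S.Yg o := by
  have h1 : ng o ≠ b := fun e => hb' e.symm
  have h2 : ng o ≠ ng b := fun e => hb (ng_inj.1 e).symm
  rw [S.sym (ng o) b h1 h2 u, ng_ng]
  exact S.stbn2s_x_mem o (fun e => hb' (ng_eq_iff.1 e)) (fun e => hb (ng_inj.1 e)) (-u)

omit [DecidableEq ι] in
/-- N2s [M]  a SHORT root element of the Levi factor normalises `Yg o`. -/
theorem xs_cj_mem_Yg {a : ι ⊕ ι} (ha : a ≠ o) (ha' : a ≠ ng o) (t : K) : ∀ y ∈ S.Yg o, cj (S.xs a t) y ∈ S.Yg o := by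
  intro y hy
  unfold Yg XQ at hy
  induction hy using Subgroup.closure_induction with
  | mem g hg =>
    rcases hg with ⟨c, d, u, hcd, hcd', hd, rfl⟩ | ⟨b, u, hb, rfl⟩
    · subst hd
      by_cases hca : c = ng a
      · subst hca
        -- `x (ng a) d u = x (ng d) a (-u)`
        have h1 : ng d ≠ a := fun e => ha' e.symm
        have h2 : ng d ≠ ng a := fun e => ha (ng_inj.1 e).symm
        have hsym : S.x (ng a) d u = S.x (ng d) a (-u) := by
          rw [S.sym (ng a) d hcd hcd' u, ng_ng]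
        rw [hsym]
        have hls := S.ls (ng d) a h1 h2 (-u) t
        have key : cj (S.xs a t) (S.x (ng d) a (-u)) =
            (S.xs (ng d) (-u * t) * S.x (ng d) (ng a) (-u * t ^ 2))⁻¹ * S.x (ng d) a (-u) := by
          rw [← hls]
          unfold cj
          group
        rw [key]
        refine (S.Yg d).mul_mem ((S.Yg d).inv_mem ((S.Yg d).mul_mem (S.stbn2s_xs_mem d _) ?_)) ?_
        · exact S.stbn2s_x_mem' d hcd hcd' _
        · exact S.stbn2s_x_mem' d ha ha' _
      · have hcomm := S.comm_ls a c d hcd hcd' (fun e => ha e.symm) hca t u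
        have key : cj (S.xs a t) (S.x c d u) = S.x c d u := by
          unfold cj
          rw [hcomm, mul_inv_cancel_right]
        rw [key]
        exact S.stbn2s_x_mem d hcd hcd' u
    · subst hb
      have h1 : a ≠ ng o := ha'
      have h2 : a ≠ ng (ng o) := by rw [ng_ng]; exact ha
      have hss := S.ss a (ng o) h1 h2 t u
      rw [ng_ng] at hss
      have key : cj (S.xs a t) (S.xs (ng o) u) = S.x a o (-(2 * t * u)) * S.xs (ng o) u := by
        rw [← hss]
        unfold cj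
        group
      rw [key]
      exact (S.Yg o).mul_mem (S.stbn2s_x_mem o ha ha' _) (S.stbn2s_xs_mem o u)
  | one => rw [cj_one]; exact (S.Yg o).one_mem
  | mul x y _ _ hx hy => rw [cj_mul]; exact (S.Yg o).mul_mem hx hy
  | inv x _ hx => rw [cj_inv]; exact (S.Yg o).inv_mem hx

end N

end SysB

end Cfsg.Agent.Lib.Lead.STB
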