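import Mathlib
import Cfsg.Agent.Lib.Lead.STB.Defs
import Cfsg.Agent.Lib.Lead.STB.Defs3
import Cfsg.Agent.Lib.Helper24.STCI1
import Cfsg.Agent.Lib.Helper1.STBX1
import Cfsg.Agent.Lib.helper15.STBN2s

/-!
# STB N5 (`SysB.Yj_cj_mem_Yg`): `Yj o j` normalises `Yg j`.
-/

set_option autoImplicit false

namespace Cfsg.Agent.Lib.Lead.STB

open Cfsg.Agent.Lib.helper15.St2 Cfsg.Agent.Lib.helper3.STC Cfsg.Agent.Lib.Lead.STD

universe v w

namespace SysB

variable {K : Type*} [Field K] {ι : Type*} [DecidableEq ι] {G : Type*} [Group G] (S : SysB K ι G)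

section N
variable (o : ι ⊕ ι)

omit [DecidableEq ι] in
/-- `X Y X⁻¹ Y⁻¹ = Z` gives `cj Y X = Z⁻¹ X`. -/
theorem stbn5_cj_of_comm {X Y Z : G} (h : X * Y * X⁻¹ * Y⁻¹ = Z) : cj Y X = Z⁻¹ * X := by
  rw [← h]
  unfold cj
  group

omit [DecidableEq ι] in
/-- `X Y X⁻¹ Y⁻¹ = Z` gives `cj X Y = Z Y`. -/
theorem stbn5_cj_of_comm' {X Y Z : G} (h : X * Y * X⁻¹ * Y⁻¹ = Z) : cj X Y = Z * Y := by
  rw [← h]
  unfold cj
  group

omit [DecidableEq ι] in
/-- commuting elements -/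
theorem stbn5_cj_of_commute {X Y : G} (h : X * Y = Y * X) : cj X Y = Y := by
  unfold cj
  rw [h, mul_inv_cancel_right]

omit [DecidableEq ι] in
/-- a long generator `x a o t` of `Yj o j` normalises `Yg j`. -/
theorem stbn5_long {j a : ι ⊕ ι} (hj : j ≠ o) (hj' : j ≠ ng o) (ha : a ≠ o) (ha' : a ≠ ng o) (haj : a ≠ j) (t : K) :
    ∀ q ∈ S.Yg j, cj (S.x a o t) q ∈ S.Yg j := by
  have hoj' : o ≠ ng j := fun e => hj' (by rw [e, ng_ng])
  have hnjo : ng j ≠ o := fun e => hj' (ng_eq_iff.1 e)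
  have hnjno : ng j ≠ ng o := fun e => hj (ng_inj.1 e)
  unfold Yg XQ
  apply Cfsg.Agent.Lib.helper7.St.cj_mem_of_gens
  rintro _ (⟨c, d, u, hcd, hcd', hd, rfl⟩ | ⟨c, u, hc, rfl⟩)
  · rw [hd] at hcd hcd' ⊢
    show cj (S.x a o t) (S.x c j u) ∈ S.Yg j
    by_cases hco : c = o
    · rw [hco]
      by_cases hanj : a = ng j
      · -- `x (ng j) o t` commutes with `x o j u`
        have hsso := S.sso (ng j) o hnjo hnjno t u
        rw [ng_ng] at hsso
        rw [hanj, stbn5_cj_of_commute hsso]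
        exact S.stbn2s_x_mem j hj.symm hoj' u
      · have h3 := S.comm3 a o j ha ha' hj.symm hoj' haj hanj t u
        rw [stbn5_cj_of_comm' h3]
        exact (S.Yg j).mul_mem (S.stbn2s_x_mem j haj hanj _) (S.stbn2s_x_mem j hj.symm hoj' u)
    · by_cases hcna : c = ng a
      · rw [hcna] at hcd hcd' ⊢
        -- `x (ng a) j u = x (ng j) a (-u)`
        have hsym : S.x (ng a) j u = S.x (ng j) a (-u) := by
          rw [S.sym (ng a) j hcd hcd' u, ng_ng]
        have hnja : ng j ≠ a := fun e => hcd (by rw [← e, ng_ng])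
        have hnjna : ng j ≠ ng a := fun e => haj (ng_inj.1 e).symm
        have h3 := S.comm3 (ng j) a o hnja hnjna ha ha' hnjo hnjno (-u) t
        rw [hsym, stbn5_cj_of_comm h3]
        refine (S.Yg j).mul_mem ((S.Yg j).inv_mem ?_) ?_
        · exact S.stbn2s_x_mem' j hj.symm hoj' _
        · exact S.stbn2s_x_mem' j haj (fun e => hnja e.symm) _
      · have hcomm := S.comm a o c j ha ha' hcd hcd' (fun e => hco e.symm) haj hoj'
          (fun e => hcna (by rw [e, ng_ng])) t u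
        rw [stbn5_cj_of_commute hcomm]
        exact S.stbn2s_x_mem j hcd hcd' u
  · rw [hc]
    show cj (S.x a o t) (S.xs (ng j) u) ∈ S.Yg j
    have hcomm := S.comm_ls (ng j) a o ha ha' hoj' (by rw [ng_ng]; exact haj) u t
    rw [stbn5_cj_of_commute hcomm.symm]
    exact S.stbn2s_xs_mem j u

omit [DecidableEq ι] in
/-- the short generator `xs (ng o) s` of `Yj o j` normalises `Yg j`. -/
theorem stbn5_short {j : ι ⊕ ι} (hj : j ≠ o) (hj' : j ≠ ng o) (s : K) :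
    ∀ q ∈ S.Yg j, cj (S.xs (ng o) s) q ∈ S.Yg j := by
  have hoj' : o ≠ ng j := fun e => hj' (by rw [e, ng_ng])
  have hnjo : ng j ≠ o := fun e => hj' (ng_eq_iff.1 e)
  have hnjno : ng j ≠ ng o := fun e => hj (ng_inj.1 e)
  unfold Yg XQ
  apply Cfsg.Agent.Lib.helper7.St.cj_mem_of_gens
  rintro _ (⟨c, d, u, hcd, hcd', hd, rfl⟩ | ⟨c, u, hc, rfl⟩)
  · rw [hd] at hcd hcd' ⊢
    show cj (S.xs (ng o) s) (S.x c j u) ∈ S.Yg j
    by_cases hco : c = o
    · rw [hco] at hcd hcd' ⊢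
      have hsym : S.x o j u = S.x (ng j) (ng o) (-u) := S.sym o j hcd hcd' u
      have hls := S.ls (ng j) (ng o) hnjno (by rw [ng_ng]; exact hnjo) (-u) s
      rw [ng_ng] at hls
      rw [hsym, stbn5_cj_of_comm hls]
      refine (S.Yg j).mul_mem ((S.Yg j).inv_mem ((S.Yg j).mul_mem (S.stbn2s_xs_mem j _) ?_)) ?_
      · exact S.stbn2s_x_mem' j hj.symm hoj' _
      · rw [← hsym]
        exact S.stbn2s_x_mem j hcd hcd' u
    · have hcomm := S.comm_ls (ng o) c j hcd hcd' hj' (by rw [ng_ng]; exact hco) s u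
      rw [stbn5_cj_of_commute hcomm]
      exact S.stbn2s_x_mem j hcd hcd' u
  · rw [hc]
    show cj (S.xs (ng o) s) (S.xs (ng j) u) ∈ S.Yg j
    have hss := S.ss (ng o) (ng j) (fun e => hnjno e.symm) (by rw [ng_ng]; exact fun e => hj' e.symm) s u
    rw [ng_ng] at hss
    rw [stbn5_cj_of_comm' hss]
    refine (S.Yg j).mul_mem ?_ (S.stbn2s_xs_mem j u)
    exact S.stbn2s_x_mem j (fun e => hj' e.symm) (fun e => hnjno e.symm) _

omit [DecidableEq ι] in
/-- N5 [M]  `Yj o j` normalises `Yg j`. -/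
theorem Yj_cj_mem_Yg {j : ι ⊕ ι} (hj : j ≠ o) (hj' : j ≠ ng o) : ∀ y' ∈ S.Yj o j, ∀ z ∈ S.Yg j, cj y' z ∈ S.Yg j := by
  unfold Yj
  apply S.XQ_cj_mem
  · intro a b t hab hab' hQ q hq
    obtain ⟨hb, haj⟩ := hQ
    rw [hb] at hab hab' ⊢
    exact S.stbn5_long o hj hj' hab hab' haj t q hq
  · intro a t ha q hq
    rw [ha]
    exact S.stbn5_short o hj hj' t q hq

end N

end SysB

end Cfsg.Agent.Lib.Lead.STB
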