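import Mathlib
import Cfsg.Agent.Lib.Lead.STB.Defs
import Cfsg.Agent.Lib.Lead.STB.Defs2
import Cfsg.Agent.Lib.Lead.STB.Defs3
import Cfsg.Agent.Lib.Lead.STB.Defs4
import Cfsg.Agent.Lib.Helper24.STCI1
import Cfsg.Agent.Lib.Helper20.STCR1
import Cfsg.Agent.Lib.Helper20.STBR3
import Cfsg.Agent.Lib.Helper25.STBR4

/-!
# STB R6 (helper15): `SysB.Rep.Pg_col`, `Lg_col'`, `Yg_row`, `Yg_apply` VERBATIM, and the CORE `stbr6_Phat_lineStab_core` of `Phat_lineStab`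
(with the statements of R5 `M_h_fst` and R5t `M_hs_fst` at `a = o` as hypotheses; the verbatim `Phat_lineStab` is in `helper15.STBR6b`).
On R3 (`Helper20.STBR3`) and R4 (`Helper25.STBR4`).
-/

set_option autoImplicit false

namespace Cfsg.Agent.Lib.Lead.STB

open Matrix Cfsg.Agent.Lib.helper15.St2 Cfsg.Agent.Lib.helper3.STC Cfsg.Agent.Lib.Lead.STD

universe v w

namespace SysB

namespace Rep

variable {K : Type*} [Field K] {ι : Type*} {G : Type*} [Group G] {S : SysB K ι G} {l : Type*} [Fintype l] [DecidableEq l] (R : S.Rep l)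

/-- `Eb` is injective. -/
theorem stbr6_Eb_ne {a b : ι ⊕ ι} (h : a ≠ b) : Eb R.e a ≠ Eb R.e b := fun e =>
  h (Em_injective R.e (Sum.inr_injective e))

variable (o : ι ⊕ ι)

/-- R6 [S-M]  the parabolic subgroup fixes the line of `e_o`. -/
theorem Pg_col : ∀ p ∈ S.Pg o, R.M p *ᵥ evb (Eb R.e o) = evb (Eb R.e o) := by
  unfold Pg
  apply XQ_colStab R
  · intro a b _ _ hQ
    exact ⟨stbr6_Eb_ne R hQ.1, stbr6_Eb_ne R (fun h => hQ.2 (ng_eq_iff.1 h))⟩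
  · intro a ha
    exact ⟨Sum.inl_ne_inr, stbr6_Eb_ne R (fun h => ha (ng_eq_iff.1 h))⟩

theorem Lg_col' : ∀ x ∈ S.Lg o, R.M x *ᵥ evb (Eb R.e (ng o)) = evb (Eb R.e (ng o)) := by
  unfold Lg
  apply XQ_colStab R
  · intro a b _ _ hQ
    exact ⟨stbr6_Eb_ne R hQ.2.2, stbr6_Eb_ne R (fun h => hQ.1.1 (ng_inj.1 h))⟩
  · intro a ha
    exact ⟨Sum.inl_ne_inr, stbr6_Eb_ne R (fun h => ha.1 (ng_inj.1 h))⟩

/-- the stabiliser of the line of `e_o` -/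
def stbr6_lineStab : Subgroup G where
  carrier := {g | ∃ c : K, c ≠ 0 ∧ R.M g *ᵥ evb (Eb R.e o) = c • evb (Eb R.e o)}
  mul_mem' := by
    rintro g g' ⟨c, hc, h⟩ ⟨c', hc', h'⟩
    refine ⟨c' * c, mul_ne_zero hc' hc, ?_⟩
    rw [M_mul, ← Matrix.mulVec_mulVec, h', Matrix.mulVec_smul, h, smul_smul]
  one_mem' := ⟨1, one_ne_zero, by rw [M_one, Matrix.one_mulVec, one_smul]⟩
  inv_mem' := by
    rintro g ⟨c, hc, h⟩
    refine ⟨c⁻¹, inv_ne_zero hc, ?_⟩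
    have h2 := M_inv_mulVec R h
    rw [Matrix.mulVec_smul] at h2
    calc R.M g⁻¹ *ᵥ evb (Eb R.e o) = c⁻¹ • (c • R.M g⁻¹ *ᵥ evb (Eb R.e o)) := by
          rw [smul_smul, inv_mul_cancel₀ hc, one_smul]
      _ = c⁻¹ • evb (Eb R.e o) := by rw [h2]

/-- core of `Phat_lineStab`: `hR5` is the statement of R5 `M_h_fst`, `hR5t` that of R5t `M_hs_fst`. -/
theorem stbr6_Phat_lineStab_core
    (hR5 : ∀ {a b : ι ⊕ ι}, a ≠ b → a ≠ ng b → ∀ u : K, u ≠ 0 →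
      R.M (S.h a b u) *ᵥ evb (Eb R.e a) = u • evb (Eb R.e a))
    (hR5t : ∀ (a : ι ⊕ ι) (u : K), u ≠ 0 → R.M (S.hs a u) *ᵥ evb (Eb R.e a) = (u ^ 2) • evb (Eb R.e a)) :
    ∀ p ∈ S.Phat o, ∃ c : K, c ≠ 0 ∧ R.M p *ᵥ evb (Eb R.e o) = c • evb (Eb R.e o) := by
  have hle : S.Phat o ≤ stbr6_lineStab R o := by
    unfold Phat
    apply sup_le
    · intro p hp
      exact ⟨1, one_ne_zero, by rw [Pg_col R o p hp, one_smul]⟩
    · unfold Hg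
      rw [Subgroup.closure_le]
      rintro g (⟨b, t, hb, hb', ht, rfl⟩ | ⟨t, ht, rfl⟩)
      · exact ⟨t, ht, hR5 hb.symm (fun h => hb' (by rw [h, ng_ng])) t ht⟩
      · exact ⟨t ^ 2, pow_ne_zero 2 ht, hR5t o t ht⟩
  exact fun p hp => hle hp

theorem Yg_row : ∀ y ∈ S.Yg o, evb (Eb R.e o) ᵥ* R.M y = evb (Eb R.e o) := by
  unfold Yg
  apply XQ_rowStab R
  · intro a b hab _ hQ
    rw [hQ] at hab
    exact ⟨stbr6_Eb_ne R hab, by rw [hQ]; exact stbr6_Eb_ne R (ng_ne o)⟩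
  · intro a ha
    rw [ha]
    exact ⟨Sum.inl_ne_inr, stbr6_Eb_ne R (ng_ne o)⟩

theorem Yg_apply {y : G} (hy : y ∈ S.Yg o) : (R.M y *ᵥ evb (Eb R.e o)) (Eb R.e o) = 1 := by
  have h1 : (R.M y *ᵥ evb (Eb R.e o)) (Eb R.e o) =
      (evb (Eb R.e o) : Ix l → K) ⬝ᵥ (R.M y *ᵥ evb (Eb R.e o)) := by
    unfold evb
    rw [single_one_dotProduct]
  rw [h1, Matrix.dotProduct_mulVec, Yg_row R o y hy]
  unfold evb
  rw [single_one_dotProduct, Pi.single_eq_same]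

end Rep

end SysB

end Cfsg.Agent.Lib.Lead.STB
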