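import Mathlib
import Cfsg.Agent.Lib.Lead.STB.Defs
import Cfsg.Agent.Lib.Lead.STB.Defs3
import Cfsg.Agent.Lib.helper15.STBF15core
import Cfsg.Agent.Lib.Helper16.STBF10
import Cfsg.Agent.Lib.Helper21.STBF12

/-!
# STB F15 (`SysB.InD_w`), VERBATIM: `InD` is stable under `w o k 1` (wrapper of `stbf15_core` on F11 F12 F13 F14b).
-/

set_option autoImplicit false

namespace Cfsg.Agent.Lib.Lead.STB

open Cfsg.Agent.Lib.helper15.St2 Cfsg.Agent.Lib.helper3.STC Cfsg.Agent.Lib.Lead.STD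

universe v w

namespace SysB

variable {K : Type*} [Field K] {ι : Type*} [DecidableEq ι] {G : Type*} [Group G] (S : SysB K ι G)

section F
variable (o : ι ⊕ ι)

/-- F15 [M]  **`InD` is stable under `w o k 1`.** -/
theorem InD_w [Finite K] {k : ι ⊕ ι} (hk : k ≠ o) (hk' : k ≠ ng o) {g : G} (hg : S.InD o g) : S.InD o (S.w o k 1 * g) :=
  S.stbf15_core o (fun h h' => S.ww_same o h h') (fun h1 h2 h3 h4 h5 h6 => S.ww_gen o h1 h2 h3 h4 h5 h6)
    (fun h h' => S.ww_opp o h h') (fun h h' => S.w_ws o h h') hk hk' hg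

end F

end SysB

end Cfsg.Agent.Lib.Lead.STB
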