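import Mathlib
import Cfsg.Agent.Lib.Lead.STB.Defs
import Cfsg.Agent.Lib.Lead.STB.Defs3
import Cfsg.Agent.Lib.Helper24.STCI1
import Cfsg.Agent.Lib.Helper9.STBF8
import Cfsg.Agent.Lib.Helper1.STBW12

/-!
# STB F17s (`SysB.lemB_s`), CORE: a short root element on `cell o k`, with the STATEMENTS of F10s `lemA_all_s` and F15 `InD_w` as hypotheses
(F8 `IsMon_move_s` and W12 `isMon_w` are on main).
-/

set_option autoImplicit false

namespace Cfsg.Agent.Lib.Lead.STB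

open Cfsg.Agent.Lib.helper15.St2 Cfsg.Agent.Lib.helper3.STC Cfsg.Agent.Lib.Lead.STD

universe v w

namespace SysB

variable {K : Type*} [Field K] {ι : Type*} [DecidableEq ι] {G : Type*} [Group G] (S : SysB K ι G)

section F
variable (o : ι ⊕ ι)

/-- F17s core. -/
theorem stbf17s_core
    (hF10s : ∀ (a : ι ⊕ ι) (t : K) {y p : G}, y ∈ S.Yg o → p ∈ S.Phat o → S.InD o (S.xs a t * (y * p)))
    (hF15 : ∀ {k : ι ⊕ ι}, k ≠ o → k ≠ ng o → ∀ {g : G}, S.InD o g → S.InD o (S.w o k 1 * g))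
    {k : ι ⊕ ι} (hk : k ≠ o) (hk' : k ≠ ng o) (a : ι ⊕ ι) (t : K) {y p : G} (hy : y ∈ S.Yg o) (hp : p ∈ S.Phat o) :
    S.InD o (S.xs a t * (S.w o k 1 * y * p)) := by
  have hmon := S.isMon_w (a := o) (b := k) (fun h => hk h.symm) (fun h => hk' (by rw [h, ng_ng])) 1 one_ne_zero
  obtain ⟨s, hs⟩ := S.IsMon_move_s hmon a t
  have e : S.xs a t * (S.w o k 1 * y * p) = S.w o k 1 * (S.xs ((sws o k)⁻¹ a) s * (y * p)) := by
    calc S.xs a t * (S.w o k 1 * y * p) = (S.xs a t * S.w o k 1) * (y * p) := by group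
      _ = S.w o k 1 * (S.xs ((sws o k)⁻¹ a) s * (y * p)) := by rw [hs]; group
  rw [e]
  exact hF15 hk hk' (hF10s _ s hy hp)

end F

end SysB

end Cfsg.Agent.Lib.Lead.STB
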