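import Mathlib
import Cfsg.Agent.Lib.helper17.STM.Defs
import Cfsg.Agent.Lib.helper17.STM.Defs2
import Cfsg.Agent.Lib.Lead.STDB1
import Cfsg.Agent.Lib.Helper24.STCI1
import Cfsg.Agent.Lib.helper4.STMX1
import Cfsg.Agent.Lib.Helper5.STMN4s

/-!
# Project STM (designer helper17; family S2099), row F6a (helper15), VERBATIM vs `helper17/STM/Skel2.lean.txt`:
`SysM.YT_dich`: the coordinates of the long part of `Yg o`, by induction on the finite set `T` (port of `helper15.STBF6a`).
Extras: `stmf6a_YT_mono`, `stmf6a_YT_empty`.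
-/

set_option autoImplicit false

namespace Cfsg.Agent.Lib.helper17.STM

open Cfsg.Agent.Lib.helper15.St2 Cfsg.Agent.Lib.helper3.STC Cfsg.Agent.Lib.Lead.STD

universe v w

namespace SysM

variable {F : Type*} [Field F] {A B : F} [Fact (∀ r : F, r ^ 2 ≠ -B + A * r)] {ι : Type*} [DecidableEq ι] {G : Type*} [Group G] (S : SysM F A B ι G)

section F
variable (o : ι ⊕ ι)

omit [DecidableEq ι] in
/-- `YT o T` is monotone in `T`. -/
theorem stmf6a_YT_mono {T T' : Set (ι ⊕ ι)} (h : T ⊆ T') : S.YT o T ≤ S.YT o T' := by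
  unfold YT
  exact S.XQ_mono (fun a b _ _ hQ => ⟨hQ.1, h hQ.2⟩) (fun _ hf => hf)

omit [DecidableEq ι] in
/-- `YT o ∅ = ⊥`. -/
theorem stmf6a_YT_empty : ∀ y ∈ S.YT o (∅ : Set (ι ⊕ ι)), y = 1 := by
  intro y hy
  have hle : S.YT o (∅ : Set (ι ⊕ ι)) ≤ ⊥ := by
    unfold YT XQ
    apply (Subgroup.closure_le _).2
    rintro _ (⟨a, b, t, _, _, ⟨_, ha⟩, rfl⟩ | ⟨a, t, hf, rfl⟩)
    · exact absurd ha (Set.notMem_empty a)
    · exact absurd hf id
  exact Subgroup.mem_bot.1 (hle hy)

/-- F6a [M]  the coordinates of the long part. -/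
theorem YT_dich (T : Finset (ι ⊕ ι)) : ∀ y ∈ S.YT o (↑T : Set (ι ⊕ ι)), y = 1 ∨
    ∃ j ∈ T, j ≠ o ∧ j ≠ ng o ∧ ∃ u : F, u ≠ 0 ∧ ∃ y' ∈ S.YT o ((↑T : Set (ι ⊕ ι)) \ {j}), y = S.x j o u * y' := by
  induction T using Finset.induction_on with
  | empty =>
    intro y hy
    left
    rw [Finset.coe_empty] at hy
    exact S.stmf6a_YT_empty o y hy
  | insert j T hjT ih =>
    intro y hy
    rw [Finset.coe_insert] at hy
    obtain ⟨u, y', hy', rfl⟩ := S.YT_decomp o (↑T : Set (ι ⊕ ι)) j y hy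
    -- the case where `x j o u = 1`
    have hred : S.x j o u = 1 → (S.x j o u * y' = 1 ∨
        ∃ j' ∈ insert j T, j' ≠ o ∧ j' ≠ ng o ∧ ∃ u' : F, u' ≠ 0 ∧
          ∃ y'' ∈ S.YT o ((↑(insert j T) : Set (ι ⊕ ι)) \ {j'}), S.x j o u * y' = S.x j' o u' * y'') := by
      intro h1
      rw [h1, one_mul]
      rcases ih y' hy' with h | ⟨j', hj'T, hj'o, hj'o', u', hu', y'', hy'', rfl⟩
      · exact Or.inl h
      · refine Or.inr ⟨j', Finset.mem_insert_of_mem hj'T, hj'o, hj'o', u', hu', y'', ?_, rfl⟩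
        refine S.stmf6a_YT_mono o ?_ hy''
        intro a ha
        refine ⟨?_, ha.2⟩
        rw [Finset.coe_insert]
        exact Set.mem_insert_of_mem j ha.1
    by_cases hjo : j = o
    · apply hred
      rw [hjo]
      exact S.diag o u
    by_cases hjo' : j = ng o
    · apply hred
      rw [hjo']
      have e := S.opp (ng o) u
      rwa [ng_ng] at e
    by_cases hu : u = 0
    · apply hred
      rw [hu]
      exact S.toSysD.x_zero j o
    · refine Or.inr ⟨j, Finset.mem_insert_self j T, hjo, hjo', u, hu, y', ?_, rfl⟩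
      have hset : ((↑(insert j T) : Set (ι ⊕ ι)) \ {j}) = (↑T : Set (ι ⊕ ι)) := by
        rw [Finset.coe_insert]
        ext a
        constructor
        · rintro ⟨h1, h2⟩
          rcases h1 with h | h
          · exact absurd h h2
          · exact h
        · intro ha
          refine ⟨Set.mem_insert_of_mem j ha, ?_⟩
          intro haj
          rw [Set.mem_singleton_iff] at haj
          rw [haj] at ha
          exact hjT (Finset.mem_coe.1 ha)
      rw [hset]
      exact hy'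

end F

end SysM

end Cfsg.Agent.Lib.helper17.STM
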