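import Mathlib
import Cfsg.Agent.Lib.helper17.STM.Defs
import Cfsg.Agent.Lib.helper17.STM.Defs2
import Cfsg.Agent.Lib.Helper24.STCI1
import Cfsg.Agent.Lib.Helper20.STMN1
import Cfsg.Agent.Lib.Helper20.STMH1
import Cfsg.Agent.Lib.Helper5.STMW2

/-!
# Project STM (designer helper17; family S2099), part 2, row F7 `lemA_s` (helper15): CORE.  The short root element `xs o t` on the big cell
(port of `Helper25.STBF7core`).
Hypotheses: `hLg` = the statement of F3 `lemA_Lg`, `hrecell` = the statement of F5 `recell`, `hdich` = the statement of F6 `Yg_dich`.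
Cited from main: W2 `cj_w_xs_b` (`Helper5.STMW2`; it replaces `IsMon_move_s` + `isMon_w`), H1 `lus lus0 ws_eq_ws_one_mul_hs` (`Helper20.STMH1`),
N1 / N1b / N1d (`Helper20.STMN1`).
-/

set_option autoImplicit false

namespace Cfsg.Agent.Lib.helper17.STM

open Cfsg.Agent.Lib.helper15.St2 Cfsg.Agent.Lib.helper3.STC Cfsg.Agent.Lib.Lead.STD

universe v w

namespace SysM

variable {F : Type*} [Field F] {A B : F} [Fact (∀ r : F, r ^ 2 ≠ -B + A * r)] {ι : Type*} [DecidableEq ι] {G : Type*} [Group G] (S : SysM F A B ι G)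

section F
variable (o : ι ⊕ ι)

omit [DecidableEq ι] in
theorem stmf7_core [Finite F] (t : Kq F A B) {y p : G} (hy : y ∈ S.Yg o) (hp : p ∈ S.Phat o)
    (hLg : ∀ {z : G}, z ∈ S.Lg o → ∀ {y p : G}, y ∈ S.Yg o → p ∈ S.Phat o → z * (y * p) ∈ S.cell0 o)
    (hrecell : ∀ {j : ι ⊕ ι}, j ≠ o → j ≠ ng o → ∀ {u : F}, u ≠ 0 → ∀ {y' p : G}, y' ∈ S.Yj o j → p ∈ S.Phat o →
      S.x j o u * y' * p ∈ S.cell o j)
    (hdich : ∀ y ∈ S.Yg o,
      (∃ j, j ≠ o ∧ j ≠ ng o ∧ ∃ u : F, u ≠ 0 ∧ ∃ y' ∈ S.Yj o j, y = S.x j o u * y') ∨ ∃ u : Kq F A B, y = S.xs (ng o) u) :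
    S.InD o (S.xs o t * (y * p)) := by
  have hoo : o ≠ ng o := by cases o <;> simp [ng]
  have hngng : ∀ a : ι ⊕ ι, ng (ng a) = a := fun a => by cases a <;> rfl
  rcases hdich y hy with ⟨j, hj, hj', u, hu, y', hy', rfl⟩ | ⟨u, rfl⟩
  · -- first case: re-celling
    obtain ⟨y₁, hy₁, p₁, hp₁, e⟩ := hrecell hj hj' hu hy' hp
    have hoj' : o ≠ ng j := by
      intro h
      apply hj'
      rw [h, hngng]
    have hmove : S.xs o t * S.w o j 1 = S.w o j 1 * S.xs j t := by
      have h := S.cj_w_xs_b (Ne.symm hj) hoj' 1 t one_ne_zero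
      rw [one_smul] at h
      unfold cj at h
      rw [← h]
      group
    obtain ⟨y₂, hy₂, p₂, hp₂, e₂⟩ := hLg (S.xs_mem_Lg o hj hj' t) hy₁ hp₁
    right; left
    refine ⟨j, hj, hj', y₂, hy₂, p₂, hp₂, ?_⟩
    calc S.xs o t * (S.x j o u * y' * p) = S.xs o t * (S.w o j 1 * y₁ * p₁) := by rw [e]
      _ = (S.xs o t * S.w o j 1) * (y₁ * p₁) := by group
      _ = S.w o j 1 * (S.xs j t * (y₁ * p₁)) := by rw [hmove]; group
      _ = S.w o j 1 * (y₂ * p₂) := by rw [e₂]
      _ = S.w o j 1 * y₂ * p₂ := by group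
  · -- second case: rank one
    by_cases hd : 1 - t * star u = 0
    · have htu : t * star u = 1 := (sub_eq_zero.1 hd).symm
      have ht : t ≠ 0 := by
        intro h0
        rw [h0, zero_mul] at htu
        exact zero_ne_one htu
      have hsu : star u = t⁻¹ := eq_inv_of_mul_eq_one_right htu
      have hu' : u = (star t)⁻¹ := by
        rw [← kq_star_inv, ← hsu, star_star]
      right; right
      refine ⟨1, one_mem _, S.hs o t⁻¹ * S.xs o (-t) * p, ?_, ?_⟩
      · exact mul_mem (mul_mem (S.hs_mem_Phat o (inv_ne_zero ht)) (S.Pg_le_Phat o (S.xs_mem_Pg o hoo (-t)))) hp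
      · rw [hu']
        calc S.xs o t * (S.xs (ng o) (star t)⁻¹ * p) = (S.xs o t * S.xs (ng o) (star t)⁻¹) * p := by group
          _ = (S.ws o t * S.xs o (-t)) * p := by rw [S.lus0 o t]
          _ = (S.ws o 1 * S.hs o t⁻¹ * S.xs o (-t)) * p := by rw [S.ws_eq_ws_one_mul_hs o t ht]
          _ = S.ws o 1 * 1 * (S.hs o t⁻¹ * S.xs o (-t) * p) := by group
    · left
      refine ⟨S.xs (ng o) (u / (1 - star t * u)), S.xs_mem_Yg o _,
        S.hs o (1 - t * star u) * S.xs o (t / (1 - t * star u)) * p, ?_, ?_⟩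
      · exact mul_mem (mul_mem (S.hs_mem_Phat o hd) (S.Pg_le_Phat o (S.xs_mem_Pg o hoo _))) hp
      · calc S.xs o t * (S.xs (ng o) u * p) = (S.xs o t * S.xs (ng o) u) * p := by group
          _ = (S.xs (ng o) (u / (1 - star t * u)) * S.hs o (1 - t * star u) * S.xs o (t / (1 - t * star u))) * p := by
              rw [S.lus o t u hd]
          _ = S.xs (ng o) (u / (1 - star t * u)) * (S.hs o (1 - t * star u) * S.xs o (t / (1 - t * star u)) * p) := by group

end F

end SysM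

end Cfsg.Agent.Lib.helper17.STM
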