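import Mathlib
import Cfsg.Agent.Lib.helper17.STM.Defs
import Cfsg.Agent.Lib.helper17.STM.Defs2
import Cfsg.Agent.Lib.helper15.STMF7core
import Cfsg.Agent.Lib.Helper16.STMF3
import Cfsg.Agent.Lib.Helper18.STMF5
import Cfsg.Agent.Lib.Helper18.STMF6

/-!
# Project STM (designer helper17; family S2099), part 2, row F7 `SysM.lemA_s` (helper15), VERBATIM vs `helper17/STM/Skel2.lean.txt`:
wrapper of `stmf7_core` on F3 `lemA_Lg`, F5 `recell`, F6 `Yg_dich`.
-/

set_option autoImplicit false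

namespace Cfsg.Agent.Lib.helper17.STM

open Cfsg.Agent.Lib.helper15.St2 Cfsg.Agent.Lib.helper3.STC Cfsg.Agent.Lib.Lead.STD

universe v w

namespace SysM

variable {F : Type*} [Field F] {A B : F} [Fact (∀ r : F, r ^ 2 ≠ -B + A * r)] {ι : Type*} [DecidableEq ι] {G : Type*} [Group G] (S : SysM F A B ι G)

section F
variable (o : ι ⊕ ι)

/-- F7 [M]  **the short root element `xs o t` on the big cell.** -/
theorem lemA_s [Finite F] [Finite ι] (t : Kq F A B) {y p : G} (hy : y ∈ S.Yg o) (hp : p ∈ S.Phat o) : S.InD o (S.xs o t * (y * p)) :=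
  S.stmf7_core o t hy hp (fun hz _ _ hy hp => S.lemA_Lg o hz hy hp) (fun hj hj' _ hu _ _ hy' hp => S.recell o hj hj' hu hy' hp)
    (S.Yg_dich o)

end F

end SysM

end Cfsg.Agent.Lib.helper17.STM
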