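import Mathlib
import Cfsg.Agent.Lib.Helper10.TEM.Defs
import Cfsg.Agent.Lib.helper8.ChevTw7

/-!
# Project TEM = S2191 (designer helper10), row G3 (helper15): CORE.  `X r t` (`σ r = r`, `t ∈ k`) and `XS q r t` (`σ r ≠ r`) lie in
`G¹ = twistedE6 K q`: they are fixed by the twisted Frobenius `Sg f` (`Sg_X`, `root_data`) and lie in `U` or `V`; `U_fix`, and the STATEMENT of
G2 `V_fix` as the hypothesis `hV`.
-/

set_option autoImplicit false

namespace Cfsg.Agent.Lib.Helper10.TEM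

open Cfsg.Lie Cfsg.Lie.ChevalleyDatum Matrix
open Cfsg.Agent.Lib.helper8

universe u

variable {K : Type u} [Field K] {q : ℕ} {f : K ≃+* K} {M H : Subgroup (GG K)}

/-- a root element of a positive root lies in `U` -/
theorem temg3_X_mem_U (r : ℕ) (hr : chevE6.IsPosRoot r) (t : K) : X r t ∈ chevE6.posUnipotent K :=
  Subgroup.subset_closure ⟨r, t, hr, rfl⟩

/-- a root element of a negative root lies in `V` -/
theorem temg3_X_mem_V (r : ℕ) (hr : chevE6.IsNegRoot r) (t : K) : X r t ∈ chevE6.negUnipotent K :=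
  Subgroup.subset_closure ⟨r, t, hr, rfl⟩

/-- the sign as an element of `K` is fixed by `f`, and its square is `1` -/
theorem temg3_eta (f : K ≃+* K) (r : ℕ) (hr : r < 72) :
    f ((h8eE6 r : ℤ) : K) = ((h8eE6 r : ℤ) : K) ∧ ((h8eE6 r : ℤ) : K) * ((h8eE6 r : ℤ) : K) = 1 := by
  refine ⟨map_intCast f _, ?_⟩
  rcases (root_data r hr).2.2.2.2.2.2.1 with h | h <;> rw [h] <;> simp

/-- a root element of a fixed root with a rational parameter is fixed by the twisted Frobenius -/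
theorem temg3_Sg_X_fix (hF : Frob q f) (r : ℕ) (hr : r < 72) (hσ : h8sE6 r = r) (t : K) (ht : t ^ q = t) :
    Sg f (X r t) = X r t := by
  rw [Sg_X f r hr t, hσ, (root_data r hr).2.2.2.2.2.2.2.1 hσ, hF.pow, ht]
  simp

set_option synthInstance.maxSize 1024 in
/-- the two roots of an orbit of `σ` have a trivial commutator formula -/
theorem temg3_orbit_data : ∀ r < 72, h8sE6 r ≠ r →
    h8sE6 r ≠ chevE6.negIdx.getD r 0 ∧ chevE6.commTerms r (h8sE6 r) = [] ∧
      (chevE6.IsPosRoot r → chevE6.IsPosRoot (h8sE6 r)) ∧ (chevE6.IsNegRoot r → chevE6.IsNegRoot (h8sE6 r)) := by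
  decide +kernel

/-- a short root element is fixed by the twisted Frobenius -/
theorem temg3_Sg_XS_fix (hF : Frob q f) (r : ℕ) (hr : r < 72) (hσ : h8sE6 r ≠ r) (t : K) :
    Sg f (XS q r t) = XS q r t := by
  obtain ⟨h1, h2, h3, h4, h5, h6, -⟩ := root_data r hr
  obtain ⟨o1, o2, -, -⟩ := temg3_orbit_data r hr hσ
  obtain ⟨e1, e2⟩ := temg3_eta f r hr
  unfold XS
  rw [map_mul, Sg_X f r hr t, Sg_X f (h8sE6 r) h3, h4, h6, map_mul, e1, ← hF.pow t, hF.inv t, ← mul_assoc, e2, one_mul]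
  have hc : Commute (X r t) (X (h8sE6 r) (((h8eE6 r : ℤ) : K) * f t)) :=
    h8xU_commute chevE6 hB hC r (h8sE6 r) h1 (root_data (h8sE6 r) h3).1 hσ o1 o2 _ _
  exact hc.eq.symm

/-- G3 core: `hV` is the statement of G2 `V_fix`. -/
theorem temg3_X_mem_core (hF : Frob q f)
    (hV : ∀ g ∈ chevE6.negUnipotent K, Sg f g = g → g ∈ twistedE6 K q)
    (r : ℕ) (hr : r < 72) (hσ : h8sE6 r = r) (t : K) (ht : t ^ q = t) : X r t ∈ twistedE6 K q := by
  have hfix := temg3_Sg_X_fix hF r hr hσ t ht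
  by_cases hp : 36 ≤ r
  · exact U_fix hF _ (temg3_X_mem_U r ((root_data r hr).2.2.2.2.2.2.2.2.1.2 hp) t) hfix
  · exact hV _ (temg3_X_mem_V r ((root_data r hr).2.2.2.2.2.2.2.2.2.2 (by omega)) t) hfix

theorem temg3_XS_mem_core (hF : Frob q f)
    (hV : ∀ g ∈ chevE6.negUnipotent K, Sg f g = g → g ∈ twistedE6 K q)
    (r : ℕ) (hr : r < 72) (hσ : h8sE6 r ≠ r) (t : K) : XS q r t ∈ twistedE6 K q := by
  have hfix := temg3_Sg_XS_fix hF r hr hσ t
  obtain ⟨-, -, o3, o4⟩ := temg3_orbit_data r hr hσ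
  by_cases hp : 36 ≤ r
  · have hpos := (root_data r hr).2.2.2.2.2.2.2.2.1.2 hp
    refine U_fix hF _ ?_ hfix
    unfold XS
    exact Subgroup.mul_mem _ (temg3_X_mem_U r hpos t) (temg3_X_mem_U _ (o3 hpos) _)
  · have hneg := (root_data r hr).2.2.2.2.2.2.2.2.2.2 (by omega)
    refine hV _ ?_ hfix
    unfold XS
    exact Subgroup.mul_mem _ (temg3_X_mem_V r hneg t) (temg3_X_mem_V _ (o4 hneg) _)

end Cfsg.Agent.Lib.Helper10.TEM
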