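import Mathlib
import Cfsg.Agent.Lib.Helper10.TEM.Defs
import Cfsg.Agent.Lib.helper15.TEMG3core
import Cfsg.Agent.Lib.Helper25.TEMG2

/-!
# Project TEM = S2191 (designer helper10), row G3 (helper15), VERBATIM vs `Helper10/TEM/Skel.lean.txt`: `X_mem_G1`, `XS_mem_G1`
(wrappers of `temg3_X_mem_core`, `temg3_XS_mem_core` on G2 `V_fix`).
-/

set_option autoImplicit false

namespace Cfsg.Agent.Lib.Helper10.TEM

open Cfsg.Lie Cfsg.Lie.ChevalleyDatum Matrix
open Cfsg.Agent.Lib.helper8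

universe u

variable {K : Type u} [Field K] {q : ℕ} {f : K ≃+* K} {M H : Subgroup (GG K)}

-- ROW G3  [S-M]  `Sg_X` + `root_data`; positive `r`: `U_fix`, negative `r`: `V_fix` (G2).
theorem X_mem_G1 (hF : Frob q f) (r : ℕ) (hr : r < 72) (hσ : h8sE6 r = r) (t : K)
    (ht : t ^ q = t) : X r t ∈ twistedE6 K q :=
  temg3_X_mem_core hF (V_fix hF) r hr hσ t ht

theorem XS_mem_G1 (hF : Frob q f) (r : ℕ) (hr : r < 72) (hσ : h8sE6 r ≠ r) (t : K) :
    XS q r t ∈ twistedE6 K q :=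
  temg3_XS_mem_core hF (V_fix hF) r hr hσ t

end Cfsg.Agent.Lib.Helper10.TEM
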