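import Mathlib
import Cfsg.Prelude.Def_ChevStructure
import Cfsg.Prelude.Def_LieTwisted
import Cfsg.Agent.Lib.helper8.TD4.Defs
import Cfsg.Agent.Lib.helper8.ChevReflAll
import Cfsg.Agent.Lib.helper8.ChevBNAll2
import Cfsg.Agent.Lib.helper8.ChevTwH1
import Cfsg.Agent.Lib.helper8.ChevK

/-!
# Project TD4 (designer helper8), row B1 (`chi_expand`), verbatim.
-/

set_option autoImplicit false

namespace Cfsg.Agent.Lib.helper8.TD4

open Cfsg.Lie Cfsg.Lie.ChevalleyDatum Cfsg.Agent.Lib.helper8 Matrix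

universe u v

/-- the table: `h8KF chevD4 s ·` is linear in the root coordinates. -/
theorem td4b1_table : ∀ s < 24, ∀ r < 24,
    h8KF chevD4 s r = co r 0 * h8KF chevD4 s 18 + co r 1 * h8KF chevD4 s 14 +
      co r 2 * h8KF chevD4 s 13 + co r 3 * h8KF chevD4 s 12 := by
  decide +kernel

section B

variable {F : Type u} [Field F] (hB : H8Base.{u} chevD4)

/-- pure field algebra: the expansion for a power character. -/
theorem td4b1_zpow (t : F) (ht : t ≠ 0) (a b c d k0 k1 k2 k3 : ℤ) :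
    t ^ (a * k0 + b * k1 + c * k2 + d * k3) =
      (t ^ k0) ^ a * (t ^ k1) ^ b * (t ^ k2) ^ c * (t ^ k3) ^ d := by
  rw [zpow_add₀ ht, zpow_add₀ ht, zpow_add₀ ht, ← _root_.zpow_mul, ← _root_.zpow_mul,
    ← _root_.zpow_mul, ← _root_.zpow_mul, mul_comm a, mul_comm b, mul_comm c, mul_comm d]

/-- B1 [M]. -/
theorem chi_expand (h : GL chevD4.Idx F) (hh : h ∈ chevD4.diagonalSubgroup F) : ∀ r < 24,
    h8chi chevD4 hB h r = h8chi chevD4 hB h 18 ^ co r 0 * h8chi chevD4 hB h 14 ^ co r 1 *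
      h8chi chevD4 hB h 13 ^ co r 2 * h8chi chevD4 hB h 12 ^ co r 3 := by
  have hD : chevD4 ∈ [chevG2, chevB2, chevD4, chevF4, chevE6, chevE7, chevE8] := by simp
  have hA := h8reflAll chevD4 hD
  have hW := h8bn2_all chevD4 hD
  have hn : chevD4.nroots = 24 := rfl
  have l18 : 18 < chevD4.nroots := by decide
  have l13 : 13 < chevD4.nroots := by decide
  have l12 : 12 < chevD4.nroots := by decide
  have l14 : 14 < chevD4.nroots := by decide
  unfold ChevalleyDatum.diagonalSubgroup at hh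
  induction hh using Subgroup.closure_induction with
  | mem x hx =>
    obtain ⟨s, t, hs, ht, hx⟩ := hx
    have hxe : x = h8hU chevD4 hB s t := by
      apply Units.ext
      rw [hx, h8hU_val]
    intro r hr
    have hr' : r < chevD4.nroots := hr
    rw [hxe, h8chi_hU chevD4 hB hA hW s hs t ht r hr', h8chi_hU chevD4 hB hA hW s hs t ht 18 l18,
      h8chi_hU chevD4 hB hA hW s hs t ht 14 l14, h8chi_hU chevD4 hB hA hW s hs t ht 13 l13,
      h8chi_hU chevD4 hB hA hW s hs t ht 12 l12, ← td4b1_zpow t ht]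
    congr 1
    have := td4b1_table s hs r hr
    rwa [h8KF_eq chevD4 hA.ca _ _ hr', h8KF_eq chevD4 hA.ca _ _ l18, h8KF_eq chevD4 hA.ca _ _ l14,
      h8KF_eq chevD4 hA.ca _ _ l13, h8KF_eq chevD4 hA.ca _ _ l12] at this
  | one =>
    intro r hr
    have hr' : r < chevD4.nroots := hr
    rw [h8chi_one chevD4 hB hA hW r hr', h8chi_one chevD4 hB hA hW 18 l18,
      h8chi_one chevD4 hB hA hW 14 l14, h8chi_one chevD4 hB hA hW 13 l13,
      h8chi_one chevD4 hB hA hW 12 l12]
    simp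
  | mul x y hx hy ihx ihy =>
    intro r hr
    have hr' : r < chevD4.nroots := hr
    have hx' : x ∈ chevD4.diagonalSubgroup F := hx
    have hy' : y ∈ chevD4.diagonalSubgroup F := hy
    rw [h8chi_mul chevD4 hB hA hW x y hx' hy' r hr', h8chi_mul chevD4 hB hA hW x y hx' hy' 18 l18,
      h8chi_mul chevD4 hB hA hW x y hx' hy' 14 l14, h8chi_mul chevD4 hB hA hW x y hx' hy' 13 l13,
      h8chi_mul chevD4 hB hA hW x y hx' hy' 12 l12, ihx r hr, ihy r hr, mul_zpow, mul_zpow,
      mul_zpow, mul_zpow]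
    ring
  | inv x hx ihx =>
    intro r hr
    have hr' : r < chevD4.nroots := hr
    have hx' : x ∈ chevD4.diagonalSubgroup F := hx
    rw [h8chi_inv chevD4 hB hA hW x hx' r hr', h8chi_inv chevD4 hB hA hW x hx' 18 l18,
      h8chi_inv chevD4 hB hA hW x hx' 14 l14, h8chi_inv chevD4 hB hA hW x hx' 13 l13,
      h8chi_inv chevD4 hB hA hW x hx' 12 l12, ihx r hr, _root_.inv_zpow, _root_.inv_zpow, _root_.inv_zpow, _root_.inv_zpow,
      mul_inv, mul_inv, mul_inv]

end B

end Cfsg.Agent.Lib.helper8.TD4
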