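import Mathlib
import Cfsg.Agent.Lib.helper23.TD4V.Defs
import Cfsg.Agent.Lib.helper8.ChevTwD4O
import Cfsg.Agent.Lib.helper8.ChevTwD4U
import Cfsg.Agent.Lib.helper4.TD4VJ2

/-!
# TD4V row M1 (`Xa_mem`, `Xma_mem`, `Xab_mem`, `X2ab_mem`): the twisted root elements lie in `Q K q`
resp. `Qm K q`.

`Xa`, `Xma` are generators of `twistedD4 K q` (`h8twD4_x3`).  `Xab`, `X2ab` lie in `U(K)` and are fixed by the
twisted Frobenius (`h8Sig_xU`, signs by `decide`, the three factors commute by J2), hence in `G` by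
`h8twD4_U_fix` (no use of the rows U5 U6).

Extras: `td4vm1_X_mem_QK` / `td4vm1_X_mem_QmK` (root elements of degree `> 0` / `< 0` lie in `QK` / `QmK`),
`td4vm1_fix3` (a triality orbit product is `Fr`-fixed), `td4vm1_frob` (the Frobenius package).
-/

set_option autoImplicit false

namespace Cfsg.Agent.Lib.helper23.TD4V

open Cfsg.Lie Cfsg.Lie.ChevalleyDatum Matrix
open Cfsg.Agent.Lib.helper8 Cfsg.Agent.Lib.helper8.TD4
open Cfsg.Agent.Lib.helper23.P4V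

universe u v

section M

variable {K : Type u} [Field K]

/-- the positive roots of degree `> 0` -/
theorem td4vm1_posdata : ∀ r ∈ [12, 13, 15, 16, 17, 18, 19, 20, 21, 22, 23],
    chevD4.IsPosRoot r ∧ ((chevD4.coroot.getD r #[]).getD 0 0 ≠ 0 ∨
      (chevD4.coroot.getD r #[]).getD 2 0 ≠ 0 ∨ (chevD4.coroot.getD r #[]).getD 3 0 ≠ 0) := by
  decide

/-- the negative roots of degree `< 0` -/
theorem td4vm1_negdata : ∀ r ∈ [0, 1, 2, 3, 4, 5, 6, 7, 8, 10, 11],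
    chevD4.IsNegRoot r ∧ ((chevD4.coroot.getD r #[]).getD 0 0 ≠ 0 ∨
      (chevD4.coroot.getD r #[]).getD 2 0 ≠ 0 ∨ (chevD4.coroot.getD r #[]).getD 3 0 ≠ 0) := by
  decide

theorem td4vm1_notsub (r : ℕ) (h : (chevD4.coroot.getD r #[]).getD 0 0 ≠ 0 ∨
      (chevD4.coroot.getD r #[]).getD 2 0 ≠ 0 ∨ (chevD4.coroot.getD r #[]).getD 3 0 ≠ 0) :
    ¬ chevD4.InRootSub ({1} : Set ℕ) r := by
  intro hs
  have h0 := hs.2 0 (by decide) (by simp)
  have h2 := hs.2 2 (by decide) (by simp)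
  have h3 := hs.2 3 (by decide) (by simp)
  rcases h with h | h | h
  · exact h h0
  · exact h h2
  · exact h h3

/-- the root elements of degree `> 0` lie in `QK` -/
theorem td4vm1_X_mem_QK (r : ℕ) (hr : r ∈ [12, 13, 15, 16, 17, 18, 19, 20, 21, 22, 23]) (t : K) :
    X r t ∈ QK K := by
  show X r t ∈ chevD4.unipotentRadical K ({1} : Set ℕ)
  unfold ChevalleyDatum.unipotentRadical
  apply Subgroup.subset_closure
  obtain ⟨h1, h2⟩ := td4vm1_posdata r hr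
  exact ⟨r, t, h1, td4vm1_notsub r h2, rfl⟩

/-- the root elements of degree `< 0` lie in `QmK` -/
theorem td4vm1_X_mem_QmK (r : ℕ) (hr : r ∈ [0, 1, 2, 3, 4, 5, 6, 7, 8, 10, 11]) (t : K) :
    X r t ∈ QmK K := by
  unfold QmK
  apply Subgroup.subset_closure
  obtain ⟨h1, h2⟩ := td4vm1_negdata r hr
  exact ⟨r, t, h1, td4vm1_notsub r h2, rfl⟩

/-- the root elements of positive roots lie in `U(K)` -/
theorem td4vm1_X_mem_U (r : ℕ) (hr : chevD4.IsPosRoot r) (t : K) :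
    X r t ∈ chevD4.posUnipotent K := by
  unfold ChevalleyDatum.posUnipotent
  apply Subgroup.subset_closure
  exact ⟨r, t, hr, rfl⟩

theorem td4vm1_sigdata : ∀ p ∈ [((19 : ℕ), (16 : ℕ), (15 : ℕ), (-1 : ℤ), (1 : ℤ), (-1 : ℤ)),
      (20, 21, 17, 1, -1, -1)],
    p.1 < chevD4.nroots ∧ p.2.1 < chevD4.nroots ∧ p.2.2.1 < chevD4.nroots ∧
    chevD4.IsPosRoot p.1 ∧ chevD4.IsPosRoot p.2.1 ∧ chevD4.IsPosRoot p.2.2.1 ∧
    h8sD4 p.1 = p.2.1 ∧ h8sD4 p.2.1 = p.2.2.1 ∧ h8sD4 p.2.2.1 = p.1 ∧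
    h8eD4 p.1 = p.2.2.2.1 ∧ h8eD4 p.2.1 = p.2.2.2.2.1 ∧ h8eD4 p.2.2.1 = p.2.2.2.2.2 ∧
    chevD4.commTerms p.1 p.2.1 = [] ∧ chevD4.commTerms p.1 p.2.2.1 = [] ∧
    chevD4.commTerms p.2.1 p.2.2.1 = [] := by
  decide +kernel

/-- a product over a triality orbit with the twisted parameters is fixed by the twisting endomorphism -/
theorem td4vm1_fix3 (hA : H8ReflAll chevD4) (f : K ≃+* K) (hfff : ∀ t, f (f (f t)) = t)
    (r1 r2 r3 : ℕ) (e1 e2 e3 : ℤ) (hp : (r1, r2, r3, e1, e2, e3) ∈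
      [((19 : ℕ), (16 : ℕ), (15 : ℕ), (-1 : ℤ), (1 : ℤ), (-1 : ℤ)), (20, 21, 17, 1, -1, -1)])
    (t1 t2 t3 : K) (h2 : t2 = (e1 : K) * f t1) (h3 : t3 = (e2 : K) * f t2)
    (h1 : t1 = (e3 : K) * f t3) :
    Fr hA f (X r1 t1 * X r2 t2 * X r3 t3) = X r1 t1 * X r2 t2 * X r3 t3 := by
  obtain ⟨l1, l2, l3, -, -, -, s1, s2, s3, n1, n2, n3, c12, c13, c23⟩ := td4vm1_sigdata _ hp
  simp only at l1 l2 l3 s1 s2 s3 n1 n2 n3 c12 c13 c23
  have hr : r1 < 24 ∧ r2 < 24 ∧ r3 < 24 ∧ r1 + r2 ≠ 23 ∧ r1 + r3 ≠ 23 ∧ r2 + r3 ≠ 23 := by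
    simp only [List.mem_cons, List.not_mem_nil, or_false, Prod.mk.injEq] at hp
    rcases hp with ⟨rfl, rfl, rfl, -⟩ | ⟨rfl, rfl, rfl, -⟩ <;> decide
  obtain ⟨b1, b2, b3, d12, d13, d23⟩ := hr
  unfold Fr X
  rw [map_mul, map_mul, h8Sig_xU chevD4 _ _ _ _ _ (h8autD4 hA) f hB r1 l1,
    h8Sig_xU chevD4 _ _ _ _ _ (h8autD4 hA) f hB r2 l2,
    h8Sig_xU chevD4 _ _ _ _ _ (h8autD4 hA) f hB r3 l3, s1, s2, s3, n1, n2, n3, ← h2, ← h3, ← h1]
  have k12 : X r1 t1 * X r2 t2 = X r2 t2 * X r1 t1 := X_comm r1 r2 b1 b2 c12 d12 t1 t2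
  have k13 : X r1 t1 * X r3 t3 = X r3 t3 * X r1 t1 := X_comm r1 r3 b1 b3 c13 d13 t1 t3
  show X r2 t2 * X r3 t3 * X r1 t1 = X r1 t1 * X r2 t2 * X r3 t3
  rw [mul_assoc, ← k13, ← mul_assoc, ← k12]

end M

section M

variable {K : Type u} [Field K] [Fintype K] (q : ℕ)

/-- the Frobenius package for the field of `q ^ 3` elements -/
theorem td4vm1_frob (hq : IsPrimePow q) (hK : Fintype.card K = q ^ 3) :
    ∃ f : K ≃+* K, (∀ t, f t = t ^ q) ∧ (∀ t, f (f (f t)) = t) ∧ (-1 : K) ^ q = -1 := by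
  obtain ⟨f, hf, h3, hneg⟩ := h8frob_exists (K := K) hq 3 (by norm_num) hK
  exact ⟨f, hf, fun t => h3 t, hneg⟩

/-- a `Fr`-fixed element of `U(K)` lies in `G` -/
theorem td4vm1_U_fix (hA : H8ReflAll chevD4) (f : K ≃+* K) (hf : ∀ t, f t = t ^ q)
    (hfff : ∀ t, f (f (f t)) = t) (hneg : (-1 : K) ^ q = -1) (g : GG K)
    (hg : g ∈ chevD4.posUnipotent K) (hfix : Fr hA f g = g) : g ∈ twistedD4 K q := by
  have hD : chevD4 ∈ [chevG2, chevB2, chevD4, chevF4, chevE6, chevE7, chevE8] := by simp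
  have hC := h8commAll.{u} chevD4 hD
  have hBN := h8bn_all chevD4 hD
  obtain ⟨hO, hO2⟩ := h8ord_all chevD4 hD
  exact h8twD4_U_fix hB hC hA hBN hO2 q f hf hfff hneg g hg hfix

/-- **M1** [M] (all four). -/
theorem Xa_mem (hq : IsPrimePow q) (hK : Fintype.card K = q ^ 3) (t : K) : Xa q t ∈ Q K q := by
  unfold Q
  refine ⟨?_, ?_⟩
  · exact mul_mem (mul_mem (td4vm1_X_mem_QK 18 (by simp) _) (td4vm1_X_mem_QK 13 (by simp) _))
      (td4vm1_X_mem_QK 12 (by simp) _)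
  · exact h8twD4_x3 hB q 18 13 12 (by simp) t

theorem Xma_mem (hq : IsPrimePow q) (hK : Fintype.card K = q ^ 3) (t : K) : Xma q t ∈ Qm K q := by
  unfold Qm
  refine ⟨?_, ?_⟩
  · exact mul_mem (mul_mem (td4vm1_X_mem_QmK 5 (by simp) _) (td4vm1_X_mem_QmK 10 (by simp) _))
      (td4vm1_X_mem_QmK 11 (by simp) _)
  · exact h8twD4_x3 hB q 5 10 11 (by simp) t

theorem Xab_mem (hq : IsPrimePow q) (hK : Fintype.card K = q ^ 3) (t : K) : Xab q t ∈ Q K q := by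
  obtain ⟨f, hf, hfff, hneg⟩ := td4vm1_frob q hq hK
  have hD : chevD4 ∈ [chevG2, chevB2, chevD4, chevF4, chevE6, chevE7, chevE8] := by simp
  have hA := h8reflAll chevD4 hD
  obtain ⟨-, -, -, p1, p2, p3, -⟩ := td4vm1_sigdata (19, 16, 15, -1, 1, -1) (by simp)
  unfold Q
  refine ⟨?_, ?_⟩
  · exact mul_mem (mul_mem (td4vm1_X_mem_QK 19 (by simp) _) (td4vm1_X_mem_QK 16 (by simp) _))
      (td4vm1_X_mem_QK 15 (by simp) _)
  · apply td4vm1_U_fix q hA f hf hfff hneg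
    · exact mul_mem (mul_mem (td4vm1_X_mem_U 19 p1 _) (td4vm1_X_mem_U 16 p2 _))
        (td4vm1_X_mem_U 15 p3 _)
    · have a1 : t ^ q = f t := (hf t).symm
      have a2 : t ^ (q ^ 2) = f (f t) := by rw [hf, hf, ← pow_mul, sq]
      apply td4vm1_fix3 hA f hfff 19 16 15 (-1) 1 (-1) (by simp)
      · rw [a1]; push_cast; ring
      · rw [a1, a2, map_neg]; push_cast; ring
      · rw [a2, map_neg, hfff]; push_cast; ring

theorem X2ab_mem (hq : IsPrimePow q) (hK : Fintype.card K = q ^ 3) (t : K) : X2ab q t ∈ Q K q := by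
  obtain ⟨f, hf, hfff, hneg⟩ := td4vm1_frob q hq hK
  have hD : chevD4 ∈ [chevG2, chevB2, chevD4, chevF4, chevE6, chevE7, chevE8] := by simp
  have hA := h8reflAll chevD4 hD
  obtain ⟨-, -, -, p1, p2, p3, -⟩ := td4vm1_sigdata (20, 21, 17, 1, -1, -1) (by simp)
  unfold Q
  refine ⟨?_, ?_⟩
  · exact mul_mem (mul_mem (td4vm1_X_mem_QK 20 (by simp) _) (td4vm1_X_mem_QK 21 (by simp) _))
      (td4vm1_X_mem_QK 17 (by simp) _)
  · apply td4vm1_U_fix q hA f hf hfff hneg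
    · exact mul_mem (mul_mem (td4vm1_X_mem_U 20 p1 _) (td4vm1_X_mem_U 21 p2 _))
        (td4vm1_X_mem_U 17 p3 _)
    · have a1 : t ^ q = f t := (hf t).symm
      have a2 : t ^ (q ^ 2) = f (f t) := by rw [hf, hf, ← pow_mul, sq]
      apply td4vm1_fix3 hA f hfff 20 21 17 1 (-1) (-1) (by simp)
      · rw [a1]; push_cast; ring
      · rw [a1, a2]; push_cast; ring
      · rw [a2, map_neg, hfff]; push_cast; ring

end M

end Cfsg.Agent.Lib.helper23.TD4V
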