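import Mathlib
import Cfsg.Prelude.Def_ChevStructure
import Cfsg.Prelude.Def_LieTypes
import Cfsg.Prelude.Def_ChevB2
import Cfsg.Agent.Lib.helper8.BTT.Defs
import Cfsg.Agent.Lib.helper8.ChevBaseAll

/-!
# Project BTT (S2154, designer helper8), row GRP3 (`H_lev`): the elements of `H` are diagonal matrices, so they
preserve every grading.

Extras: `bttgrp3_lev_of_diag` (a matrix with zero off-diagonal entries is in `Lev ℓ ℓ`), `bttgrp3_H_diag` (the off-diagonal
entries of an element of `H` vanish).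
-/

set_option autoImplicit false

namespace Cfsg.Agent.Lib.helper8.BTT

open Cfsg.Lie Cfsg.Lie.ChevalleyDatum

universe u

/-- a matrix whose off-diagonal entries vanish preserves every grading -/
theorem bttgrp3_lev_of_diag {ι : Type*} [DecidableEq ι] {F : Type*} [Field F] (ℓ : ι → ℝ)
    (M : Matrix ι ι F) (h : ∀ i j, i ≠ j → M i j = 0) : Lev ℓ ℓ M := by
  intro i j hij
  by_cases e : i = j
  · rw [e]
  · exact absurd (h i j e) hij

section grp
variable {F : Type u} [Field F] (D : ChevalleyDatum)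

/-- the off-diagonal entries of an element of `H` vanish -/
theorem bttgrp3_H_diag (hD : D ∈ [chevG2, chevB2, chevD4, chevF4, chevE6, chevE7, chevE8])
    (h : GL D.Idx F) (hh : h ∈ D.diagonalSubgroup F) :
    (∀ i j, i ≠ j → (h : Matrix D.Idx D.Idx F) i j = 0) ∧
      (∀ i j, i ≠ j → ((h⁻¹ : GL D.Idx F) : Matrix D.Idx D.Idx F) i j = 0) := by
  have hB := h8base_all.{u} D hD
  unfold ChevalleyDatum.diagonalSubgroup at hh
  induction hh using Subgroup.closure_induction with
  | mem g hg =>
    obtain ⟨r, t, hr, ht, hgm⟩ := hg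
    have hd : (g : Matrix D.Idx D.Idx F) = Matrix.diagonal (h8dvec D t (h8K D r)) := by
      rw [hgm, hB.hdiag F r hr t ht]
    have h1 : ∀ i j, i ≠ j → (g : Matrix D.Idx D.Idx F) i j = 0 := by
      intro i j hij
      rw [hd, Matrix.diagonal_apply_ne _ hij]
    refine ⟨h1, ?_⟩
    -- the inverse of an invertible diagonal matrix is diagonal
    have hunit : IsUnit (Matrix.diagonal (h8dvec D t (h8K D r)) : Matrix D.Idx D.Idx F) := by
      rw [← hd]
      exact ⟨g, rfl⟩
    have hinv : ((g⁻¹ : GL D.Idx F) : Matrix D.Idx D.Idx F) =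
        (Matrix.diagonal (h8dvec D t (h8K D r)) : Matrix D.Idx D.Idx F)⁻¹ := by
      rw [Matrix.coe_units_inv, hd]
    intro i j hij
    rw [hinv, Matrix.inv_diagonal, Matrix.diagonal_apply_ne _ hij]
  | one =>
    refine ⟨fun i j hij => ?_, fun i j hij => ?_⟩
    · rw [Units.val_one, Matrix.one_apply_ne hij]
    · rw [inv_one, Units.val_one, Matrix.one_apply_ne hij]
  | mul a b _ _ ha hb =>
    have key : ∀ (A B : Matrix D.Idx D.Idx F), (∀ i j, i ≠ j → A i j = 0) →
        (∀ i j, i ≠ j → B i j = 0) → ∀ i j, i ≠ j → (A * B) i j = 0 := by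
      intro A B hA hB' i j hij
      rw [Matrix.mul_apply]
      apply Finset.sum_eq_zero
      intro k _
      by_cases hik : i = k
      · subst hik
        rw [hB' i j hij, mul_zero]
      · rw [hA i k hik, zero_mul]
    refine ⟨?_, ?_⟩
    · rw [Units.val_mul]
      exact key _ _ ha.1 hb.1
    · rw [mul_inv_rev, Units.val_mul]
      exact key _ _ hb.2 ha.2
  | inv a _ ha =>
    refine ⟨ha.2, ?_⟩
    rw [inv_inv]
    exact ha.1

/-- GRP3 [S-M]: `H` consists of diagonal matrices (`H8Base.hdiag`). -/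
theorem H_lev (hD : D ∈ [chevG2, chevB2, chevD4, chevF4, chevE6, chevE7, chevE8])
    (ℓ : D.Idx → ℝ) (h : GL D.Idx F) (hh : h ∈ D.diagonalSubgroup F) :
    Lev ℓ ℓ (h : Matrix D.Idx D.Idx F) :=
  bttgrp3_lev_of_diag ℓ _ (bttgrp3_H_diag D hD h hh).1

end grp

end Cfsg.Agent.Lib.helper8.BTT
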