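import Mathlib
import Cfsg.Agent.Lib.Helper25.BGL.PCDefs
import Cfsg.Agent.Lib.Helper10.BGL.Bridge
import Cfsg.Agent.Lib.helper8.ChevK
import Cfsg.Agent.Lib.helper2.BGLPC01
import Cfsg.Agent.Lib.Helper29.BGLPA01
import Cfsg.Agent.Lib.Helper29.BGLPA02

/-!
# Project BGL (designer helper25), block PA, row PA03 (`pa_generic`), VERBATIM vs `Helper25/BGL/SkelPA.lean.txt`.
-/

set_option autoImplicit false

namespace Cfsg.Agent.Lib.Helper10.BGL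

open Cfsg.Lie Cfsg.Lie.ChevalleyDatum Cfsg.Agent.Lib.helper8

universe u

variable {K : Type u} [Field K]

/-- PA03 [M]  the generic case.  `T := (H.map (MulAut.conj b⁻¹).toMonoidHom).comap φ` (`φ` of PA02) contains `sx (c₁ s)`, `sy (c₂ s')` for `s, s'` with `s ^ q = s`
(`xg ρ s ∈ Lq ≤ H`: `x_mem_Lq`).  If `(c₁ c₂ s s')² ≠ -1` for some `s, s' ≠ 0` in `k`: PA01 gives `sx (c₂ s')⁻¹ ∈ T`, so `b * xg ρ (c₂ s')⁻¹ * b⁻¹ = xg ρ ((c₁ c₂ s')⁻¹) ∈ H` (`h1` backwards),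
`hR` gives `(c₁ c₂ s') ^ q = c₁ c₂ s'`, hence `Rt q (c₁ c₂)`.  Otherwise `s = s' = 1` gives `(c₁ c₂)² = -1` and `s' = 1` gives `s² = 1` for all `s ≠ 0` in `k`. -/
theorem pa_generic [Finite K] (p : ℕ) [Fact p.Prime] [CharP K p] (hp : p ≠ 2) (D : ChevalleyDatum) (hD : Seven D)
    (a : ℕ) (ha : 1 ≤ a) (H : Subgroup (GL D.Idx K)) (hL : Lq D K (p ^ a) ≤ H) (hR : RootRat D (p ^ a) H)
    (h : GL D.Idx K) (hh : h ∈ H) (b : GL D.Idx K) (c₁ c₂ : K) (hc₁ : c₁ ≠ 0) (hc₂ : c₂ ≠ 0)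
    (h1 : ∀ s : K, b⁻¹ * xg D hD (D.nroots - 1) s * b = xg D hD (D.nroots - 1) (c₁ * s))
    (h2 : ∀ s : K, b⁻¹ * (h * xg D hD (D.nroots - 1) s * h⁻¹) * b = xg D hD 0 (c₂ * s)) :
    Rt (p ^ a) (c₁ * c₂) ∨ ((c₁ * c₂) ^ 2 = -1 ∧ ∀ s : K, s ^ (p ^ a) = s → s = 0 ∨ s ^ 2 = 1) := by
  classical
  obtain ⟨φ, hφx, hφy, -⟩ := pa_phi (K := K) D hD
  obtain ⟨hn2, -⟩ := pc_tab D hD
  have hρ : D.nroots - 1 < D.nroots := by omega
  have hxH : ∀ s : K, s ^ (p ^ a) = s → xg D hD (D.nroots - 1) s ∈ H := fun s hs =>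
    hL (x_mem_Lq D (p ^ a) (D.nroots - 1) s hs _ (xg_val D hD _ s))
  have hTx : ∀ s : K, s ^ (p ^ a) = s →
      sx (c₁ * s) ∈ (H.map (MulAut.conj b⁻¹).toMonoidHom).comap φ := by
    intro s hs
    show φ (sx (c₁ * s)) ∈ H.map (MulAut.conj b⁻¹).toMonoidHom
    rw [hφx, ← h1 s]
    exact ⟨_, hxH s hs, by simp [MulAut.conj_apply]⟩
  have hTy : ∀ s : K, s ^ (p ^ a) = s →
      sy (c₂ * s) ∈ (H.map (MulAut.conj b⁻¹).toMonoidHom).comap φ := by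
    intro s hs
    show φ (sy (c₂ * s)) ∈ H.map (MulAut.conj b⁻¹).toMonoidHom
    rw [hφy, ← h2 s]
    exact ⟨_, H.mul_mem (H.mul_mem hh (hxH s hs)) (H.inv_mem hh), by simp [MulAut.conj_apply]⟩
  have h2K : (2 : K) ≠ 0 := Ring.two_ne_zero (by rw [ringChar.eq K p]; exact hp)
  by_cases hex : ∃ s s' : K, s ^ (p ^ a) = s ∧ s' ^ (p ^ a) = s' ∧ s ≠ 0 ∧ s' ≠ 0 ∧
      ((c₁ * s) * (c₂ * s')) ^ 2 ≠ -1
  · left
    obtain ⟨s, s', hs, hs', hs0, hs'0, hne⟩ := hex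
    have hT := pa_dickson h2K _ (c₁ * s) (c₂ * s') (hTx s hs) (hTy s' hs')
      (mul_ne_zero (mul_ne_zero hc₁ hs0) (mul_ne_zero hc₂ hs'0)) hne
    obtain ⟨g, hgH, hg⟩ := hT
    rw [hφx] at hg
    have e1 : c₁ * (c₁ * c₂ * s')⁻¹ = (c₂ * s')⁻¹ := by field_simp
    have hg' : g = xg D hD (D.nroots - 1) ((c₁ * c₂ * s')⁻¹) := by
      have h3 := h1 ((c₁ * c₂ * s')⁻¹)
      rw [e1, ← hg] at h3
      simp only [MulEquiv.toMonoidHom_eq_coe, MonoidHom.coe_coe, MulAut.conj_apply, inv_inv] at h3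
      have h4 : b * (b⁻¹ * xg D hD (D.nroots - 1) ((c₁ * c₂ * s')⁻¹) * b) * b⁻¹ = b * (b⁻¹ * g * b) * b⁻¹ := by
        rw [h3]
      simpa [mul_assoc] using h4.symm
    have hgH' : xg D hD (D.nroots - 1) ((c₁ * c₂ * s')⁻¹) ∈ H := hg' ▸ hgH
    have hr := hR (D.nroots - 1) hρ _ _ (xg_val D hD _ _) hgH'
    show (c₁ * c₂) ^ (p ^ a) = c₁ * c₂
    rw [inv_pow, inv_inj, mul_pow, hs'] at hr
    exact mul_right_cancel₀ hs'0 hr
  · right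
    push_neg at hex
    have h11 := hex 1 1 (one_pow _) (one_pow _) one_ne_zero one_ne_zero
    have hsq : (c₁ * c₂) ^ 2 = -1 := by
      rw [← h11]
      ring
    refine ⟨hsq, fun s hs => ?_⟩
    by_cases hs0 : s = 0
    · exact Or.inl hs0
    · right
      have h5 := hex s 1 hs (one_pow _) hs0 one_ne_zero
      have h6 : (c₁ * s * (c₂ * 1)) ^ 2 = (c₁ * c₂) ^ 2 * s ^ 2 := by ring
      rw [h6, hsq] at h5
      linear_combination -h5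

end Cfsg.Agent.Lib.Helper10.BGL
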