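import Mathlib
import Cfsg.Agent.Lib.Helper10.C3E.Defs
import Cfsg.Agent.Lib.helper15.C3EEVEN

/-!
# Project S5975 (designer helper10), row RNG : `c3e_rng_even` (verbatim), self-contained
(own copies of the RNGND facts under the prefix `c3erng_`).
-/

set_option autoImplicit false
set_option linter.unusedVariables false
set_option linter.unusedSectionVars false

namespace Cfsg.Agent.Lib.Helper10.C3E

open Module Cfsg.Agent.Lib.helper8.C3S

variable {F K V : Type*} [Field F] [Field K] [Algebra F K] [AddCommGroup V] [Module F V] [Module K V]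
  [IsScalarTower F K V]

/-- `v = a + (G b - b)` with `G a = a`, when `G ^ r = 1` and `r` is invertible -/
theorem c3erng_decomp {F V : Type*} [Field F] [AddCommGroup V] [Module F V]
    {r : ℕ} (hrF : (r : F) ≠ 0) (G : Module.End F V) (hG : G ^ r = 1) (v : V) :
    ∃ a b : V, G a = a ∧ v = a + (G b - b) := by
  set N : Module.End F V := ∑ k ∈ Finset.range r, G ^ k with hN
  have h1 : (G - 1) * N = 0 := by rw [hN, mul_geom_sum, hG, sub_self]
  set M : Module.End F V := - ∑ k ∈ Finset.range r, ∑ j ∈ Finset.range k, G ^ j with hM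
  have h2 : ((r : F) • (1 : Module.End F V)) - N = (G - 1) * M := by
    rw [hM, mul_neg, Finset.mul_sum]
    simp_rw [mul_geom_sum]
    rw [Finset.sum_sub_distrib, ← hN]
    simp only [Finset.sum_const, Finset.card_range, neg_sub]
    congr 1
    rw [← Nat.cast_smul_eq_nsmul F]
  have h1v : G (N v) = N v := by
    have := LinearMap.congr_fun h1 v
    simp only [Module.End.mul_apply, LinearMap.sub_apply, Module.End.one_apply,
      LinearMap.zero_apply] at this
    exact sub_eq_zero.mp this
  have h2v : (r : F) • v - N v = G (M v) - M v := by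
    have := LinearMap.congr_fun h2 v
    simpa only [Module.End.mul_apply, LinearMap.sub_apply, Module.End.one_apply,
      LinearMap.smul_apply] using this
  refine ⟨(r : F)⁻¹ • N v, (r : F)⁻¹ • M v, ?_, ?_⟩
  · rw [map_smul, h1v]
  · rw [map_smul, ← smul_sub, ← h2v, ← smul_add, add_sub_cancel, smul_smul, inv_mul_cancel₀ hrF,
      one_smul]

/-- the `F`-linear map of `g` and its powers -/
theorem c3erng_pow_coe {F V : Type*} [Field F] [AddCommGroup V] [Module F V] (g : V ≃ₗ[F] V) (r : ℕ) :
    ((g : V →ₗ[F] V) : Module.End F V) ^ r = ((g ^ r : V ≃ₗ[F] V) : V →ₗ[F] V) := by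
  induction r with
  | zero => rfl
  | succ n ih =>
    rw [pow_succ, pow_succ, ih]
    rfl

/-- own copy of RNGND (third statement) -/
theorem c3erng_range_nondeg (B : V →ₗ[K] V →ₗ[K] K) (hfn : ∀ x : V, (∀ y : V, Algebra.trace F K (B x y) = 0) → x = 0)
    {r : ℕ} (hrF : (r : F) ≠ 0) (g : V ≃ₗ[F] V) (hg : g ∈ Spf F B) (hgr : g ^ r = 1) :
    ∀ x ∈ LinearMap.range ((g : V →ₗ[F] V) - (1 : F) • LinearMap.id),
      (∀ y ∈ LinearMap.range ((g : V →ₗ[F] V) - (1 : F) • LinearMap.id), Algebra.trace F K (B x y) = 0) → x = 0 := by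
  intro x hx hxy
  apply hfn
  intro y
  have hG : ((g : V →ₗ[F] V) : Module.End F V) ^ r = 1 := by
    rw [c3erng_pow_coe, hgr]
    rfl
  obtain ⟨a, b, ha, hy⟩ := c3erng_decomp hrF _ hG y
  obtain ⟨u, rfl⟩ := hx
  have ha' : g a = a := ha
  have hb : g b - b ∈ LinearMap.range ((g : V →ₗ[F] V) - (1 : F) • LinearMap.id) := by
    refine ⟨b, ?_⟩
    simp
  have h0 := hxy _ hb
  have h3 : ((g : V →ₗ[F] V) - (1 : F) • (LinearMap.id : V →ₗ[F] V)) u = g u - u := by simp
  rw [h3] at h0 ⊢
  have hy' : y = a + (g b - b) := hy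
  rw [hy', map_add, map_add, h0, add_zero, map_sub, LinearMap.sub_apply, map_sub]
  nth_rewrite 1 [← ha']
  rw [hg, sub_self]

/-- RNG -/
theorem c3e_rng_even [FiniteDimensional F K] [FiniteDimensional K V] (B : V →ₗ[K] V →ₗ[K] K) (hB0 : ∀ x, B x x = 0)
    (hfn : ∀ x : V, (∀ y : V, Algebra.trace F K (B x y) = 0) → x = 0)
    {r : ℕ} (hrF : (r : F) ≠ 0) (g : V ≃ₗ[F] V) (hg : g ∈ Spf F B) (hL : Lin K g) (hgr : g ^ r = 1) :
    2 * finrank F K ∣ rk g 1 := by
  let gK : V →ₗ[K] V :=
    { toFun := fun x => g x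
      map_add' := fun x y => map_add g x y
      map_smul' := fun a x => hL a x }
  set W : Submodule K V := LinearMap.range (gK - LinearMap.id) with hW
  have hWF : W.restrictScalars F = LinearMap.range ((g : V →ₗ[F] V) - (1 : F) • LinearMap.id) := by
    ext x
    simp only [Submodule.restrictScalars_mem, hW, LinearMap.mem_range, LinearMap.sub_apply,
      LinearMap.id_apply, one_smul]
    rfl
  have hnd := c3erng_range_nondeg B hfn hrF g hg hgr
  rw [← hWF] at hnd
  have heven : Even (finrank K W) := by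
    apply c3e_even_of_nondeg (F := F) B hB0 W
    intro x hx h
    exact hnd x hx h
  have hrk : rk g 1 = finrank F W := by
    rw [rk, ← hWF]
    rfl
  have hmul : finrank F K * finrank K W = finrank F W := Module.finrank_mul_finrank F K W
  obtain ⟨m, hm⟩ := heven
  rw [hrk, ← hmul, hm]
  exact ⟨m, by ring⟩

end Cfsg.Agent.Lib.Helper10.C3E
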