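import Mathlib
import Cfsg.Agent.Lib.Helper10.C3E.Defs
import Cfsg.Agent.Lib.helper15.C3ERNG

/-!
# Project S5975 (designer helper10), row DER2 : the core `c3eder2_core`
(`c3e_der_two` with the instances of CASES, ORDS, SEMI for `g` as hypotheses).
-/

set_option autoImplicit false
set_option linter.unusedVariables false
set_option linter.unusedSectionVars false

namespace Cfsg.Agent.Lib.Helper10.C3E

open Module Cfsg.Agent.Lib.helper8.C3S

variable {F K V : Type*} [Field F] [Field K] [Algebra F K] [AddCommGroup V] [Module F V] [Module K V]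
  [IsScalarTower F K V]

/-- rank-nullity for `g - c` -/
theorem c3eder2_rank_nullity {F V : Type*} [Field F] [AddCommGroup V] [Module F V] [FiniteDimensional F V]
    (g : V ≃ₗ[F] V) (c : F) : rk g c + finrank F (fixc g c) = finrank F V := by
  rw [rk, fixc]
  exact LinearMap.finrank_range_add_finrank_ker _

theorem c3eder2_core [FiniteDimensional F K] [FiniteDimensional K V] [FiniteDimensional F V]
    (B : V →ₗ[K] V →ₗ[K] K) (hB0 : ∀ x, B x x = 0)
    (hfn : ∀ x : V, (∀ y : V, Algebra.trace F K (B x y) = 0) → x = 0) (h2 : (2 : F) ≠ 0)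
    (hk : (finrank F K).Prime) (hV : 4 ≤ finrank F V)
    (g : V ≃ₗ[F] V) (hg : g ∈ Spf F B) (hg2 : g ^ 2 = 1) (h2r : rk g 1 = 2)
    (hcases : Lin K g ∨ ∃ σ : K ≃ₐ[F] K, σ ≠ 1 ∧ ∀ (a : K) (x : V), g (a • x) = σ a • g x)
    (hords : ∀ σ : K ≃ₐ[F] K, σ ≠ 1 → (∀ (a : K) (x : V), g (a • x) = σ a • g x) → 2 = finrank F K)
    (hsemi : ∀ σ : K → K, (∀ (a : K) (x : V), g (a • x) = σ a • g x) → ∀ a : K, σ a ≠ a →
      2 * finrank F (fixc g 1) ≤ finrank F V) :
    finrank F K = 2 ∧ finrank F V = 4 := by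
  rcases hcases with hL | ⟨σ, hσ1, hσ⟩
  · exfalso
    have h2F : ((2 : ℕ) : F) ≠ 0 := by exact_mod_cast h2
    have hdvd := c3e_rng_even B hB0 hfn h2F g hg hL hg2
    rw [h2r] at hdvd
    have h1 : finrank F K ∣ 1 := by
      have : 2 * finrank F K ∣ 2 * 1 := by simpa using hdvd
      exact Nat.dvd_of_mul_dvd_mul_left (by norm_num) this
    have := Nat.dvd_one.mp h1
    rw [this] at hk
    exact Nat.not_prime_one hk
  · have hkk := hords σ hσ1 hσ
    refine ⟨hkk.symm, ?_⟩
    have hne : ∃ a : K, σ a ≠ a := by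
      by_contra hcon
      simp only [not_exists, not_not] at hcon
      apply hσ1
      ext a
      exact hcon a
    obtain ⟨a, ha⟩ := hne
    have hs := hsemi (fun a => σ a) hσ a ha
    have hrn := c3eder2_rank_nullity g (1 : F)
    omega

end Cfsg.Agent.Lib.Helper10.C3E
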