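import Mathlib
import Cfsg.Agent.Lib.Helper10.C3E.Defs
import Cfsg.Agent.Lib.helper15.C3EDER2core
import Cfsg.Agent.Lib.Helper22.C3ESEMI
import Cfsg.Agent.Lib.Helper22.C3ECASES
import Cfsg.Agent.Lib.Helper22.C3EORDS

/-!
# Project S5975 (designer helper10), row DER2 : `c3e_der_two` (verbatim)
-/

set_option autoImplicit false
set_option linter.unusedVariables false
set_option linter.unusedSectionVars false

namespace Cfsg.Agent.Lib.Helper10.C3E

open Module Cfsg.Agent.Lib.helper8.C3S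

variable {F K V : Type*} [Field F] [Field K] [Algebra F K] [AddCommGroup V] [Module F V] [Module K V]
  [IsScalarTower F K V]

/-- DER2 -/
theorem c3e_der_two [Finite K] [FiniteDimensional F K] [FiniteDimensional K V] [FiniteDimensional F V]
    (B : V →ₗ[K] V →ₗ[K] K) (hB0 : ∀ x, B x x = 0)
    (hfn : ∀ x : V, (∀ y : V, Algebra.trace F K (B x y) = 0) → x = 0) (h2 : (2 : F) ≠ 0)
    (hk : (finrank F K).Prime) (hV : 4 ≤ finrank F V)
    (g : V ≃ₗ[F] V) (hg : g ∈ Spf F B) (hN : Nrm K g) (hg2 : g ^ 2 = 1) (h2r : rk g 1 = 2) :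
    finrank F K = 2 ∧ finrank F V = 4 := by
  have : Nontrivial V := by
    apply Module.nontrivial_of_finrank_pos (R := F)
    omega
  refine c3eder2_core B hB0 hfn h2 hk hV g hg hg2 h2r (c3e_nrm_cases g hN) ?_ ?_
  · intro σ hσ1 hσ
    refine c3e_semi_order Nat.prime_two hk g σ hσ1 hσ 1 ?_
    intro x
    rw [hg2, one_smul]
    rfl
  · intro σ hσ a ha
    exact c3e_semi_fix g σ hσ a ha 1

end Cfsg.Agent.Lib.Helper10.C3E
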