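import Mathlib
import Cfsg.Agent.Lib.Helper13.OTS.Defs
import Cfsg.Agent.Lib.Helper11.MEOO3

/-!
# Project OTS, row INVDET (`q_invol_even`), verbatim from `Helper13/OTS/SkelR.lean.txt`.
`Ω ≤ SO`, and an involution has determinant `(-1) ^ dim ker (x + 1)`.
-/

set_option autoImplicit false
set_option linter.unusedVariables false
set_option linter.unusedSectionVars false

namespace Cfsg.Agent.Lib.Helper13.OTS

open Polynomial Module Cfsg.Agent.Lib.Helper13.S5955 Cfsg.Agent.Lib.helper15.S5972

/-- the determinant of an involution -/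
theorem otsinvdet_det {F : Type*} [Field F] (h2 : (2 : F) ≠ 0) {V : Type*} [AddCommGroup V] [Module F V]
    [FiniteDimensional F V] (X : Module.End F V) (hXX : ∀ v, X (X v) = v) :
    LinearMap.det X = (-1 : F) ^ finrank F (LinearMap.ker (X + 1)) := by
  set Vp : Submodule F V := LinearMap.ker (X - 1) with hVp
  set Vm : Submodule F V := LinearMap.ker (X + 1) with hVm
  have hmemp : ∀ v, v ∈ Vp ↔ X v = v := by
    intro v
    rw [hVp, LinearMap.mem_ker, LinearMap.sub_apply, Module.End.one_apply, sub_eq_zero]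
  have hmemm : ∀ v, v ∈ Vm ↔ X v = -v := by
    intro v
    rw [hVm, LinearMap.mem_ker, LinearMap.add_apply, Module.End.one_apply, add_eq_zero_iff_eq_neg]
  have hcompl : IsCompl Vp Vm := by
    constructor
    · rw [Submodule.disjoint_def]
      intro v hv1 hv2
      have h1 := (hmemp v).1 hv1
      have h3 := (hmemm v).1 hv2
      rw [h1] at h3
      have h4 : (2 : F) • v = 0 := by rw [two_smul]; nth_rewrite 1 [h3]; exact neg_add_cancel v
      exact (smul_eq_zero.1 h4).resolve_left h2
    · rw [codisjoint_iff, eq_top_iff]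
      intro v _
      have hv : v = (2 : F)⁻¹ • (v + X v) + (2 : F)⁻¹ • (v - X v) := by
        rw [← smul_add]
        have : v + X v + (v - X v) = (2 : F) • v := by rw [two_smul]; abel
        rw [this, smul_smul, inv_mul_cancel₀ h2, one_smul]
      rw [hv]
      apply Submodule.add_mem_sup
      · rw [hmemp, map_smul, map_add, hXX, add_comm]
      · rw [hmemm, map_smul, map_sub, hXX, ← smul_neg, neg_sub]
  set e := Submodule.prodEquivOfIsCompl Vp Vm hcompl with he
  have hX : X = (e : (Vp × Vm) →ₗ[F] V) ∘ₗ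
      (LinearMap.prodMap (1 : Module.End F Vp) (-1 : Module.End F Vm)) ∘ₗ
      (e.symm : V →ₗ[F] (Vp × Vm)) := by
    apply LinearMap.ext
    intro v
    obtain ⟨⟨a, b⟩, rfl⟩ := e.surjective v
    simp only [LinearMap.comp_apply, LinearEquiv.coe_coe, LinearEquiv.symm_apply_apply,
      LinearMap.prodMap_apply, Module.End.one_apply, LinearMap.neg_apply]
    rw [he, Submodule.coe_prodEquivOfIsCompl', Submodule.coe_prodEquivOfIsCompl', map_add,
      (hmemp a).1 a.2, (hmemm b).1 b.2]
    simp
  rw [hX, LinearMap.det_conj, LinearMap.det_prodMap, map_one, one_mul]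
  have : (-1 : Module.End F Vm) = (-1 : F) • (1 : Module.End F Vm) := by
    apply LinearMap.ext
    intro v
    rw [LinearMap.smul_apply, LinearMap.neg_apply, Module.End.one_apply, neg_one_smul]
  rw [this, LinearMap.det_smul, map_one, mul_one]

theorem q_invol_even {F : Type*} [Field F] (h2 : (2 : F) ≠ 0) {ι : Type} [Fintype ι] [DecidableEq ι]
    (Qs : QuadraticForm F (ι → F)) (x : GL ι F) (hx : x ∈ Cfsg.Geo.omegaGL (⇑Qs))
    (hx2 : x ^ 2 = 1) : Even (finrank F (cycS 2 (Matrix.toLin' (x : Matrix ι ι F)))) := by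
  obtain ⟨g, hgΩ, rfl⟩ := hx
  have hdet := Cfsg.Agent.Lib.Helper1.MEO.det_eq_one_of_mem_omega (⇑Qs) g hgΩ
  set X : Module.End F (ι → F) :=
    Matrix.toLin' (((Cfsg.isometryGroup F ⇑Qs).subtype g : GL ι F) : Matrix ι ι F) with hXdef
  have hmat : (((Cfsg.isometryGroup F ⇑Qs).subtype g : GL ι F) : Matrix ι ι F) *
      (((Cfsg.isometryGroup F ⇑Qs).subtype g : GL ι F) : Matrix ι ι F) = 1 := by
    have := congrArg Units.val hx2
    rwa [Units.val_pow_eq_pow_val, pow_two, Units.val_one] at this
  have hXX : ∀ v, X (X v) = v := by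
    intro v
    rw [hXdef, Matrix.toLin'_apply, Matrix.toLin'_apply, Matrix.mulVec_mulVec, hmat,
      Matrix.one_mulVec]
  have hcyc : cycS 2 X = LinearMap.ker (X + 1) := by
    unfold cycS
    rw [cyclotomic_two]
    simp
  rw [hcyc]
  have h1 := otsinvdet_det h2 X hXX
  rw [hXdef, LinearMap.det_toLin'] at h1
  have h3 : (-1 : F) ^ finrank F (LinearMap.ker (X + 1)) = 1 := by
    rw [← h1]; exact hdet
  by_contra hodd
  rw [Nat.not_even_iff_odd] at hodd
  rw [hodd.neg_one_pow] at h3
  apply h2
  linear_combination (-1 : F) * h3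

end Cfsg.Agent.Lib.Helper13.OTS
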