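import Mathlib
import Cfsg.Agent.Lib.Helper13.OTS.Defs
import Cfsg.Agent.Lib.helper15.S5972OS2CTX

/-!
# Project OTS, row QS2CTX (`qs2_ctx`), verbatim from `Helper13/OTS/Skel.lean.txt`
(port of `helper15/S5972OS2CTX.lean` to the quadratic form `v ↦ ⟨v, y v⟩ ⟂ Q₀`, all characteristics).
-/

set_option autoImplicit false
set_option linter.unusedVariables false
set_option linter.unusedSectionVars false

namespace Cfsg.Agent.Lib.Helper13.OTS

open Polynomial Module Matrix Cfsg.Agent.Lib.Helper13.S5955 Cfsg.Agent.Lib.helper15.S5972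

theorem otsqs2ctx_pow {F : Type*} [Field F] {h : ℕ} (κ : Type) (y : Module.End F (Fin h ⊕ Fin h → F)) (n : ℕ)
    (u : (Fin h ⊕ Fin h → F) × (κ → F)) :
    ((qs2X κ y) ^ n) u = ((y ^ n) u.1, u.2) := by
  induction n generalizing u with
  | zero => simp
  | succ n ih =>
    rw [pow_succ, Module.End.mul_apply, ih, qs2X_apply, pow_succ, Module.End.mul_apply]

/-- the polar form of `qs2Q y Q₀`, no hypothesis on `y` -/
theorem otsqs2ctx_polar0 {F : Type*} [Field F] {h : ℕ} {κ : Type}
    (y : Module.End F (Fin h ⊕ Fin h → F)) (Q₀ : QuadraticForm F (κ → F))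
    (u v : (Fin h ⊕ Fin h → F) × (κ → F)) :
    QuadraticMap.polar (qs2Q y Q₀) u v =
      stdB h F u.1 (y v.1) + stdB h F v.1 (y u.1) + QuadraticMap.polar Q₀ u.2 v.2 := by
  unfold QuadraticMap.polar
  rw [qs2Q_apply, qs2Q_apply, qs2Q_apply]
  simp only [Prod.fst_add, Prod.snd_add, map_add, LinearMap.add_apply]
  ring

/-- the polar form of `qs2Q y Q₀` for a symplectic `y` with `y ^ r = 1` -/
theorem otsqs2ctx_polar {F : Type*} [Field F] {h : ℕ} {κ : Type} (r : ℕ) (hr1 : 1 < r)
    (y : Module.End F (Fin h ⊕ Fin h → F)) (hy : SCtx r (stdB h F) y) (Q₀ : QuadraticForm F (κ → F))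
    (u v : (Fin h ⊕ Fin h → F) × (κ → F)) :
    QuadraticMap.polar (qs2Q y Q₀) u v =
      stdB h F u.1 (y v.1 - (y ^ (r - 1)) v.1) + QuadraticMap.polar Q₀ u.2 v.2 := by
  rw [otsqs2ctx_polar0]
  have hskew : ∀ a b, stdB h F a b = - stdB h F b a := by
    intro a b
    have := hy.alt (a + b)
    simp only [map_add, LinearMap.add_apply, hy.alt, zero_add, add_zero] at this
    exact eq_neg_of_add_eq_zero_left ((add_comm _ _).trans this)
  obtain ⟨h1, h2⟩ := s5972os2_adj hr1 (stdB h F) y hy.pres hy.pow u.1 v.1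
  rw [map_sub, h2, hskew v.1 (y u.1)]
  ring

theorem qs2_ctx {F : Type*} [Field F] {h : ℕ} {κ : Type} [Fintype κ] [DecidableEq κ] (r : ℕ) (hr : Odd r)
    (hr1 : 1 < r) (y : Module.End F (Fin h ⊕ Fin h → F)) (hy : SCtx r (stdB h F) y)
    (hfix : fixS y = ⊥) (Q₀ : QuadraticForm F (κ → F))
    (hQ₀ : (QuadraticMap.polarBilin Q₀).Nondegenerate) :
    QCtx r (qs2Q y Q₀) (qs2X κ y) ∧
      finrank F ((Fin h ⊕ Fin h → F) × (κ → F)) = 2 * h + Fintype.card κ ∧
      finrank F (fixS (qs2X κ y)) = Fintype.card κ ∧ (1 ≤ h → qs2X κ y ≠ 1) := by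
  classical
  have hfix' : ∀ v, y v = v → v = 0 := by
    intro v hv
    have : v ∈ fixS y := (s5972os2_mem_fixS y v).mpr hv
    rw [hfix] at this
    exact (Submodule.mem_bot F).mp this
  let D : Module.End F (Fin h ⊕ Fin h → F) := y - y ^ (r - 1)
  have hD : ∀ v, D v = y v - (y ^ (r - 1)) v := fun v => rfl
  have hDinj : Function.Injective D := by
    rw [← LinearMap.ker_eq_bot, LinearMap.ker_eq_bot']
    intro v hv
    exact s5972os2_inj hr hr1 y hy.pow hfix' v hv
  have hDsurj : Function.Surjective D := LinearMap.surjective_of_injective hDinj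
  refine ⟨⟨?_, ?_, ?_⟩, ?_, ?_, ?_⟩
  · intro u hu
    have h1 : u.1 = 0 := by
      apply hy.nd
      intro w
      obtain ⟨v, rfl⟩ := hDsurj w
      have := hu (v, 0)
      rw [otsqs2ctx_polar r hr1 y hy Q₀] at this
      simpa [hD] using this
    have h2 : u.2 = 0 := by
      apply hQ₀.1
      intro b
      have := hu (0, b)
      rw [otsqs2ctx_polar r hr1 y hy Q₀] at this
      simpa using this
    exact Prod.ext h1 h2
  · intro v
    rw [qs2Q_apply, qs2Q_apply, qs2X_apply]
    show stdB h F (y v.1) (y (y v.1)) + Q₀ v.2 = _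
    rw [hy.pres]
  · apply LinearMap.ext
    intro u
    rw [otsqs2ctx_pow, hy.pow]
    rfl
  · rw [Module.finrank_prod, Module.finrank_fintype_fun_eq_card, Module.finrank_fintype_fun_eq_card,
      Fintype.card_sum, Fintype.card_fin]
    ring
  · have hker : fixS (qs2X κ y) = LinearMap.range (LinearMap.inr F (Fin h ⊕ Fin h → F) (κ → F)) := by
      ext u
      rw [s5972os2_mem_fixS, qs2X_apply, LinearMap.mem_range]
      constructor
      · intro hu
        have h1 : y u.1 = u.1 := congrArg Prod.fst hu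
        refine ⟨u.2, ?_⟩
        apply Prod.ext
        · exact (hfix' _ h1).symm
        · rfl
      · rintro ⟨b, rfl⟩
        simp
    rw [hker, LinearMap.finrank_range_of_inj LinearMap.inr_injective,
      Module.finrank_fintype_fun_eq_card]
  · intro hh h1
    have hv : (Pi.single (Sum.inl ⟨0, by omega⟩) 1 : Fin h ⊕ Fin h → F) = 0 := by
      apply hfix'
      have := LinearMap.congr_fun h1 ((Pi.single (Sum.inl ⟨0, by omega⟩) 1 : Fin h ⊕ Fin h → F), 0)
      rw [qs2X_apply] at this
      exact congrArg Prod.fst this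
    have := congrFun hv (Sum.inl ⟨0, by omega⟩)
    simp at this

end Cfsg.Agent.Lib.Helper13.OTS
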