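import Mathlib
import Cfsg.Agent.Lib.Helper13.OTS.Defs
import Cfsg.Agent.Lib.helper15.OTSQS2CTX
import Cfsg.Agent.Lib.helper15.S5972OS2DIST

/-!
# Project OTS, row QS2DIST (`qs2_dist`), verbatim from `Helper13/OTS/Skel.lean.txt`
(port of `helper15/S5972OS2DIST.lean`: totally singular instead of totally isotropic, all characteristics).
-/

set_option autoImplicit false
set_option linter.unusedVariables false
set_option linter.unusedSectionVars false

namespace Cfsg.Agent.Lib.Helper13.OTS

open Polynomial Module Matrix Cfsg.Agent.Lib.Helper13.S5955 Cfsg.Agent.Lib.helper15.S5972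

theorem qs2_dist {F : Type*} [Field F] {h : ℕ} {κ : Type} [Fintype κ] [DecidableEq κ] (r : ℕ) (hr : Odd r)
    (hr1 : 1 < r) (hrF : (r : F) ≠ 0) (y : Module.End F (Fin h ⊕ Fin h → F))
    (hy : SCtx r (stdB h F) y) (hfix : fixS y = ⊥)
    (hno : ∀ U : Submodule F (Fin h ⊕ Fin h → F), SInv y U → STI (stdB h F) U → U = ⊥)
    (Q₀ : QuadraticForm F (κ → F))
    (W : Submodule F ((Fin h ⊕ Fin h → F) × (κ → F))) (hW : SInv (qs2X κ y) W)
    (hWs : QTS (qs2Q y Q₀) W) : W ≤ fixS (qs2X κ y) := by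
  classical
  have hfix' : ∀ v, y v = v → v = 0 := by
    intro v hv
    have : v ∈ fixS y := (s5972os2_mem_fixS y v).mpr hv
    rw [hfix] at this
    exact (Submodule.mem_bot F).mp this
  -- powers keep `W`
  have hWpow : ∀ (n : ℕ) (u : (Fin h ⊕ Fin h → F) × (κ → F)), u ∈ W → ((qs2X κ y) ^ n) u ∈ W := by
    intro n
    induction n with
    | zero => intro u hu; simpa using hu
    | succ n ih =>
      intro u hu
      rw [pow_succ', Module.End.mul_apply]
      exact hW _ (ih u hu)
  -- the averaging operator on the first summand vanishes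
  have hN : ∀ u : Fin h ⊕ Fin h → F, ∑ j ∈ Finset.range r, (y ^ j) u = 0 := by
    intro u
    apply hfix'
    rw [map_sum]
    have h1 : ∀ j ∈ Finset.range r, y ((y ^ j) u) = (y ^ (j + 1)) u := by
      intro j _
      rw [pow_succ', Module.End.mul_apply]
    rw [Finset.sum_congr rfl h1]
    have h2 : (y ^ r) u = (y ^ 0) u := by rw [hy.pow, pow_zero]
    have e1 := Finset.sum_range_succ' (fun j => (y ^ j) u) r
    have e2 := Finset.sum_range_succ (fun j => (y ^ j) u) r
    rw [e2, h2] at e1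
    exact (add_right_cancel e1).symm
  -- `(0, a) ∈ W` whenever `(u, a) ∈ W`
  have hsnd : ∀ u : (Fin h ⊕ Fin h → F) × (κ → F), u ∈ W → ((0 : Fin h ⊕ Fin h → F), u.2) ∈ W := by
    intro u hu
    have h1 : ∑ j ∈ Finset.range r, ((qs2X κ y) ^ j) u ∈ W :=
      Submodule.sum_mem _ (fun j _ => hWpow j u hu)
    have h2 : ∑ j ∈ Finset.range r, ((qs2X κ y) ^ j) u = ((0 : Fin h ⊕ Fin h → F), (r : F) • u.2) := by
      simp_rw [otsqs2ctx_pow]
      apply Prod.ext
      · rw [Prod.fst_sum]
        exact hN u.1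
      · rw [Prod.snd_sum]
        simp only [Finset.sum_const, Finset.card_range]
        rw [← Nat.cast_smul_eq_nsmul F]
    rw [h2] at h1
    have h3 := W.smul_mem ((r : F)⁻¹) h1
    have h4 : ((r : F)⁻¹) • ((0 : Fin h ⊕ Fin h → F), (r : F) • u.2) = ((0 : Fin h ⊕ Fin h → F), u.2) := by
      apply Prod.ext
      · simp
      · simp only [Prod.smul_snd]
        rw [smul_smul, inv_mul_cancel₀ hrF, one_smul]
    rw [h4] at h3
    exact h3
  have hfst : ∀ u : (Fin h ⊕ Fin h → F) × (κ → F), u ∈ W → (u.1, (0 : κ → F)) ∈ W := by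
    intro u hu
    have := W.sub_mem hu (hsnd u hu)
    have h5 : u - ((0 : Fin h ⊕ Fin h → F), u.2) = (u.1, (0 : κ → F)) := by
      apply Prod.ext <;> simp
    rw [h5] at this
    exact this
  -- the invariant subspace `U` of the first summand
  let U : Submodule F (Fin h ⊕ Fin h → F) := W.comap (LinearMap.inl F (Fin h ⊕ Fin h → F) (κ → F))
  have hUmem : ∀ u, u ∈ U ↔ (u, (0 : κ → F)) ∈ W := fun u => Iff.rfl
  have hUinv : SInv y U := by
    intro u hu
    rw [hUmem] at hu ⊢
    have := hW _ hu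
    rw [qs2X_apply] at this
    exact this
  have hUpow : ∀ (n : ℕ) (u : Fin h ⊕ Fin h → F), u ∈ U → (y ^ n) u ∈ U :=
    fun n u hu => Cfsg.Agent.Lib.Helper24.el_pow_mem hUinv n hu
  -- `D` restricted to `U` is bijective
  let D : Module.End F (Fin h ⊕ Fin h → F) := y - y ^ (r - 1)
  have hDU : ∀ u ∈ U, D u ∈ U := by
    intro u hu
    exact U.sub_mem (hUinv u hu) (hUpow (r - 1) u hu)
  let DU : Module.End F U := D.restrict hDU
  have hDUinj : Function.Injective DU := by
    rw [← LinearMap.ker_eq_bot, LinearMap.ker_eq_bot']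
    intro v hv
    apply Subtype.ext
    have h1 : D (v : Fin h ⊕ Fin h → F) = 0 := by
      have := congrArg Subtype.val hv
      exact this
    exact s5972os2_inj hr hr1 y hy.pow hfix' v h1
  have hDUsurj : Function.Surjective DU := LinearMap.surjective_of_injective hDUinj
  have hUti : STI (stdB h F) U := by
    intro u hu w hw
    obtain ⟨v, hv⟩ := hDUsurj ⟨w, hw⟩
    have hv' : D (v : Fin h ⊕ Fin h → F) = w := congrArg Subtype.val hv
    have hu' : ((u, 0) : (Fin h ⊕ Fin h → F) × (κ → F)) ∈ W := (hUmem u).mp hu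
    have hv2 : (((v : Fin h ⊕ Fin h → F), 0) : (Fin h ⊕ Fin h → F) × (κ → F)) ∈ W := (hUmem _).mp v.2
    have h1 : QuadraticMap.polar (qs2Q y Q₀) (u, 0) ((v : Fin h ⊕ Fin h → F), 0) = 0 := by
      unfold QuadraticMap.polar
      rw [hWs _ (W.add_mem hu' hv2), hWs _ hu', hWs _ hv2]
      simp
    rw [otsqs2ctx_polar r hr1 y hy Q₀] at h1
    simp only [QuadraticMap.polar_zero_left, add_zero] at h1
    rw [← hv']
    exact h1
  have hU0 := hno U hUinv hUti
  intro u hu
  rw [s5972os2_mem_fixS, qs2X_apply]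
  have h1 : u.1 ∈ U := (hUmem _).mpr (hfst u hu)
  rw [hU0] at h1
  have h2 : u.1 = 0 := (Submodule.mem_bot F).mp h1
  apply Prod.ext
  · show y u.1 = u.1
    rw [h2, map_zero]
  · rfl

end Cfsg.Agent.Lib.Helper13.OTS
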