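import Mathlib
import Cfsg.Agent.Lib.Helper19.G2V.Defs

set_option autoImplicit false

namespace Cfsg.Agent.Lib.Helper19.G2V

open Cfsg.Lie Cfsg.Lie.ChevalleyDatum Matrix
open Cfsg.Agent.Lib.helper8
open Cfsg.Agent.Lib.helper23.P4V

universe u

variable {F : Type u} [Field F]

/-- the short simple root `a` (index 7) lies in the root subsystem of `J = {0}` -/
theorem g2vi4_inRootSub7 : chevG2.InRootSub ({0} : Set ℕ) 7 := by
  refine ⟨by decide, ?_⟩
  intro i hi hni
  have hi2 : i < 2 := hi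
  interval_cases i
  · exact absurd rfl hni
  · decide

/-- the root `-a` (index 4) lies in the root subsystem of `J = {0}` -/
theorem g2vi4_inRootSub4 : chevG2.InRootSub ({0} : Set ℕ) 4 := by
  refine ⟨by decide, ?_⟩
  intro i hi hni
  have hi2 : i < 2 := hi
  interval_cases i
  · exact absurd rfl hni
  · decide

/-- a root subgroup of a root of `Φ_J` lies in the Levi subgroup -/
theorem g2vi4_rootSubgroup_le (r : ℕ) (hr : chevG2.InRootSub ({0} : Set ℕ) r) :
    chevG2.rootSubgroup F r ≤ Lv F := by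
  unfold Lv ChevalleyDatum.leviSubgroup ChevalleyDatum.rootSubgroup
  refine le_trans ?_ le_sup_right
  apply Subgroup.closure_mono
  rintro g ⟨t, ht⟩
  exact ⟨r, t, hr, ht⟩

/-- the range of `phiA` lies in the Levi subgroup -/
theorem g2vi4_phiA_mem (S : Matrix.SpecialLinearGroup (Fin 2) F) : phiA S ∈ Lv F := by
  have h : phiA S ∈ (phiA (F := F)).range := ⟨S, rfl⟩
  rw [phiA_range] at h
  exact (sup_le (g2vi4_rootSubgroup_le 7 g2vi4_inRootSub7)
    (g2vi4_rootSubgroup_le 4 g2vi4_inRootSub4)) h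

/-- `hb c ∈ Lv` for `c ≠ 0` -/
theorem g2vi4_hb_mem (c : F) (hc : c ≠ 0) : hb c ∈ Lv F := by
  unfold Lv ChevalleyDatum.leviSubgroup
  exact (le_sup_left : chevG2.diagonalSubgroup F ≤ _) (h8hU_mem_H chevG2 hB 6 (by decide) c hc)

/-- **I4** [S-M].  `phiA_range` (`X₇, X₄ ≤ Lv`) and `hb c ∈ H ≤ Lv` (`h8hU_mem_H` for `c ≠ 0`). -/
theorem iota_mem_Lv (A : GL (Fin 2) F) : iota A ∈ Lv F := by
  have h : (A : M2 F).det ≠ 0 := by
    have := A.isUnit.map (Matrix.detMonoidHom (n := Fin 2) (R := F))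
    exact this.ne_zero
  unfold iota
  exact (Lv F).mul_mem (g2vi4_phiA_mem _) (g2vi4_hb_mem _ h)

end Cfsg.Agent.Lib.Helper19.G2V
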