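import Mathlib
import Cfsg.Agent.Lib.helper8.SylowBasic

/-!
# Sub-project N5400 (helper10), piece NINE (helper15)
-/

set_option autoImplicit false
set_option linter.unusedVariables false
set_option linter.unusedSectionVars false

namespace Cfsg.Agent.Lib.Helper10.N5400

open Classical

universe u

variable {G : Type u} [Group G] [Finite G]

/-- NINE [S-M] generic: in a group whose order is divisible by 9 the normaliser of a subgroup of order 3 has order
divisible by 9. -/
theorem nine (hG9 : 9 ∣ Nat.card G) (Z : Subgroup G) (hZ : Nat.card ↥Z = 3) :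
    9 ∣ Nat.card ↥(Subgroup.normalizer (Z : Set G)) := by
  haveI : Fact (Nat.Prime 3) := ⟨by norm_num⟩
  have hdvd : 3 ^ (1 + 1) ∣ Nat.card G := by simpa using hG9
  have hZ' : Nat.card ↥Z = 3 ^ 1 := by rw [hZ]; norm_num
  obtain ⟨K, hK, hZK⟩ := Sylow.exists_subgroup_card_pow_succ hdvd hZ'
  have hK2 : Nat.card ↥K = 3 ^ 2 := by rw [hK]
  have hcomm := Cfsg.Agent.Lib.helper8.h8_comm_of_card_prime_sq 3 K hK2
  have hKN : K ≤ Subgroup.normalizer (Z : Set G) := by
    intro k hk
    rw [Subgroup.mem_normalizer_iff]
    intro x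
    constructor
    · intro hx
      have : k * x * k⁻¹ = x := by
        rw [hcomm k hk x (hZK hx)]; group
      rw [this]; exact hx
    · intro hx
      have hy : k * x * k⁻¹ ∈ K := hZK hx
      have : x = k * x * k⁻¹ := by
        have h1 := hcomm k⁻¹ (K.inv_mem hk) (k * x * k⁻¹) hy
        calc x = k⁻¹ * (k * x * k⁻¹) * k := by group
          _ = (k * x * k⁻¹) * k⁻¹ * k := by rw [h1]
          _ = k * x * k⁻¹ := by group
      rw [this]; exact hx
  have := Subgroup.card_dvd_of_le hKN
  rw [hK2] at this
  simpa using this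

end Cfsg.Agent.Lib.Helper10.N5400
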