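import Mathlib
import Cfsg.Agent.Lib.helper8.SylowBasic
import Cfsg.Agent.Lib.helper8.SimpleEmbed
import Cfsg.Agent.Lib.helper8.Burnside
import Cfsg.Agent.Lib.helper8.SubgroupCard
import Cfsg.Agent.Lib.helper8.SylowConj
import Cfsg.Agent.Lib.helper23.OrdGen3

/-!
# Project S983 (S0983): generic tools for the order rows (helper15)

* `s983_nsylow_of_normalizer_le` : if `N_G(P) ≤ L` then `|N_G(P)| * n_p(L) = |L|`.
* `s983_mem_zpowers_of_unique`   : in a subgroup `H` of order `p * m` whose only divisor `d ∣ m`, `d ≡ 1 (p)` is `1`,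
  all elements of order `p` lie in one cyclic subgroup.
* `s983_conj_mem_centralizer`    : `N_G(H)` normalizes `C_G(H)` (elementwise).
* `s983_mem_normalizer_zpowers`  : `g z g⁻¹, g⁻¹ z g ∈ ⟨z⟩` puts `g` in `N_G(⟨z⟩)`.
* `s983_centralizer_le_normalizer_zpowers`.
-/

set_option autoImplicit false

namespace Cfsg.Agent.Lib.helper15.S983

open Subgroup Cfsg.Agent.Lib.helper8

theorem s983_nsylow_of_normalizer_le {G : Type*} [Group G] [Finite G] (p : ℕ) [hp : Fact p.Prime]
    (P : Sylow p G) (L : Subgroup G)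
    (hNL : normalizer ((P : Subgroup G) : Set G) ≤ L) :
    Nat.card (normalizer ((P : Subgroup G) : Set G)) * Nat.card (Sylow p L) = Nat.card L := by
  have hPL : (P : Subgroup G) ≤ L := le_trans le_normalizer hNL
  have h1 : Nat.card (Sylow p L) =
      (normalizer ((((P.subtype hPL : Sylow p L) : Subgroup L)) : Set L)).index :=
    (P.subtype hPL).card_eq_index_normalizer
  have h2 : normalizer ((((P.subtype hPL : Sylow p L) : Subgroup L)) : Set L) =
      (normalizer ((P : Subgroup G) : Set G)).subgroupOf L := by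
    rw [Sylow.coe_subtype]
    exact (subgroupOf_normalizer_eq hPL).symm
  rw [h2] at h1
  rw [h1]
  exact h8_card_mul_relIndex hNL

theorem s983_mem_zpowers_of_unique {G : Type*} [Group G] [Finite G] (p m : ℕ) [hp : Fact p.Prime]
    (H : Subgroup G) (hH : Nat.card H = p ^ 1 * m) (hm : ¬ p ∣ m)
    (huniq : ∀ d, d ∣ m → d % p = 1 → d = 1)
    (x y : G) (hx : x ∈ H) (hy : y ∈ H) (hox : orderOf x = p) (hoy : orderOf y = p) :
    y ∈ zpowers x := by
  have h1 : Nat.card (Sylow p H) = 1 :=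
    huniq _ (h8_nsylow_dvd p 1 m hH hm) (h8_nsylow_mod p)
  have : Subsingleton (Sylow p H) := (Nat.card_eq_one_iff_unique.mp h1).1
  have hox' : orderOf (⟨x, hx⟩ : H) = p := by
    rw [← hox]; exact (Subgroup.orderOf_mk x hx)
  have hoy' : orderOf (⟨y, hy⟩ : H) = p := by
    rw [← hoy]; exact (Subgroup.orderOf_mk y hy)
  have hpx : IsPGroup p (zpowers (⟨x, hx⟩ : H)) :=
    IsPGroup.of_card (n := 1) (by rw [Nat.card_zpowers, hox', pow_one])
  have hpy : IsPGroup p (zpowers (⟨y, hy⟩ : H)) :=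
    IsPGroup.of_card (n := 1) (by rw [Nat.card_zpowers, hoy', pow_one])
  obtain ⟨S, hS⟩ := hpx.exists_le_sylow
  obtain ⟨S', hS'⟩ := hpy.exists_le_sylow
  have hSS : S' = S := Subsingleton.elim _ _
  have hcS : Nat.card (S : Subgroup H) = p := by
    have := h8_sylow_card p 1 m hH hm S
    simpa using this
  have hzS : zpowers (⟨x, hx⟩ : H) = (S : Subgroup H) :=
    Subgroup.eq_of_le_of_card_ge hS (by rw [hcS, Nat.card_zpowers, hox'])
  have hy' : (⟨y, hy⟩ : H) ∈ zpowers (⟨x, hx⟩ : H) := by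
    rw [hzS, ← hSS]
    exact hS' (mem_zpowers _)
  obtain ⟨k, hk⟩ := mem_zpowers_iff.mp hy'
  refine mem_zpowers_iff.mpr ⟨k, ?_⟩
  have := congrArg Subtype.val hk
  simpa using this

theorem s983_conj_mem_centralizer {G : Type*} [Group G] (H : Subgroup G) (n c : G)
    (hn : n ∈ normalizer (H : Set G)) (hc : c ∈ centralizer (H : Set G)) :
    n * c * n⁻¹ ∈ centralizer (H : Set G) := by
  rw [mem_centralizer_iff]
  intro h hh
  have hh' : n⁻¹ * h * n ∈ H := by
    have := (mem_normalizer_iff''.mp hn h).mp hh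
    exact this
  have key : (n⁻¹ * h * n) * c = c * (n⁻¹ * h * n) := (mem_centralizer_iff.mp hc) _ hh'
  calc h * (n * c * n⁻¹) = n * ((n⁻¹ * h * n) * c) * n⁻¹ := by group
    _ = n * (c * (n⁻¹ * h * n)) * n⁻¹ := by rw [key]
    _ = n * c * n⁻¹ * h := by group

theorem s983_mem_normalizer_zpowers {G : Type*} [Group G] (z g : G)
    (h1 : g * z * g⁻¹ ∈ zpowers z) (h2 : g⁻¹ * z * g ∈ zpowers z) :
    g ∈ normalizer ((zpowers z : Subgroup G) : Set G) := by
  rw [mem_normalizer_iff]
  intro x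
  constructor
  · intro hx
    obtain ⟨k, rfl⟩ := mem_zpowers_iff.mp hx
    rw [← conj_zpow]
    exact zpow_mem h1 k
  · intro hx
    obtain ⟨k, hk⟩ := mem_zpowers_iff.mp hx
    have hxk : x = (g⁻¹ * z * g) ^ k := by
      have h3 : (g⁻¹ * z * g) ^ k = g⁻¹ * z ^ k * g := by
        have := conj_zpow (i := k) (a := g⁻¹) (b := z)
        simpa using this
      rw [h3, hk]; group
    rw [hxk]
    exact zpow_mem h2 k

theorem s983_centralizer_le_normalizer_zpowers {G : Type*} [Group G] (z g : G)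
    (hg : g * z = z * g) : g ∈ normalizer ((zpowers z : Subgroup G) : Set G) := by
  apply s983_mem_normalizer_zpowers
  · have : g * z * g⁻¹ = z := by rw [hg]; group
    rw [this]; exact mem_zpowers z
  · have : g⁻¹ * z * g = z := by rw [mul_assoc, ← hg]; group
    rw [this]; exact mem_zpowers z

end Cfsg.Agent.Lib.helper15.S983
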