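import Mathlib
import Cfsg.Agent.Lib.helper15.S983Tools

/-!
# Sub-project N5400 (helper10), piece NZ (helper15)
-/

set_option autoImplicit false
set_option linter.unusedVariables false
set_option linter.unusedSectionVars false
set_option linter.style.haveILetI false

namespace Cfsg.Agent.Lib.Helper10.N5400

open Classical
open Subgroup Cfsg.Agent.Lib.helper8 Cfsg.Agent.Lib.helper15.S983

universe u

variable {G : Type u} [Group G] [Finite G]

/-- in a subgroup `C` of order `75` centralised by `z` (of order 3, in `C`), every element of order 3 of `C`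
is a power of `z` (Sylow conjugacy inside `C`) -/
theorem n5400nz_unique (C : Subgroup G) (hC : Nat.card ↥C = 75) (z : G) (hz : orderOf z = 3) (hzC : z ∈ C)
    (hcen : ∀ c ∈ C, c * z = z * c) (w : G) (hw : orderOf w = 3) (hwC : w ∈ C) : w ∈ zpowers z := by
  haveI : Fact (Nat.Prime 3) := ⟨by norm_num⟩
  have hC' : Nat.card ↥C = 3 ^ 1 * 25 := by rw [hC]; norm_num
  have hoz : orderOf (⟨z, hzC⟩ : C) = 3 := by rw [← hz]; exact Subgroup.orderOf_mk z hzC
  have how : orderOf (⟨w, hwC⟩ : C) = 3 := by rw [← hw]; exact Subgroup.orderOf_mk w hwC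
  have hpz : IsPGroup 3 (zpowers (⟨z, hzC⟩ : C)) :=
    IsPGroup.of_card (n := 1) (by rw [Nat.card_zpowers, hoz, pow_one])
  have hpw : IsPGroup 3 (zpowers (⟨w, hwC⟩ : C)) :=
    IsPGroup.of_card (n := 1) (by rw [Nat.card_zpowers, how, pow_one])
  obtain ⟨S1, hS1⟩ := hpz.exists_le_sylow
  obtain ⟨S2, hS2⟩ := hpw.exists_le_sylow
  have hc1 : Nat.card (S1 : Subgroup C) = 3 := by
    have := h8_sylow_card 3 1 25 hC' (by norm_num) S1
    simpa using this
  have hzS1 : zpowers (⟨z, hzC⟩ : C) = (S1 : Subgroup C) :=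
    Subgroup.eq_of_le_of_card_ge hS1 (by rw [hc1, Nat.card_zpowers, hoz])
  obtain ⟨c, hc⟩ := MulAction.exists_smul_eq C S1 S2
  have hw2 : (⟨w, hwC⟩ : C) ∈ ((c • S1 : Sylow 3 C) : Subgroup C) := by
    rw [hc]; exact hS2 (mem_zpowers _)
  rw [h8_mem_smul_sylow, ← hzS1] at hw2
  obtain ⟨k, hk⟩ := mem_zpowers_iff.mp hw2
  have hk' : z ^ k = (c : G)⁻¹ * w * (c : G) := by
    have := congrArg Subtype.val hk
    simpa using this
  have hcz : (c : G) * z = z * (c : G) := hcen c c.2
  have hcomm : Commute (c : G) (z ^ k) := (show Commute (c : G) z from hcz).zpow_right k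
  refine mem_zpowers_iff.mpr ⟨k, ?_⟩
  have h1 : w = (c : G) * (z ^ k) * (c : G)⁻¹ := by rw [hk']; group
  rw [h1, hcomm.eq]; group

/-- NZ [M]: if `z` of order 3 centralises `P` (`|P| = 25`, `|N(P)| = 150`, `G` simple) then `N(P)` normalises
`zpowers z`. -/
theorem nz [IsSimpleGroup G] (P : Sylow 5 G) (hP : Nat.card ↥(P : Subgroup G) = 25)
    (hN : Nat.card ↥(Subgroup.normalizer ((P : Subgroup G) : Set G)) = 150) (z : G) (hz : orderOf z = 3)
    (hzP : z ∈ Subgroup.centralizer ((P : Subgroup G) : Set G)) :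
    Subgroup.normalizer ((P : Subgroup G) : Set G) ≤ Subgroup.normalizer ((Subgroup.zpowers z : Subgroup G) : Set G) := by
  haveI : Fact (Nat.Prime 5) := ⟨by norm_num⟩
  have hP2 : Nat.card ↥(P : Subgroup G) = 5 ^ 2 := by rw [hP]; norm_num
  have hPcomm := h8_comm_of_card_prime_sq 5 (P : Subgroup G) hP2
  -- `P ≤ C(P)`
  have hPC : (P : Subgroup G) ≤ centralizer ((P : Subgroup G) : Set G) := by
    intro x hx
    rw [mem_centralizer_iff]
    intro y hy
    exact hPcomm y hy x hx
  have hCN : centralizer ((P : Subgroup G) : Set G) ≤ normalizer ((P : Subgroup G) : Set G) :=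
    centralizer_le_normalizer _
  -- `|C(P)| ∈ {75, 150}`
  have h25 : 25 ∣ Nat.card (centralizer ((P : Subgroup G) : Set G)) := by
    have := card_dvd_of_le hPC
    rwa [hP] at this
  have h3 : 3 ∣ Nat.card (centralizer ((P : Subgroup G) : Set G)) := by
    have h := card_dvd_of_le ((zpowers_le (H := centralizer ((P : Subgroup G) : Set G))).mpr hzP)
    rwa [Nat.card_zpowers, hz] at h
  have h150 : Nat.card (centralizer ((P : Subgroup G) : Set G)) ∣ 150 := by
    rw [← hN]; exact card_dvd_of_le hCN
  have h75 : 75 ∣ Nat.card (centralizer ((P : Subgroup G) : Set G)) := by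
    have : (25 * 3) ∣ Nat.card (centralizer ((P : Subgroup G) : Set G)) :=
      Nat.Coprime.mul_dvd_of_dvd_of_dvd (by norm_num) h25 h3
    simpa using this
  have hCcases : Nat.card (centralizer ((P : Subgroup G) : Set G)) = 75 ∨
      Nat.card (centralizer ((P : Subgroup G) : Set G)) = 150 := by
    obtain ⟨k, hk⟩ := h75
    rw [hk] at h150 ⊢
    have hk2 : k ∣ 2 := by
      have : 75 * k ∣ 75 * 2 := by simpa using h150
      exact Nat.dvd_of_mul_dvd_mul_left (by norm_num) this
    have : k = 1 ∨ k = 2 := by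
      have := Nat.le_of_dvd (by norm_num) hk2
      have hk0 : k ≠ 0 := by rintro rfl; simp at hk2
      omega
    rcases this with h | h <;> subst h <;> simp
  have hC75 : Nat.card (centralizer ((P : Subgroup G) : Set G)) = 75 := by
    rcases hCcases with h | h
    · exact h
    · exfalso
      -- `N(P) = C(P)`: Burnside
      have hEq : centralizer ((P : Subgroup G) : Set G) = normalizer ((P : Subgroup G) : Set G) :=
        Subgroup.eq_of_le_of_card_ge hCN (by rw [h, hN])
      have hidx := (P : Subgroup G).card_mul_index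
      rw [hP] at hidx
      have hG' : Nat.card G = 5 ^ 2 * (P : Subgroup G).index := by rw [← hidx]; norm_num
      have hnd : ¬ 5 ∣ (P : Subgroup G).index := P.not_dvd_index
      have hm1 : 1 < (P : Subgroup G).index := by
        by_contra hcon
        have hi0 : (P : Subgroup G).index ≠ 0 := Subgroup.index_ne_zero_of_finite
        have hi1 : (P : Subgroup G).index = 1 := by omega
        rw [hi1] at hidx
        have hle : Nat.card (normalizer ((P : Subgroup G) : Set G)) ∣ Nat.card G :=
          Subgroup.card_subgroup_dvd_card _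
        rw [hN, ← hidx] at hle
        omega
      exact h8_simple_not_normalizer_le_centralizer 5 2 _ hG' hnd (by norm_num) hm1 P
        (by rw [hEq])
  -- `C(P) ≤ C(z)`
  have hcen : ∀ c ∈ centralizer ((P : Subgroup G) : Set G), c * z = z * c := by
    set D := centralizer ((P : Subgroup G) : Set G) ⊓ centralizer ({z} : Set G) with hD
    have hPD : (P : Subgroup G) ≤ D := by
      intro x hx
      refine Subgroup.mem_inf.mpr ⟨hPC hx, ?_⟩
      rw [mem_centralizer_iff]
      intro y hy
      rw [Set.mem_singleton_iff] at hy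
      subst hy
      exact ((mem_centralizer_iff.mp hzP) x hx).symm
    have hzD : z ∈ D := by
      refine Subgroup.mem_inf.mpr ⟨hzP, ?_⟩
      rw [mem_centralizer_iff]
      intro y hy
      rw [Set.mem_singleton_iff] at hy
      subst hy
      rfl
    have hD25 : 25 ∣ Nat.card D := by
      have := card_dvd_of_le hPD
      rwa [hP] at this
    have hD3 : 3 ∣ Nat.card D := by
      have h := card_dvd_of_le ((zpowers_le (H := D)).mpr hzD)
      rwa [Nat.card_zpowers, hz] at h
    have hD75 : 75 ∣ Nat.card D := by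
      have : (25 * 3) ∣ Nat.card D := Nat.Coprime.mul_dvd_of_dvd_of_dvd (by norm_num) hD25 hD3
      simpa using this
    have hDle : D ≤ centralizer ((P : Subgroup G) : Set G) := inf_le_left
    have hDeq : D = centralizer ((P : Subgroup G) : Set G) := by
      apply Subgroup.eq_of_le_of_card_ge hDle
      rw [hC75]
      exact Nat.le_of_dvd Nat.card_pos hD75
    intro c hc
    rw [← hDeq] at hc
    have hc2 : c ∈ centralizer ({z} : Set G) := (Subgroup.mem_inf.mp hc).2
    exact ((mem_centralizer_iff.mp hc2) z (Set.mem_singleton z)).symm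
  -- conjugates of `z` under `N(P)` are powers of `z`
  have hconj3 : ∀ n : G, orderOf (n * z * n⁻¹) = 3 := by
    intro n
    have := h8_orderOf_conj n⁻¹ z
    rw [inv_inv] at this
    rw [this, hz]
  intro n hn
  apply s983_mem_normalizer_zpowers
  · exact n5400nz_unique _ hC75 z hz hzP hcen _ (hconj3 n)
      (s983_conj_mem_centralizer _ n z hn hzP)
  · have hn' : n⁻¹ ∈ normalizer ((P : Subgroup G) : Set G) := inv_mem hn
    have h1 := n5400nz_unique _ hC75 z hz hzP hcen _ (hconj3 n⁻¹)
      (s983_conj_mem_centralizer _ n⁻¹ z hn' hzP)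
    rwa [inv_inv] at h1

end Cfsg.Agent.Lib.Helper10.N5400
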