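import Mathlib
import Cfsg.Agent.Lib.helper15.N5400NINE
import Cfsg.Agent.Lib.helper15.N5400NZ

/-!
# Sub-project N5400 (helper10), piece KILL3 (helper15)
-/

set_option autoImplicit false
set_option linter.unusedVariables false
set_option linter.unusedSectionVars false
set_option linter.style.haveILetI false

namespace Cfsg.Agent.Lib.Helper10.N5400

open Classical
open Subgroup Cfsg.Agent.Lib.helper8 Cfsg.Agent.Lib.helper15.S983

universe u

variable {G : Type u} [Group G] [Finite G]

/-- KILL3 [M]: an element of order 3 centralising `P` is impossible. -/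
theorem kill3 [IsSimpleGroup G] (hG : Nat.card G = 5400) (P : Sylow 5 G) (hP : Nat.card ↥(P : Subgroup G) = 25)
    (hN : Nat.card ↥(Subgroup.normalizer ((P : Subgroup G) : Set G)) = 150) (z : G) (hz : orderOf z = 3)
    (hzP : z ∈ Subgroup.centralizer ((P : Subgroup G) : Set G)) : False := by
  haveI : Fact (Nat.Prime 5) := ⟨by norm_num⟩
  have hnc : ¬ IsMulCommutative G := h8_not_comm_of_card (by rw [hG]; norm_num)
  have hNL := nz P hP hN z hz hzP
  set L := normalizer ((zpowers z : Subgroup G) : Set G) with hLdef
  have hsyl := s983_nsylow_of_normalizer_le 5 P L hNL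
  rw [hN] at hsyl
  have hmod := h8_nsylow_mod (G := L) 5
  have hLG : Nat.card L ∣ 5400 := by
    rw [← hG]; exact Subgroup.card_subgroup_dvd_card L
  have hz3 : Nat.card (zpowers z : Subgroup G) = 3 := by rw [Nat.card_zpowers, hz]
  have hnine : 9 ∣ Nat.card L := nine (by rw [hG]; norm_num) (zpowers z) hz3
  -- `n_5(L) ∣ 36`
  have h36 : Nat.card (Sylow 5 L) ∣ 36 := by
    rw [← hsyl] at hLG
    have : 150 * Nat.card (Sylow 5 L) ∣ 150 * 36 := by simpa using hLG
    exact Nat.dvd_of_mul_dvd_mul_left (by norm_num) this
  have hmem : Nat.card (Sylow 5 L) ∈ Nat.divisors 36 := Nat.mem_divisors.mpr ⟨h36, by norm_num⟩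
  have hd36 : Nat.divisors 36 = {1, 2, 3, 4, 6, 9, 12, 18, 36} := by decide
  rw [hd36] at hmem
  simp only [Finset.mem_insert, Finset.mem_singleton] at hmem
  have hcases : Nat.card (Sylow 5 L) = 1 ∨ Nat.card (Sylow 5 L) = 6 ∨ Nat.card (Sylow 5 L) = 36 := by
    rcases hmem with h | h | h | h | h | h | h | h | h <;> rw [h] at hmod <;> simp at hmod <;>
      first | (left; exact h) | (right; left; exact h) | (right; right; exact h)
  rcases hcases with h | h | h
  · -- `|L| = 150`, against NINE
    rw [h] at hsyl
    rw [← hsyl] at hnine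
    omega
  · -- index 6
    rw [h] at hsyl
    have hLc : Nat.card L = 900 := by omega
    have hidx : L.index = 6 := by
      have := L.card_mul_index
      rw [hLc, hG] at this
      omega
    have hLtop : L ≠ ⊤ := by
      intro ht; rw [ht, index_top] at hidx; omega
    have h6 := h8_simple_two_mul_card_dvd_factorial hnc L hLtop
    rw [hidx, hG] at h6
    have h25 : (25 : ℕ) ∣ (6 : ℕ).factorial := dvd_trans (by norm_num) h6
    have : (6 : ℕ).factorial = 720 := by decide
    rw [this] at h25
    omega
  · -- `L = ⊤`
    rw [h] at hsyl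
    have hLc : Nat.card L = 5400 := by omega
    have hLeq : L = ⊤ := by
      apply Subgroup.eq_top_of_le_card
      rw [hLc, hG]
    haveI : (zpowers z : Subgroup G).Normal := h8_normal_of_normalizer_eq_top _ hLeq
    rcases h8_simple_card_normal (zpowers z : Subgroup G) with h1 | h1
    · omega
    · rw [hG] at h1; omega

end Cfsg.Agent.Lib.Helper10.N5400
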