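import Mathlib

set_option autoImplicit false

namespace Cfsg.Agent.Lib.helper15.BlockTri

open Matrix

section equiv

variable {F : Type*} [Field F] {ι : Type*} [Fintype ι] [DecidableEq ι]
  {α : Type*} [Fintype α] [LinearOrder α]

def TT (F : Type*) [Field F] {ι : Type*} [Fintype ι] [DecidableEq ι] {α : Type*} [LinearOrder α]
    (b : ι → α) : Type _ :=
  {M : Matrix ι ι F // M.BlockTriangular b ∧ IsUnit M.det}

def DD (F : Type*) [Field F] {ι : Type*} [Fintype ι] [DecidableEq ι] {α : Type*} [LinearOrder α]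
    (b : ι → α) : Type _ :=
  (c : α) → {B : Matrix {i // b i = c} {i // b i = c} F // IsUnit B.det}

def UU (F : Type*) {ι : Type*} {α : Type*} [LT α] (b : ι → α) : Type _ :=
  {p : ι × ι // b p.1 < b p.2} → F

def asm (b : ι → α) (B : DD F b) (u : UU F b) : Matrix ι ι F :=
  Matrix.of fun i j =>
    if h : b i = b j then (B (b i)).1 ⟨i, rfl⟩ ⟨j, h.symm⟩
    else if h' : b i < b j then u ⟨(i, j), h'⟩ else 0

lemma asm_blockTriangular (b : ι → α) (B : DD F b) (u : UU F b) :
    (asm b B u).BlockTriangular b := by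
  intro i j hij
  simp only [asm, of_apply]
  rw [dif_neg (ne_of_gt hij), dif_neg (not_lt_of_gt hij)]

lemma asm_block (b : ι → α) (B : DD F b) (u : UU F b) (c : α) :
    (asm b B u).toSquareBlock b c = (B c).1 := by
  ext ⟨i, hi⟩ ⟨j, hj⟩
  subst hi
  simp only [toSquareBlock_def, asm, of_apply]
  rw [dif_pos hj.symm]

lemma asm_det (b : ι → α) (B : DD F b) (u : UU F b) : IsUnit (asm b B u).det := by
  rw [(asm_blockTriangular b B u).det_fintype]
  rw [IsUnit.prod_univ_iff]
  intro c
  rw [asm_block]
  exact (B c).2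

def toDD (b : ι → α) (M : TT F b) : DD F b := fun c =>
  ⟨M.1.toSquareBlock b c, by
    have h := M.2.2
    rw [M.2.1.det_fintype, IsUnit.prod_univ_iff] at h
    exact h c⟩

def toUU (b : ι → α) (M : TT F b) : UU F b := fun p => M.1 p.1.1 p.1.2

def ttEquiv (b : ι → α) : TT F b ≃ DD F b × UU F b where
  toFun M := (toDD b M, toUU b M)
  invFun p := ⟨asm b p.1 p.2, asm_blockTriangular b p.1 p.2, asm_det b p.1 p.2⟩
  left_inv M := by
    apply Subtype.ext
    ext i j
    simp only [asm, of_apply, toDD, toUU, toSquareBlock_def]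
    by_cases h : b i = b j
    · rw [dif_pos h]
    · rw [dif_neg h]
      by_cases h' : b i < b j
      · rw [dif_pos h']
      · rw [dif_neg h']
        have : b j < b i := lt_of_le_of_ne (not_lt.1 h') (Ne.symm h)
        exact (M.2.1 this).symm
  right_inv p := by
    obtain ⟨B, u⟩ := p
    refine Prod.ext ?_ ?_
    · funext c
      apply Subtype.ext
      exact asm_block b B u c
    · funext ⟨⟨i, j⟩, hp⟩
      simp only [toUU, asm, of_apply]
      rw [dif_neg (ne_of_lt hp), dif_pos hp]

end equiv

section card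

variable {F : Type*} [Field F] [Fintype F] {ι : Type*} [Fintype ι] [DecidableEq ι]
  {α : Type*} [Fintype α] [LinearOrder α]

def gam (q m : ℕ) : ℕ := ∏ i : Fin m, (q ^ m - q ^ (i : ℕ))

noncomputable def glEquiv (κ : Type*) [Fintype κ] [DecidableEq κ] :
    GL κ F ≃ {B : Matrix κ κ F // IsUnit B.det} where
  toFun g := ⟨g.1, (Matrix.isUnit_iff_isUnit_det _).1 g.isUnit⟩
  invFun B := ((Matrix.isUnit_iff_isUnit_det _).2 B.2).unit
  left_inv g := Units.ext rfl
  right_inv B := Subtype.ext rfl

lemma card_unitDet (κ : Type*) [Fintype κ] [DecidableEq κ] :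
    Nat.card {B : Matrix κ κ F // IsUnit B.det} = gam (Fintype.card F) (Fintype.card κ) := by
  have e : κ ≃ Fin (Fintype.card κ) := Fintype.equivFin κ
  have e1 : {B : Matrix κ κ F // IsUnit B.det} ≃
      {B : Matrix (Fin (Fintype.card κ)) (Fin (Fintype.card κ)) F // IsUnit B.det} :=
    Equiv.subtypeEquiv (Matrix.reindex e e) (fun B => by rw [Matrix.det_reindex_self])
  rw [Nat.card_congr e1, ← Nat.card_congr (glEquiv (F := F) (Fin (Fintype.card κ))),
    Matrix.card_GL_field]
  rfl

lemma card_TT (b : ι → α) :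
    Nat.card (TT F b) = (∏ c : α, gam (Fintype.card F) (Fintype.card {i // b i = c})) *
      Fintype.card F ^ Fintype.card {p : ι × ι // b p.1 < b p.2} := by
  rw [Nat.card_congr (ttEquiv b), Nat.card_prod]
  congr 1
  · show Nat.card ((c : α) → {B : Matrix {i // b i = c} {i // b i = c} F // IsUnit B.det}) = _
    rw [Nat.card_pi]
    refine Finset.prod_congr rfl fun c _ => ?_
    exact card_unitDet _
  · show Nat.card ({p : ι × ι // b p.1 < b p.2} → F) = _
    rw [Nat.card_fun, Nat.card_eq_fintype_card, Nat.card_eq_fintype_card]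

noncomputable def pbEquiv (b : ι → α) :
    {g : GL ι F // (g : Matrix ι ι F).BlockTriangular b} ≃ TT F b where
  toFun g := ⟨g.1.1, g.2, (Matrix.isUnit_iff_isUnit_det _).1 g.1.isUnit⟩
  invFun M := ⟨((Matrix.isUnit_iff_isUnit_det _).2 M.2.2).unit, M.2.1⟩
  left_inv g := Subtype.ext (Units.ext rfl)
  right_inv M := Subtype.ext rfl

lemma card_pb (b : ι → α) :
    Nat.card {g : GL ι F // (g : Matrix ι ι F).BlockTriangular b} =
      (∏ c : α, gam (Fintype.card F) (Fintype.card {i // b i = c})) *
      Fintype.card F ^ Fintype.card {p : ι × ι // b p.1 < b p.2} := by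
  rw [Nat.card_congr (pbEquiv b), card_TT]

end card

section arith

def phi (q m : ℕ) : ℕ := ∏ j ∈ Finset.range m, ∑ l ∈ Finset.range (j + 1), q ^ l

def tri (m : ℕ) : ℕ := ∑ i ∈ Finset.range m, i

lemma pred_mul_geom (q k : ℕ) (hq : 1 ≤ q) :
    (q - 1) * ∑ l ∈ Finset.range k, q ^ l = q ^ k - 1 := by
  have h1 : 1 ≤ q ^ k := Nat.one_le_pow _ _ hq
  have := geom_sum_mul (q : ℤ) k
  zify [hq, h1]
  linarith

lemma gam_succ (q m : ℕ) (hq : 1 ≤ q) : gam q (m + 1) = (q ^ (m + 1) - 1) * q ^ m * gam q m := by
  unfold gam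
  rw [Fin.prod_univ_succ]
  simp only [Fin.val_zero, pow_zero, Fin.val_succ]
  rw [mul_assoc]
  congr 1
  have : ∀ i : Fin m, q ^ (m + 1) - q ^ ((i : ℕ) + 1) = q * (q ^ m - q ^ (i : ℕ)) := by
    intro i
    rw [Nat.mul_sub, pow_succ', pow_succ']
  simp_rw [this]
  rw [Finset.prod_mul_distrib, Finset.prod_const, Finset.card_univ, Fintype.card_fin]

lemma tri_succ (m : ℕ) : tri (m + 1) = tri m + m := by
  unfold tri
  rw [Finset.sum_range_succ]

lemma phi_succ (q m : ℕ) : phi q (m + 1) = phi q m * ∑ l ∈ Finset.range (m + 1), q ^ l := by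
  unfold phi
  rw [Finset.prod_range_succ]

lemma gam_eq (q m : ℕ) (hq : 1 ≤ q) : gam q m = q ^ tri m * (q - 1) ^ m * phi q m := by
  induction m with
  | zero => simp [gam, tri, phi]
  | succ m ih =>
    rw [gam_succ q m hq, ih, tri_succ, phi_succ, ← pred_mul_geom q (m + 1) hq, pow_add, pow_succ]
    ring

lemma two_tri (m : ℕ) : 2 * tri m + m = m * m := by
  have h := Finset.sum_range_id_mul_two m
  unfold tri
  rcases m with _ | m
  · simp
  · rw [Nat.add_sub_cancel] at h
    nlinarith

end arith

section count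

variable {ι : Type*} [Fintype ι] [DecidableEq ι] {α : Type*} [Fintype α] [LinearOrder α]

lemma card_sq_eq (b : ι → α) :
    Fintype.card ι * Fintype.card ι = 2 * Fintype.card {p : ι × ι // b p.1 < b p.2} +
      ∑ c : α, Fintype.card {i // b i = c} * Fintype.card {i // b i = c} := by
  classical
  have h1 : Fintype.card ι * Fintype.card ι = (Finset.univ : Finset (ι × ι)).card := by
    rw [Finset.card_univ, Fintype.card_prod]
  have h2 : (Finset.univ : Finset (ι × ι)).card =
      (Finset.univ.filter (fun p : ι × ι => b p.1 < b p.2)).card +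
      ((Finset.univ.filter (fun p : ι × ι => b p.2 < b p.1)).card +
       (Finset.univ.filter (fun p : ι × ι => b p.1 = b p.2)).card) := by
    rw [← Finset.card_union_of_disjoint, ← Finset.card_union_of_disjoint]
    · congr 1
      ext p
      simp only [Finset.mem_univ, Finset.mem_union, Finset.mem_filter, true_and]
      rcases lt_trichotomy (b p.1) (b p.2) with h | h | h
      · exact ⟨fun _ => Or.inl h, fun _ => trivial⟩
      · exact ⟨fun _ => Or.inr (Or.inr h), fun _ => trivial⟩
      · exact ⟨fun _ => Or.inr (Or.inl h), fun _ => trivial⟩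
    · rw [Finset.disjoint_left]
      intro p hp hq
      simp only [Finset.mem_union, Finset.mem_filter, Finset.mem_univ, true_and] at hp hq
      rcases hq with hq | hq
      · exact lt_asymm hp hq
      · exact ne_of_lt hp hq
    · rw [Finset.disjoint_left]
      intro p hp hq
      simp only [Finset.mem_filter, Finset.mem_univ, true_and] at hp hq
      exact ne_of_gt hp hq
  have h3 : (Finset.univ.filter (fun p : ι × ι => b p.2 < b p.1)).card =
      (Finset.univ.filter (fun p : ι × ι => b p.1 < b p.2)).card := by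
    apply Finset.card_bij (fun p _ => (p.2, p.1))
    · intro p hp
      simpa using hp
    · intro p _ p' _ h
      simp only [Prod.mk.injEq] at h
      exact Prod.ext h.2 h.1
    · intro p hp
      exact ⟨(p.2, p.1), by simpa using hp, rfl⟩
  have h4 : (Finset.univ.filter (fun p : ι × ι => b p.1 = b p.2)).card =
      ∑ c : α, Fintype.card {i // b i = c} * Fintype.card {i // b i = c} := by
    rw [Finset.card_eq_sum_card_fiberwise (f := fun p : ι × ι => b p.1) (t := Finset.univ)
      (fun _ _ => Finset.mem_univ _)]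
    refine Finset.sum_congr rfl fun c _ => ?_
    have : (Finset.univ.filter (fun p : ι × ι => b p.1 = b p.2)).filter (fun p => b p.1 = c) =
        (Finset.univ.filter (fun i => b i = c)) ×ˢ (Finset.univ.filter (fun i => b i = c)) := by
      ext p
      simp only [Finset.mem_filter, Finset.mem_univ, true_and, Finset.mem_product]
      constructor
      · rintro ⟨h, h'⟩
        exact ⟨h', h ▸ h'⟩
      · rintro ⟨h, h'⟩
        exact ⟨h.trans h'.symm, h⟩
    rw [this, Finset.card_product, Fintype.card_subtype]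
  have h5 : Fintype.card {p : ι × ι // b p.1 < b p.2} =
      (Finset.univ.filter (fun p : ι × ι => b p.1 < b p.2)).card := Fintype.card_subtype _
  rw [h1, h2, h3, h4, h5]
  ring

lemma sum_fiber (b : ι → α) : ∑ c : α, Fintype.card {i // b i = c} = Fintype.card ι := by
  classical
  simp_rw [Fintype.card_subtype]
  rw [← Finset.card_univ, Finset.card_eq_sum_card_fiberwise (f := b) (t := Finset.univ)
    (fun _ _ => Finset.mem_univ _)]

lemma tri_eq (b : ι → α) :
    tri (Fintype.card ι) = Fintype.card {p : ι × ι // b p.1 < b p.2} +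
      ∑ c : α, tri (Fintype.card {i // b i = c}) := by
  have h1 := card_sq_eq b
  have h2 := sum_fiber b
  have h3 := two_tri (Fintype.card ι)
  have h4 : ∑ c : α, Fintype.card {i // b i = c} * Fintype.card {i // b i = c} =
      2 * ∑ c : α, tri (Fintype.card {i // b i = c}) + ∑ c : α, Fintype.card {i // b i = c} := by
    rw [Finset.mul_sum, ← Finset.sum_add_distrib]
    refine Finset.sum_congr rfl fun c _ => ?_
    exact (two_tri _).symm
  omega

end count

section final

variable {F : Type*} [Field F] [Fintype F] {ι : Type*} [Fintype ι] [DecidableEq ι]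
  {α : Type*} [Fintype α] [LinearOrder α]

lemma card_pb' (b : ι → α) :
    Nat.card {g : GL ι F // (g : Matrix ι ι F).BlockTriangular b} =
      Fintype.card F ^ tri (Fintype.card ι) * (Fintype.card F - 1) ^ Fintype.card ι *
      ∏ c : α, phi (Fintype.card F) (Fintype.card {i // b i = c}) := by
  have hq : 1 ≤ Fintype.card F := Fintype.card_pos
  rw [card_pb, tri_eq b, ← sum_fiber b]
  simp_rw [gam_eq _ _ hq]
  rw [Finset.prod_mul_distrib, Finset.prod_mul_distrib, Finset.prod_pow_eq_pow_sum,
    Finset.prod_pow_eq_pow_sum, pow_add]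
  ring

end final

end Cfsg.Agent.Lib.helper15.BlockTri
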