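import Mathlib
import Cfsg.Agent.Lib.helper15.BlockTri

set_option autoImplicit false

namespace Cfsg.Agent.Lib.helper15.SylowVal

open Polynomial Cfsg.Agent.Lib.helper15.BlockTri

variable {r : ℕ} [hr : Fact r.Prime]

lemma dvd_pow_sub_one_iff (q : ℕ) (hq : 1 ≤ q) (k : ℕ) :
    r ∣ q ^ k - 1 ↔ orderOf (q : ZMod r) ∣ k := by
  have h1 : 1 ≤ q ^ k := Nat.one_le_pow _ _ hq
  rw [← ZMod.natCast_eq_zero_iff, Nat.cast_sub h1, Nat.cast_pow, Nat.cast_one, sub_eq_zero,
    orderOf_dvd_iff_pow_eq_one]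

lemma orderOf_pos' (q : ℕ) (hrq : ¬ r ∣ q) : 0 < orderOf (q : ZMod r) := by
  have h0 : (q : ZMod r) ≠ 0 := by
    rw [Ne, ZMod.natCast_eq_zero_iff]
    exact hrq
  rw [orderOf_pos_iff]
  exact isOfFinOrder_iff_pow_eq_one.2 ⟨r - 1, by have := hr.out.two_le; omega,
    ZMod.pow_card_sub_one_eq_one h0⟩

lemma val_pow_sub_one (x j : ℕ) (hx : 1 ≤ x) (hx1 : r ∣ x - 1) (hj : ¬ r ∣ j) :
    padicValNat r (x ^ j - 1) = padicValNat r (x - 1) := by
  rcases Nat.eq_or_lt_of_le hx with h1 | h1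
  · rw [← h1]
    simp
  have hS : ¬ r ∣ ∑ l ∈ Finset.range j, x ^ l := by
    rw [← ZMod.natCast_eq_zero_iff]
    push_cast
    have hx' : (x : ZMod r) = 1 := by
      have := (ZMod.natCast_eq_zero_iff (x - 1) r).2 hx1
      rw [Nat.cast_sub hx, Nat.cast_one, sub_eq_zero] at this
      exact this
    rw [hx']
    simp only [one_pow, Finset.sum_const, Finset.card_range, nsmul_eq_mul, mul_one]
    rw [ZMod.natCast_eq_zero_iff]
    exact hj
  have hS0 : ∑ l ∈ Finset.range j, x ^ l ≠ 0 := by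
    intro h
    rw [h] at hS
    exact hS (dvd_zero _)
  rw [← pred_mul_geom x j hx, padicValNat.mul (by omega) hS0,
    padicValNat.eq_zero_of_not_dvd hS, add_zero]

lemma val_cyc (q : ℕ) (hq : 1 < q) (hrq : ¬ r ∣ q) :
    padicValNat r (q ^ orderOf (q : ZMod r) - 1) =
      padicValNat r ((cyclotomic (orderOf (q : ZMod r)) ℤ).eval (q : ℤ)).natAbs := by
  set d := orderOf (q : ZMod r) with hd
  have hd0 : 0 < d := orderOf_pos' q hrq
  have hprod : ((q : ℤ) ^ d - 1) = (cyclotomic d ℤ).eval (q : ℤ) *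
      ∏ e ∈ d.properDivisors, (cyclotomic e ℤ).eval (q : ℤ) := by
    have h1 := congrArg (Polynomial.eval (q : ℤ)) (prod_cyclotomic_eq_X_pow_sub_one hd0 ℤ)
    rw [Polynomial.eval_prod] at h1
    simp only [eval_sub, eval_pow, eval_X, eval_one] at h1
    rw [← h1, ← Nat.insert_self_properDivisors hd0.ne',
      Finset.prod_insert Nat.self_notMem_properDivisors]
  set B := ∏ e ∈ d.properDivisors, (cyclotomic e ℤ).eval (q : ℤ) with hB
  have hqd : 1 ≤ q ^ d := Nat.one_le_pow _ _ (by omega)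
  have hne : q ^ d - 1 ≠ 0 := by
    have : 2 ≤ q ^ d := by
      calc 2 ≤ q := hq
        _ = q ^ 1 := (pow_one q).symm
        _ ≤ q ^ d := Nat.pow_le_pow_right (by omega) hd0
    omega
  have hnat : q ^ d - 1 = ((cyclotomic d ℤ).eval (q : ℤ)).natAbs * B.natAbs := by
    rw [← Int.natAbs_mul, ← hprod]
    have : ((q : ℤ) ^ d - 1) = ((q ^ d - 1 : ℕ) : ℤ) := by
      rw [Nat.cast_sub hqd]
      simp
    rw [this, Int.natAbs_natCast]
  have hrB : ¬ r ∣ B.natAbs := by
    intro h
    have h1 : (r : ℤ) ∣ B := Int.natCast_dvd.2 h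
    have hrp : Prime (r : ℤ) := Nat.prime_iff_prime_int.1 hr.out
    obtain ⟨e, he, hre⟩ := (Prime.dvd_finsetProd_iff hrp _).1 h1
    have he' := Nat.mem_properDivisors.1 he
    have he0 : 0 < e := Nat.pos_of_dvd_of_pos he'.1 hd0
    have h2 : (cyclotomic e ℤ).eval (q : ℤ) ∣ (q : ℤ) ^ e - 1 := by
      have := Polynomial.eval_dvd (x := (q : ℤ)) (cyclotomic.dvd_X_pow_sub_one e ℤ)
      simpa using this
    have h3 : (r : ℤ) ∣ ((q ^ e - 1 : ℕ) : ℤ) := by
      rw [Nat.cast_sub (Nat.one_le_pow _ _ (by omega))]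
      push_cast
      exact dvd_trans hre h2
    have h4 : r ∣ q ^ e - 1 := Int.natCast_dvd_natCast.1 h3
    have h5 := (dvd_pow_sub_one_iff q (by omega) e).1 h4
    have := Nat.le_of_dvd he0 h5
    omega
  have hB0 : B.natAbs ≠ 0 := by
    intro h
    rw [h] at hrB
    exact hrB (dvd_zero _)
  have hC0 : ((cyclotomic d ℤ).eval (q : ℤ)).natAbs ≠ 0 := by
    intro h
    rw [h, zero_mul] at hnat
    exact hne hnat
  rw [hnat, padicValNat.mul hC0 hB0, padicValNat.eq_zero_of_not_dvd hrB, add_zero]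

lemma val_pow_sub_one_eq (q : ℕ) (hq : 1 < q) (hrq : ¬ r ∣ q) (k : ℕ) (hk : 0 < k) (hkr : k < r) :
    padicValNat r (q ^ k - 1) = if orderOf (q : ZMod r) ∣ k then
      padicValNat r ((cyclotomic (orderOf (q : ZMod r)) ℤ).eval (q : ℤ)).natAbs else 0 := by
  split_ifs with h
  · obtain ⟨j, rfl⟩ := h
    have hd0 : 0 < orderOf (q : ZMod r) := orderOf_pos' q hrq
    have hj0 : 0 < j := Nat.pos_of_mul_pos_left hk |> fun _ => by
      rcases Nat.eq_zero_or_pos j with h | h
      · subst h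
        simp at hk
      · exact h
    have hjr : ¬ r ∣ j := by
      intro h
      have := Nat.le_of_dvd hj0 h
      have : j ≤ orderOf (q : ZMod r) * j := Nat.le_mul_of_pos_left _ hd0
      omega
    rw [pow_mul, val_pow_sub_one (q ^ orderOf (q : ZMod r)) j (Nat.one_le_pow _ _ (by omega))
      ((dvd_pow_sub_one_iff q (by omega) _).2 dvd_rfl) hjr, val_cyc q hq hrq]
  · apply padicValNat.eq_zero_of_not_dvd
    rw [dvd_pow_sub_one_iff q (by omega)]
    exact h

lemma val_gam (q : ℕ) (hq : 1 < q) (hrq : ¬ r ∣ q) (n : ℕ) (hn : n < r) :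
    padicValNat r (gam q n) = (n / orderOf (q : ZMod r)) *
      padicValNat r ((cyclotomic (orderOf (q : ZMod r)) ℤ).eval (q : ℤ)).natAbs := by
  have key : ∀ m, m ≤ n → padicValNat r (gam q m) =
      ∑ k ∈ Finset.range m, padicValNat r (q ^ (k + 1) - 1) := by
    intro m
    induction m with
    | zero => intro _; simp [gam]
    | succ m ih =>
      intro hm
      have h1 : q ^ (m + 1) - 1 ≠ 0 := by
        have : 2 ≤ q ^ (m + 1) := by
          calc 2 ≤ q := hq
            _ = q ^ 1 := (pow_one q).symm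
            _ ≤ q ^ (m + 1) := Nat.pow_le_pow_right (by omega) (by omega)
        omega
      have h2 : q ^ m ≠ 0 := pow_ne_zero _ (by omega)
      have h3 : gam q m ≠ 0 := by
        rw [gam_eq q m (by omega)]
        apply mul_ne_zero (mul_ne_zero (pow_ne_zero _ (by omega)) (pow_ne_zero _ (by omega)))
        unfold phi
        rw [Finset.prod_ne_zero_iff]
        intro j _
        have : 1 ≤ ∑ l ∈ Finset.range (j + 1), q ^ l := by
          rw [Finset.sum_range_succ']
          simp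
        omega
      rw [gam_succ q m (by omega), padicValNat.mul (mul_ne_zero h1 h2) h3,
        padicValNat.mul h1 h2, padicValNat.pow, padicValNat.eq_zero_of_not_dvd hrq, mul_zero,
        add_zero, ih (by omega), Finset.sum_range_succ, add_comm]
  rw [key n le_rfl]
  have h2 : ∀ k ∈ Finset.range n, padicValNat r (q ^ (k + 1) - 1) =
      if orderOf (q : ZMod r) ∣ k + 1 then
        padicValNat r ((cyclotomic (orderOf (q : ZMod r)) ℤ).eval (q : ℤ)).natAbs else 0 := by
    intro k hk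
    have := Finset.mem_range.1 hk
    exact val_pow_sub_one_eq q hq hrq (k + 1) (by omega) (by omega)
  rw [Finset.sum_congr rfl h2, ← Finset.sum_filter, Finset.sum_const, Nat.card_multiples,
    smul_eq_mul]

end Cfsg.Agent.Lib.helper15.SylowVal
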