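import Mathlib

set_option autoImplicit false

namespace Cfsg.Agent.Lib.helper15.SylowEmb

open scoped MatrixGroups

section emb

variable {F : Type*} [Field F]

def act (E : Type*) [Field E] [Algebra F E] (k l : ℕ) :
    (Fin k → E) →* Module.End F ((Fin k → E) × (Fin l → F)) where
  toFun u := (LinearMap.mulLeft F u).prodMap LinearMap.id
  map_one' := by
    ext x <;> simp
  map_mul' u v := by
    ext x <;> simp [mul_assoc]

lemma act_injective (E : Type*) [Field E] [Algebra F E] (k l : ℕ) :
    Function.Injective (act (F := F) E k l) := by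
  intro u v h
  have h1 := congrArg (fun f => (f ((1 : Fin k → E), (0 : Fin l → F))).1) h
  simpa [act] using h1

theorem exists_emb (E : Type*) [Field E] [Algebra F E] [FiniteDimensional F E] (n k : ℕ)
    (h : k * Module.finrank F E ≤ n) :
    ∃ φ : (Fin k → Eˣ) →* GL (Fin n) F, Function.Injective φ := by
  obtain ⟨l, hl⟩ : ∃ l, n = k * Module.finrank F E + l := ⟨n - k * Module.finrank F E, by omega⟩
  have hfr : Module.finrank F ((Fin k → E) × (Fin l → F)) = n := by
    rw [Module.finrank_prod, Module.finrank_pi_fintype, Module.finrank_fin_fun, hl]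
    simp
  let b : Module.Basis (Fin n) F ((Fin k → E) × (Fin l → F)) := Module.finBasisOfFinrankEq F _ hfr
  let Φ : (Fin k → E) →* Matrix (Fin n) (Fin n) F :=
    (LinearMap.toMatrixAlgEquiv b).toAlgHom.toRingHom.toMonoidHom.comp (act (F := F) E k l)
  have hΦ : Function.Injective Φ := by
    intro u v huv
    apply act_injective (F := F) E k l
    exact (LinearMap.toMatrixAlgEquiv b).injective huv
  refine ⟨(Units.map Φ).comp (MulEquiv.piUnits (M := fun _ : Fin k => E)).symm.toMonoidHom, ?_⟩
  intro u v huv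
  apply (MulEquiv.piUnits (M := fun _ : Fin k => E)).symm.injective
  exact Units.map_injective hΦ huv

end emb

section cyc

theorem exists_cyc (E : Type*) [Field E] [Finite E] (m : ℕ) (hm : m ∣ Nat.card Eˣ) :
    ∃ ψ : Multiplicative (ZMod m) →* Eˣ, Function.Injective ψ := by
  obtain ⟨g, hg⟩ := IsCyclic.exists_ofOrder_eq_natCard (α := Eˣ)
  have hN : 0 < Nat.card Eˣ := Nat.card_pos
  have hm0 : 0 < m := Nat.pos_of_dvd_of_pos hm hN
  obtain ⟨c, hc⟩ := hm
  have hc0 : 0 < c := by
    rcases Nat.eq_zero_or_pos c with h | h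
    · rw [h, mul_zero] at hc
      omega
    · exact h
  let ζ : Eˣ := g ^ c
  have hζ : orderOf ζ = m := by
    rw [orderOf_pow' g hc0.ne', hg, hc, Nat.gcd_mul_left_left, Nat.mul_div_cancel _ hc0]
  have hcard : Nat.card (Subgroup.zpowers ζ) = m := by
    rw [Nat.card_zpowers, hζ]
  have e : Multiplicative (ZMod (Nat.card (Subgroup.zpowers ζ))) ≃* Subgroup.zpowers ζ :=
    zmodCyclicMulEquiv (Subgroup.isCyclic_zpowers ζ)
  rw [hcard] at e
  exact ⟨(Subgroup.zpowers ζ).subtype.comp e.toMonoidHom,
    (Subgroup.zpowers ζ).subtype_injective.comp e.injective⟩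

end cyc

section syl

theorem sylow_equiv_of_injective {G : Type*} [Group G] [Finite G] {r : ℕ} [Fact r.Prime]
    {A : Type*} [Group A] (φ : A →* G) (hφ : Function.Injective φ)
    (hcard : Nat.card A = r ^ padicValNat r (Nat.card G)) (P : Sylow r G) :
    Nonempty (↥(P : Subgroup G) ≃* A) := by
  have h1 : Nat.card φ.range = r ^ (Nat.card G).factorization r := by
    rw [Nat.factorization_def _ (Fact.out : r.Prime), ← hcard]
    exact Nat.card_congr (MonoidHom.ofInjective hφ).symm.toEquiv
  let Q : Sylow r G := Sylow.ofCard φ.range h1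
  have e1 : ↥(P : Subgroup G) ≃* ↥(Q : Subgroup G) := Sylow.equiv P Q
  have e2 : ↥(Q : Subgroup G) ≃* A := (MonoidHom.ofInjective hφ).symm
  exact ⟨e1.trans e2⟩

end syl

end Cfsg.Agent.Lib.helper15.SylowEmb
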