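import Mathlib
import Cfsg.Agent.S2495

set_option autoImplicit false

namespace Cfsg.Agent.Lib.helper15.UNat

open Cfsg.Agent.S2495

def Qn (q n : ℕ) : ℕ := if Even n then q ^ n - 1 else q ^ n + 1

def Dn (q n : ℕ) : ℕ := Qn q n / ((q + 1) * Nat.gcd n (q + 1))

theorem int_geom (Z u : ℤ) (hu : u ∣ Z - 1) (t : ℕ) :
    ∃ sg : ℤ, Z ^ t - 1 = (Z - 1) * sg ∧ u ∣ sg - t := by
  induction t with
  | zero => exact ⟨0, by simp, by simp⟩
  | succ t ih =>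
    obtain ⟨sg, h1, h2⟩ := ih
    refine ⟨Z * sg + 1, ?_, ?_⟩
    · have : Z ^ (t + 1) - 1 = Z * (Z ^ t - 1) + (Z - 1) := by ring
      rw [this, h1]
      ring
    · have : Z * sg + 1 - ((t + 1 : ℕ) : ℤ) = (Z - 1) * sg + (sg - t) := by
        push_cast
        ring
      rw [this]
      exact dvd_add (dvd_mul_of_dvd_left hu _) h2

theorem int_div_lemma (Z u g : ℤ) (hu0 : u ≠ 0) (hu : u ∣ Z - 1) (hg : g ∣ u) (t : ℕ) :
    ((Z - 1) / u) * (Int.gcd u t : ℤ) * g ∣ Z ^ t - 1 := by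
  obtain ⟨sg, h1, h2⟩ := int_geom Z u hu t
  obtain ⟨w, hw⟩ := hu
  have hdiv : (Z - 1) / u = w := by
    rw [hw, Int.mul_ediv_cancel_left _ hu0]
  rw [hdiv, h1, hw]
  have h3 : (Int.gcd u t : ℤ) ∣ sg := by
    have h4 : (Int.gcd u t : ℤ) ∣ sg - t := dvd_trans (Int.gcd_dvd_left _ _) h2
    have h5 : (Int.gcd u t : ℤ) ∣ (t : ℤ) := Int.gcd_dvd_right _ _
    have := dvd_add h4 h5
    rwa [sub_add_cancel] at this
  have : u * w * sg = w * sg * u := by ring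
  rw [this]
  exact mul_dvd_mul (mul_dvd_mul_left w h3) hg

theorem Qn_cast (q n : ℕ) (hq : 1 ≤ q) : ((Qn q n : ℕ) : ℤ) = (-1) ^ n * ((-(q : ℤ)) ^ n - 1) := by
  unfold Qn
  have h1 : 1 ≤ q ^ n := Nat.one_le_pow _ _ hq
  rcases Nat.even_or_odd n with h | h
  · rw [if_pos h, h.neg_one_pow, h.neg_pow, one_mul]
    push_cast [h1]
    ring
  · rw [if_neg (Nat.not_even_iff_odd.2 h), h.neg_one_pow, h.neg_pow]
    push_cast
    ring

theorem Qn_natAbs (q n : ℕ) (hq : 1 ≤ q) : ((-(q : ℤ)) ^ n - 1).natAbs = Qn q n := by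
  have h := Qn_cast q n hq
  have h2 : ((Qn q n : ℕ) : ℤ).natAbs = ((-1) ^ n * ((-(q : ℤ)) ^ n - 1)).natAbs := by rw [h]
  rw [Int.natAbs_natCast, Int.natAbs_mul, Int.natAbs_pow, Int.natAbs_neg, Int.natAbs_one, one_pow,
    one_mul] at h2
  exact h2.symm

theorem succ_dvd_Qn (q n : ℕ) (hq : 1 ≤ q) : (q + 1) ∣ Qn q n := by
  obtain ⟨sg, h1, -⟩ := int_geom (-(q : ℤ)) 1 (one_dvd _) n
  rw [← Qn_natAbs q n hq, h1, Int.natAbs_mul]
  apply dvd_mul_of_dvd_left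
  have : (-(q : ℤ) - 1).natAbs = q + 1 := by
    have : (-(q : ℤ) - 1) = -((q + 1 : ℕ) : ℤ) := by push_cast; ring
    rw [this, Int.natAbs_neg, Int.natAbs_natCast]
  rw [this]

theorem gcd_Qn_div (q n : ℕ) (hq : 1 ≤ q) :
    Nat.gcd (Qn q n / (q + 1)) (q + 1) = Nat.gcd n (q + 1) := by
  obtain ⟨sg, h1, h2⟩ := int_geom (-(q : ℤ)) ((q + 1 : ℕ) : ℤ) (by
    refine ⟨-1, ?_⟩
    push_cast
    ring) n
  have h3 : Qn q n = (q + 1) * sg.natAbs := by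
    rw [← Qn_natAbs q n hq, h1, Int.natAbs_mul]
    congr 1
    have : (-(q : ℤ) - 1) = -((q + 1 : ℕ) : ℤ) := by push_cast; ring
    rw [this, Int.natAbs_neg, Int.natAbs_natCast]
  rw [h3, Nat.mul_div_cancel_left _ (by omega : 0 < q + 1)]
  apply Nat.dvd_antisymm
  · apply Nat.dvd_gcd _ (Nat.gcd_dvd_right _ _)
    have h4 : ((Nat.gcd sg.natAbs (q + 1) : ℕ) : ℤ) ∣ sg :=
      Int.natCast_dvd.2 (Nat.gcd_dvd_left _ _)
    have h5 : ((Nat.gcd sg.natAbs (q + 1) : ℕ) : ℤ) ∣ sg - n :=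
      dvd_trans (Int.natCast_dvd_natCast.2 (Nat.gcd_dvd_right _ _)) h2
    have h6 : ((Nat.gcd sg.natAbs (q + 1) : ℕ) : ℤ) ∣ (n : ℤ) := by
      have := dvd_sub h4 h5
      rwa [sub_sub_cancel] at this
    exact Int.natCast_dvd_natCast.1 h6
  · apply Nat.dvd_gcd _ (Nat.gcd_dvd_right _ _)
    have h4 : ((Nat.gcd n (q + 1) : ℕ) : ℤ) ∣ (n : ℤ) :=
      Int.natCast_dvd_natCast.2 (Nat.gcd_dvd_left _ _)
    have h5 : ((Nat.gcd n (q + 1) : ℕ) : ℤ) ∣ sg - n :=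
      dvd_trans (Int.natCast_dvd_natCast.2 (Nat.gcd_dvd_right _ _)) h2
    have h6 : ((Nat.gcd n (q + 1) : ℕ) : ℤ) ∣ sg := by
      have := dvd_add h5 h4
      rwa [sub_add_cancel] at this
    exact Int.natCast_dvd.1 h6

theorem Qn_odd (q n : ℕ) (h : Odd n) : Qn q n = q ^ n + 1 := by
  unfold Qn
  rw [if_neg (Nat.not_even_iff_odd.2 h)]

theorem Qn_even (q n : ℕ) (h : Even n) : Qn q n = q ^ n - 1 := by
  unfold Qn
  rw [if_pos h]

theorem nat_div_lemma_A (q d t : ℕ) (hq : 1 ≤ q) (hd : Odd d) :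
    ((q ^ d + 1) / (q + 1)) * Nat.gcd (q + 1) t * Nat.gcd (d * t) (q + 1) ∣ Qn q (d * t) := by
  obtain ⟨A, hA⟩ : (q + 1) ∣ q ^ d + 1 := by
    rw [← Qn_odd q d hd]
    exact succ_dvd_Qn q d hq
  rw [hA, Nat.mul_div_cancel_left _ (by omega : 0 < q + 1)]
  have hu : ((q + 1 : ℕ) : ℤ) ∣ (-((q : ℤ) ^ d)) - 1 := by
    refine ⟨-(A : ℤ), ?_⟩
    have : ((q ^ d + 1 : ℕ) : ℤ) = ((q + 1 : ℕ) : ℤ) * (A : ℤ) := by rw [hA]; push_cast; ring
    push_cast at this ⊢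
    linarith
  have hg : ((Nat.gcd (d * t) (q + 1) : ℕ) : ℤ) ∣ ((q + 1 : ℕ) : ℤ) :=
    Int.natCast_dvd_natCast.2 (Nat.gcd_dvd_right _ _)
  have hu0 : ((q + 1 : ℕ) : ℤ) ≠ 0 := by
    have : (0 : ℤ) < ((q + 1 : ℕ) : ℤ) := by positivity
    exact this.ne'
  have h := int_div_lemma (-((q : ℤ) ^ d)) ((q + 1 : ℕ) : ℤ) _ hu0 hu hg t
  have hdiv : (-((q : ℤ) ^ d) - 1) / ((q + 1 : ℕ) : ℤ) = -(A : ℤ) := by
    have : (-((q : ℤ) ^ d) - 1) = ((q + 1 : ℕ) : ℤ) * (-(A : ℤ)) := by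
      have : ((q ^ d + 1 : ℕ) : ℤ) = ((q + 1 : ℕ) : ℤ) * (A : ℤ) := by rw [hA]; push_cast; ring
      push_cast at this ⊢
      linarith
    rw [this, Int.mul_ediv_cancel_left _ hu0]
  rw [hdiv] at h
  have hZ : (-((q : ℤ) ^ d)) ^ t - 1 = (-(q : ℤ)) ^ (d * t) - 1 := by
    rw [pow_mul, hd.neg_pow]
  rw [hZ] at h
  have h2 := Int.natAbs_dvd_natAbs.2 h
  rw [Qn_natAbs q (d * t) hq, Int.natAbs_mul, Int.natAbs_mul, Int.natAbs_neg, Int.natAbs_natCast,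
    Int.natAbs_natCast, Int.natAbs_natCast, Int.gcd_natCast_natCast] at h2
  exact h2

theorem nat_div_lemma_B (q d m : ℕ) (hq : 1 ≤ q) :
    ((q ^ (2 * d) - 1) / (q + 1)) * Nat.gcd (q + 1) m * Nat.gcd (2 * d * m) (q + 1) ∣
      Qn q (2 * d * m) := by
  have h1 : 1 ≤ q ^ (2 * d) := Nat.one_le_pow _ _ hq
  obtain ⟨A, hA⟩ : (q + 1) ∣ q ^ (2 * d) - 1 := by
    rw [← Qn_even q (2 * d) (even_two_mul d)]
    exact succ_dvd_Qn q (2 * d) hq
  rw [hA, Nat.mul_div_cancel_left _ (by omega : 0 < q + 1)]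
  have hcast : ((q : ℤ) ^ (2 * d)) - 1 = ((q + 1 : ℕ) : ℤ) * (A : ℤ) := by
    have : ((q ^ (2 * d) - 1 : ℕ) : ℤ) = ((q + 1 : ℕ) : ℤ) * (A : ℤ) := by rw [hA]; push_cast; ring
    rw [← this]
    push_cast [h1]
    ring
  have hu : ((q + 1 : ℕ) : ℤ) ∣ ((q : ℤ) ^ (2 * d)) - 1 := ⟨A, hcast⟩
  have hg : ((Nat.gcd (2 * d * m) (q + 1) : ℕ) : ℤ) ∣ ((q + 1 : ℕ) : ℤ) :=
    Int.natCast_dvd_natCast.2 (Nat.gcd_dvd_right _ _)
  have hu0 : ((q + 1 : ℕ) : ℤ) ≠ 0 := by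
    have : (0 : ℤ) < ((q + 1 : ℕ) : ℤ) := by positivity
    exact this.ne'
  have h := int_div_lemma ((q : ℤ) ^ (2 * d)) ((q + 1 : ℕ) : ℤ) _ hu0 hu hg m
  have hdiv : (((q : ℤ) ^ (2 * d)) - 1) / ((q + 1 : ℕ) : ℤ) = (A : ℤ) := by
    rw [hcast, Int.mul_ediv_cancel_left _ hu0]
  rw [hdiv] at h
  have hZ : ((q : ℤ) ^ (2 * d)) ^ m - 1 = (-(q : ℤ)) ^ (2 * d * m) - 1 := by
    rw [← pow_mul, (even_two_mul d).mul_right m |>.neg_pow]
  rw [hZ] at h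
  have h2 := Int.natAbs_dvd_natAbs.2 h
  rw [Qn_natAbs q (2 * d * m) hq, Int.natAbs_mul, Int.natAbs_mul, Int.natAbs_natCast,
    Int.natAbs_natCast, Int.natAbs_natCast, Int.gcd_natCast_natCast] at h2
  exact h2

theorem Dn_mul (q n : ℕ) (hq : 1 ≤ q) : Dn q n * ((q + 1) * Nat.gcd n (q + 1)) = Qn q n := by
  unfold Dn
  apply Nat.div_mul_cancel
  obtain ⟨N, hN⟩ := succ_dvd_Qn q n hq
  have h1 := gcd_Qn_div q n hq
  rw [hN, Nat.mul_div_cancel_left _ (by omega : 0 < q + 1)] at h1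
  rw [hN]
  apply Nat.mul_dvd_mul_left
  rw [← h1]
  exact Nat.gcd_dvd_left _ _

theorem torus_dvd_iff (q n k : ℕ) (hq : 1 ≤ q) (hn : 1 ≤ n) :
    Qn q n ∣ (q + 1) ^ 2 * k ↔ Dn q n ∣ k := by
  have hD := Dn_mul q n hq
  obtain ⟨N, hN⟩ := succ_dvd_Qn q n hq
  have h1 := gcd_Qn_div q n hq
  rw [hN, Nat.mul_div_cancel_left _ (by omega : 0 < q + 1)] at h1
  have hg0 : 0 < Nat.gcd n (q + 1) := Nat.gcd_pos_of_pos_left _ hn
  have hND : N = Dn q n * Nat.gcd n (q + 1) := by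
    have : (q + 1) * N = (q + 1) * (Dn q n * Nat.gcd n (q + 1)) := by
      rw [← hN, ← hD]
      ring
    exact Nat.eq_of_mul_eq_mul_left (by omega) this
  obtain ⟨u', hu'⟩ : Nat.gcd n (q + 1) ∣ q + 1 := Nat.gcd_dvd_right _ _
  have hcop : Nat.Coprime (Dn q n) u' := by
    have h2 := Nat.coprime_div_gcd_div_gcd (m := N) (n := q + 1) (by rw [h1]; exact hg0)
    rw [h1] at h2
    have e1 : N / Nat.gcd n (q + 1) = Dn q n := by
      rw [hND, Nat.mul_div_cancel _ hg0]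
    have e2 : (q + 1) / Nat.gcd n (q + 1) = u' := by
      nth_rewrite 1 [hu']
      rw [Nat.mul_div_cancel_left _ hg0]
    rw [e1, e2] at h2
    exact h2
  rw [hN, sq, mul_assoc]
  rw [Nat.mul_dvd_mul_iff_left (by omega : 0 < q + 1)]
  rw [hND]
  nth_rewrite 2 [hu']
  rw [mul_comm (Dn q n), mul_assoc, Nat.mul_dvd_mul_iff_left hg0]
  constructor
  · intro h
    exact hcop.dvd_of_dvd_mul_left h
  · intro h
    exact dvd_mul_of_dvd_right h _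

theorem gs_odd_modEq (q k : ℕ) : gs q (2 * k + 1) ≡ 1 [MOD q + 1] := by
  induction k with
  | zero =>
    unfold gs
    simp
    exact Nat.ModEq.refl _
  | succ k ih =>
    have h1 : gs q (2 * (k + 1) + 1) = gs q (2 * k + 1) + q ^ (2 * k + 1) * (q + 1) := by
      unfold gs
      have : 2 * (k + 1) + 1 = (2 * k + 1) + 1 + 1 := by ring
      rw [this, Finset.sum_range_succ, Finset.sum_range_succ]
      ring
    rw [h1]
    have h2 : q ^ (2 * k + 1) * (q + 1) ≡ 0 [MOD q + 1] :=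
      (Nat.modEq_zero_iff_dvd).2 (dvd_mul_left _ _)
    have := Nat.ModEq.add ih h2
    simpa using this

theorem gs_odd_coprime (q d : ℕ) (hd : Odd d) : Nat.Coprime (gs q d) (q + 1) := by
  obtain ⟨k, rfl⟩ := hd
  have h := gs_odd_modEq q k
  have h2 := h.gcd_eq
  unfold Nat.Coprime
  rw [h2]
  simp

theorem sq_sub_one_eq (q : ℕ) (hq : 1 ≤ q) : q ^ 2 - 1 = (q - 1) * (q + 1) := by
  obtain ⟨q', rfl⟩ : ∃ q', q = q' + 1 := ⟨q - 1, by omega⟩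
  rw [Nat.add_sub_cancel]
  have : (q' + 1) ^ 2 = q' * (q' + 1 + 1) + 1 := by ring
  rw [this, Nat.add_sub_cancel]

theorem gs_sq_mul (q d : ℕ) (hq : 2 ≤ q) : gs (q ^ 2) d * (q - 1) * (q + 1) = q ^ (2 * d) - 1 := by
  have h := gs_mul (q ^ 2) d (Nat.one_le_pow _ _ (by omega))
  rw [sq_sub_one_eq q (by omega), ← pow_mul, ← mul_assoc] at h
  exact h

theorem ord_dvd_A (q d t o : ℕ) (hq : 2 ≤ q) (hd : Odd d) (ht : 1 ≤ t)
    (h1 : o ∣ q ^ d + 1) (h2 : o ∣ t * gs (q ^ 2) d) : o ∣ Dn q (d * t) * (q + 1) := by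
  obtain ⟨A, hA⟩ : (q + 1) ∣ q ^ d + 1 := by
    rw [← Qn_odd q d hd]
    exact succ_dvd_Qn q d (by omega)
  have hX1 : 1 ≤ q ^ d := Nat.one_le_pow _ _ (by omega)
  have hgs : gs (q ^ 2) d = A * gs q d := by
    have e1 := gs_sq_mul q d hq
    have e2 := gs_mul q d (by omega)
    have e3 : q ^ (2 * d) - 1 = (q ^ d - 1) * (q ^ d + 1) := by
      have : q ^ (2 * d) = (q ^ d) ^ 2 := by rw [← pow_mul, mul_comm]
      rw [this, sq_sub_one_eq _ hX1]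
    have e4 : gs (q ^ 2) d * ((q - 1) * (q + 1)) = (A * gs q d) * ((q - 1) * (q + 1)) := by
      rw [← mul_assoc, e1, e3, ← e2, hA]
      ring
    have hpos : 0 < (q - 1) * (q + 1) := Nat.mul_pos (by omega) (by omega)
    exact Nat.eq_of_mul_eq_mul_right hpos e4
  have hcop := gs_odd_coprime q d hd
  have h3 : o ∣ A * Nat.gcd (q + 1) t := by
    have h4 : o ∣ Nat.gcd (A * (q + 1)) (A * (t * gs q d)) := by
      apply Nat.dvd_gcd
      · rw [mul_comm, ← hA]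
        exact h1
      · rw [hgs] at h2
        have : A * (t * gs q d) = t * (A * gs q d) := by ring
        rw [this]
        exact h2
    rw [Nat.gcd_mul_left, Nat.Coprime.gcd_mul_right_cancel_right t hcop] at h4
    exact h4
  apply dvd_trans h3
  have h5 := nat_div_lemma_A q d t (by omega) hd
  rw [hA, Nat.mul_div_cancel_left _ (by omega : 0 < q + 1), ← Dn_mul q (d * t) (by omega),
    ← mul_assoc] at h5
  have hn1 : 1 ≤ d * t := Nat.mul_pos hd.pos ht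
  exact Nat.dvd_of_mul_dvd_mul_right (Nat.gcd_pos_of_pos_left _ hn1) h5

theorem ord_dvd_B (q d m o : ℕ) (hq : 2 ≤ q) (hd : 1 ≤ d) (hm : 1 ≤ m)
    (h1 : o ∣ q ^ (2 * d) - 1) (h2 : o ∣ m * (gs (q ^ 2) d * (q - 1))) :
    o ∣ Dn q (2 * d * m) * (q + 1) := by
  have e1 := gs_sq_mul q d hq
  have h3 : o ∣ (gs (q ^ 2) d * (q - 1)) * Nat.gcd (q + 1) m := by
    have h4 : o ∣ Nat.gcd ((gs (q ^ 2) d * (q - 1)) * (q + 1)) ((gs (q ^ 2) d * (q - 1)) * m) := by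
      apply Nat.dvd_gcd
      · rw [e1]
        exact h1
      · rw [mul_comm]
        exact h2
    rw [Nat.gcd_mul_left] at h4
    exact h4
  apply dvd_trans h3
  have h5 := nat_div_lemma_B q d m (by omega)
  rw [← e1, Nat.mul_div_cancel _ (by omega : 0 < q + 1), ← Dn_mul q (2 * d * m) (by omega),
    ← mul_assoc] at h5
  have hn1 : 1 ≤ 2 * d * m := Nat.mul_pos (by omega) hm
  exact Nat.dvd_of_mul_dvd_mul_right (Nat.gcd_pos_of_pos_left _ hn1) h5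

end Cfsg.Agent.Lib.helper15.UNat
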