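import Mathlib
import Cfsg.Agent.S2495
import Cfsg.Agent.S2368

set_option autoImplicit false

namespace Cfsg.Agent.Lib.helper15.PslMix

open Polynomial
open Cfsg.Agent.S2495

theorem gs_mul_gs (q e t : ℕ) (hq : 2 ≤ q) (he : 1 ≤ e) : gs q (e * t) = gs q e * gs (q ^ e) t := by
  have h1 := gs_mul q (e * t) (by omega)
  have h2 := gs_mul q e (by omega)
  have hqe : 1 ≤ q ^ e := Nat.one_le_pow _ _ (by omega)
  have h3 := gs_mul (q ^ e) t hqe
  rw [← pow_mul] at h3
  have h4 : gs q (e * t) * (q - 1) = gs q e * gs (q ^ e) t * (q - 1) := by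
    rw [h1, ← h3, ← h2]
    ring
  exact Nat.eq_of_mul_eq_mul_right (by omega) h4

theorem pow_eq_of_modEq {M : Type*} [Monoid M] (a : M) (N : ℕ) (ha : a ^ N = 1) (x y : ℕ)
    (h : x ≡ y [MOD N]) : a ^ x = a ^ y := by
  rw [pow_eq_pow_mod x ha, pow_eq_pow_mod y ha]
  congr 1

theorem field_pow_lemma {F E : Type*} [Field F] [Fintype F] [Field E] [Algebra F E] [Finite E]
    (x : E) (t n : ℕ) (hn1 : 1 ≤ n) (hn : Module.finrank F E * t = n)
    (hnorm : Algebra.norm F (x ^ t) = 1) :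
    ∃ c : F, algebraMap F E c = x ^ (gs (Fintype.card F) n / Nat.gcd n (Fintype.card F - 1)) := by
  classical
  obtain ⟨q, hq⟩ : ∃ q, q = Fintype.card F := ⟨_, rfl⟩
  have hq2 : 2 ≤ q := by rw [hq]; exact Fintype.one_lt_card
  rw [← hq]
  obtain ⟨e, he⟩ : ∃ e, e = Module.finrank F E := ⟨_, rfl⟩
  rw [← he] at hn
  have he1 : 1 ≤ e := by
    rcases Nat.eq_zero_or_pos e with h | h
    · rw [h, zero_mul] at hn
      omega
    · exact h
  have ht1 : 1 ≤ t := by
    rcases Nat.eq_zero_or_pos t with h | h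
    · rw [h, mul_zero] at hn
      omega
    · exact h
  haveI fintypeE : Fintype E := Fintype.ofFinite E
  have hcardE : Nat.card E = q ^ e := by
    rw [Nat.card_eq_fintype_card, Module.card_eq_pow_finrank (K := F) (V := E), he, hq]
  have hnp := FiniteField.algebraMap_norm_eq_pow (K := F) (K' := E) (x := x ^ t)
  have hexp : (Nat.card E - 1) / (Nat.card F - 1) = gs q e := by
    rw [hcardE, Nat.card_eq_fintype_card, ← hq]
    exact Nat.div_eq_of_eq_mul_left (by omega) (gs_mul _ _ (by omega)).symm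
  rw [hnorm, map_one, hexp, ← pow_mul] at hnp
  have hqe2 : 2 ≤ q ^ e := by
    calc 2 ≤ q := hq2
      _ = q ^ 1 := (pow_one q).symm
      _ ≤ q ^ e := Nat.pow_le_pow_right (by omega) he1
  have hgspos : 0 < gs q e := by
    rcases Nat.eq_zero_or_pos (gs q e) with h1 | h1
    · have := gs_mul q e (by omega)
      rw [h1, zero_mul] at this
      omega
    · exact h1
  have hx0 : x ≠ 0 := by
    intro h
    rw [h, zero_pow (Nat.mul_pos ht1 hgspos).ne'] at hnp
    exact one_ne_zero hnp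
  have hN0 : (x ^ gs q e) ^ (q - 1) = 1 := by
    rw [← pow_mul, gs_mul q e (by omega), ← hcardE, Nat.card_eq_fintype_card]
    exact FiniteField.pow_card_sub_one_eq_one _ hx0
  have hgsn : x ^ gs q n = 1 := by
    have hkey : gs q n = gs q e * gs (q ^ e) t := by
      rw [← hn]
      exact gs_mul_gs q e t hq2 he1
    rw [hkey, pow_mul]
    have hmod : gs (q ^ e) t ≡ t [MOD q - 1] := by
      apply gs_modEq (q ^ e) t (q - 1) (Nat.one_le_pow _ _ (by omega))
      exact Nat.sub_one_dvd_pow_sub_one q e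
    rw [pow_eq_of_modEq (x ^ gs q e) (q - 1) hN0 _ _ hmod, ← pow_mul, mul_comm]
    exact hnp.symm
  obtain ⟨d, hd⟩ : ∃ d, d = Nat.gcd n (q - 1) := ⟨_, rfl⟩
  rw [← hd]
  have hdq : d ∣ q - 1 := by rw [hd]; exact Nat.gcd_dvd_right _ _
  have hdn : d ∣ n := by rw [hd]; exact Nat.gcd_dvd_left _ _
  have hdgs : d ∣ gs q n := (gs_dvd_iff q n d (by omega) hdq).2 hdn
  obtain ⟨k, hk⟩ := hdq
  have hpow : (x ^ (gs q n / d)) ^ (Fintype.card F - 1) = 1 := by
    rw [← hq, ← pow_mul, hk]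
    have : gs q n / d * (d * k) = gs q n * k := by
      rw [← mul_assoc, Nat.div_mul_cancel hdgs]
    rw [this, pow_mul, hgsn, one_pow]
  exact torsion_mem (F := F) (L := E) _ hpow

theorem scalar_of_irreducible {F : Type*} [Field F] [Fintype F] (n : ℕ) (hn : 1 ≤ n)
    (S : Matrix (Fin n) (Fin n) F) (hdet : S.det = 1) (hirr : Irreducible (minpoly F S)) :
    ∃ c : F, S ^ (gs (Fintype.card F) n / Nat.gcd n (Fintype.card F - 1)) =
      c • (1 : Matrix (Fin n) (Fin n) F) := by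
  classical
  have hfact : Fact (Irreducible (minpoly F S)) := ⟨hirr⟩
  have hμ0 : minpoly F S ≠ 0 := hirr.ne_zero
  let E := AdjoinRoot (minpoly F S)
  have hI : ∀ a : F[X], a ∈ Ideal.span {minpoly F S} → (Polynomial.aeval S) a = 0 := by
    intro a ha
    rw [Ideal.mem_span_singleton] at ha
    obtain ⟨b, rfl⟩ := ha
    rw [map_mul, minpoly.aeval, zero_mul]
  let φ : E →ₐ[F] Matrix (Fin n) (Fin n) F :=
    Ideal.Quotient.liftₐ (Ideal.span {minpoly F S}) (Polynomial.aeval S) hI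
  have hφroot : φ (AdjoinRoot.root (minpoly F S)) = S := by
    show (Polynomial.aeval S) (Polynomial.X : F[X]) = S
    exact Polynomial.aeval_X S
  let ψ : E →ₐ[F] Module.End F (Fin n → F) :=
    (Matrix.toLinAlgEquiv' : Matrix (Fin n) (Fin n) F ≃ₐ[F] Module.End F (Fin n → F)).toAlgHom.comp φ
  have hψroot : ψ (AdjoinRoot.root (minpoly F S)) = Matrix.toLin' S := by
    show Matrix.toLinAlgEquiv' (φ (AdjoinRoot.root (minpoly F S))) = _
    rw [hφroot]
    rfl
  letI modE : Module E (Fin n → F) := Module.compHom (Fin n → F) (ψ : E →+* Module.End F (Fin n → F))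
  have hsmul : ∀ (x : E) (v : Fin n → F), x • v = ψ x v := fun x v => rfl
  haveI tower : IsScalarTower F E (Fin n → F) := by
    refine ⟨fun c x v => ?_⟩
    rw [hsmul, hsmul, map_smul]
    rfl
  haveI finE : Module.Finite E (Fin n → F) := Module.Finite.of_restrictScalars_finite F E (Fin n → F)
  obtain ⟨t, ht⟩ : ∃ t, t = Module.finrank E (Fin n → F) := ⟨_, rfl⟩
  have het : Module.finrank F E * t = n := by
    rw [ht, Module.finrank_mul_finrank F E (Fin n → F), Module.finrank_fin_fun]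
  let f : (Fin n → F) →ₗ[E] (Fin n → F) :=
    (AdjoinRoot.root (minpoly F S)) • (LinearMap.id : (Fin n → F) →ₗ[E] (Fin n → F))
  have hfdet : LinearMap.det f = (AdjoinRoot.root (minpoly F S)) ^ t := by
    show LinearMap.det ((AdjoinRoot.root (minpoly F S)) • (LinearMap.id : (Fin n → F) →ₗ[E] (Fin n → F))) = _
    rw [LinearMap.det_smul, LinearMap.det_id, mul_one, ht]
  have hfres : f.restrictScalars F = Matrix.toLin' S := by
    apply LinearMap.ext
    intro v
    show (AdjoinRoot.root (minpoly F S)) • v = _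
    rw [hsmul, hψroot]
  have hnorm : Algebra.norm F ((AdjoinRoot.root (minpoly F S)) ^ t) = 1 := by
    rw [← hfdet, ← LinearMap.det_restrictScalars, hfres, LinearMap.det_toLin', hdet]
  haveI mfinE : Module.Finite F E := (AdjoinRoot.powerBasis hμ0).finite
  haveI finiteE : Finite E := Module.finite_of_finite F
  obtain ⟨c, hc⟩ := field_pow_lemma (F := F) (E := E) (AdjoinRoot.root (minpoly F S)) t n hn het hnorm
  refine ⟨c, ?_⟩
  have h1 := congrArg φ hc
  rw [map_pow, hφroot, AlgHom.commutes, Algebra.algebraMap_eq_smul_one] at h1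
  exact h1.symm

theorem commute_aeval {F : Type*} [Field F] {A : Type*} [Ring A] [Algebra F A] (h S : A)
    (hc : Commute h S) (g : F[X]) : Commute h (Polynomial.aeval S g) := by
  rw [Polynomial.aeval_eq_sum_range]
  apply Commute.sum_right
  intro i _
  exact (hc.pow_right i).smul_right _

theorem exists_idem_of_reducible {F : Type*} [Field F] {A : Type*} [Ring A] [Algebra F A]
    (S : A) (hint : IsIntegral F S) (hsq : Squarefree (minpoly F S))
    (hnu : ¬ IsUnit (minpoly F S)) (hred : ¬ Irreducible (minpoly F S)) :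
    ∃ ε : A, ε * ε = ε ∧ ε ≠ 0 ∧ ε ≠ 1 ∧ ∀ h : A, Commute h S → Commute h ε := by
  rw [irreducible_iff] at hred
  have hred' : ¬ ∀ a b : F[X], minpoly F S = a * b → IsUnit a ∨ IsUnit b := fun h => hred ⟨hnu, h⟩
  obtain ⟨f1, hred2⟩ := not_forall.1 hred'
  obtain ⟨f2, hred3⟩ := not_forall.1 hred2
  have hμ : minpoly F S = f1 * f2 := by
    by_contra h
    exact hred3 (fun h' => absurd h' h)
  have hu : ¬ (IsUnit f1 ∨ IsUnit f2) := fun h => hred3 (fun _ => h)
  have hu1 : ¬ IsUnit f1 := fun h => hu (Or.inl h)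
  have hu2 : ¬ IsUnit f2 := fun h => hu (Or.inr h)
  have hμ0 : minpoly F S ≠ 0 := minpoly.ne_zero hint
  have hf10 : f1 ≠ 0 := by
    intro h
    rw [h, zero_mul] at hμ
    exact hμ0 hμ
  have hf20 : f2 ≠ 0 := by
    intro h
    rw [h, mul_zero] at hμ
    exact hμ0 hμ
  rw [hμ] at hsq
  have hrel : IsRelPrime f1 f2 := (squarefree_mul_iff.1 hsq).1
  obtain ⟨a, b, hab⟩ := hrel.isCoprime
  have hker : Polynomial.aeval S (f1 * f2) = 0 := by
    rw [← hμ]
    exact minpoly.aeval F S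
  refine ⟨Polynomial.aeval S (a * f1), ?_, ?_, ?_, fun h hc => commute_aeval h S hc _⟩
  · have h1 : Polynomial.aeval S (a * f1) * Polynomial.aeval S (b * f2) = 0 := by
      rw [← map_mul]
      have : a * f1 * (b * f2) = a * b * (f1 * f2) := by ring
      rw [this, map_mul, hker, mul_zero]
    have h2 : Polynomial.aeval S (a * f1) + Polynomial.aeval S (b * f2) = 1 := by
      rw [← map_add, hab, map_one]
    have h3 : Polynomial.aeval S (b * f2) = 1 - Polynomial.aeval S (a * f1) := eq_sub_of_add_eq' h2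
    rw [h3, mul_sub, mul_one, sub_eq_zero] at h1
    exact h1.symm
  · intro h0
    have h1 : Polynomial.aeval S f1 = 0 := by
      have e : f1 = f1 * (a * f1) + b * (f1 * f2) := by
        calc f1 = f1 * (a * f1 + b * f2) := by rw [hab, mul_one]
          _ = f1 * (a * f1) + b * (f1 * f2) := by ring
      rw [e, map_add, map_mul, h0, mul_zero, map_mul, hker, mul_zero, add_zero]
    obtain ⟨c, hc⟩ := minpoly.dvd F S h1
    rw [hμ] at hc
    have h2 : f1 * 1 = f1 * (f2 * c) := by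
      rw [mul_one, ← mul_assoc]
      exact hc
    have h3 : 1 = f2 * c := mul_left_cancel₀ hf10 h2
    exact hu2 (IsUnit.of_mul_eq_one c h3.symm)
  · intro h0
    have h1 : Polynomial.aeval S f2 = 0 := by
      have hb : Polynomial.aeval S (b * f2) = 0 := by
        have h2 : Polynomial.aeval S (a * f1) + Polynomial.aeval S (b * f2) = 1 := by
          rw [← map_add, hab, map_one]
        rw [h0] at h2
        exact add_eq_left.1 h2
      have e : f2 = a * (f1 * f2) + f2 * (b * f2) := by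
        calc f2 = f2 * (a * f1 + b * f2) := by rw [hab, mul_one]
          _ = a * (f1 * f2) + f2 * (b * f2) := by ring
      rw [e, map_add, map_mul, hker, mul_zero, map_mul, hb, mul_zero, add_zero]
    obtain ⟨c, hc⟩ := minpoly.dvd F S h1
    rw [hμ] at hc
    have h2 : f2 * 1 = f2 * (f1 * c) := by
      rw [mul_one, ← mul_assoc, mul_comm f2 f1]
      exact hc
    have h3 : 1 = f1 * c := mul_left_cancel₀ hf20 h2
    exact hu1 (IsUnit.of_mul_eq_one c h3.symm)

def mix {A : Type*} {F : Type*} [Field F] [Ring A] [Algebra F A] (ε : A) (α β : F) : A :=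
  α • ε + β • (1 - ε)

theorem mix_mul {A : Type*} {F : Type*} [Field F] [Ring A] [Algebra F A] (ε : A) (hε : ε * ε = ε)
    (α β α' β' : F) : mix ε α β * mix ε α' β' = mix ε (α * α') (β * β') := by
  unfold mix
  have h1 : ε * (1 - ε) = 0 := by rw [mul_sub, mul_one, hε, sub_self]
  have h2 : (1 - ε) * ε = 0 := by rw [sub_mul, one_mul, hε, sub_self]
  have h3 : (1 - ε) * (1 - ε) = 1 - ε := by rw [mul_sub, mul_one, h2, sub_zero]
  rw [add_mul, mul_add, mul_add, smul_mul_smul_comm, smul_mul_smul_comm, smul_mul_smul_comm,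
    smul_mul_smul_comm, hε, h1, h2, h3, smul_zero, smul_zero, add_zero, zero_add]

theorem mix_one {A : Type*} {F : Type*} [Field F] [Ring A] [Algebra F A] (ε : A) :
    mix ε (1 : F) 1 = 1 := by
  unfold mix
  rw [one_smul, one_smul, add_sub_cancel]

theorem mix_same {A : Type*} {F : Type*} [Field F] [Ring A] [Algebra F A] (ε : A) (α : F) :
    mix ε α α = α • (1 : A) := by
  unfold mix
  rw [← smul_add, add_sub_cancel]

theorem mix_pow {A : Type*} {F : Type*} [Field F] [Ring A] [Algebra F A] (ε : A) (hε : ε * ε = ε)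
    (α β : F) (k : ℕ) : (mix ε α β) ^ k = mix ε (α ^ k) (β ^ k) := by
  induction k with
  | zero => rw [pow_zero, pow_zero, pow_zero, mix_one]
  | succ k ih => rw [pow_succ, ih, mix_mul ε hε, ← pow_succ, ← pow_succ]

theorem mix_commute {A : Type*} {F : Type*} [Field F] [Ring A] [Algebra F A] (ε : A) (α β : F) (h : A)
    (hc : Commute h ε) : Commute h (mix ε α β) := by
  unfold mix
  exact (hc.smul_right α).add_right (((Commute.one_right h).sub_right hc).smul_right β)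

theorem exists_z_of_idem {F : Type*} [Field F] (n : ℕ) (ε : Matrix (Fin n) (Fin n) F)
    (hε : ε * ε = ε) (h0 : ε ≠ 0) (h1 : ε ≠ 1) (ζ : F) (r : ℕ) (hr : r.Prime)
    (hζ : IsPrimitiveRoot ζ r) (hrn : ¬ r ∣ n) :
    ∃ z : Matrix (Fin n) (Fin n) F, z.det = 1 ∧ z ^ r = 1 ∧ (∀ c : F, z ≠ c • 1) ∧
      ∀ h, Commute h ε → Commute h z := by
  have hrne : NeZero r := ⟨hr.ne_zero⟩
  have hζr : ζ ^ r = 1 := hζ.pow_eq_one
  obtain ⟨P, hP⟩ : ∃ P, P = mix ε ζ (1 : F) := ⟨_, rfl⟩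
  obtain ⟨Q, hQ⟩ : ∃ Q, Q = mix ε (1 : F) ζ := ⟨_, rfl⟩
  have hPr : P.det ^ r = 1 := by
    rw [← Matrix.det_pow, hP, mix_pow ε hε, hζr, one_pow, mix_one, Matrix.det_one]
  have hQr : Q.det ^ r = 1 := by
    rw [← Matrix.det_pow, hQ, mix_pow ε hε, hζr, one_pow, mix_one, Matrix.det_one]
  obtain ⟨a, -, ha⟩ := hζ.eq_pow_of_pow_eq_one hPr
  obtain ⟨b, -, hb⟩ := hζ.eq_pow_of_pow_eq_one hQr
  have hPQ : P.det * Q.det = ζ ^ n := by
    rw [← Matrix.det_mul, hP, hQ, mix_mul ε hε, mul_one, one_mul, mix_same, Matrix.det_smul,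
      Matrix.det_one, mul_one, Fintype.card_fin]
  have hab : ζ ^ (a + b) = ζ ^ n := by
    rw [pow_add, ha, hb, hPQ]
  refine ⟨mix ε (ζ ^ b) (ζ ^ ((r - 1) * a)), ?_, ?_, ?_, fun h hc => mix_commute ε _ _ h hc⟩
  · have e1 : mix ε (ζ ^ b) (ζ ^ ((r - 1) * a)) = P ^ b * Q ^ ((r - 1) * a) := by
      rw [hP, hQ, mix_pow ε hε, mix_pow ε hε, mix_mul ε hε, one_pow, one_pow, mul_one, one_mul]
    rw [e1, Matrix.det_mul, Matrix.det_pow, Matrix.det_pow, ← ha, ← hb, ← pow_mul, ← pow_mul, ← pow_add]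
    have e2 : a * b + b * ((r - 1) * a) = r * (a * b) := by
      have : r = (r - 1) + 1 := by have := hr.pos; omega
      nth_rewrite 2 [this]
      ring
    rw [e2, pow_mul, hζr, one_pow]
  · rw [mix_pow ε hε, ← pow_mul, ← pow_mul, mul_comm b r, pow_mul, hζr, one_pow,
      mul_comm ((r - 1) * a) r, pow_mul, hζr, one_pow, mix_one]
  · intro c hc
    have hz1 : mix ε (ζ ^ b) (ζ ^ ((r - 1) * a)) * ε = (ζ ^ b) • ε := by
      unfold mix
      rw [add_mul, smul_mul_assoc, smul_mul_assoc, hε, sub_mul, one_mul, hε, sub_self, smul_zero, add_zero]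
    have hz2 : mix ε (ζ ^ b) (ζ ^ ((r - 1) * a)) * (1 - ε) = (ζ ^ ((r - 1) * a)) • (1 - ε) := by
      unfold mix
      have h2 : ε * (1 - ε) = 0 := by rw [mul_sub, mul_one, hε, sub_self]
      have h3 : (1 - ε) * (1 - ε) = 1 - ε := by
        rw [sub_mul, one_mul, h2, sub_zero]
      rw [add_mul, smul_mul_assoc, smul_mul_assoc, h2, h3, smul_zero, zero_add]
    rw [hc, smul_mul_assoc, one_mul] at hz1 hz2
    have hc1 : c = ζ ^ b := by
      have h4 : (c - ζ ^ b) • ε = 0 := by rw [sub_smul, hz1, sub_self]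
      rcases smul_eq_zero.1 h4 with h5 | h5
      · exact sub_eq_zero.1 h5
      · exact absurd h5 h0
    have hc2 : c = ζ ^ ((r - 1) * a) := by
      have h4 : (c - ζ ^ ((r - 1) * a)) • (1 - ε) = 0 := by rw [sub_smul, hz2, sub_self]
      rcases smul_eq_zero.1 h4 with h5 | h5
      · exact sub_eq_zero.1 h5
      · exfalso
        apply h1
        exact (sub_eq_zero.1 h5).symm
    have h6 : ζ ^ n = 1 := by
      rw [← hab, add_comm, pow_add, ← hc1, hc2, ← pow_add]
      have e2 : (r - 1) * a + a = r * a := by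
        have : r = (r - 1) + 1 := by have := hr.pos; omega
        nth_rewrite 2 [this]
        ring
      rw [e2, pow_mul, hζr, one_pow]
    exact hrn (hζ.dvd_of_pow_eq_one n h6)

theorem gcd_gs (q n : ℕ) (hq : 1 ≤ q) : Nat.gcd (gs q n) (q - 1) = Nat.gcd n (q - 1) :=
  (gs_modEq q n (q - 1) hq dvd_rfl).gcd_eq

theorem exists_singer {F : Type*} [Field F] [Fintype F] (n : ℕ) (hn : 1 ≤ n) :
    ∃ g : Matrix.ProjectiveSpecialLinearGroup (Fin n) F,
      orderOf g = gs (Fintype.card F) n / Nat.gcd n (Fintype.card F - 1) := by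
  classical
  obtain ⟨p, hp⟩ := CharP.exists F
  haveI : Fact p.Prime := ⟨CharP.char_is_prime F p⟩
  haveI : NeZero n := ⟨by omega⟩
  obtain ⟨q, hqdef⟩ : ∃ q, q = Fintype.card F := ⟨_, rfl⟩
  rw [← hqdef]
  have hq : 2 ≤ q := by rw [hqdef]; exact Fintype.one_lt_card
  let K := FiniteField.Extension F p n
  haveI : Fintype K := Fintype.ofFinite K
  have hfr : Module.finrank F K = n := FiniteField.finrank_extension F p n
  have hcardK : Nat.card K = q ^ n := by
    rw [FiniteField.natCard_extension F p n, Nat.card_eq_fintype_card, hqdef]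
  have hqn : 2 ≤ q ^ n := by
    calc 2 ≤ q := hq
      _ = q ^ 1 := (pow_one q).symm
      _ ≤ q ^ n := Nat.pow_le_pow_right (by omega) hn
  obtain ⟨γ, hγ⟩ := IsCyclic.exists_ofOrder_eq_natCard (α := Kˣ)
  have hγo : orderOf γ = q ^ n - 1 := by
    rw [hγ, Nat.card_units, hcardK]
  obtain ⟨d, hd⟩ : ∃ d, d = Nat.gcd n (q - 1) := ⟨_, rfl⟩
  rw [← hd]
  have hdg : Nat.gcd (gs q n) (q - 1) = d := by rw [hd]; exact gcd_gs q n (by omega)
  have hdq : d ∣ q - 1 := by rw [hd]; exact Nat.gcd_dvd_right _ _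
  have hdgs : d ∣ gs q n := by rw [← hdg]; exact Nat.gcd_dvd_left _ _
  have hdpos : 0 < d := by
    rw [hd]
    exact Nat.gcd_pos_of_pos_left _ (by omega)
  have hgsq : gs q n * (q - 1) = q ^ n - 1 := gs_mul q n (by omega)
  have hgspos : 0 < gs q n := by
    rcases Nat.eq_zero_or_pos (gs q n) with h | h
    · rw [h, zero_mul] at hgsq
      omega
    · exact h
  obtain ⟨y, hy⟩ : ∃ y : Kˣ, y = γ ^ (q - 1) := ⟨_, rfl⟩
  have hy1 : (y : K) ^ (gs q n) = 1 := by
    rw [← Units.val_pow_eq_pow_val, hy, ← pow_mul, mul_comm, hgsq, ← hγo, pow_orderOf_eq_one]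
    rfl
  have hyF : ∀ t : ℕ, (∃ c : F, algebraMap F K c = (y : K) ^ t) ↔ gs q n / d ∣ t := by
    intro t
    constructor
    · rintro ⟨c, hc⟩
      have hc0 : c ≠ 0 := by
        intro h0
        rw [h0, map_zero] at hc
        exact (pow_ne_zero t (Units.ne_zero y)) hc.symm
      have h1 : ((y : K) ^ t) ^ (q - 1) = 1 := by
        rw [← hc, ← map_pow, hqdef, FiniteField.pow_card_sub_one_eq_one c hc0, map_one]
      have h2 : γ ^ ((q - 1) * t * (q - 1)) = 1 := by
        apply Units.ext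
        rw [Units.val_pow_eq_pow_val, pow_mul, pow_mul, ← Units.val_pow_eq_pow_val, ← hy]
        exact h1
      have h3 : q ^ n - 1 ∣ (q - 1) * t * (q - 1) := by
        rw [← hγo]
        exact orderOf_dvd_of_pow_eq_one h2
      rw [← hgsq] at h3
      have h4 : gs q n ∣ (q - 1) * t := by
        have : gs q n * (q - 1) ∣ ((q - 1) * t) * (q - 1) := h3
        exact Nat.dvd_of_mul_dvd_mul_right (by omega) this
      obtain ⟨k1, hk1⟩ := hdq
      obtain ⟨k2, hk2⟩ := hdgs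
      have hk2' : gs q n / d = k2 := by
        rw [hk2]
        exact Nat.mul_div_cancel_left k2 hdpos
      rw [hk2']
      have hcop : Nat.Coprime k2 k1 := by
        have h5 := Nat.coprime_div_gcd_div_gcd (m := gs q n) (n := q - 1) (by rw [hdg]; exact hdpos)
        rw [hdg, hk2', hk1, Nat.mul_div_cancel_left k1 hdpos] at h5
        exact h5
      rw [hk2, hk1] at h4
      have h6 : k2 ∣ k1 * t := by
        have : d * k2 ∣ d * (k1 * t) := by
          rw [← mul_assoc]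
          exact h4
        exact Nat.dvd_of_mul_dvd_mul_left hdpos this
      exact hcop.dvd_of_dvd_mul_left h6
    · rintro ⟨k, hk⟩
      apply torsion_mem (F := F) (L := K)
      rw [hk, ← pow_mul, ← hqdef]
      obtain ⟨k1, hk1⟩ := hdq
      have e1 : gs q n / d * k * (q - 1) = gs q n * (k * k1) := by
        rw [hk1]
        calc gs q n / d * k * (d * k1) = (gs q n / d * d) * (k * k1) := by ring
          _ = gs q n * (k * k1) := by rw [Nat.div_mul_cancel hdgs]
      rw [e1, pow_mul, hy1, one_pow]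
  let b : Module.Basis (Fin n) F K := Module.finBasisOfFinrankEq F K hfr
  have hρinj : Function.Injective (Algebra.leftMulMatrix b) := Algebra.leftMulMatrix_injective b
  have hdet : (Algebra.leftMulMatrix b (y : K)).det = 1 := by
    rw [← Algebra.norm_eq_matrix_det b]
    have h := FiniteField.algebraMap_norm_eq_pow (K := F) (K' := K) (x := (y : K))
    have hexp : (Nat.card K - 1) / (Nat.card F - 1) = gs q n := by
      rw [hcardK, Nat.card_eq_fintype_card, ← hqdef]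
      exact Nat.div_eq_of_eq_mul_left (by omega) hgsq.symm
    rw [hexp, hy1] at h
    exact (algebraMap F K).injective (by rw [h, map_one])
  let X : Matrix.SpecialLinearGroup (Fin n) F := ⟨Algebra.leftMulMatrix b (y : K), hdet⟩
  have hXpow : ∀ t : ℕ, ((X ^ t : Matrix.SpecialLinearGroup (Fin n) F) :
      Matrix (Fin n) (Fin n) F) = Algebra.leftMulMatrix b ((y : K) ^ t) := by
    intro t
    rw [Matrix.SpecialLinearGroup.coe_pow, map_pow]
  have hscal : ∀ t : ℕ, (∃ c : F, ((X ^ t : Matrix.SpecialLinearGroup (Fin n) F) :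
      Matrix (Fin n) (Fin n) F) = c • (1 : Matrix (Fin n) (Fin n) F)) ↔
      ∃ c : F, algebraMap F K c = (y : K) ^ t := by
    intro t
    rw [hXpow]
    constructor
    · rintro ⟨c, hc⟩
      refine ⟨c, hρinj ?_⟩
      rw [hc, AlgHom.commutes, Algebra.algebraMap_eq_smul_one]
    · rintro ⟨c, hc⟩
      refine ⟨c, ?_⟩
      rw [← hc, AlgHom.commutes, Algebra.algebraMap_eq_smul_one]
  refine ⟨QuotientGroup.mk X, ?_⟩
  have hDpos : 0 < gs q n / d := Nat.div_pos (Nat.le_of_dvd hgspos hdgs) hdpos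
  rw [orderOf_eq_iff hDpos]
  constructor
  · rw [mk_pow_eq_one_iff, hscal, hyF]
  · intro t ht htpos h
    rw [mk_pow_eq_one_iff, hscal, hyF] at h
    have := Nat.le_of_dvd htpos h
    omega

theorem exists_prim_root {F : Type*} [Field F] [Fintype F] (r : ℕ) (hr : r.Prime)
    (hrq : r ∣ Fintype.card F - 1) : ∃ ζ : F, IsPrimitiveRoot ζ r := by
  classical
  have hfr : Fact r.Prime := ⟨hr⟩
  have hcard : r ∣ Nat.card Fˣ := by
    rw [Nat.card_units, Nat.card_eq_fintype_card]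
    exact hrq
  obtain ⟨u, hu⟩ := exists_prime_orderOf_dvd_card' r hcard
  refine ⟨(u : F), ?_⟩
  rw [IsPrimitiveRoot.coe_units_iff, ← hu]
  exact IsPrimitiveRoot.orderOf u

theorem dichotomy {F : Type*} [Field F] [Fintype F] (p : ℕ) [Fact p.Prime] [CharP F p] (n : ℕ)
    (hn : 1 ≤ n) (r : ℕ) (hr : r.Prime) (hrq : r ∣ Fintype.card F - 1) (hrn : ¬ r ∣ n)
    (g : Matrix.SpecialLinearGroup (Fin n) F) :
    (∃ w : Matrix.ProjectiveSpecialLinearGroup (Fin n) F, orderOf w = r ∧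
      Commute (QuotientGroup.mk g : Matrix.ProjectiveSpecialLinearGroup (Fin n) F) w) ∨
    (∀ M : ℕ, M ∣ orderOf (QuotientGroup.mk g : Matrix.ProjectiveSpecialLinearGroup (Fin n) F) →
      M.Coprime p → M ∣ gs (Fintype.card F) n / Nat.gcd n (Fintype.card F - 1)) := by
  classical
  have hp : p.Prime := Fact.out
  have hne : Nonempty (Fin n) := ⟨⟨0, by omega⟩⟩
  have ho0 : orderOf g ≠ 0 := (orderOf_pos g).ne'
  obtain ⟨w, Mg, hMg, hoMg⟩ := Nat.exists_eq_pow_mul_and_not_dvd ho0 p hp.ne_one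
  obtain ⟨s, hs⟩ : ∃ s : Matrix.SpecialLinearGroup (Fin n) F, s = g ^ (p ^ w) := ⟨_, rfl⟩
  have hsM : s ^ Mg = 1 := by
    rw [hs, ← pow_mul, ← hoMg, pow_orderOf_eq_one]
  obtain ⟨S, hS⟩ : ∃ S : Matrix (Fin n) (Fin n) F, S = (s : Matrix (Fin n) (Fin n) F) := ⟨_, rfl⟩
  have hSM : S ^ Mg = 1 := by
    rw [hS, ← Matrix.SpecialLinearGroup.coe_pow, hsM]
    rfl
  have hMgF : ((Mg : ℕ) : F) ≠ 0 := by
    rw [Ne, CharP.cast_eq_zero_iff F p]
    exact hMg
  have hint : IsIntegral F S := Algebra.IsIntegral.isIntegral S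
  have hsq : Squarefree (minpoly F S) := by
    have hsep : Squarefree (X ^ Mg - C (1 : F)) :=
      (Polynomial.separable_X_pow_sub_C (1 : F) hMgF one_ne_zero).squarefree
    apply hsep.squarefree_of_dvd
    apply minpoly.dvd
    rw [map_sub, map_pow, aeval_X, aeval_C, hSM, map_one, sub_self]
  have hnu : ¬ IsUnit (minpoly F S) := minpoly.not_isUnit F S
  have hSdet : S.det = 1 := by
    rw [hS]
    exact s.det_coe
  by_cases hirr : Irreducible (minpoly F S)
  · right
    intro M hM hMp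
    obtain ⟨c, hc⟩ := scalar_of_irreducible n hn S hSdet hirr
    have h1 : (QuotientGroup.mk s : Matrix.ProjectiveSpecialLinearGroup (Fin n) F) ^
        (gs (Fintype.card F) n / Nat.gcd n (Fintype.card F - 1)) = 1 := by
      rw [mk_pow_eq_one_iff]
      refine ⟨c, ?_⟩
      rw [Matrix.SpecialLinearGroup.coe_pow, ← hS]
      exact hc
    rw [hs, QuotientGroup.mk_pow, ← pow_mul] at h1
    have h2 := orderOf_dvd_of_pow_eq_one h1
    have h3 : M ∣ p ^ w * (gs (Fintype.card F) n / Nat.gcd n (Fintype.card F - 1)) := dvd_trans hM h2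
    exact (Nat.Coprime.pow_right w hMp).dvd_of_dvd_mul_left h3
  · left
    obtain ⟨ε, hε, hε0, hε1, hεc⟩ := exists_idem_of_reducible S hint hsq hnu hirr
    obtain ⟨ζ, hζ⟩ := exists_prim_root (F := F) r hr hrq
    obtain ⟨z, hzdet, hzr, hzns, hzc⟩ := exists_z_of_idem n ε hε hε0 hε1 ζ r hr hζ hrn
    obtain ⟨z', hz'⟩ : ∃ z' : Matrix.SpecialLinearGroup (Fin n) F, z' = ⟨z, hzdet⟩ := ⟨_, rfl⟩
    have hz'coe : (z' : Matrix (Fin n) (Fin n) F) = z := by rw [hz']
    refine ⟨QuotientGroup.mk z', ?_, ?_⟩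
    · have hfr : Fact r.Prime := ⟨hr⟩
      apply orderOf_eq_prime
      · rw [← QuotientGroup.mk_pow]
        have : z' ^ r = 1 := by
          apply Subtype.ext
          rw [Matrix.SpecialLinearGroup.coe_pow, hz'coe, hzr]
          rfl
        rw [this]
        rfl
      · intro h
        have h1 : (QuotientGroup.mk z' : Matrix.ProjectiveSpecialLinearGroup (Fin n) F) ^ 1 = 1 := by
          rw [pow_one]
          exact h
        rw [mk_pow_eq_one_iff] at h1
        obtain ⟨c, hc⟩ := h1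
        rw [pow_one, hz'coe] at hc
        exact hzns c hc
    · have hgs : Commute (g : Matrix (Fin n) (Fin n) F) S := by
        rw [hS, hs, Matrix.SpecialLinearGroup.coe_pow]
        exact (Commute.refl _).pow_right _
      have hgz : Commute (g : Matrix (Fin n) (Fin n) F) z := hzc _ (hεc _ hgs)
      have hgz' : Commute g z' := by
        apply Subtype.ext
        rw [Matrix.SpecialLinearGroup.coe_mul, Matrix.SpecialLinearGroup.coe_mul, hz'coe]
        exact hgz
      show (QuotientGroup.mk g : Matrix.ProjectiveSpecialLinearGroup (Fin n) F) * QuotientGroup.mk z' =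
        QuotientGroup.mk z' * QuotientGroup.mk g
      rw [← QuotientGroup.mk_mul, ← QuotientGroup.mk_mul, hgz'.eq]

def Jb (F : Type*) [Field F] (n b : ℕ) : Matrix (Fin n) (Fin n) F :=
  Matrix.of fun i j => if j.val = i.val + 1 ∧ j.val < b then 1 else 0

theorem Jb_pow {F : Type*} [Field F] (n b : ℕ) (t : ℕ) (i j : Fin n) :
    (Jb F n b ^ (t + 1)) i j = if j.val = i.val + (t + 1) ∧ j.val < b then 1 else 0 := by
  induction t generalizing i j with
  | zero =>
    rw [zero_add, pow_one]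
    rfl
  | succ t ih =>
    rw [pow_succ, Matrix.mul_apply]
    have hJ : ∀ k : Fin n, Jb F n b k j = if j.val = k.val + 1 ∧ j.val < b then 1 else 0 := fun k => rfl
    simp only [ih, hJ]
    by_cases h : j.val = i.val + (t + 1 + 1) ∧ j.val < b
    · rw [if_pos h]
      have hlt : i.val + (t + 1) < n := by have := j.2; omega
      rw [Finset.sum_eq_single (⟨i.val + (t + 1), hlt⟩ : Fin n)]
      · have h1 : (i.val + (t + 1) = i.val + (t + 1) ∧ i.val + (t + 1) < b) := ⟨rfl, by omega⟩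
        have h2 : (j.val = i.val + (t + 1) + 1 ∧ j.val < b) := ⟨by omega, h.2⟩
        rw [if_pos h1, if_pos h2, mul_one]
      · intro k _ hk
        by_cases hk' : k.val = i.val + (t + 1) ∧ k.val < b
        · exact absurd (Fin.ext hk'.1) hk
        · rw [if_neg hk', zero_mul]
      · intro h'
        exact absurd (Finset.mem_univ _) h'
    · rw [if_neg h]
      apply Finset.sum_eq_zero
      intro k _
      by_cases hk' : k.val = i.val + (t + 1) ∧ k.val < b
      · have : ¬ (j.val = k.val + 1 ∧ j.val < b) := by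
          intro h2
          apply h
          exact ⟨by omega, h2.2⟩
        rw [if_neg this, mul_zero]
      · rw [if_neg hk', zero_mul]

def dε (F : Type*) [Field F] (n : ℕ) : Matrix (Fin n) (Fin n) F :=
  Matrix.diagonal fun i => if i.val < n - 1 then 1 else 0

theorem dε_idem {F : Type*} [Field F] (n : ℕ) : dε F n * dε F n = dε F n := by
  unfold dε
  rw [Matrix.diagonal_mul_diagonal]
  congr 1
  funext i
  by_cases h : i.val < n - 1
  · rw [if_pos h, mul_one]
  · rw [if_neg h, mul_zero]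

theorem dε_ne_zero {F : Type*} [Field F] (n : ℕ) (hn : 2 ≤ n) : dε F n ≠ 0 := by
  intro h
  have h1 := congrFun (congrFun h ⟨0, by omega⟩) ⟨0, by omega⟩
  unfold dε at h1
  rw [Matrix.diagonal_apply_eq, if_pos (by show 0 < n - 1; omega)] at h1
  exact one_ne_zero h1

theorem dε_ne_one {F : Type*} [Field F] (n : ℕ) (hn : 2 ≤ n) : dε F n ≠ 1 := by
  intro h
  have h1 := congrFun (congrFun h ⟨n - 1, by omega⟩) ⟨n - 1, by omega⟩
  unfold dε at h1
  rw [Matrix.diagonal_apply_eq, if_neg (by show ¬ (n - 1 < n - 1); omega), Matrix.one_apply_eq] at h1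
  exact zero_ne_one h1

theorem Jb_commute {F : Type*} [Field F] (n b : ℕ) (hb : b ≤ n - 1) :
    Commute (Jb F n b) (dε F n) := by
  have h1 : Jb F n b * dε F n = Jb F n b := by
    ext i j
    unfold dε
    rw [Matrix.mul_diagonal]
    show (if j.val = i.val + 1 ∧ j.val < b then (1 : F) else 0) * _ = if j.val = i.val + 1 ∧ j.val < b then (1 : F) else 0
    by_cases h : j.val = i.val + 1 ∧ j.val < b
    · rw [if_pos h, if_pos (by omega), mul_one]
    · rw [if_neg h, zero_mul]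
  have h2 : dε F n * Jb F n b = Jb F n b := by
    ext i j
    unfold dε
    rw [Matrix.diagonal_mul]
    show _ * (if j.val = i.val + 1 ∧ j.val < b then (1 : F) else 0) = if j.val = i.val + 1 ∧ j.val < b then (1 : F) else 0
    by_cases h : j.val = i.val + 1 ∧ j.val < b
    · rw [if_pos h, if_pos (by omega), mul_one]
    · rw [if_neg h, mul_zero]
  show Jb F n b * dε F n = dε F n * Jb F n b
  rw [h1, h2]

theorem eq_one_of_ppow_eq_one {F : Type*} [Field F] (p : ℕ) [Fact p.Prime] [CharP F p] (x : F) (c : ℕ)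
    (h : x ^ (p ^ c) = 1) : x = 1 := by
  have h1 : (x - 1) ^ (p ^ c) = 0 := by
    rw [sub_pow_char_pow, h, one_pow, sub_self]
  exact sub_eq_zero.1 (pow_eq_zero_iff (pow_pos (Fact.out : p.Prime).pos c).ne' |>.1 h1)

theorem orderOf_mk_of_ppow {F : Type*} [Field F] (p : ℕ) [Fact p.Prime] [CharP F p] (n : ℕ) (hn : 1 ≤ n)
    (u : Matrix.SpecialLinearGroup (Fin n) F) (c : ℕ) (hu : orderOf u = p ^ c) :
    orderOf (QuotientGroup.mk u : Matrix.ProjectiveSpecialLinearGroup (Fin n) F) = p ^ c := by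
  have hp : p.Prime := Fact.out
  have hdvd : orderOf (QuotientGroup.mk u : Matrix.ProjectiveSpecialLinearGroup (Fin n) F) ∣ p ^ c := by
    apply orderOf_dvd_of_pow_eq_one
    rw [← QuotientGroup.mk_pow, ← hu, pow_orderOf_eq_one]
    rfl
  obtain ⟨c', hc', ho'⟩ := (Nat.dvd_prime_pow hp).1 hdvd
  have h1 : (QuotientGroup.mk u : Matrix.ProjectiveSpecialLinearGroup (Fin n) F) ^ (p ^ c') = 1 := by
    rw [← ho']
    exact pow_orderOf_eq_one _
  rw [mk_pow_eq_one_iff] at h1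
  obtain ⟨lam, hlam⟩ := h1
  have h2 : ((u ^ (p ^ c') : Matrix.SpecialLinearGroup (Fin n) F) : Matrix (Fin n) (Fin n) F) ^ (p ^ (c - c')) = 1 := by
    rw [← Matrix.SpecialLinearGroup.coe_pow, ← pow_mul, ← pow_add, Nat.add_sub_cancel' hc', ← hu,
      pow_orderOf_eq_one]
    rfl
  rw [hlam, _root_.smul_pow, one_pow] at h2
  have h3 := congrFun (congrFun h2 ⟨0, by omega⟩) ⟨0, by omega⟩
  rw [Matrix.smul_apply, Matrix.one_apply_eq, smul_eq_mul, mul_one] at h3
  have h4 : lam = 1 := eq_one_of_ppow_eq_one p lam _ h3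
  rw [h4, one_smul] at hlam
  have h5 : u ^ (p ^ c') = 1 := by
    apply Subtype.ext
    rw [hlam]
    rfl
  have h6 := orderOf_dvd_of_pow_eq_one h5
  rw [hu] at h6
  rw [ho']
  exact Nat.dvd_antisymm (pow_dvd_pow p hc') h6

theorem mul_r_of_commute_dε {F : Type*} [Field F] [Fintype F] (p : ℕ) [Fact p.Prime] [CharP F p]
    (n : ℕ) (hn : 2 ≤ n) (r : ℕ) (hr : r.Prime) (hrq : r ∣ Fintype.card F - 1) (hrn : ¬ r ∣ n)
    (u : Matrix.SpecialLinearGroup (Fin n) F)
    (hcomm : Commute (u : Matrix (Fin n) (Fin n) F) (dε F n)) (c : ℕ) (hu : orderOf u = p ^ c) :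
    ∃ w : Matrix.ProjectiveSpecialLinearGroup (Fin n) F, orderOf w = p ^ c * r := by
  have hp : p.Prime := Fact.out
  obtain ⟨ζ, hζ⟩ := exists_prim_root (F := F) r hr hrq
  obtain ⟨z, hzdet, hzr, hzns, hzc⟩ := exists_z_of_idem n (dε F n) (dε_idem n) (dε_ne_zero n hn)
    (dε_ne_one n hn) ζ r hr hζ hrn
  obtain ⟨z', hz'⟩ : ∃ z' : Matrix.SpecialLinearGroup (Fin n) F, z' = ⟨z, hzdet⟩ := ⟨_, rfl⟩
  have hz'coe : (z' : Matrix (Fin n) (Fin n) F) = z := by rw [hz']
  have hfr : Fact r.Prime := ⟨hr⟩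
  have hzo : orderOf (QuotientGroup.mk z' : Matrix.ProjectiveSpecialLinearGroup (Fin n) F) = r := by
    apply orderOf_eq_prime
    · rw [← QuotientGroup.mk_pow]
      have : z' ^ r = 1 := by
        apply Subtype.ext
        rw [Matrix.SpecialLinearGroup.coe_pow, hz'coe, hzr]
        rfl
      rw [this]
      rfl
    · intro h
      have h1 : (QuotientGroup.mk z' : Matrix.ProjectiveSpecialLinearGroup (Fin n) F) ^ 1 = 1 := by
        rw [pow_one]
        exact h
      rw [mk_pow_eq_one_iff] at h1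
      obtain ⟨c, hc⟩ := h1
      rw [pow_one, hz'coe] at hc
      exact hzns c hc
  have huo := orderOf_mk_of_ppow p n (by omega) u c hu
  have hgz' : Commute u z' := by
    apply Subtype.ext
    rw [Matrix.SpecialLinearGroup.coe_mul, Matrix.SpecialLinearGroup.coe_mul, hz'coe]
    exact hzc _ hcomm
  have hcm : Commute (QuotientGroup.mk u : Matrix.ProjectiveSpecialLinearGroup (Fin n) F)
      (QuotientGroup.mk z') := by
    show (QuotientGroup.mk u : Matrix.ProjectiveSpecialLinearGroup (Fin n) F) * QuotientGroup.mk z' =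
      QuotientGroup.mk z' * QuotientGroup.mk u
    rw [← QuotientGroup.mk_mul, ← QuotientGroup.mk_mul, hgz'.eq]
  have hrp : r ≠ p := by
    intro h
    rw [h] at hrq
    obtain ⟨f, -, hf⟩ := FiniteField.card F p
    have h1 : p ∣ Fintype.card F := by
      rw [hf]
      exact dvd_pow_self p f.ne_zero
    have h2 : 1 ≤ Fintype.card F := Fintype.card_pos
    have h3 : p ∣ 1 := by
      have h4 : p ∣ Fintype.card F - 1 + 1 := by
        rw [Nat.sub_add_cancel h2]
        exact h1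
      exact (Nat.dvd_add_right hrq).1 h4
    exact hp.one_lt.ne' (Nat.dvd_one.1 h3)
  have hcop : Nat.Coprime (p ^ c) r := Nat.Coprime.pow_left c ((Nat.coprime_primes hp hr).2 (Ne.symm hrp))
  refine ⟨QuotientGroup.mk u * QuotientGroup.mk z', ?_⟩
  rw [hcm.orderOf_mul_eq_mul_orderOf_of_coprime (by rw [huo, hzo]; exact hcop), huo, hzo]

theorem Jb_pow_pos {F : Type*} [Field F] (n b : ℕ) (k : ℕ) (hk : 1 ≤ k) (i j : Fin n) :
    (Jb F n b ^ k) i j = if j.val = i.val + k ∧ j.val < b then 1 else 0 := by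
  obtain ⟨t, rfl⟩ : ∃ t, k = t + 1 := ⟨k - 1, by omega⟩
  exact Jb_pow n b t i j

theorem r_T {F : Type*} [Field F] [Fintype F] (p : ℕ) [Fact p.Prime] [CharP F p]
    (n : ℕ) (hn : 2 ≤ n) (r : ℕ) (hr : r.Prime) (hrq : r ∣ Fintype.card F - 1) (hrn : ¬ r ∣ n) :
    ∃ w : Matrix.ProjectiveSpecialLinearGroup (Fin n) F, orderOf w = r := by
  obtain ⟨w, hw⟩ := mul_r_of_commute_dε p n hn r hr hrq hrn 1 (by
    rw [Matrix.SpecialLinearGroup.coe_one]
    exact Commute.one_left _) 0 (by rw [orderOf_one, pow_zero])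
  exact ⟨w, by rw [hw, pow_zero, one_mul]⟩

theorem pr_T {F : Type*} [Field F] [Fintype F] (p : ℕ) [Fact p.Prime] [CharP F p]
    (n : ℕ) (hn : 2 ≤ n) (r : ℕ) (hr : r.Prime) (hrq : r ∣ Fintype.card F - 1) (hrn : ¬ r ∣ n)
    (c : ℕ) (hc : p ^ c + 1 ≤ n - 1) :
    ∃ w : Matrix.ProjectiveSpecialLinearGroup (Fin n) F, orderOf w = p ^ (c + 1) * r := by
  classical
  have hp : p.Prime := Fact.out
  have hne : Nonempty (Fin n) := ⟨⟨0, by omega⟩⟩
  obtain ⟨b, hb⟩ : ∃ b, b = p ^ c + 1 := ⟨_, rfl⟩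
  obtain ⟨U, hU⟩ : ∃ U : Matrix (Fin n) (Fin n) F, U = 1 + Jb F n b := ⟨_, rfl⟩
  have hpc : 1 ≤ p ^ c := Nat.one_le_pow _ _ hp.pos
  have hpow : ∀ e : ℕ, U ^ (p ^ e) = 1 + Jb F n b ^ (p ^ e) := by
    intro e
    rw [hU, add_pow_char_pow_of_commute _ _ (Commute.one_left _), one_pow]
  have hfin : U ^ (p ^ (c + 1)) = 1 := by
    rw [hpow]
    have h0 : Jb F n b ^ (p ^ (c + 1)) = 0 := by
      ext i j
      rw [Jb_pow_pos n b _ (Nat.one_le_pow (c + 1) p hp.pos), Matrix.zero_apply, if_neg]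
      rintro ⟨h1, h2⟩
      have h3 : p ^ (c + 1) = p * p ^ c := pow_succ' p c
      have h4 : 2 * p ^ c ≤ p * p ^ c := Nat.mul_le_mul_right _ hp.two_le
      omega
    rw [h0, add_zero]
  have hnot : ¬ U ^ (p ^ c) = 1 := by
    rw [hpow]
    intro h
    have h1 := congrFun (congrFun h ⟨0, by omega⟩) ⟨p ^ c, by omega⟩
    rw [Matrix.add_apply, Matrix.one_apply_ne (by
      intro h2
      have := congrArg Fin.val h2
      simp at this
      omega)] at h1
    rw [zero_add] at h1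
    have h5 : (Jb F n b ^ (p ^ c)) ⟨0, by omega⟩ ⟨p ^ c, by omega⟩ = 1 := by
      rw [Jb_pow_pos n b _ hpc, if_pos]
      constructor
      · simp
      · show p ^ c < b
        omega
    rw [h5] at h1
    exact one_ne_zero h1
  have hdet : U.det = 1 := by
    apply eq_one_of_ppow_eq_one p _ (c + 1)
    rw [← Matrix.det_pow, hfin, Matrix.det_one]
  obtain ⟨u, hu⟩ : ∃ u : Matrix.SpecialLinearGroup (Fin n) F, u = ⟨U, hdet⟩ := ⟨_, rfl⟩
  have hucoe : (u : Matrix (Fin n) (Fin n) F) = U := by rw [hu]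
  have huo : orderOf u = p ^ (c + 1) := by
    apply orderOf_eq_prime_pow
    · intro h
      apply hnot
      rw [← hucoe, ← Matrix.SpecialLinearGroup.coe_pow, h]
      rfl
    · apply Subtype.ext
      rw [Matrix.SpecialLinearGroup.coe_pow, hucoe, hfin]
      rfl
  apply mul_r_of_commute_dε p n hn r hr hrq hrn u _ (c + 1) huo
  rw [hucoe, hU]
  exact (Commute.one_left _).add_left (Jb_commute n b (by omega))

theorem ppow_lt {F : Type*} [Field F] [Fintype F] (p : ℕ) [Fact p.Prime] [CharP F p]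
    (n : ℕ) (hn : 1 ≤ n) (c : ℕ)
    (w : Matrix.ProjectiveSpecialLinearGroup (Fin n) F) (hw : orderOf w = p ^ (c + 1)) : p ^ c < n := by
  classical
  have hp : p.Prime := Fact.out
  have hne : Nonempty (Fin n) := ⟨⟨0, by omega⟩⟩
  obtain ⟨u₀, rfl⟩ := QuotientGroup.mk_surjective w
  have ho0 : orderOf u₀ ≠ 0 := (orderOf_pos u₀).ne'
  obtain ⟨v, M', hM', hoM⟩ := Nat.exists_eq_pow_mul_and_not_dvd ho0 p hp.ne_one
  have hdvd : p ^ (c + 1) ∣ orderOf u₀ := by
    rw [← hw]
    apply orderOf_dvd_of_pow_eq_one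
    rw [← QuotientGroup.mk_pow, pow_orderOf_eq_one]
    rfl
  have hcv : c + 1 ≤ v := by
    rw [hoM] at hdvd
    have h1 : p ^ (c + 1) ∣ p ^ v := (Nat.Coprime.pow_left (c + 1)
      ((Nat.Prime.coprime_iff_not_dvd hp).2 hM')).dvd_of_dvd_mul_right hdvd
    exact (Nat.pow_dvd_pow_iff_le_right hp.one_lt).1 h1
  obtain ⟨U, hU⟩ : ∃ U : Matrix (Fin n) (Fin n) F,
      U = ((u₀ ^ M' : Matrix.SpecialLinearGroup (Fin n) F) : Matrix (Fin n) (Fin n) F) := ⟨_, rfl⟩
  have hUo : orderOf (u₀ ^ M') = p ^ v := by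
    rw [orderOf_pow_of_dvd (by
      intro h0
      rw [h0, mul_zero] at hoM
      exact ho0 hoM) ⟨p ^ v, by rw [hoM]; ring⟩, hoM, Nat.mul_div_cancel _ (by
      rcases Nat.eq_zero_or_pos M' with h | h
      · rw [h, mul_zero] at hoM
        exact absurd hoM ho0
      · exact h)]
  have hU1 : U ^ (p ^ v) = 1 := by
    rw [hU, ← Matrix.SpecialLinearGroup.coe_pow, ← hUo, pow_orderOf_eq_one]
    rfl
  obtain ⟨v', hv'⟩ : ∃ v', v = v' + 1 := ⟨v - 1, by omega⟩
  have hU2 : U ^ (p ^ v') ≠ 1 := by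
    intro h
    have h1 : (u₀ ^ M') ^ (p ^ v') = 1 := by
      apply Subtype.ext
      rw [Matrix.SpecialLinearGroup.coe_pow, ← hU, h]
      rfl
    have h2 := orderOf_dvd_of_pow_eq_one h1
    rw [hUo, hv'] at h2
    have h3 := Nat.le_of_dvd (pow_pos hp.pos v') h2
    have h4 : p ^ v' < p ^ (v' + 1) := Nat.pow_lt_pow_right hp.one_lt (by omega)
    omega
  have hnil : IsNilpotent (U - 1) := by
    refine ⟨p ^ v, ?_⟩
    rw [sub_pow_char_pow_of_commute _ _ (Commute.one_right _), hU1, one_pow, sub_self]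
  have hN := Cfsg.Agent.S2368.nilp_pow_card (U - 1) hnil
  by_contra hlt
  have hle : n ≤ p ^ v' := by
    have h1 : p ^ c ≤ p ^ v' := Nat.pow_le_pow_right hp.pos (by omega)
    omega
  have h5 : (U - 1) ^ (p ^ v') = 0 := by
    rw [← Nat.sub_add_cancel hle, pow_add, hN, mul_zero]
  rw [sub_pow_char_pow_of_commute _ _ (Commute.one_right _), one_pow, sub_eq_zero] at h5
  exact hU2 h5

theorem r_ne_p {F : Type*} [Field F] [Fintype F] (p : ℕ) [Fact p.Prime] [CharP F p] (r : ℕ)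
    (hrq : r ∣ Fintype.card F - 1) : r ≠ p := by
  have hp : p.Prime := Fact.out
  intro h
  rw [h] at hrq
  obtain ⟨f, -, hf⟩ := FiniteField.card F p
  have h1 : p ∣ Fintype.card F := by
    rw [hf]
    exact dvd_pow_self p f.ne_zero
  have h2 : 1 ≤ Fintype.card F := Fintype.card_pos
  have h3 : p ∣ 1 := by
    have h4 : p ∣ Fintype.card F - 1 + 1 := by
      rw [Nat.sub_add_cancel h2]
      exact h1
    exact (Nat.dvd_add_right hrq).1 h4
  exact hp.one_lt.ne' (Nat.dvd_one.1 h3)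

theorem split_or_mul {F : Type*} [Field F] [Fintype F] (p : ℕ) [Fact p.Prime] [CharP F p] (n : ℕ)
    (hn : 1 ≤ n) (r : ℕ) (hr : r.Prime) (hrq : r ∣ Fintype.card F - 1) (hrn : ¬ r ∣ n)
    (x : Matrix.ProjectiveSpecialLinearGroup (Fin n) F) (hx : ¬ r ∣ orderOf x) :
    (∃ y : Matrix.ProjectiveSpecialLinearGroup (Fin n) F, orderOf y = orderOf x * r) ∨
    (∃ v M : ℕ, orderOf x = p ^ v * M ∧ M.Coprime p ∧
      M ∣ gs (Fintype.card F) n / Nat.gcd n (Fintype.card F - 1) ∧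
      ∃ y : Matrix.ProjectiveSpecialLinearGroup (Fin n) F, orderOf y = p ^ v) := by
  have hp : p.Prime := Fact.out
  obtain ⟨g, rfl⟩ := QuotientGroup.mk_surjective x
  rcases dichotomy p n hn r hr hrq hrn g with ⟨w, hw, hcomm⟩ | hright
  · left
    refine ⟨QuotientGroup.mk g * w, ?_⟩
    have hcop : Nat.Coprime (orderOf (QuotientGroup.mk g : Matrix.ProjectiveSpecialLinearGroup (Fin n) F))
        (orderOf w) := by
      rw [hw]
      exact Nat.Coprime.symm ((Nat.Prime.coprime_iff_not_dvd hr).2 hx)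
    rw [hcomm.orderOf_mul_eq_mul_orderOf_of_coprime hcop, hw]
  · right
    have ho0 : orderOf (QuotientGroup.mk g : Matrix.ProjectiveSpecialLinearGroup (Fin n) F) ≠ 0 :=
      (orderOf_pos _).ne'
    obtain ⟨v, M, hM, hoM⟩ := Nat.exists_eq_pow_mul_and_not_dvd ho0 p hp.ne_one
    have hMcop : M.Coprime p := Nat.Coprime.symm ((Nat.Prime.coprime_iff_not_dvd hp).2 hM)
    refine ⟨v, M, hoM, hMcop, hright M ⟨p ^ v, by rw [hoM]; ring⟩ hMcop, ?_⟩
    refine ⟨(QuotientGroup.mk g : Matrix.ProjectiveSpecialLinearGroup (Fin n) F) ^ M, ?_⟩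
    have hM0 : M ≠ 0 := by
      intro h0
      rw [h0, mul_zero] at hoM
      exact ho0 hoM
    rw [orderOf_pow_of_dvd hM0 ⟨p ^ v, by rw [hoM]; ring⟩, hoM,
      Nat.mul_div_cancel _ (Nat.pos_of_ne_zero hM0)]

theorem eq_of_forall_dvd {X Y : ℕ} (h : ∀ t : ℕ, X ∣ t ↔ Y ∣ t) : X = Y :=
  Nat.dvd_antisymm ((h Y).2 dvd_rfl) ((h X).1 dvd_rfl)

theorem cop_mul_dvd_iff {a b t : ℕ} (h : Nat.Coprime a b) : a * b ∣ t ↔ a ∣ t ∧ b ∣ t :=
  ⟨fun h1 => ⟨dvd_trans (dvd_mul_right a b) h1, dvd_trans (dvd_mul_left b a) h1⟩,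
    fun h1 => h.mul_dvd_of_dvd_of_dvd h1.1 h1.2⟩

theorem lcm_ppow {p a b : ℕ} : ∃ c, Nat.lcm (p ^ a) (p ^ b) = p ^ c ∧ (c = a ∨ c = b) := by
  rcases le_total a b with h | h
  · exact ⟨b, Nat.lcm_eq_right (pow_dvd_pow p h), Or.inr rfl⟩
  · exact ⟨a, Nat.lcm_eq_left (pow_dvd_pow p h), Or.inl rfl⟩

theorem singer_T {F : Type*} [Field F] [Fintype F] (n : ℕ) (hn : 1 ≤ n) (S : ℕ)
    (hS : S ∣ gs (Fintype.card F) n / Nat.gcd n (Fintype.card F - 1)) :
    ∃ y : Matrix.ProjectiveSpecialLinearGroup (Fin n) F, orderOf y = S := by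
  obtain ⟨g, hg⟩ := exists_singer (F := F) n hn
  rw [← hg] at hS
  exact ⟨g ^ (orderOf g / S), orderOf_pow_orderOf_div (orderOf_pos g).ne' hS⟩

theorem claim3 {F : Type*} [Field F] [Fintype F] (p : ℕ) [Fact p.Prime] [CharP F p] (n : ℕ)
    (hn : 2 ≤ n) (r : ℕ) (hr : r.Prime) (hrq : r ∣ Fintype.card F - 1) (hrn : ¬ r ∣ n)
    (a1 a2 a3 : Matrix.ProjectiveSpecialLinearGroup (Fin n) F) :
    ∃ y1 y2 y3 : Matrix.ProjectiveSpecialLinearGroup (Fin n) F,
      Nat.lcm (orderOf y1) (Nat.lcm (orderOf y2) (orderOf y3)) =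
        Nat.lcm (orderOf a1) (Nat.lcm (orderOf a2) (Nat.lcm (orderOf a3) r)) := by
  have hp : p.Prime := Fact.out
  have hrp : r ≠ p := r_ne_p p r hrq
  have hcoprp : ∀ v : ℕ, Nat.Coprime (p ^ v) r :=
    fun v => Nat.Coprime.pow_left v ((Nat.coprime_primes hp hr).2 (Ne.symm hrp))
  by_cases hA : r ∣ Nat.lcm (orderOf a1) (Nat.lcm (orderOf a2) (orderOf a3))
  · refine ⟨a1, a2, a3, ?_⟩
    apply eq_of_forall_dvd
    intro t
    simp only [Nat.lcm_dvd_iff]
    constructor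
    · rintro ⟨h1, h2, h3⟩
      refine ⟨h1, h2, h3, ?_⟩
      exact dvd_trans hA (Nat.lcm_dvd h1 (Nat.lcm_dvd h2 h3))
    · rintro ⟨h1, h2, h3, -⟩
      exact ⟨h1, h2, h3⟩
  · have hr1 : ¬ r ∣ orderOf a1 := fun h => hA (dvd_trans h (Nat.dvd_lcm_left _ _))
    have hr2 : ¬ r ∣ orderOf a2 := fun h =>
      hA (dvd_trans h (dvd_trans (Nat.dvd_lcm_left _ _) (Nat.dvd_lcm_right _ _)))
    have hr3 : ¬ r ∣ orderOf a3 := fun h =>
      hA (dvd_trans h (dvd_trans (Nat.dvd_lcm_right _ _) (Nat.dvd_lcm_right _ _)))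
    have hc1 : Nat.Coprime (orderOf a1) r := Nat.Coprime.symm ((Nat.Prime.coprime_iff_not_dvd hr).2 hr1)
    have hc2 : Nat.Coprime (orderOf a2) r := Nat.Coprime.symm ((Nat.Prime.coprime_iff_not_dvd hr).2 hr2)
    have hc3 : Nat.Coprime (orderOf a3) r := Nat.Coprime.symm ((Nat.Prime.coprime_iff_not_dvd hr).2 hr3)
    rcases split_or_mul p n (by omega) r hr hrq hrn a1 hr1 with ⟨y, hy⟩ | ⟨v1, M1, ho1, hM1, hD1, w1, hw1⟩
    · refine ⟨y, a2, a3, ?_⟩
      rw [hy]
      apply eq_of_forall_dvd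
      intro t
      simp only [Nat.lcm_dvd_iff, cop_mul_dvd_iff hc1]
      all_goals tauto
    rcases split_or_mul p n (by omega) r hr hrq hrn a2 hr2 with ⟨y, hy⟩ | ⟨v2, M2, ho2, hM2, hD2, w2, hw2⟩
    · refine ⟨a1, y, a3, ?_⟩
      rw [hy]
      apply eq_of_forall_dvd
      intro t
      simp only [Nat.lcm_dvd_iff, cop_mul_dvd_iff hc2]
      all_goals tauto
    rcases split_or_mul p n (by omega) r hr hrq hrn a3 hr3 with ⟨y, hy⟩ | ⟨v3, M3, ho3, hM3, hD3, w3, hw3⟩
    · refine ⟨a1, a2, y, ?_⟩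
      rw [hy]
      apply eq_of_forall_dvd
      intro t
      simp only [Nat.lcm_dvd_iff, cop_mul_dvd_iff hc3]
      all_goals tauto
    obtain ⟨y1, hy1⟩ := singer_T (F := F) n (by omega) (Nat.lcm M1 (Nat.lcm M2 M3))
      (Nat.lcm_dvd hD1 (Nat.lcm_dvd hD2 hD3))
    obtain ⟨c23, hc23, hc23'⟩ := lcm_ppow (p := p) (a := v2) (b := v3)
    obtain ⟨c, hc, hc'⟩ := lcm_ppow (p := p) (a := v1) (b := c23)
    have hy2 : ∃ y2 : Matrix.ProjectiveSpecialLinearGroup (Fin n) F, orderOf y2 = p ^ c := by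
      rcases hc' with h | h
      · exact ⟨w1, by rw [hw1, h]⟩
      · rcases hc23' with h' | h'
        · exact ⟨w2, by rw [hw2, h, h']⟩
        · exact ⟨w3, by rw [hw3, h, h']⟩
    obtain ⟨y2, hy2⟩ := hy2
    obtain ⟨y3, hy3⟩ := r_T p n hn r hr hrq hrn
    refine ⟨y1, y2, y3, ?_⟩
    rw [hy1, hy2, hy3, ho1, ho2, ho3, ← hc, ← hc23]
    apply eq_of_forall_dvd
    intro t
    simp only [Nat.lcm_dvd_iff, cop_mul_dvd_iff (Nat.Coprime.pow_left v1 hM1.symm),
      cop_mul_dvd_iff (Nat.Coprime.pow_left v2 hM2.symm), cop_mul_dvd_iff (Nat.Coprime.pow_left v3 hM3.symm)]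
    all_goals tauto

theorem claim2 {F : Type*} [Field F] [Fintype F] (p : ℕ) [Fact p.Prime] [CharP F p] (n : ℕ)
    (hn : 2 ≤ n) (r : ℕ) (hr : r.Prime) (hrq : r ∣ Fintype.card F - 1) (hrn : ¬ r ∣ n)
    (hnp : ¬ ∃ j : ℕ, n - 1 = p ^ j)
    (a1 a2 : Matrix.ProjectiveSpecialLinearGroup (Fin n) F) :
    ∃ y1 y2 : Matrix.ProjectiveSpecialLinearGroup (Fin n) F,
      Nat.lcm (orderOf y1) (orderOf y2) =
        Nat.lcm (orderOf a1) (Nat.lcm (orderOf a2) r) := by
  have hp : p.Prime := Fact.out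
  have hrp : r ≠ p := r_ne_p p r hrq
  have hcoprp : ∀ v : ℕ, Nat.Coprime (p ^ v) r :=
    fun v => Nat.Coprime.pow_left v ((Nat.coprime_primes hp hr).2 (Ne.symm hrp))
  by_cases hA : r ∣ Nat.lcm (orderOf a1) (orderOf a2)
  · refine ⟨a1, a2, ?_⟩
    apply eq_of_forall_dvd
    intro t
    simp only [Nat.lcm_dvd_iff]
    constructor
    · rintro ⟨h1, h2⟩
      exact ⟨h1, h2, dvd_trans hA (Nat.lcm_dvd h1 h2)⟩
    · rintro ⟨h1, h2, -⟩
      exact ⟨h1, h2⟩
  · have hr1 : ¬ r ∣ orderOf a1 := fun h => hA (dvd_trans h (Nat.dvd_lcm_left _ _))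
    have hr2 : ¬ r ∣ orderOf a2 := fun h => hA (dvd_trans h (Nat.dvd_lcm_right _ _))
    have hc1 : Nat.Coprime (orderOf a1) r := Nat.Coprime.symm ((Nat.Prime.coprime_iff_not_dvd hr).2 hr1)
    have hc2 : Nat.Coprime (orderOf a2) r := Nat.Coprime.symm ((Nat.Prime.coprime_iff_not_dvd hr).2 hr2)
    rcases split_or_mul p n (by omega) r hr hrq hrn a1 hr1 with ⟨y, hy⟩ | ⟨v1, M1, ho1, hM1, hD1, w1, hw1⟩
    · refine ⟨y, a2, ?_⟩
      rw [hy]
      apply eq_of_forall_dvd
      intro t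
      simp only [Nat.lcm_dvd_iff, cop_mul_dvd_iff hc1]
      all_goals tauto
    rcases split_or_mul p n (by omega) r hr hrq hrn a2 hr2 with ⟨y, hy⟩ | ⟨v2, M2, ho2, hM2, hD2, w2, hw2⟩
    · refine ⟨a1, y, ?_⟩
      rw [hy]
      apply eq_of_forall_dvd
      intro t
      simp only [Nat.lcm_dvd_iff, cop_mul_dvd_iff hc2]
      all_goals tauto
    obtain ⟨y1, hy1⟩ := singer_T (F := F) n (by omega) (Nat.lcm M1 M2) (Nat.lcm_dvd hD1 hD2)
    obtain ⟨c, hc, hc'⟩ := lcm_ppow (p := p) (a := v1) (b := v2)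
    have hwc : ∃ w : Matrix.ProjectiveSpecialLinearGroup (Fin n) F, orderOf w = p ^ c := by
      rcases hc' with h | h
      · exact ⟨w1, by rw [hw1, h]⟩
      · exact ⟨w2, by rw [hw2, h]⟩
    obtain ⟨w, hw⟩ := hwc
    have hy2 : ∃ y2 : Matrix.ProjectiveSpecialLinearGroup (Fin n) F, orderOf y2 = p ^ c * r := by
      rcases Nat.eq_zero_or_pos c with h0 | h0
      · obtain ⟨y3, hy3⟩ := r_T p n hn r hr hrq hrn
        exact ⟨y3, by rw [hy3, h0, pow_zero, one_mul]⟩
      · obtain ⟨c0, rfl⟩ : ∃ c0, c = c0 + 1 := ⟨c - 1, by omega⟩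
        have hlt := ppow_lt p n (by omega) c0 w hw
        have hne : p ^ c0 ≠ n - 1 := fun h => hnp ⟨c0, h.symm⟩
        exact pr_T p n hn r hr hrq hrn c0 (by omega)
    obtain ⟨y2, hy2⟩ := hy2
    refine ⟨y1, y2, ?_⟩
    rw [hy1, hy2, ho1, ho2, ← hc]
    apply eq_of_forall_dvd
    intro t
    have hcc : Nat.Coprime (Nat.lcm (p ^ v1) (p ^ v2)) r := by
      rw [hc]
      exact hcoprp c
    simp only [Nat.lcm_dvd_iff, cop_mul_dvd_iff (Nat.Coprime.pow_left v1 hM1.symm),
      cop_mul_dvd_iff (Nat.Coprime.pow_left v2 hM2.symm), cop_mul_dvd_iff hcc]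
    all_goals tauto

theorem orderOf_zr {m r : ℕ} (hr : r.Prime) (z : Multiplicative (Fin m → ZMod r)) :
    orderOf z = 1 ∨ orderOf z = r := by
  have h1 : z ^ r = 1 := by
    have hne : NeZero r := ⟨hr.ne_zero⟩
    apply Multiplicative.toAdd.injective
    rw [toAdd_pow, toAdd_one]
    funext i
    rw [Pi.smul_apply, nsmul_eq_mul, CharP.cast_eq_zero, zero_mul]
    rfl
  exact (Nat.dvd_prime hr).1 (orderOf_dvd_of_pow_eq_one h1)

end Cfsg.Agent.Lib.helper15.PslMix
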