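import Mathlib
import Cfsg.Agent.Lib.Helper16.GUSemi9
import Cfsg.Agent.Lib.Helper16.UExist2
import Cfsg.Agent.S0279
import Cfsg.Agent.Lib.helper15.PslMix

set_option autoImplicit false

namespace Cfsg.Agent.Lib.helper15.UBase

open Matrix Polynomial Cfsg.Agent.Lib.Helper16.RN

theorem frob_data {K : Type*} [Field K] [Fintype K] {q : ℕ} (hK : Fintype.card K = q ^ 2) :
    ∃ σ : K →+* K, (∀ x, σ x = x ^ q) ∧ (∀ x, σ (σ x) = x) := by
  obtain ⟨σ, hσ⟩ := Cfsg.Agent.Lib.Lead.exists_frob hK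
  exact ⟨σ, hσ, Cfsg.Agent.Lib.Lead.frob_frob hK σ hσ⟩

theorem mem_SU_iff_adj {K : Type*} [Field K] {n q : ℕ} (σ : K →+* K) (hσ : ∀ x, σ x = x ^ q)
    (hσσ : ∀ x, σ (σ x) = x) (g : Matrix.SpecialLinearGroup (Fin n) K) :
    g ∈ Cfsg.SU n K q ↔ (uAdj n σ hσσ).adj g.1 * g.1 = 1 := by
  rw [Cfsg.Agent.S0279.mem_SU_iff' σ hσ, uAdj_apply]
  constructor
  · intro h
    have := congrArg Matrix.transpose h
    rw [Matrix.transpose_mul, Matrix.transpose_transpose, Matrix.transpose_one] at this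
    exact this
  · intro h
    have := congrArg Matrix.transpose h
    rw [Matrix.transpose_mul, Matrix.transpose_transpose, Matrix.transpose_one] at this
    exact this

theorem rank_adj {K : Type*} [Field K] [Fintype K] {n : ℕ} (σ : K →+* K)
    (hσσ : ∀ x, σ (σ x) = x) (X : Matrix (Fin n) (Fin n) K) :
    ((uAdj n σ hσσ).adj X).rank = X.rank := by
  have h1 := Cfsg.Agent.Lib.Helper16.FCR.card_ker_adj σ hσσ X
  rw [Cfsg.Agent.Lib.Helper16.FCR.card_ker_eq_rank, Cfsg.Agent.Lib.Helper16.FCR.card_ker_eq_rank] at h1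
  have h2 := Nat.pow_right_injective (Fintype.one_lt_card : 1 < Fintype.card K) h1
  have h3 : ((X.map σ)ᵀ).rank ≤ n := by
    have := Matrix.rank_le_card_width ((X.map σ)ᵀ)
    rwa [Fintype.card_fin] at this
  have h4 : X.rank ≤ n := by
    have := Matrix.rank_le_card_width X
    rwa [Fintype.card_fin] at this
  rw [uAdj_apply]
  omega

theorem det_adj {K : Type*} [Field K] {n : ℕ} (σ : K →+* K)
    (hσσ : ∀ x, σ (σ x) = x) (X : Matrix (Fin n) (Fin n) K) :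
    ((uAdj n σ hσσ).adj X).det = σ X.det := by
  rw [uAdj_apply, Matrix.det_transpose, RingHom.map_det]
  rfl

theorem adj_smul_one {K : Type*} [Field K] {n : ℕ} (σ : K →+* K)
    (hσσ : ∀ x, σ (σ x) = x) (c : K) :
    (uAdj n σ hσσ).adj (c • (1 : Matrix (Fin n) (Fin n) K)) = σ c • 1 := by
  rw [(uAdj n σ hσσ).smul', (uAdj n σ hσσ).one']
  rfl

def mkSU {K : Type*} [Field K] {n q : ℕ} (σ : K →+* K) (hσ : ∀ x, σ x = x ^ q)
    (hσσ : ∀ x, σ (σ x) = x) (M : Matrix (Fin n) (Fin n) K) (hdet : M.det = 1)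
    (hM : (uAdj n σ hσσ).adj M * M = 1) : Cfsg.SU n K q :=
  ⟨⟨M, hdet⟩, (mem_SU_iff_adj σ hσ hσσ _).2 hM⟩

theorem mkSU_coe {K : Type*} [Field K] {n q : ℕ} (σ : K →+* K) (hσ : ∀ x, σ x = x ^ q)
    (hσσ : ∀ x, σ (σ x) = x) (M : Matrix (Fin n) (Fin n) K) (hdet : M.det = 1)
    (hM : (uAdj n σ hσσ).adj M * M = 1) :
    ((mkSU σ hσ hσσ M hdet hM : Cfsg.SU n K q).1 : Matrix (Fin n) (Fin n) K) = M := rfl

theorem coe_pow_SU {K : Type*} [Field K] {n q : ℕ} (g : Cfsg.SU n K q) (k : ℕ) :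
    (((g ^ k : Cfsg.SU n K q).1 : Matrix.SpecialLinearGroup (Fin n) K) : Matrix (Fin n) (Fin n) K) =
      (g.1 : Matrix (Fin n) (Fin n) K) ^ k := by
  rw [Subgroup.coe_pow, Matrix.SpecialLinearGroup.coe_pow]

theorem mk_pow_eq_one_iff {K : Type*} [Field K] [Fintype K] {n q : ℕ} (hK : Fintype.card K = q ^ 2)
    (hn : 2 ≤ n) (g : Cfsg.SU n K q) (k : ℕ) :
    (QuotientGroup.mk g : Cfsg.PSU n K q) ^ k = 1 ↔
      ∃ c : K, (g.1 : Matrix (Fin n) (Fin n) K) ^ k = c • 1 := by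
  rw [← QuotientGroup.mk_pow, QuotientGroup.eq_one_iff]
  constructor
  · intro h
    rw [Subgroup.mem_center_iff] at h
    obtain ⟨l, hl⟩ := Cfsg.Agent.S0279.central_is_scalar hK hn (g ^ k).1 (by
      intro B hB
      have := h ⟨B, hB⟩
      have h2 := congrArg Subtype.val this
      exact h2.symm)
    refine ⟨l, ?_⟩
    rw [← coe_pow_SU, hl]
    ext i j
    simp [Matrix.scalar, Matrix.smul_apply, Matrix.one_apply, Matrix.diagonal_apply]
  · rintro ⟨c, hc⟩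
    rw [Subgroup.mem_center_iff]
    intro B
    apply Subtype.ext
    apply Subtype.ext
    show (B.1 : Matrix (Fin n) (Fin n) K) * ((g ^ k : Cfsg.SU n K q).1 : Matrix (Fin n) (Fin n) K) =
      ((g ^ k : Cfsg.SU n K q).1 : Matrix (Fin n) (Fin n) K) * (B.1 : Matrix (Fin n) (Fin n) K)
    rw [coe_pow_SU, hc, Matrix.mul_smul, Matrix.smul_mul, Matrix.mul_one, Matrix.one_mul]

theorem commute_mk {K : Type*} [Field K] {n q : ℕ} (g h : Cfsg.SU n K q)
    (hc : Commute (g.1 : Matrix (Fin n) (Fin n) K) (h.1 : Matrix (Fin n) (Fin n) K)) :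
    Commute (QuotientGroup.mk g : Cfsg.PSU n K q) (QuotientGroup.mk h) := by
  have hgh : Commute g h := by
    apply Subtype.ext
    apply Subtype.ext
    exact hc
  show (QuotientGroup.mk g : Cfsg.PSU n K q) * QuotientGroup.mk h = QuotientGroup.mk h * QuotientGroup.mk g
  rw [← QuotientGroup.mk_mul, ← QuotientGroup.mk_mul, hgh.eq]

theorem SU_adj {K : Type*} [Field K] {n q : ℕ} (σ : K →+* K) (hσ : ∀ x, σ x = x ^ q)
    (hσσ : ∀ x, σ (σ x) = x) (g : Cfsg.SU n K q) :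
    (uAdj n σ hσσ).adj (g.1 : Matrix (Fin n) (Fin n) K) * (g.1 : Matrix (Fin n) (Fin n) K) = 1 :=
  (mem_SU_iff_adj σ hσ hσσ g.1).1 g.2

end Cfsg.Agent.Lib.helper15.UBase
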