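import Mathlib
import Cfsg.Agent.Lib.helper15.UBase

set_option autoImplicit false

namespace Cfsg.Agent.Lib.helper15.UBlk

open Matrix Polynomial Cfsg.Agent.Lib.Helper16.RN Cfsg.Agent.Lib.helper15.UBase

variable {K : Type*} [Field K] {b k : ℕ}

def blk (X : Matrix (Fin b) (Fin b) K) (Y : Matrix (Fin k) (Fin k) K) :
    Matrix (Fin (b + k)) (Fin (b + k)) K :=
  Matrix.reindex finSumFinEquiv finSumFinEquiv (Matrix.fromBlocks X 0 0 Y)

theorem blk_mul (X X' : Matrix (Fin b) (Fin b) K) (Y Y' : Matrix (Fin k) (Fin k) K) :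
    blk X Y * blk X' Y' = blk (X * X') (Y * Y') := by
  unfold blk
  rw [Matrix.reindex_apply, Matrix.reindex_apply, Matrix.submatrix_mul_equiv, Matrix.fromBlocks_multiply,
    Matrix.reindex_apply]
  simp

theorem blk_one : blk (1 : Matrix (Fin b) (Fin b) K) (1 : Matrix (Fin k) (Fin k) K) = 1 := by
  unfold blk
  rw [Matrix.fromBlocks_one, Matrix.reindex_apply, Matrix.submatrix_one_equiv]

theorem blk_sub (X X' : Matrix (Fin b) (Fin b) K) (Y Y' : Matrix (Fin k) (Fin k) K) :
    blk X Y - blk X' Y' = blk (X - X') (Y - Y') := by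
  unfold blk
  rw [Matrix.reindex_apply, Matrix.reindex_apply, Matrix.reindex_apply]
  ext i j
  rw [Matrix.sub_apply, Matrix.submatrix_apply, Matrix.submatrix_apply, Matrix.submatrix_apply]
  rcases (finSumFinEquiv.symm i) with i' | i' <;> rcases (finSumFinEquiv.symm j) with j' | j' <;> simp

theorem blk_pow (X : Matrix (Fin b) (Fin b) K) (Y : Matrix (Fin k) (Fin k) K) (t : ℕ) :
    blk X Y ^ t = blk (X ^ t) (Y ^ t) := by
  induction t with
  | zero => rw [pow_zero, pow_zero, pow_zero, blk_one]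
  | succ t ih => rw [pow_succ, ih, blk_mul, ← pow_succ, ← pow_succ]

theorem blk_det (X : Matrix (Fin b) (Fin b) K) (Y : Matrix (Fin k) (Fin k) K) :
    (blk X Y).det = X.det * Y.det := by
  unfold blk
  rw [Matrix.det_reindex_self, Matrix.det_fromBlocks_zero₂₁]

theorem blk_inj (X X' : Matrix (Fin b) (Fin b) K) (Y Y' : Matrix (Fin k) (Fin k) K)
    (h : blk X Y = blk X' Y') : X = X' ∧ Y = Y' := by
  unfold blk at h
  have h1 := (Matrix.reindex finSumFinEquiv finSumFinEquiv).injective h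
  rw [Matrix.fromBlocks_inj] at h1
  exact ⟨h1.1, h1.2.2.2⟩

theorem blk_adj (σ : K →+* K) (hσσ : ∀ x, σ (σ x) = x) (X : Matrix (Fin b) (Fin b) K)
    (Y : Matrix (Fin k) (Fin k) K) :
    (uAdj (b + k) σ hσσ).adj (blk X Y) = blk ((uAdj b σ hσσ).adj X) ((uAdj k σ hσσ).adj Y) := by
  rw [uAdj_apply, uAdj_apply, uAdj_apply]
  unfold blk
  rw [Matrix.reindex_apply, Matrix.reindex_apply, ← Matrix.submatrix_map, Matrix.transpose_submatrix,
    Matrix.fromBlocks_map, Matrix.fromBlocks_transpose]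
  congr 2
  · ext i j; simp
  · ext i j; simp

theorem blk_zero : blk (0 : Matrix (Fin b) (Fin b) K) (0 : Matrix (Fin k) (Fin k) K) = 0 := by
  unfold blk
  rw [Matrix.fromBlocks_zero, Matrix.reindex_apply, Matrix.submatrix_zero]
  rfl

variable {K : Type*} [Field K] {b k : ℕ}

theorem blk_smul (c : K) (X : Matrix (Fin b) (Fin b) K) (Y : Matrix (Fin k) (Fin k) K) :
    blk (c • X) (c • Y) = c • blk X Y := by
  unfold blk
  rw [Matrix.reindex_apply, Matrix.reindex_apply]
  ext i j
  rw [Matrix.smul_apply, Matrix.submatrix_apply, Matrix.submatrix_apply]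
  rcases (finSumFinEquiv.symm i) with i' | i' <;> rcases (finSumFinEquiv.symm j) with j' | j' <;> simp

def swapM (K : Type*) [Field K] (m : ℕ) : Matrix (Fin (m + m)) (Fin (m + m)) K :=
  Matrix.reindex finSumFinEquiv finSumFinEquiv (Matrix.fromBlocks 0 1 1 0)

theorem swapM_mul_blk {m : ℕ} (X Y : Matrix (Fin m) (Fin m) K) :
    swapM K m * blk X Y = blk Y X * swapM K m := by
  unfold swapM blk
  rw [Matrix.reindex_apply, Matrix.reindex_apply, Matrix.reindex_apply, Matrix.submatrix_mul_equiv,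
    Matrix.submatrix_mul_equiv, Matrix.fromBlocks_multiply, Matrix.fromBlocks_multiply]
  simp

theorem swapM_mul_swapM {m : ℕ} : swapM K m * swapM K m = 1 := by
  unfold swapM
  rw [Matrix.reindex_apply, Matrix.submatrix_mul_equiv, Matrix.fromBlocks_multiply]
  simp [Matrix.fromBlocks_one]

end Cfsg.Agent.Lib.helper15.UBlk
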