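import Mathlib
import Cfsg.Agent.Lib.Helper10.PGM.Defs
import Cfsg.Agent.Lib.Helper10.PGMNat0
import Cfsg.Agent.Lib.helper15.UBlk

/-! Project PGM (designer helper10, S2263), row AC2d `ac_two_d` (helper15). -/

set_option autoImplicit false

namespace Cfsg.Agent.Lib.Helper10.PGM

open Matrix Cfsg.Agent.Lib.helper15.UNat Cfsg.Agent.Lib.helper15.UBlk

universe u

/-- `p ^ clog p 3 ≤ q` for `q = p ^ f ≥ 3` -/
theorem pgmac2d_pclog (p f : ℕ) (hp : 2 ≤ p) (hf : 1 ≤ f) (hq3 : 3 ≤ p ^ f) :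
    p ^ Nat.clog p 3 ≤ p ^ f := by
  apply Nat.pow_le_pow_right (by omega)
  rcases Nat.lt_or_ge p 3 with h | h
  · have hp2 : p = 2 := by omega
    subst hp2
    have hf2 : 2 ≤ f := by
      by_contra hlt
      have : f = 1 := by omega
      subst this
      norm_num at hq3
    apply Nat.clog_le_of_le_pow
    calc 3 ≤ 2 ^ 2 := by norm_num
      _ ≤ 2 ^ f := Nat.pow_le_pow_right (by norm_num) hf2
  · apply Nat.clog_le_of_le_pow
    calc 3 ≤ p := h
      _ = p ^ 1 := (pow_one p).symm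
      _ ≤ p ^ f := Nat.pow_le_pow_right (by omega) hf

/-- AC2d : two orbits, `(l₁, m₁) = (1, 3)` (tight for `d` even, `q = 2`) -/
theorem ac_two_d (p f d : ℕ) (hp : p.Prime) (hf : 1 ≤ f) (hd : 3 ≤ d)
    (l₂ m₂ : ℕ) (h3 : 1 ≤ l₂) (h4 : 1 ≤ m₂) (hm : m₂ ≤ 3)
    (hsum : 1 * 3 + l₂ * m₂ = d) :
    p ^ Nat.clog p 3 * Nat.lcm (Qn (p ^ f) 1) (Qn (p ^ f) l₂) ≤ Mx p f d := by
  have hp2 : 2 ≤ p := hp.two_le
  have hq2 : 2 ≤ p ^ f := by
    calc 2 ≤ p := hp2
      _ = p ^ 1 := (pow_one p).symm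
      _ ≤ p ^ f := Nat.pow_le_pow_right (by omega) hf
  have hQ1 : Qn (p ^ f) 1 = p ^ f + 1 := by
    rw [Qn_odd _ 1 (by decide), pow_one]
  have hlcm : Nat.lcm (Qn (p ^ f) 1) (Qn (p ^ f) l₂) = Qn (p ^ f) l₂ := by
    rw [hQ1]
    exact Nat.lcm_eq_right (succ_dvd_Qn _ l₂ (by omega))
  rw [hlcm]
  have hl2 : l₂ ≤ d - 3 := by
    have : l₂ * 1 ≤ l₂ * m₂ := Nat.mul_le_mul_left _ h4
    omega
  have hd4 : 4 ≤ d := by
    have : 1 * 1 ≤ l₂ * m₂ := Nat.mul_le_mul h3 h4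
    omega
  have hQle : Qn (p ^ f) l₂ ≤ (p ^ f) ^ l₂ + 1 := Qn_le _ _
  by_cases hq3 : 3 ≤ p ^ f
  · -- `q ≥ 3`
    refine le_trans ?_ (Mx_ge p f d hp2 hf (by omega))
    have h1 := pgmac2d_pclog p f hp2 hf hq3
    generalize p ^ f = q at *
    have h2 : q ^ l₂ ≤ q ^ (d - 3) := Nat.pow_le_pow_right (by omega) hl2
    have h5 : q ^ (d - 1) = q * q * q ^ (d - 3) := by
      have : d - 1 = (d - 3) + 1 + 1 := by omega
      rw [this, pow_succ, pow_succ]; ring
    have h6 : 1 ≤ q ^ (d - 3) := Nat.one_le_pow _ _ (by omega)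
    have h7 : q ≤ q ^ (d - 3) := by
      calc q = q ^ 1 := (pow_one q).symm
        _ ≤ q ^ (d - 3) := Nat.pow_le_pow_right (by omega) (by omega)
    have h8 : p ^ Nat.clog p 3 * Qn q l₂ ≤ q * (q ^ (d - 3) + 1) :=
      Nat.mul_le_mul h1 (le_trans hQle (by omega))
    have h9 : q * (q ^ (d - 3) + 1) + 1 ≤ q ^ (d - 1) := by
      rw [h5]
      generalize q ^ (d - 3) = X at *
      have e1 : q * q * X = q * (q * X) := by ring
      have e2 : 3 * (q * X) ≤ q * (q * X) := Nat.mul_le_mul_right _ hq3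
      have e3 : q * 1 ≤ q * X := Nat.mul_le_mul_left _ h6
      have e4 : q * (X + 1) = q * X + q := by ring
      rw [e1, e4]
      omega
    omega
  · -- `q = 2`
    have hq : p ^ f = 2 := by omega
    have hp' : p = 2 := by
      have : p ≤ p ^ f := by
        calc p = p ^ 1 := (pow_one p).symm
          _ ≤ p ^ f := Nat.pow_le_pow_right (by omega) hf
      omega
    subst hp'
    have hf' : f = 1 := by
      have : (2 : ℕ) ^ f = 2 ^ 1 := by rw [hq, pow_one]
      exact Nat.pow_right_injective (le_refl 2) this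
    subst hf'
    have hcl : Nat.clog 2 3 = 2 := by decide
    rw [hcl]
    norm_num at hQle ⊢
    have h2 : 2 ^ l₂ ≤ 2 ^ (d - 3) := Nat.pow_le_pow_right (by omega) hl2
    unfold Mx
    rcases Nat.even_or_odd d with hde | hdo
    · rw [if_neg (Nat.not_odd_iff_even.mpr hde), if_neg (by norm_num)]
      omega
    · rw [if_pos hdo, if_neg (by norm_num)]
      have h5 : 2 ^ (d - 2) = 2 * 2 ^ (d - 3) := by
        have : d - 2 = (d - 3) + 1 := by omega
        rw [this, pow_succ]; ring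
      rcases Nat.lt_or_ge l₂ (d - 3) with hlt | hge
      · have h6 : 2 ^ l₂ ≤ 2 ^ (d - 4) := Nat.pow_le_pow_right (by omega) (by omega)
        have h7 : 2 ^ (d - 3) = 2 * 2 ^ (d - 4) := by
          have : d - 3 = (d - 4) + 1 := by omega
          rw [this, pow_succ]; ring
        have h8 : 1 ≤ 2 ^ (d - 4) := Nat.one_le_pow _ _ (by norm_num)
        omega
      · have hl : l₂ = d - 3 := by omega
        have hev : Even l₂ := by
          rw [hl]
          obtain ⟨t, ht⟩ := hdo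
          exact ⟨t - 1, by omega⟩
        rw [Qn_even _ _ hev, hl]
        have h8 : 1 ≤ 2 ^ (d - 3) := Nat.one_le_pow _ _ (by norm_num)
        omega

end Cfsg.Agent.Lib.Helper10.PGM
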