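import Mathlib
import Cfsg.Agent.Lib.helper15.PslMix

set_option autoImplicit false

namespace Cfsg.Agent.Lib.helper15.MixAbs

open Cfsg.Agent.Lib.helper15.PslMix

theorem torus_T {G : Type*} [Group G] [Finite G] (D : ℕ)
    (hT : ∃ g : G, orderOf g = D) (S : ℕ) (hS : S ∣ D) : ∃ y : G, orderOf y = S := by
  obtain ⟨g, hg⟩ := hT
  rw [← hg] at hS
  exact ⟨g ^ (orderOf g / S), orderOf_pow_orderOf_div (orderOf_pos g).ne' hS⟩

theorem split_of_dich {G : Type*} [Group G] [Finite G] (p r D : ℕ) (hp : p.Prime) (hr : r.Prime)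
    (hdich : ∀ x : G, (∃ w : G, orderOf w = r ∧ Commute x w) ∨
      (∀ M : ℕ, M ∣ orderOf x → M.Coprime p → M ∣ D))
    (x : G) (hx : ¬ r ∣ orderOf x) :
    (∃ y : G, orderOf y = orderOf x * r) ∨
    (∃ v M : ℕ, orderOf x = p ^ v * M ∧ M.Coprime p ∧ M ∣ D ∧ ∃ y : G, orderOf y = p ^ v) := by
  rcases hdich x with ⟨w, hw, hcomm⟩ | hright
  · left
    refine ⟨x * w, ?_⟩
    have hcop : Nat.Coprime (orderOf x) (orderOf w) := by
      rw [hw]
      exact Nat.Coprime.symm ((Nat.Prime.coprime_iff_not_dvd hr).2 hx)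
    rw [hcomm.orderOf_mul_eq_mul_orderOf_of_coprime hcop, hw]
  · right
    have ho0 : orderOf x ≠ 0 := (orderOf_pos _).ne'
    obtain ⟨v, M, hM, hoM⟩ := Nat.exists_eq_pow_mul_and_not_dvd ho0 p hp.ne_one
    have hMcop : M.Coprime p := Nat.Coprime.symm ((Nat.Prime.coprime_iff_not_dvd hp).2 hM)
    refine ⟨v, M, hoM, hMcop, hright M ⟨p ^ v, by rw [hoM]; ring⟩ hMcop, ?_⟩
    refine ⟨x ^ M, ?_⟩
    have hM0 : M ≠ 0 := by
      intro h0
      rw [h0, mul_zero] at hoM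
      exact ho0 hoM
    rw [orderOf_pow_of_dvd hM0 ⟨p ^ v, by rw [hoM]; ring⟩, hoM,
      Nat.mul_div_cancel _ (Nat.pos_of_ne_zero hM0)]

theorem claim3_abs {G : Type*} [Group G] [Finite G] (p r D : ℕ) (hp : p.Prime) (hr : r.Prime)
    (hrp : r ≠ p)
    (hsplit : ∀ x : G, ¬ r ∣ orderOf x → (∃ y : G, orderOf y = orderOf x * r) ∨
      (∃ v M : ℕ, orderOf x = p ^ v * M ∧ M.Coprime p ∧ M ∣ D ∧ ∃ y : G, orderOf y = p ^ v))
    (hT : ∃ g : G, orderOf g = D) (hrT : ∃ y : G, orderOf y = r)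
    (a1 a2 a3 : G) :
    ∃ y1 y2 y3 : G,
      Nat.lcm (orderOf y1) (Nat.lcm (orderOf y2) (orderOf y3)) =
        Nat.lcm (orderOf a1) (Nat.lcm (orderOf a2) (Nat.lcm (orderOf a3) r)) := by
  have hcoprp : ∀ v : ℕ, Nat.Coprime (p ^ v) r :=
    fun v => Nat.Coprime.pow_left v ((Nat.coprime_primes hp hr).2 (Ne.symm hrp))
  by_cases hA : r ∣ Nat.lcm (orderOf a1) (Nat.lcm (orderOf a2) (orderOf a3))
  · refine ⟨a1, a2, a3, ?_⟩
    apply PslMix.eq_of_forall_dvd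
    intro t
    simp only [Nat.lcm_dvd_iff]
    constructor
    · rintro ⟨h1, h2, h3⟩
      refine ⟨h1, h2, h3, ?_⟩
      exact dvd_trans hA (Nat.lcm_dvd h1 (Nat.lcm_dvd h2 h3))
    · rintro ⟨h1, h2, h3, -⟩
      exact ⟨h1, h2, h3⟩
  · have hr1 : ¬ r ∣ orderOf a1 := fun h => hA (dvd_trans h (Nat.dvd_lcm_left _ _))
    have hr2 : ¬ r ∣ orderOf a2 := fun h =>
      hA (dvd_trans h (dvd_trans (Nat.dvd_lcm_left _ _) (Nat.dvd_lcm_right _ _)))
    have hr3 : ¬ r ∣ orderOf a3 := fun h =>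
      hA (dvd_trans h (dvd_trans (Nat.dvd_lcm_right _ _) (Nat.dvd_lcm_right _ _)))
    have hc1 : Nat.Coprime (orderOf a1) r := Nat.Coprime.symm ((Nat.Prime.coprime_iff_not_dvd hr).2 hr1)
    have hc2 : Nat.Coprime (orderOf a2) r := Nat.Coprime.symm ((Nat.Prime.coprime_iff_not_dvd hr).2 hr2)
    have hc3 : Nat.Coprime (orderOf a3) r := Nat.Coprime.symm ((Nat.Prime.coprime_iff_not_dvd hr).2 hr3)
    rcases hsplit a1 hr1 with ⟨y, hy⟩ | ⟨v1, M1, ho1, hM1, hD1, w1, hw1⟩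
    · refine ⟨y, a2, a3, ?_⟩
      rw [hy]
      apply PslMix.eq_of_forall_dvd
      intro t
      simp only [Nat.lcm_dvd_iff, cop_mul_dvd_iff hc1]
      all_goals tauto
    rcases hsplit a2 hr2 with ⟨y, hy⟩ | ⟨v2, M2, ho2, hM2, hD2, w2, hw2⟩
    · refine ⟨a1, y, a3, ?_⟩
      rw [hy]
      apply PslMix.eq_of_forall_dvd
      intro t
      simp only [Nat.lcm_dvd_iff, cop_mul_dvd_iff hc2]
      all_goals tauto
    rcases hsplit a3 hr3 with ⟨y, hy⟩ | ⟨v3, M3, ho3, hM3, hD3, w3, hw3⟩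
    · refine ⟨a1, a2, y, ?_⟩
      rw [hy]
      apply PslMix.eq_of_forall_dvd
      intro t
      simp only [Nat.lcm_dvd_iff, cop_mul_dvd_iff hc3]
      all_goals tauto
    obtain ⟨y1, hy1⟩ := torus_T (G := G) D hT (Nat.lcm M1 (Nat.lcm M2 M3))
      (Nat.lcm_dvd hD1 (Nat.lcm_dvd hD2 hD3))
    obtain ⟨c23, hc23, hc23'⟩ := lcm_ppow (p := p) (a := v2) (b := v3)
    obtain ⟨c, hc, hc'⟩ := lcm_ppow (p := p) (a := v1) (b := c23)
    have hy2 : ∃ y2 : G, orderOf y2 = p ^ c := by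
      rcases hc' with h | h
      · exact ⟨w1, by rw [hw1, h]⟩
      · rcases hc23' with h' | h'
        · exact ⟨w2, by rw [hw2, h, h']⟩
        · exact ⟨w3, by rw [hw3, h, h']⟩
    obtain ⟨y2, hy2⟩ := hy2
    obtain ⟨y3, hy3⟩ := hrT
    refine ⟨y1, y2, y3, ?_⟩
    rw [hy1, hy2, hy3, ho1, ho2, ho3, ← hc, ← hc23]
    apply PslMix.eq_of_forall_dvd
    intro t
    simp only [Nat.lcm_dvd_iff, cop_mul_dvd_iff (Nat.Coprime.pow_left v1 hM1.symm),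
      cop_mul_dvd_iff (Nat.Coprime.pow_left v2 hM2.symm), cop_mul_dvd_iff (Nat.Coprime.pow_left v3 hM3.symm)]
    all_goals tauto

theorem claim2_abs {G : Type*} [Group G] [Finite G] (p r D : ℕ) (hp : p.Prime) (hr : r.Prime)
    (hrp : r ≠ p)
    (hsplit : ∀ x : G, ¬ r ∣ orderOf x → (∃ y : G, orderOf y = orderOf x * r) ∨
      (∃ v M : ℕ, orderOf x = p ^ v * M ∧ M.Coprime p ∧ M ∣ D ∧ ∃ y : G, orderOf y = p ^ v))
    (hT : ∃ g : G, orderOf g = D) (hrT : ∃ y : G, orderOf y = r)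
    (hprT : ∀ c : ℕ, (∃ w : G, orderOf w = p ^ (c + 1)) → ∃ y : G, orderOf y = p ^ (c + 1) * r)
    (a1 a2 : G) :
    ∃ y1 y2 : G,
      Nat.lcm (orderOf y1) (orderOf y2) =
        Nat.lcm (orderOf a1) (Nat.lcm (orderOf a2) r) := by
  have hcoprp : ∀ v : ℕ, Nat.Coprime (p ^ v) r :=
    fun v => Nat.Coprime.pow_left v ((Nat.coprime_primes hp hr).2 (Ne.symm hrp))
  by_cases hA : r ∣ Nat.lcm (orderOf a1) (orderOf a2)
  · refine ⟨a1, a2, ?_⟩
    apply PslMix.eq_of_forall_dvd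
    intro t
    simp only [Nat.lcm_dvd_iff]
    constructor
    · rintro ⟨h1, h2⟩
      exact ⟨h1, h2, dvd_trans hA (Nat.lcm_dvd h1 h2)⟩
    · rintro ⟨h1, h2, -⟩
      exact ⟨h1, h2⟩
  · have hr1 : ¬ r ∣ orderOf a1 := fun h => hA (dvd_trans h (Nat.dvd_lcm_left _ _))
    have hr2 : ¬ r ∣ orderOf a2 := fun h => hA (dvd_trans h (Nat.dvd_lcm_right _ _))
    have hc1 : Nat.Coprime (orderOf a1) r := Nat.Coprime.symm ((Nat.Prime.coprime_iff_not_dvd hr).2 hr1)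
    have hc2 : Nat.Coprime (orderOf a2) r := Nat.Coprime.symm ((Nat.Prime.coprime_iff_not_dvd hr).2 hr2)
    rcases hsplit a1 hr1 with ⟨y, hy⟩ | ⟨v1, M1, ho1, hM1, hD1, w1, hw1⟩
    · refine ⟨y, a2, ?_⟩
      rw [hy]
      apply PslMix.eq_of_forall_dvd
      intro t
      simp only [Nat.lcm_dvd_iff, cop_mul_dvd_iff hc1]
      all_goals tauto
    rcases hsplit a2 hr2 with ⟨y, hy⟩ | ⟨v2, M2, ho2, hM2, hD2, w2, hw2⟩
    · refine ⟨a1, y, ?_⟩
      rw [hy]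
      apply PslMix.eq_of_forall_dvd
      intro t
      simp only [Nat.lcm_dvd_iff, cop_mul_dvd_iff hc2]
      all_goals tauto
    obtain ⟨y1, hy1⟩ := torus_T (G := G) D hT (Nat.lcm M1 M2) (Nat.lcm_dvd hD1 hD2)
    obtain ⟨c, hc, hc'⟩ := lcm_ppow (p := p) (a := v1) (b := v2)
    have hwc : ∃ w : G, orderOf w = p ^ c := by
      rcases hc' with h | h
      · exact ⟨w1, by rw [hw1, h]⟩
      · exact ⟨w2, by rw [hw2, h]⟩
    obtain ⟨w, hw⟩ := hwc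
    have hy2 : ∃ y2 : G, orderOf y2 = p ^ c * r := by
      rcases Nat.eq_zero_or_pos c with h0 | h0
      · obtain ⟨y3, hy3⟩ := hrT
        exact ⟨y3, by rw [hy3, h0, pow_zero, one_mul]⟩
      · obtain ⟨c0, rfl⟩ : ∃ c0, c = c0 + 1 := ⟨c - 1, by omega⟩
        exact hprT c0 ⟨w, hw⟩
    obtain ⟨y2, hy2⟩ := hy2
    refine ⟨y1, y2, ?_⟩
    rw [hy1, hy2, ho1, ho2, ← hc]
    apply PslMix.eq_of_forall_dvd
    intro t
    have hcc : Nat.Coprime (Nat.lcm (p ^ v1) (p ^ v2)) r := by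
      rw [hc]
      exact hcoprp c
    simp only [Nat.lcm_dvd_iff, cop_mul_dvd_iff (Nat.Coprime.pow_left v1 hM1.symm),
      cop_mul_dvd_iff (Nat.Coprime.pow_left v2 hM2.symm), cop_mul_dvd_iff hcc]
    all_goals tauto

end Cfsg.Agent.Lib.helper15.MixAbs
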