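import Mathlib
import Cfsg.Agent.Lib.helper15.PslMix

set_option autoImplicit false

namespace Cfsg.Agent.Lib.helper15.SpAdj

open Module Polynomial Matrix
open Cfsg.Agent.Lib.helper15.PslMix

variable {F : Type*} [Field F] {n : ℕ}

def adj (X : Matrix (Fin n ⊕ Fin n) (Fin n ⊕ Fin n) F) : Matrix (Fin n ⊕ Fin n) (Fin n ⊕ Fin n) F :=
  -J (Fin n) F * Xᵀ * J (Fin n) F

theorem adj_mul (X Y : Matrix (Fin n ⊕ Fin n) (Fin n ⊕ Fin n) F) : adj (X * Y) = adj Y * adj X := by
  unfold adj
  rw [Matrix.transpose_mul]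
  have h : J (Fin n) F * -J (Fin n) F = 1 := by
    rw [Matrix.mul_neg, J_squared, neg_neg]
  calc -J (Fin n) F * (Yᵀ * Xᵀ) * J (Fin n) F
      = -J (Fin n) F * Yᵀ * 1 * Xᵀ * J (Fin n) F := by
        rw [Matrix.mul_one, Matrix.mul_assoc (-J (Fin n) F) Yᵀ Xᵀ]
    _ = -J (Fin n) F * Yᵀ * (J (Fin n) F * -J (Fin n) F) * Xᵀ * J (Fin n) F := by rw [h]
    _ = _ := by simp only [Matrix.mul_assoc]

theorem adj_one : adj (1 : Matrix (Fin n ⊕ Fin n) (Fin n ⊕ Fin n) F) = 1 := by
  unfold adj
  rw [Matrix.transpose_one, Matrix.mul_one, Matrix.neg_mul, J_squared, neg_neg]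

theorem adj_zero : adj (0 : Matrix (Fin n ⊕ Fin n) (Fin n ⊕ Fin n) F) = 0 := by
  unfold adj
  rw [Matrix.transpose_zero, Matrix.mul_zero, Matrix.zero_mul]

theorem adj_add (X Y : Matrix (Fin n ⊕ Fin n) (Fin n ⊕ Fin n) F) : adj (X + Y) = adj X + adj Y := by
  unfold adj
  rw [Matrix.transpose_add, Matrix.mul_add, Matrix.add_mul]

theorem adj_sub (X Y : Matrix (Fin n ⊕ Fin n) (Fin n ⊕ Fin n) F) : adj (X - Y) = adj X - adj Y := by
  unfold adj
  rw [Matrix.transpose_sub, Matrix.mul_sub, Matrix.sub_mul]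

theorem adj_smul (c : F) (X : Matrix (Fin n ⊕ Fin n) (Fin n ⊕ Fin n) F) : adj (c • X) = c • adj X := by
  unfold adj
  rw [Matrix.transpose_smul, Matrix.mul_smul, Matrix.smul_mul]

theorem adj_adj (X : Matrix (Fin n ⊕ Fin n) (Fin n ⊕ Fin n) F) : adj (adj X) = X := by
  unfold adj
  rw [Matrix.transpose_mul, Matrix.transpose_mul, Matrix.transpose_transpose, Matrix.transpose_neg,
    J_transpose, neg_neg]
  have h : J (Fin n) F * J (Fin n) F = -1 := J_squared (Fin n) F
  calc -J (Fin n) F * (-J (Fin n) F * (X * J (Fin n) F)) * J (Fin n) F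
      = (J (Fin n) F * J (Fin n) F) * X * (J (Fin n) F * J (Fin n) F) := by
        simp only [Matrix.neg_mul, Matrix.mul_neg, neg_neg, Matrix.mul_assoc]
    _ = X := by rw [h]; simp

theorem adj_pow (X : Matrix (Fin n ⊕ Fin n) (Fin n ⊕ Fin n) F) (k : ℕ) : adj (X ^ k) = (adj X) ^ k := by
  induction k with
  | zero => rw [pow_zero, pow_zero, adj_one]
  | succ k ih => rw [pow_succ, adj_mul, ih, ← pow_succ']

theorem adj_aeval (X : Matrix (Fin n ⊕ Fin n) (Fin n ⊕ Fin n) F) (q : F[X]) :
    adj (aeval X q) = aeval (adj X) q := by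
  induction q using Polynomial.induction_on' with
  | add a b ha hb => rw [map_add, map_add, adj_add, ha, hb]
  | monomial i c =>
    rw [← C_mul_X_pow_eq_monomial, map_mul, map_mul, aeval_C, aeval_C, map_pow, map_pow, aeval_X, aeval_X,
      Algebra.algebraMap_eq_smul_one, Matrix.smul_mul, Matrix.smul_mul, one_mul, one_mul, adj_smul, adj_pow]

theorem adj_symp (S : Matrix (Fin n ⊕ Fin n) (Fin n ⊕ Fin n) F) (hS : S ∈ symplecticGroup (Fin n) F) :
    adj S * S = 1 := by
  have h := SymplecticGroup.inv_left_mul_aux hS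
  unfold adj
  rw [← h]
  simp only [Matrix.neg_mul, Matrix.mul_assoc]

theorem symp_mul_adj (S : Matrix (Fin n ⊕ Fin n) (Fin n ⊕ Fin n) F) (hS : S ∈ symplecticGroup (Fin n) F) :
    S * adj S = 1 := mul_eq_one_comm.1 (adj_symp S hS)

theorem mem_symp_of_adj (z : Matrix (Fin n ⊕ Fin n) (Fin n ⊕ Fin n) F) (h : adj z * z = 1) :
    z ∈ symplecticGroup (Fin n) F := by
  rw [SymplecticGroup.mem_iff']
  unfold adj at h
  have h1 : J (Fin n) F * (-J (Fin n) F * zᵀ * J (Fin n) F * z) = J (Fin n) F := by rw [h, Matrix.mul_one]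
  have h2 : J (Fin n) F * (-J (Fin n) F * zᵀ * J (Fin n) F * z) = zᵀ * J (Fin n) F * z := by
    have h3 : J (Fin n) F * -J (Fin n) F = 1 := by
      rw [Matrix.mul_neg, J_squared, neg_neg]
    calc J (Fin n) F * (-J (Fin n) F * zᵀ * J (Fin n) F * z)
        = (J (Fin n) F * -J (Fin n) F) * zᵀ * J (Fin n) F * z := by simp only [Matrix.mul_assoc]
      _ = _ := by rw [h3, Matrix.one_mul]
  rw [← h2, h1]

theorem rank_adj (X : Matrix (Fin n ⊕ Fin n) (Fin n ⊕ Fin n) F) : (adj X).rank = X.rank := by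
  unfold adj
  have hJ : IsUnit (J (Fin n) F).det := isUnit_det_J (Fin n) F
  have hJ' : IsUnit (-J (Fin n) F).det := by
    rw [Matrix.det_neg]
    exact (IsUnit.pow _ (isUnit_one.neg)).mul hJ
  rw [Matrix.rank_mul_eq_left_of_isUnit_det _ _ hJ, Matrix.rank_mul_eq_right_of_isUnit_det _ _ hJ',
    Matrix.rank_transpose]

theorem aeval_restrict_apply {F : Type*} [Field F] {V : Type*} [AddCommGroup V] [Module F V]
    (T : Module.End F V) (W : Submodule F V) (hT : ∀ w ∈ W, T w ∈ W) (q : F[X]) (w : W) :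
    ((aeval (T.restrict hT) q) w : V) = (aeval T q) (w : V) := by
  induction q using Polynomial.induction_on' generalizing w with
  | add a b ha hb =>
    rw [map_add, map_add, LinearMap.add_apply, LinearMap.add_apply, Submodule.coe_add, ha, hb]
  | monomial i c =>
    rw [← C_mul_X_pow_eq_monomial, map_mul, map_mul, aeval_C, aeval_C, map_pow, map_pow, aeval_X, aeval_X,
      Algebra.algebraMap_eq_smul_one, Algebra.algebraMap_eq_smul_one, smul_mul_assoc, smul_mul_assoc,
      one_mul, one_mul, LinearMap.smul_apply, LinearMap.smul_apply, Submodule.coe_smul]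
    congr 1
    induction i generalizing w with
    | zero => rw [pow_zero, pow_zero, Module.End.one_apply, Module.End.one_apply]
    | succ i ih =>
      rw [pow_succ, pow_succ, Module.End.mul_apply, Module.End.mul_apply, ih]
      rfl

theorem nilp_bound {F : Type*} [Field F] {ι : Type*} [Fintype ι] [DecidableEq ι]
    (S e : Matrix ι ι F) (f : F[X]) (hf : Irreducible f) (he : e * e = e) (hSe : Commute S e)
    (hfe : aeval S f * e = 0) :
    ∃ m : ℕ, e.rank = f.natDegree * m ∧
      ∀ N' : Matrix ι ι F, IsNilpotent N' → Commute N' S → Commute N' e → N' ^ m * e = 0 := by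
  classical
  have hfact : Fact (Irreducible f) := ⟨hf⟩
  have hf0 : f ≠ 0 := hf.ne_zero
  obtain ⟨W, hWdef⟩ : ∃ W : Submodule F (ι → F), W = LinearMap.range (Matrix.toLin' e) := ⟨_, rfl⟩
  have hWmem : ∀ w : ι → F, w ∈ W ↔ Matrix.toLin' e w = w := by
    intro w
    rw [hWdef]
    constructor
    · rintro ⟨x, rfl⟩
      rw [← LinearMap.comp_apply, ← Matrix.toLin'_mul, he]
    · intro h
      exact ⟨w, h⟩
  have hcomm_mem : ∀ T : Matrix ι ι F, Commute T e → ∀ w ∈ W, Matrix.toLin' T w ∈ W := by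
    intro T hT w hw
    rw [hWmem] at hw ⊢
    rw [← LinearMap.comp_apply, ← Matrix.toLin'_mul, ← hT.eq, Matrix.toLin'_mul, LinearMap.comp_apply, hw]
  have hSW := hcomm_mem S hSe
  let SW : Module.End F W := (Matrix.toLin' S).restrict hSW
  have hSWf : aeval SW f = 0 := by
    apply LinearMap.ext
    intro w
    apply Subtype.ext
    rw [aeval_restrict_apply, LinearMap.zero_apply, Submodule.coe_zero]
    have hw := (hWmem w).1 w.2
    have h1 : aeval (Matrix.toLin' S) f = Matrix.toLin' (aeval S f) := by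
      have := Polynomial.aeval_algHom_apply (Matrix.toLinAlgEquiv' : Matrix ι ι F ≃ₐ[F] _).toAlgHom S f
      exact this
    rw [h1, ← hw, ← LinearMap.comp_apply, ← Matrix.toLin'_mul, hfe, map_zero, LinearMap.zero_apply]
  let E := AdjoinRoot f
  have hI : ∀ a : F[X], a ∈ Ideal.span {f} → (Polynomial.aeval SW) a = 0 := by
    intro a ha
    rw [Ideal.mem_span_singleton] at ha
    obtain ⟨b, rfl⟩ := ha
    rw [map_mul, hSWf, zero_mul]
  let ψ : E →ₐ[F] Module.End F W := Ideal.Quotient.liftₐ (Ideal.span {f}) (Polynomial.aeval SW) hI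
  have hψmk : ∀ q : F[X], ψ (AdjoinRoot.mk f q) = aeval SW q := fun q => rfl
  letI modE : Module E W := Module.compHom W (ψ : E →+* Module.End F W)
  have hsmul : ∀ (x : E) (w : W), x • w = ψ x w := fun x w => rfl
  haveI tower : IsScalarTower F E W := by
    refine ⟨fun c x v => ?_⟩
    rw [hsmul, hsmul, map_smul]
    rfl
  haveI finE : Module.Finite E W := Module.Finite.of_restrictScalars_finite F E W
  haveI mfinE : Module.Finite F E := (AdjoinRoot.powerBasis hf0).finite
  obtain ⟨m, hm⟩ : ∃ m, m = Module.finrank E W := ⟨_, rfl⟩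
  refine ⟨m, ?_, ?_⟩
  · have h1 : e.rank = Module.finrank F W := by
      rw [hWdef]
      rfl
    rw [h1, ← Module.finrank_mul_finrank F E W, ← hm, (AdjoinRoot.powerBasis hf0).finrank,
      AdjoinRoot.powerBasis_dim]
  · intro N' hN hNS hNe
    have hNW := hcomm_mem N' hNe
    let NW : Module.End F W := (Matrix.toLin' N').restrict hNW
    have hNSW : Commute NW SW := by
      apply LinearMap.ext
      intro w
      apply Subtype.ext
      show Matrix.toLin' N' (Matrix.toLin' S w) = Matrix.toLin' S (Matrix.toLin' N' w)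
      rw [← LinearMap.comp_apply, ← LinearMap.comp_apply, ← Matrix.toLin'_mul, ← Matrix.toLin'_mul, hNS.eq]
    let NE : W →ₗ[E] W :=
      { toFun := NW
        map_add' := NW.map_add
        map_smul' := by
          intro x w
          obtain ⟨q, rfl⟩ := AdjoinRoot.mk_surjective x
          rw [hsmul, hsmul, hψmk, RingHom.id_apply]
          have hc : Commute NW (aeval SW q) := commute_aeval NW SW hNSW q
          show (NW * aeval SW q) w = (aeval SW q * NW) w
          rw [hc.eq] }
    have hNEcoe : ∀ (t : ℕ) (w : W), (NE ^ t) w = (NW ^ t) w := by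
      intro t
      induction t with
      | zero => intro w; rfl
      | succ t ih =>
        intro w
        rw [pow_succ, pow_succ, Module.End.mul_apply, Module.End.mul_apply, ih]
        rfl
    have hNWpow : ∀ (t : ℕ) (w : W), ((NW ^ t) w : ι → F) = Matrix.toLin' (N' ^ t) (w : ι → F) := by
      intro t
      induction t with
      | zero =>
        intro w
        rw [pow_zero, pow_zero, Matrix.toLin'_one]
        rfl
      | succ t ih =>
        intro w
        rw [pow_succ, pow_succ, Module.End.mul_apply, ih, Matrix.toLin'_mul]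
        rfl
    have hNEnil : IsNilpotent NE := by
      obtain ⟨k, hk⟩ := hN
      refine ⟨k, ?_⟩
      apply LinearMap.ext
      intro w
      apply Subtype.ext
      rw [hNEcoe, hNWpow, hk, map_zero]
      rfl
    have hNEm : NE ^ m = 0 := by
      have h1 := hNEnil.charpoly_eq_X_pow_finrank
      have h2 := LinearMap.aeval_self_charpoly NE
      rw [h1, map_pow, aeval_X, ← hm] at h2
      exact h2
    rw [← Matrix.toLin'.injective.eq_iff, map_zero]
    apply LinearMap.ext
    intro v
    rw [Matrix.toLin'_mul, LinearMap.comp_apply, LinearMap.zero_apply]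
    have hv : Matrix.toLin' e v ∈ W := by
      rw [hWdef]
      exact ⟨v, rfl⟩
    have h3 := hNWpow m ⟨_, hv⟩
    rw [← h3, ← hNEcoe, hNEm]
    rfl

theorem caseA_aux {F : Type*} [Field F] [Fintype F] (n : ℕ) (hn : 1 ≤ n)
    (S : Matrix (Fin n ⊕ Fin n) (Fin n ⊕ Fin n) F) (hS : S ∈ symplecticGroup (Fin n) F)
    (P : F[X]) (hirr : Irreducible P) (hPS : aeval S P = 0) (hS2 : S * S ≠ 1) :
    ∃ d m : ℕ, 1 ≤ d ∧ n = d * m ∧ S ^ (Fintype.card F ^ d + 1) = 1 ∧
      ∀ N' : Matrix (Fin n ⊕ Fin n) (Fin n ⊕ Fin n) F, IsNilpotent N' → Commute N' S → N' ^ m = 0 := by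
  classical
  have hne : Nonempty (Fin n ⊕ Fin n) := ⟨Sum.inl ⟨0, by omega⟩⟩
  have hfact : Fact (Irreducible P) := ⟨hirr⟩
  have hμ0 : P ≠ 0 := hirr.ne_zero
  let E := AdjoinRoot P
  have hI : ∀ a : F[X], a ∈ Ideal.span {P} → (Polynomial.aeval S) a = 0 := by
    intro a ha
    rw [Ideal.mem_span_singleton] at ha
    obtain ⟨b, rfl⟩ := ha
    rw [map_mul, hPS, zero_mul]
  let φ : E →ₐ[F] Matrix (Fin n ⊕ Fin n) (Fin n ⊕ Fin n) F :=
    Ideal.Quotient.liftₐ (Ideal.span {P}) (Polynomial.aeval S) hI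
  have hφroot : φ (AdjoinRoot.root P) = S := by
    show (Polynomial.aeval S) (Polynomial.X : F[X]) = S
    exact Polynomial.aeval_X S
  have hφinj : Function.Injective φ := by
    have h := RingHom.injective (φ : E →+* Matrix (Fin n ⊕ Fin n) (Fin n ⊕ Fin n) F)
    exact h
  obtain ⟨ρ, hρ⟩ : ∃ ρ : E, ρ = AdjoinRoot.root P := ⟨_, rfl⟩
  rw [← hρ] at hφroot
  have hρ0 : ρ ≠ 0 := by
    intro h
    rw [h, map_zero] at hφroot
    have h1 := adj_symp S hS
    rw [← hφroot, Matrix.mul_zero] at h1
    exact zero_ne_one h1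
  have hφinv : φ ρ⁻¹ = adj S := by
    have h1 : φ ρ⁻¹ * S = 1 := by
      rw [← hφroot, ← map_mul, inv_mul_cancel₀ hρ0, map_one]
    calc φ ρ⁻¹ = φ ρ⁻¹ * (S * adj S) := by rw [symp_mul_adj S hS, Matrix.mul_one]
      _ = (φ ρ⁻¹ * S) * adj S := by rw [Matrix.mul_assoc]
      _ = adj S := by rw [h1, Matrix.one_mul]
  have hinvroot : aeval ρ⁻¹ P = 0 := by
    apply hφinj
    rw [← Polynomial.aeval_algHom_apply, hφinv, ← adj_aeval, hPS, adj_zero, map_zero]
  have hI' : ∀ a : F[X], a ∈ Ideal.span {P} → (Polynomial.aeval ρ⁻¹) a = 0 := by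
    intro a ha
    rw [Ideal.mem_span_singleton] at ha
    obtain ⟨b, rfl⟩ := ha
    rw [map_mul, hinvroot, zero_mul]
  let τ : E →ₐ[F] E := Ideal.Quotient.liftₐ (Ideal.span {P}) (Polynomial.aeval ρ⁻¹) hI'
  have hτroot : τ ρ = ρ⁻¹ := by
    have h1 : τ (AdjoinRoot.root P) = (Polynomial.aeval ρ⁻¹) (Polynomial.X : F[X]) := rfl
    rw [hρ, h1, Polynomial.aeval_X, hρ]
  haveI mfinE : Module.Finite F E := (AdjoinRoot.powerBasis hμ0).finite
  haveI finiteE : Finite E := Module.finite_of_finite F
  obtain ⟨e, he⟩ : ∃ e, e = Module.finrank F E := ⟨_, rfl⟩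
  have hedeg : e = P.natDegree := by
    rw [he, (AdjoinRoot.powerBasis hμ0).finrank, AdjoinRoot.powerBasis_dim]
  obtain ⟨i, hi⟩ := (FiniteField.bijective_frobeniusAlgHom_pow F E).2 τ
  have hi' : FiniteField.frobeniusAlgHom F E ^ i.1 = τ := hi
  obtain ⟨d, hd⟩ : ∃ d : ℕ, d = i.1 := ⟨_, rfl⟩
  have hilt : d < e := by rw [he, hd]; exact i.2
  rw [← hd] at hi'
  have hfrobpow : ∀ (k : ℕ) (x : E), (FiniteField.frobeniusAlgHom F E ^ k) x = x ^ (Fintype.card F ^ k) := by
    intro k x
    rw [AlgHom.coe_pow, FiniteField.coe_frobeniusAlgHom, pow_iterate]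
  have hτpow : ρ ^ (Fintype.card F ^ d) = ρ⁻¹ := by
    rw [← hfrobpow, hi', hτroot]
  have h2i : (FiniteField.frobeniusAlgHom F E) ^ (2 * d) = 1 := by
    apply AdjoinRoot.algHom_ext
    rw [← hρ, hfrobpow, AlgHom.one_apply, two_mul, pow_add, pow_mul, hτpow, inv_pow, hτpow, inv_inv]
  have hdvd : e ∣ 2 * d := by
    rw [he, ← FiniteField.orderOf_frobeniusAlgHom F E]
    exact orderOf_dvd_of_pow_eq_one h2i
  have hi0 : d ≠ 0 := by
    intro h0
    rw [h0, pow_zero, pow_one] at hτpow
    apply hS2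
    have h1 : ρ * ρ = 1 := by
      nth_rewrite 2 [hτpow]
      exact mul_inv_cancel₀ hρ0
    have h3 := congrArg φ h1
    rw [map_mul, map_one, hφroot] at h3
    exact h3
  have he2 : e = 2 * d := by
    obtain ⟨t, ht⟩ := hdvd
    have ht1 : t = 1 := by
      rcases Nat.lt_or_ge t 1 with h | h
      · have : t = 0 := by omega
        rw [this, mul_zero] at ht
        omega
      · rcases Nat.lt_or_ge t 2 with h' | h'
        · omega
        · have : e * 2 ≤ e * t := Nat.mul_le_mul_left e h'
          omega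
    rw [ht1, mul_one] at ht
    exact ht.symm
  obtain ⟨m, hrank, hnil⟩ := nilp_bound S 1 P hirr (mul_one 1) (Commute.one_right S)
    (by rw [hPS, zero_mul])
  refine ⟨d, m, by omega, ?_, ?_, ?_⟩
  · rw [Matrix.rank_one, Fintype.card_sum, Fintype.card_fin, ← hedeg, he2] at hrank
    have : 2 * n = 2 * (d * m) := by
      rw [← mul_assoc, ← hrank]
      ring
    omega
  · have h1 : ρ ^ (Fintype.card F ^ d + 1) = 1 := by
      rw [pow_succ, hτpow, inv_mul_cancel₀ hρ0]
    have h3 := congrArg φ h1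
    rw [map_pow, map_one, hφroot] at h3
    exact h3
  · intro N' hN hNS
    have := hnil N' hN hNS (Commute.one_right N')
    rw [mul_one] at this
    exact this

theorem rank_idem_add {F : Type*} [Field F] {ι : Type*} [Fintype ι] [DecidableEq ι]
    (e : Matrix ι ι F) (he : e * e = e) : e.rank + (1 - e).rank = Fintype.card ι := by
  have h1 := LinearMap.finrank_range_add_finrank_ker (Matrix.toLin' e)
  rw [Module.finrank_fintype_fun_eq_card] at h1
  have h2 : LinearMap.ker (Matrix.toLin' e) = LinearMap.range (Matrix.toLin' (1 - e)) := by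
    ext x
    rw [LinearMap.mem_ker, LinearMap.mem_range]
    constructor
    · intro hx
      refine ⟨x, ?_⟩
      rw [map_sub, LinearMap.sub_apply, hx, Matrix.toLin'_one, LinearMap.id_apply, sub_zero]
    · rintro ⟨y, rfl⟩
      rw [← LinearMap.comp_apply, ← Matrix.toLin'_mul, mul_sub, mul_one, he, sub_self, map_zero,
        LinearMap.zero_apply]
  rw [h2] at h1
  exact h1

theorem commute_of_commute_adj {F : Type*} [Field F] {n : ℕ}
    (S : Matrix (Fin n ⊕ Fin n) (Fin n ⊕ Fin n) F) (hS : S ∈ symplecticGroup (Fin n) F)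
    (X : Matrix (Fin n ⊕ Fin n) (Fin n ⊕ Fin n) F) (h : Commute X (adj S)) : Commute X S := by
  have h1 : S * X * (adj S * S) = S * (X * adj S) * S := by simp only [Matrix.mul_assoc]
  rw [h.eq, adj_symp S hS, Matrix.mul_one] at h1
  have h2 : S * (adj S * X) * S = (S * adj S) * X * S := by simp only [Matrix.mul_assoc]
  rw [h2, symp_mul_adj S hS, Matrix.one_mul] at h1
  exact h1.symm

theorem caseB_aux {F : Type*} [Field F] [Fintype F] (n : ℕ) (hn : 1 ≤ n)
    (S : Matrix (Fin n ⊕ Fin n) (Fin n ⊕ Fin n) F) (hS : S ∈ symplecticGroup (Fin n) F)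
    (f : F[X]) (hirr : Irreducible f) (e : Matrix (Fin n ⊕ Fin n) (Fin n ⊕ Fin n) F)
    (he : e * e = e) (hcomm : ∀ h, Commute h S → Commute h e) (hadj : adj e = 1 - e)
    (hfe : aeval S f * e = 0) :
    ∃ d m : ℕ, 1 ≤ d ∧ n = d * m ∧ S ^ (Fintype.card F ^ d - 1) = 1 ∧
      ∀ N' : Matrix (Fin n ⊕ Fin n) (Fin n ⊕ Fin n) F, IsNilpotent N' → Commute N' S → N' ^ m = 0 := by
  classical
  have hfact : Fact (Irreducible f) := ⟨hirr⟩
  have hf0 : f ≠ 0 := hirr.ne_zero
  have hSe : Commute S e := hcomm S (Commute.refl S)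
  obtain ⟨m, hrank, hnil⟩ := nilp_bound S e f hirr he hSe hfe
  obtain ⟨d, hd⟩ : ∃ d, d = f.natDegree := ⟨_, rfl⟩
  have hd1 : 1 ≤ d := by rw [hd]; exact hirr.natDegree_pos
  rw [← hd] at hrank
  have hq1 : 1 ≤ Fintype.card F ^ d := Nat.one_le_pow _ _ Fintype.card_pos
  refine ⟨d, m, hd1, ?_, ?_, ?_⟩
  · have h1 := rank_idem_add e he
    rw [← hadj, rank_adj, hrank, Fintype.card_sum, Fintype.card_fin] at h1
    omega
  · let E := AdjoinRoot f
    haveI mfinE : Module.Finite F E := (AdjoinRoot.powerBasis hf0).finite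
    haveI finiteE : Finite E := Module.finite_of_finite F
    haveI fintypeE : Fintype E := Fintype.ofFinite E
    have hcard : Fintype.card E = Fintype.card F ^ d := by
      rw [Module.card_eq_pow_finrank (K := F) (V := E), (AdjoinRoot.powerBasis hf0).finrank,
        AdjoinRoot.powerBasis_dim, hd]
    have h1 : (AdjoinRoot.root f) ^ (Fintype.card F ^ d) = AdjoinRoot.root f := by
      rw [← hcard]
      exact FiniteField.pow_card _
    have h2 : f ∣ X ^ (Fintype.card F ^ d) - X := by
      rw [← AdjoinRoot.mk_eq_zero, map_sub, map_pow, AdjoinRoot.mk_X, h1, sub_self]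
    obtain ⟨g, hg⟩ := h2
    have h3 : (S ^ (Fintype.card F ^ d) - S) * e = 0 := by
      have h4 := congrArg (aeval S) hg
      rw [map_sub, map_pow, aeval_X, map_mul] at h4
      rw [h4, (Commute.all f g).map (aeval S) |>.eq, Matrix.mul_assoc, hfe, Matrix.mul_zero]
    obtain ⟨T, hT⟩ : ∃ T, T = S ^ (Fintype.card F ^ d - 1) := ⟨_, rfl⟩
    have hTS : T * S = S ^ (Fintype.card F ^ d) := by
      rw [hT, ← pow_succ, Nat.sub_add_cancel hq1]
    have hTe : T * e = e := by
      rw [sub_mul, sub_eq_zero, ← hTS] at h3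
      calc T * e = T * (e * (S * adj S)) := by rw [symp_mul_adj S hS, Matrix.mul_one]
        _ = T * ((e * S) * adj S) := by rw [Matrix.mul_assoc]
        _ = T * ((S * e) * adj S) := by rw [hSe.eq]
        _ = (T * S * e) * adj S := by simp only [Matrix.mul_assoc]
        _ = (S * e) * adj S := by rw [h3]
        _ = (e * S) * adj S := by rw [hSe.eq]
        _ = e := by rw [Matrix.mul_assoc, symp_mul_adj S hS, Matrix.mul_one]
    have hadjT : adj T * T = 1 := by
      rw [hT, adj_pow]
      have hc : Commute (adj S) S := by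
        show adj S * S = S * adj S
        rw [adj_symp S hS, symp_mul_adj S hS]
      rw [← hc.mul_pow, adj_symp S hS, one_pow]
    have hTe' : (1 - e) * T = 1 - e := by
      have h6 := congrArg adj hTe
      rw [adj_mul, hadj] at h6
      calc (1 - e) * T = ((1 - e) * adj T) * T := by rw [h6]
        _ = (1 - e) * (adj T * T) := by rw [Matrix.mul_assoc]
        _ = 1 - e := by rw [hadjT, Matrix.mul_one]
    have hcT : Commute T e := by
      rw [hT]
      exact hSe.pow_left _
    rw [← hT]
    calc T = T * e + (1 - e) * T := by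
          rw [sub_mul, one_mul, ← hcT.eq]
          abel
      _ = e + (1 - e) := by rw [hTe, hTe']
      _ = 1 := by abel
  · intro N' hN hNS
    have hNe : Commute N' e := hcomm N' hNS
    have h1 := hnil N' hN hNS hNe
    have hN2 : IsNilpotent (adj N') := by
      obtain ⟨k, hk⟩ := hN
      refine ⟨k, ?_⟩
      rw [← adj_pow, hk, adj_zero]
    have hN2S : Commute (adj N') S := by
      apply commute_of_commute_adj S hS
      show adj N' * adj S = adj S * adj N'
      rw [← adj_mul, ← adj_mul, hNS.eq]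
    have h2 := hnil (adj N') hN2 hN2S (hcomm _ hN2S)
    have h3 := congrArg adj h2
    rw [adj_mul, adj_pow, adj_adj, adj_zero, hadj] at h3
    have hc : Commute (N' ^ m) e := hNe.pow_left m
    calc N' ^ m = N' ^ m * e + (1 - e) * N' ^ m := by
          rw [sub_mul, one_mul, ← hc.eq]
          abel
      _ = 0 := by rw [h1, h3, add_zero]

theorem commute_adj_of_commute {F : Type*} [Field F] {n : ℕ}
    (S : Matrix (Fin n ⊕ Fin n) (Fin n ⊕ Fin n) F) (hS : S ∈ symplecticGroup (Fin n) F)
    (X : Matrix (Fin n ⊕ Fin n) (Fin n ⊕ Fin n) F) (h : Commute X S) : Commute X (adj S) := by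
  have h1 : adj S * (X * S) * adj S = adj S * (S * X) * adj S := by rw [h.eq]
  have h2 : adj S * (X * S) * adj S = adj S * X * (S * adj S) := by simp only [Matrix.mul_assoc]
  have h3 : adj S * (S * X) * adj S = (adj S * S) * X * adj S := by simp only [Matrix.mul_assoc]
  rw [h2, h3, symp_mul_adj S hS, adj_symp S hS, Matrix.mul_one, Matrix.one_mul] at h1
  exact h1.symm

theorem sp_dichotomy {F : Type*} [Field F] [Fintype F] (n : ℕ) (hn : 1 ≤ n)
    (S : Matrix (Fin n ⊕ Fin n) (Fin n ⊕ Fin n) F) (hS : S ∈ symplecticGroup (Fin n) F)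
    (M : ℕ) (hM : (M : F) ≠ 0) (hSM : S ^ M = 1) (hS2 : S * S ≠ 1) :
    (∃ ε : Matrix (Fin n ⊕ Fin n) (Fin n ⊕ Fin n) F, ε * ε = ε ∧ ε ≠ 0 ∧ ε ≠ 1 ∧ adj ε = ε ∧
      ∀ h, Commute h S → Commute h ε) ∨
    (∃ d m : ℕ, 1 ≤ d ∧ n = d * m ∧
      (S ^ (Fintype.card F ^ d + 1) = 1 ∨ S ^ (Fintype.card F ^ d - 1) = 1) ∧
      ∀ N' : Matrix (Fin n ⊕ Fin n) (Fin n ⊕ Fin n) F, IsNilpotent N' → Commute N' S → N' ^ m = 0) := by
  classical
  have hne : Nonempty (Fin n ⊕ Fin n) := ⟨Sum.inl ⟨0, by omega⟩⟩
  have hint : IsIntegral F S := Algebra.IsIntegral.isIntegral S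
  have hsq : Squarefree (minpoly F S) := by
    have hsep : Squarefree (X ^ M - C (1 : F)) :=
      (Polynomial.separable_X_pow_sub_C (1 : F) hM one_ne_zero).squarefree
    apply hsep.squarefree_of_dvd
    apply minpoly.dvd
    rw [map_sub, map_pow, aeval_X, aeval_C, hSM, map_one, sub_self]
  have hnu : ¬ IsUnit (minpoly F S) := minpoly.not_isUnit F S
  have hμ0 : minpoly F S ≠ 0 := minpoly.ne_zero hint
  by_cases hirr : Irreducible (minpoly F S)
  · right
    obtain ⟨d, m, hd, hnm, hpow, hnil⟩ := caseA_aux n hn S hS (minpoly F S) hirr (minpoly.aeval F S) hS2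
    exact ⟨d, m, hd, hnm, Or.inl hpow, hnil⟩
  · obtain ⟨f, hf, hfdvd⟩ := WfDvdMonoid.exists_irreducible_factor hnu hμ0
    obtain ⟨h, hμ⟩ := hfdvd
    have hhnu : ¬ IsUnit h := by
      intro hu
      apply hirr
      rw [hμ]
      exact (irreducible_mul_isUnit hu).2 hf
    have hfnu : ¬ IsUnit f := hf.not_isUnit
    have hf0 : f ≠ 0 := hf.ne_zero
    have hh0 : h ≠ 0 := by
      intro h0
      rw [h0, mul_zero] at hμ
      exact hμ0 hμ
    rw [hμ] at hsq
    have hrel : IsRelPrime f h := (squarefree_mul_iff.1 hsq).1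
    obtain ⟨a, b, hab⟩ := hrel.isCoprime
    have hker : Polynomial.aeval S (f * h) = 0 := by
      rw [← hμ]
      exact minpoly.aeval F S
    obtain ⟨e, hedef⟩ : ∃ e, e = Polynomial.aeval S (b * h) := ⟨_, rfl⟩
    have hsum : Polynomial.aeval S (a * f) + e = 1 := by
      rw [hedef, ← map_add, hab, map_one]
    have he : e * e = e := by
      have h1 : Polynomial.aeval S (a * f) * e = 0 := by
        rw [hedef, ← map_mul]
        have : a * f * (b * h) = a * b * (f * h) := by ring
        rw [this, map_mul, hker, mul_zero]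
      have h3 : Polynomial.aeval S (a * f) = 1 - e := eq_sub_of_add_eq hsum
      rw [h3, sub_mul, one_mul, sub_eq_zero] at h1
      exact h1.symm
    have he0 : e ≠ 0 := by
      intro h0
      have h1 : Polynomial.aeval S h = 0 := by
        have e1 : h = a * (f * h) + h * (b * h) := by
          calc h = h * (a * f + b * h) := by rw [hab, mul_one]
            _ = a * (f * h) + h * (b * h) := by ring
        rw [e1, map_add, map_mul, hker, mul_zero, map_mul, ← hedef, h0, mul_zero, add_zero]
      obtain ⟨c, hc⟩ := minpoly.dvd F S h1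
      rw [hμ] at hc
      have h2 : h * 1 = h * (f * c) := by
        rw [mul_one, ← mul_assoc, mul_comm h f]
        exact hc
      have h3 : 1 = f * c := mul_left_cancel₀ hh0 h2
      exact hfnu (IsUnit.of_mul_eq_one c h3.symm)
    have he1 : e ≠ 1 := by
      intro h0
      have h1 : Polynomial.aeval S f = 0 := by
        have haf : Polynomial.aeval S (a * f) = 0 := by
          rw [h0] at hsum
          exact add_eq_right.1 hsum
        have e1 : f = f * (a * f) + b * (f * h) := by
          calc f = f * (a * f + b * h) := by rw [hab, mul_one]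
            _ = f * (a * f) + b * (f * h) := by ring
        rw [e1, map_add, map_mul, haf, mul_zero, map_mul, hker, mul_zero, add_zero]
      obtain ⟨c, hc⟩ := minpoly.dvd F S h1
      rw [hμ] at hc
      have h2 : f * 1 = f * (h * c) := by
        rw [mul_one, ← mul_assoc]
        exact hc
      have h3 : 1 = h * c := mul_left_cancel₀ hf0 h2
      exact hhnu (IsUnit.of_mul_eq_one c h3.symm)
    have hce : ∀ x, Commute x S → Commute x e := by
      intro x hx
      rw [hedef]
      exact commute_aeval x S hx _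
    have hcae : ∀ x, Commute x S → Commute x (adj e) := by
      intro x hx
      rw [hedef, adj_aeval]
      exact commute_aeval x (adj S) (commute_adj_of_commute S hS x hx) _
    have hSe : Commute S e := hce S (Commute.refl S)
    have heae : Commute e (adj e) := hcae e hSe.symm
    have hae : adj e * adj e = adj e := by rw [← adj_mul, he]
    have hfe : aeval S f * e = 0 := by
      rw [hedef, ← map_mul]
      have : f * (b * h) = b * (f * h) := by ring
      rw [this, map_mul, hker, mul_zero]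
    by_cases h1 : e * adj e = 0
    · by_cases h2 : e + adj e = 1
      · right
        have hadj : adj e = 1 - e := eq_sub_of_add_eq' h2
        obtain ⟨d, m, hd, hnm, hpow, hnil⟩ := caseB_aux n hn S hS f hf e he hce hadj hfe
        exact ⟨d, m, hd, hnm, Or.inr hpow, hnil⟩
      · left
        refine ⟨e + adj e, ?_, ?_, h2, ?_, ?_⟩
        · rw [add_mul, mul_add, mul_add, he, hae, h1, ← heae.eq, h1, add_zero, zero_add]
        · intro h0
          have h3 : e * (e + adj e) = e := by rw [mul_add, he, h1, add_zero]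
          rw [h0, mul_zero] at h3
          exact he0 h3.symm
        · rw [adj_add, adj_adj, add_comm]
        · intro x hx
          exact (hce x hx).add_right (hcae x hx)
    · left
      refine ⟨e * adj e, ?_, h1, ?_, ?_, ?_⟩
      · calc e * adj e * (e * adj e) = (e * e) * (adj e * adj e) := by
              rw [Matrix.mul_assoc, ← Matrix.mul_assoc (adj e) e, ← heae.eq]
              simp only [Matrix.mul_assoc]
          _ = e * adj e := by rw [he, hae]
      · intro h0
        apply he1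
        calc e = e * 1 := (Matrix.mul_one e).symm
          _ = e * (e * adj e) := by rw [h0]
          _ = (e * e) * adj e := by rw [Matrix.mul_assoc]
          _ = 1 := by rw [he, h0]
      · rw [adj_mul, adj_adj, heae.eq]
      · intro x hx
        exact (hce x hx).mul_right (hcae x hx)

end Cfsg.Agent.Lib.helper15.SpAdj
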