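import Mathlib
import Cfsg.Agent.Lib.helper15.UBase
import Cfsg.Agent.Lib.helper15.UNat
import Cfsg.Agent.Lib.helper15.SpAdj

set_option autoImplicit false

namespace Cfsg.Agent.Lib.helper15.UDich

open Matrix Polynomial Cfsg.Agent.Lib.Helper16.RN Cfsg.Agent.Lib.helper15.UBase
open Cfsg.Agent.Lib.helper15.UNat Cfsg.Agent.S2495 Cfsg.Agent.Lib.helper15.PslMix

theorem two_le_q {K : Type*} [Field K] [Fintype K] {q : ℕ} (hK : Fintype.card K = q ^ 2) : 2 ≤ q := by
  have h1 : 1 < Fintype.card K := Fintype.one_lt_card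
  rw [hK] at h1
  by_contra h
  have : q = 0 ∨ q = 1 := by omega
  rcases this with h0 | h0 <;> rw [h0] at h1 <;> norm_num at h1

theorem mul_adj_of_adj_mul {K : Type*} [Field K] {n : ℕ} (A : AdjData (Fin n) K)
    (S : Matrix (Fin n) (Fin n) K) (hS : A.adj S * S = 1) : S * A.adj S = 1 :=
  mul_eq_one_comm.1 hS

theorem scalar_of_root_pow {K : Type*} [Field K] [Fintype K] {q : ℕ} (hK : Fintype.card K = q ^ 2)
    {E : Type*} [Field E] [Algebra K E] (ρ : E) (D : ℕ) (h : ρ ^ (D * (q + 1)) = 1) :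
    ∃ c : K, algebraMap K E c = ρ ^ D ∧ c ^ (q + 1) = 1 := by
  have hq2 := two_le_q hK
  have h1 : (ρ ^ D) ^ (Fintype.card K - 1) = 1 := by
    rw [hK, Cfsg.Agent.Lib.helper15.UNat.sq_sub_one_eq q (by omega), mul_comm (q - 1), pow_mul, ← pow_mul ρ, h, one_pow]
  obtain ⟨c, hc⟩ := torsion_mem (F := K) (L := E) _ h1
  refine ⟨c, hc, ?_⟩
  apply (algebraMap K E).injective
  rw [map_pow, hc, ← pow_mul, h, map_one]

theorem caseA_root {K : Type*} [Field K] [Fintype K] {n q : ℕ} (p a : ℕ) [Fact p.Prime] [CharP K p]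
    (hq : q = p ^ a) (hK : Fintype.card K = q ^ 2) (hn : 1 ≤ n) (σ : K →+* K) (hσ : ∀ x, σ x = x ^ q)
    (hσσ : ∀ x, σ (σ x) = x)
    (S : Matrix (Fin n) (Fin n) K) (hS : (uAdj n σ hσσ).adj S * S = 1)
    (P : K[X]) (hirr : Irreducible P) (hPS : aeval S P = 0) :
    haveI : Fact (Irreducible P) := ⟨hirr⟩
    Odd P.natDegree ∧ (AdjoinRoot.root P) ^ (q ^ P.natDegree + 1) = 1 := by
  classical
  have hfact : Fact (Irreducible P) := ⟨hirr⟩
  have hq2 := two_le_q hK
  have hμ0 : P ≠ 0 := hirr.ne_zero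
  have hne : Nonempty (Fin n) := ⟨⟨0, by omega⟩⟩
  let E := AdjoinRoot P
  have hI : ∀ a : K[X], a ∈ Ideal.span {P} → (Polynomial.aeval S) a = 0 := by
    intro a ha
    rw [Ideal.mem_span_singleton] at ha
    obtain ⟨b, rfl⟩ := ha
    rw [map_mul, hPS, zero_mul]
  let φ : E →ₐ[K] Matrix (Fin n) (Fin n) K :=
    Ideal.Quotient.liftₐ (Ideal.span {P}) (Polynomial.aeval S) hI
  have hφroot : φ (AdjoinRoot.root P) = S := by
    show (Polynomial.aeval S) (Polynomial.X : K[X]) = S
    exact Polynomial.aeval_X S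
  have hφinj : Function.Injective φ := by
    have h := RingHom.injective (φ : E →+* Matrix (Fin n) (Fin n) K)
    exact h
  obtain ⟨ρ, hρ⟩ : ∃ ρ : E, ρ = AdjoinRoot.root P := ⟨_, rfl⟩
  rw [← hρ] at hφroot ⊢
  have hS' := mul_adj_of_adj_mul _ S hS
  have hρ0 : ρ ≠ 0 := by
    intro h
    rw [h, map_zero] at hφroot
    rw [← hφroot, Matrix.mul_zero] at hS
    exact zero_ne_one hS
  have hφinv : φ ρ⁻¹ = (uAdj n σ hσσ).adj S := by
    have h1 : φ ρ⁻¹ * S = 1 := by
      rw [← hφroot, ← map_mul, inv_mul_cancel₀ hρ0, map_one]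
    calc φ ρ⁻¹ = φ ρ⁻¹ * (S * (uAdj n σ hσσ).adj S) := by rw [hS', Matrix.mul_one]
      _ = (φ ρ⁻¹ * S) * (uAdj n σ hσσ).adj S := by rw [Matrix.mul_assoc]
      _ = (uAdj n σ hσσ).adj S := by rw [h1, Matrix.one_mul]
  have hinvroot : aeval ρ⁻¹ (P.map σ) = 0 := by
    apply hφinj
    rw [← Polynomial.aeval_algHom_apply, hφinv, map_zero]
    have := Cfsg.Agent.Lib.Helper16.FCR.adj_aeval σ (uAdj n σ hσσ).adj (uAdj n σ hσσ).add'
      (uAdj n σ hσσ).mul' (uAdj n σ hσσ).smul' (uAdj n σ hσσ).one' S P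
    rw [← this, hPS, (uAdj n σ hσσ).adj_zero]
  haveI mfinE : Module.Finite K E := (AdjoinRoot.powerBasis hμ0).finite
  haveI finiteE : Finite E := Module.finite_of_finite K
  haveI fintypeE : Fintype E := Fintype.ofFinite E
  obtain ⟨d, hd⟩ : ∃ d, d = Module.finrank K E := ⟨_, rfl⟩
  have hddeg : d = P.natDegree := by
    rw [hd, (AdjoinRoot.powerBasis hμ0).finrank, AdjoinRoot.powerBasis_dim]
  rw [← hddeg]
  have hd1 : 1 ≤ d := by rw [hddeg]; exact hirr.natDegree_pos
  have hcardE : Fintype.card E = q ^ (2 * d) := by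
    rw [Module.card_eq_pow_finrank (K := K) (V := E), ← hd, hK, ← pow_mul]
  haveI charE : CharP E p := charP_of_injective_algebraMap (algebraMap K E).injective p
  let frobE : E →+* E := iterateFrobenius E p a
  have hfrobE : ∀ x : E, frobE x = x ^ q := by
    intro x
    rw [hq]
    exact iterateFrobenius_def p a x
  have hφK : ∀ c : K, frobE (algebraMap K E c) = algebraMap K E (σ c) := by
    intro c
    rw [hfrobE, hσ, map_pow]
  obtain ⟨y, hy⟩ : ∃ y : E, y = ρ⁻¹ ^ (q ^ (2 * d - 1)) := ⟨_, rfl⟩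
  have hpowE : ∀ x : E, x ^ (q ^ (2 * d)) = x := by
    intro x
    rw [← hcardE]
    exact FiniteField.pow_card x
  have hfroby : frobE y = ρ⁻¹ := by
    rw [hfrobE, hy, ← pow_mul, ← pow_succ, Nat.sub_add_cancel (by omega), hpowE]
  have hyroot : aeval y P = 0 := by
    have h1 := Cfsg.Agent.Lib.Helper16.GUSemi.aeval_frob frobE σ hφK y P
    rw [hfroby, hinvroot] at h1
    exact (map_eq_zero_iff frobE frobE.injective).1 h1.symm
  have hI' : ∀ a : K[X], a ∈ Ideal.span {P} → (Polynomial.aeval y) a = 0 := by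
    intro a ha
    rw [Ideal.mem_span_singleton] at ha
    obtain ⟨b, rfl⟩ := ha
    rw [map_mul, hyroot, zero_mul]
  let τ : E →ₐ[K] E := Ideal.Quotient.liftₐ (Ideal.span {P}) (Polynomial.aeval y) hI'
  have hτroot : τ ρ = y := by
    have h1 : τ (AdjoinRoot.root P) = (Polynomial.aeval y) (Polynomial.X : K[X]) := rfl
    rw [hρ, h1, Polynomial.aeval_X]
  obtain ⟨i, hi⟩ := (FiniteField.bijective_frobeniusAlgHom_pow K E).2 τ
  have hi' : FiniteField.frobeniusAlgHom K E ^ i.1 = τ := hi
  obtain ⟨j, hj⟩ : ∃ j : ℕ, j = i.1 := ⟨_, rfl⟩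
  have hjlt : j < d := by rw [hd, hj]; exact i.2
  rw [← hj] at hi'
  have hfrobpow : ∀ (k : ℕ) (x : E), (FiniteField.frobeniusAlgHom K E ^ k) x = x ^ (q ^ (2 * k)) := by
    intro k x
    rw [AlgHom.coe_pow, FiniteField.coe_frobeniusAlgHom, pow_iterate, hK, ← pow_mul]
  have hτpow : ρ ^ (q ^ (2 * j)) = y := by
    rw [← hfrobpow, hi', hτroot]
  obtain ⟨t, ht⟩ : ∃ t, t = 2 * j + 1 := ⟨_, rfl⟩
  have hρt : ρ ^ (q ^ t) = ρ⁻¹ := by
    rw [ht, pow_succ, pow_mul, hτpow, ← hfrobE, hfroby]
  have hFt : (FiniteField.frobeniusAlgHom K E) ^ t = 1 := by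
    apply AdjoinRoot.algHom_ext
    rw [← hρ, hfrobpow, AlgHom.one_apply, two_mul, pow_add, pow_mul, hρt, inv_pow, hρt, inv_inv]
  have hdvd : d ∣ t := by
    rw [hd, ← FiniteField.orderOf_frobeniusAlgHom K E]
    exact orderOf_dvd_of_pow_eq_one hFt
  have htd : t = d := by
    obtain ⟨u, hu⟩ := hdvd
    have hu1 : u = 1 := by
      rcases Nat.lt_or_ge u 1 with h | h
      · have : u = 0 := by omega
        rw [this, mul_zero] at hu
        omega
      · rcases Nat.lt_or_ge u 2 with h' | h'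
        · omega
        · have : d * 2 ≤ d * u := Nat.mul_le_mul_left d h'
          omega
    rw [hu1, mul_one] at hu
    exact hu
  constructor
  · rw [← htd, ht]
    exact ⟨j, rfl⟩
  · rw [← htd, pow_succ, hρt, inv_mul_cancel₀ hρ0]

theorem norm_exp {K E : Type*} [Field K] [Fintype K] [Field E] [Fintype E] [Algebra K E] {q : ℕ}
    (hK : Fintype.card K = q ^ 2) (d : ℕ) (hd : d = Module.finrank K E) :
    (Nat.card E - 1) / (Nat.card K - 1) = gs (q ^ 2) d := by
  have hq2 := two_le_q hK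
  have hcardE : Fintype.card E = (q ^ 2) ^ d := by
    rw [Module.card_eq_pow_finrank (K := K) (V := E), ← hd, hK]
  rw [Nat.card_eq_fintype_card, Nat.card_eq_fintype_card, hcardE, hK]
  have h1 : 2 ≤ q ^ 2 := by nlinarith
  exact Nat.div_eq_of_eq_mul_left (by omega) (gs_mul _ _ (by omega)).symm

theorem caseA {K : Type*} [Field K] [Fintype K] {n q : ℕ} (p a : ℕ) [Fact p.Prime] [CharP K p]
    (hq : q = p ^ a) (hK : Fintype.card K = q ^ 2) (hn : 1 ≤ n) (σ : K →+* K) (hσ : ∀ x, σ x = x ^ q)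
    (hσσ : ∀ x, σ (σ x) = x)
    (S : Matrix (Fin n) (Fin n) K) (hS : (uAdj n σ hσσ).adj S * S = 1) (hdet : S.det = 1)
    (P : K[X]) (hirr : Irreducible P) (hPS : aeval S P = 0) :
    ∃ c : K, S ^ (Dn q n) = c • 1 := by
  classical
  have hfact : Fact (Irreducible P) := ⟨hirr⟩
  have hq2 := two_le_q hK
  have hμ0 : P ≠ 0 := hirr.ne_zero
  have hne : Nonempty (Fin n) := ⟨⟨0, by omega⟩⟩
  obtain ⟨hodd, hroot⟩ := caseA_root p a hq hK hn σ hσ hσσ S hS P hirr hPS
  let E := AdjoinRoot P
  have hI : ∀ a : K[X], a ∈ Ideal.span {P} → (Polynomial.aeval S) a = 0 := by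
    intro a ha
    rw [Ideal.mem_span_singleton] at ha
    obtain ⟨b, rfl⟩ := ha
    rw [map_mul, hPS, zero_mul]
  let φ : E →ₐ[K] Matrix (Fin n) (Fin n) K :=
    Ideal.Quotient.liftₐ (Ideal.span {P}) (Polynomial.aeval S) hI
  have hφroot : φ (AdjoinRoot.root P) = S := by
    show (Polynomial.aeval S) (Polynomial.X : K[X]) = S
    exact Polynomial.aeval_X S
  let ψ : E →ₐ[K] Module.End K (Fin n → K) :=
    (Matrix.toLinAlgEquiv' : Matrix (Fin n) (Fin n) K ≃ₐ[K] Module.End K (Fin n → K)).toAlgHom.comp φ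
  have hψroot : ψ (AdjoinRoot.root P) = Matrix.toLin' S := by
    show Matrix.toLinAlgEquiv' (φ (AdjoinRoot.root P)) = _
    rw [hφroot]
    rfl
  letI modE : Module E (Fin n → K) := Module.compHom (Fin n → K) (ψ : E →+* Module.End K (Fin n → K))
  have hsmul : ∀ (x : E) (v : Fin n → K), x • v = ψ x v := fun x v => rfl
  haveI tower : IsScalarTower K E (Fin n → K) := by
    refine ⟨fun c x v => ?_⟩
    rw [hsmul, hsmul, map_smul]
    rfl
  haveI finE : Module.Finite E (Fin n → K) := Module.Finite.of_restrictScalars_finite K E (Fin n → K)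
  obtain ⟨t, ht⟩ : ∃ t, t = Module.finrank E (Fin n → K) := ⟨_, rfl⟩
  obtain ⟨d, hd⟩ : ∃ d, d = Module.finrank K E := ⟨_, rfl⟩
  have hddeg : d = P.natDegree := by
    rw [hd, (AdjoinRoot.powerBasis hμ0).finrank, AdjoinRoot.powerBasis_dim]
  rw [← hddeg] at hodd hroot
  have het : d * t = n := by
    rw [hd, ht, Module.finrank_mul_finrank K E (Fin n → K), Module.finrank_fin_fun]
  let f : (Fin n → K) →ₗ[E] (Fin n → K) :=
    (AdjoinRoot.root P) • (LinearMap.id : (Fin n → K) →ₗ[E] (Fin n → K))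
  have hfdet : LinearMap.det f = (AdjoinRoot.root P) ^ t := by
    show LinearMap.det ((AdjoinRoot.root P) • (LinearMap.id : (Fin n → K) →ₗ[E] (Fin n → K))) = _
    rw [LinearMap.det_smul, LinearMap.det_id, mul_one, ht]
  have hfres : f.restrictScalars K = Matrix.toLin' S := by
    apply LinearMap.ext
    intro v
    show (AdjoinRoot.root P) • v = _
    rw [hsmul, hψroot]
  have hnorm : Algebra.norm K ((AdjoinRoot.root P) ^ t) = 1 := by
    rw [← hfdet, ← LinearMap.det_restrictScalars, hfres, LinearMap.det_toLin', hdet]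
  haveI mfinE : Module.Finite K E := (AdjoinRoot.powerBasis hμ0).finite
  haveI finiteE : Finite E := Module.finite_of_finite K
  haveI fintypeE : Fintype E := Fintype.ofFinite E
  have hnp := FiniteField.algebraMap_norm_eq_pow (K := K) (K' := E) (x := (AdjoinRoot.root P) ^ t)
  rw [hnorm, map_one, norm_exp hK d hd, ← pow_mul] at hnp
  have ht1 : 1 ≤ t := by
    rcases Nat.eq_zero_or_pos t with h | h
    · rw [h, mul_zero] at het
      omega
    · exact h
  have hord : orderOf (AdjoinRoot.root P) ∣ Dn q (d * t) * (q + 1) := by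
    apply ord_dvd_A q d t _ hq2 hodd ht1
    · exact orderOf_dvd_of_pow_eq_one hroot
    · exact orderOf_dvd_of_pow_eq_one hnp.symm
  rw [het] at hord
  have hpow : (AdjoinRoot.root P) ^ (Dn q n * (q + 1)) = 1 := orderOf_dvd_iff_pow_eq_one.1 hord
  obtain ⟨c, hc, -⟩ := scalar_of_root_pow hK (AdjoinRoot.root P) (Dn q n) hpow
  refine ⟨c, ?_⟩
  have h1 := congrArg φ hc
  rw [map_pow, hφroot, AlgHom.commutes, Algebra.algebraMap_eq_smul_one] at h1
  exact h1.symm

theorem det_idem_block {F : Type*} [Field F] {ι : Type*} [Fintype ι] [DecidableEq ι]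
    (S e : Matrix ι ι F) (f : F[X]) (hf : Irreducible f) (he : e * e = e) (hSe : Commute S e)
    (hfe : aeval S f * e = 0) :
    haveI : Fact (Irreducible f) := ⟨hf⟩
    ∃ m : ℕ, e.rank = f.natDegree * m ∧
      (S * e + (1 - e)).det = Algebra.norm F ((AdjoinRoot.root f) ^ m) := by
  classical
  have hfact : Fact (Irreducible f) := ⟨hf⟩
  have hf0 : f ≠ 0 := hf.ne_zero
  obtain ⟨W, hWdef⟩ : ∃ W : Submodule F (ι → F), W = LinearMap.range (Matrix.toLin' e) := ⟨_, rfl⟩
  have hWmem : ∀ w : ι → F, w ∈ W ↔ Matrix.toLin' e w = w := by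
    intro w
    rw [hWdef]
    constructor
    · rintro ⟨x, rfl⟩
      rw [← LinearMap.comp_apply, ← Matrix.toLin'_mul, he]
    · intro h
      exact ⟨w, h⟩
  have hcomm_mem : ∀ T : Matrix ι ι F, Commute T e → ∀ w ∈ W, Matrix.toLin' T w ∈ W := by
    intro T hT w hw
    rw [hWmem] at hw ⊢
    rw [← LinearMap.comp_apply, ← Matrix.toLin'_mul, ← hT.eq, Matrix.toLin'_mul, LinearMap.comp_apply, hw]
  have hSW := hcomm_mem S hSe
  let SW : Module.End F W := (Matrix.toLin' S).restrict hSW
  have hSWf : aeval SW f = 0 := by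
    apply LinearMap.ext
    intro w
    apply Subtype.ext
    rw [Cfsg.Agent.Lib.helper15.SpAdj.aeval_restrict_apply, LinearMap.zero_apply, Submodule.coe_zero]
    have hw := (hWmem w).1 w.2
    have h1 : aeval (Matrix.toLin' S) f = Matrix.toLin' (aeval S f) := by
      have := Polynomial.aeval_algHom_apply (Matrix.toLinAlgEquiv' : Matrix ι ι F ≃ₐ[F] _).toAlgHom S f
      exact this
    rw [h1, ← hw, ← LinearMap.comp_apply, ← Matrix.toLin'_mul, hfe, map_zero, LinearMap.zero_apply]
  let E := AdjoinRoot f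
  have hI : ∀ a : F[X], a ∈ Ideal.span {f} → (Polynomial.aeval SW) a = 0 := by
    intro a ha
    rw [Ideal.mem_span_singleton] at ha
    obtain ⟨b, rfl⟩ := ha
    rw [map_mul, hSWf, zero_mul]
  let ψ : E →ₐ[F] Module.End F W := Ideal.Quotient.liftₐ (Ideal.span {f}) (Polynomial.aeval SW) hI
  have hψmk : ∀ q : F[X], ψ (AdjoinRoot.mk f q) = aeval SW q := fun q => rfl
  have hψroot : ψ (AdjoinRoot.root f) = SW := by
    show (Polynomial.aeval SW) (Polynomial.X : F[X]) = SW
    exact Polynomial.aeval_X SW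
  letI modE : Module E W := Module.compHom W (ψ : E →+* Module.End F W)
  have hsmul : ∀ (x : E) (w : W), x • w = ψ x w := fun x w => rfl
  haveI tower : IsScalarTower F E W := by
    refine ⟨fun c x v => ?_⟩
    rw [hsmul, hsmul, map_smul]
    rfl
  haveI finE : Module.Finite E W := Module.Finite.of_restrictScalars_finite F E W
  haveI mfinE : Module.Finite F E := (AdjoinRoot.powerBasis hf0).finite
  obtain ⟨m, hm⟩ : ∃ m, m = Module.finrank E W := ⟨_, rfl⟩
  refine ⟨m, ?_, ?_⟩
  · have h1 : e.rank = Module.finrank F W := by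
      rw [hWdef]
      rfl
    rw [h1, ← Module.finrank_mul_finrank F E W, ← hm, (AdjoinRoot.powerBasis hf0).finrank,
      AdjoinRoot.powerBasis_dim]
  · let fE : W →ₗ[E] W := (AdjoinRoot.root f) • (LinearMap.id : W →ₗ[E] W)
    have hfdet : LinearMap.det fE = (AdjoinRoot.root f) ^ m := by
      show LinearMap.det ((AdjoinRoot.root f) • (LinearMap.id : W →ₗ[E] W)) = _
      rw [LinearMap.det_smul, LinearMap.det_id, mul_one, hm]
    have hfres : fE.restrictScalars F = SW := by
      apply LinearMap.ext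
      intro v
      show (AdjoinRoot.root f) • v = _
      rw [hsmul, hψroot]
    have hdetSW : LinearMap.det SW = Algebra.norm F ((AdjoinRoot.root f) ^ m) := by
      rw [← hfdet, ← LinearMap.det_restrictScalars, hfres]
    rw [← hdetSW, ← LinearMap.det_toLin']
    have hT : W ≤ W.comap (Matrix.toLin' (S * e + (1 - e))) := by
      intro w hw
      rw [Submodule.mem_comap]
      have hw' := (hWmem w).1 hw
      have : Matrix.toLin' (S * e + (1 - e)) w = Matrix.toLin' S w := by
        rw [map_add, LinearMap.add_apply, Matrix.toLin'_mul, LinearMap.comp_apply, hw', map_sub,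
          LinearMap.sub_apply, hw', Matrix.toLin'_one, LinearMap.id_apply, sub_self, add_zero]
      rw [this]
      exact hSW w hw
    rw [LinearMap.det_eq_det_mul_det W _ hT]
    have hres : (Matrix.toLin' (S * e + (1 - e))).restrict hT = SW := by
      apply LinearMap.ext
      intro w
      apply Subtype.ext
      have hw' := (hWmem w).1 w.2
      show Matrix.toLin' (S * e + (1 - e)) (w : ι → F) = Matrix.toLin' S (w : ι → F)
      rw [map_add, LinearMap.add_apply, Matrix.toLin'_mul, LinearMap.comp_apply, hw', map_sub,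
        LinearMap.sub_apply, hw', Matrix.toLin'_one, LinearMap.id_apply, sub_self, add_zero]
    have hquot : W.mapQ W (Matrix.toLin' (S * e + (1 - e))) hT = LinearMap.id := by
      apply LinearMap.ext
      intro x
      obtain ⟨v, rfl⟩ := Submodule.Quotient.mk_surjective W x
      rw [Submodule.mapQ_apply, LinearMap.id_apply, Submodule.Quotient.eq]
      have : Matrix.toLin' (S * e + (1 - e)) v - v =
          Matrix.toLin' S (Matrix.toLin' e v) - Matrix.toLin' e v := by
        rw [map_add, LinearMap.add_apply, Matrix.toLin'_mul, LinearMap.comp_apply, map_sub,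
          LinearMap.sub_apply, Matrix.toLin'_one, LinearMap.id_apply]
        abel
      rw [this]
      have hev : Matrix.toLin' e v ∈ W := by
        rw [hWdef]
        exact ⟨v, rfl⟩
      exact W.sub_mem (hSW _ hev) hev
    rw [hres, hquot, LinearMap.det_id, mul_one]

theorem caseB {K : Type*} [Field K] [Fintype K] {n q : ℕ}
    (hK : Fintype.card K = q ^ 2) (hn : 1 ≤ n) (σ : K →+* K) (hσ : ∀ x, σ x = x ^ q)
    (hσσ : ∀ x, σ (σ x) = x)
    (S : Matrix (Fin n) (Fin n) K) (hS : (uAdj n σ hσσ).adj S * S = 1) (hdet : S.det = 1)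
    (f : K[X]) (hirr : Irreducible f) (e : Matrix (Fin n) (Fin n) K) (he : e * e = e)
    (hSe : Commute S e) (hadj : (uAdj n σ hσσ).adj e = 1 - e) (hfe : aeval S f * e = 0) :
    ∃ c : K, S ^ (Dn q n) = c • 1 := by
  classical
  have hfact : Fact (Irreducible f) := ⟨hirr⟩
  have hq2 := two_le_q hK
  have hf0 : f ≠ 0 := hirr.ne_zero
  obtain ⟨A, hA⟩ : ∃ A : AdjData (Fin n) K, A = uAdj n σ hσσ := ⟨_, rfl⟩
  rw [← hA] at hS hadj
  have hAσ : A.σ = σ := by rw [hA]; rfl
  have hS' : S * A.adj S = 1 := mul_adj_of_adj_mul A S hS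
  obtain ⟨m, hrank, hdetB⟩ := det_idem_block S e f hirr he hSe hfe
  obtain ⟨d, hd⟩ : ∃ d, d = f.natDegree := ⟨_, rfl⟩
  have hd1 : 1 ≤ d := by rw [hd]; exact hirr.natDegree_pos
  rw [← hd] at hrank
  have hn2 : n = 2 * d * m := by
    have h1 := Cfsg.Agent.Lib.helper15.SpAdj.rank_idem_add e he
    rw [← hadj, hA, rank_adj, hrank, Fintype.card_fin] at h1
    rw [← h1]
    ring
  have hm1 : 1 ≤ m := by
    rcases Nat.eq_zero_or_pos m with h | h
    · rw [h, mul_zero] at hn2
      omega
    · exact h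
  let E := AdjoinRoot f
  haveI mfinE : Module.Finite K E := (AdjoinRoot.powerBasis hf0).finite
  haveI finiteE : Finite E := Module.finite_of_finite K
  haveI fintypeE : Fintype E := Fintype.ofFinite E
  have hdfin : d = Module.finrank K E := by
    rw [hd, (AdjoinRoot.powerBasis hf0).finrank, AdjoinRoot.powerBasis_dim]
  have hcardE : Fintype.card E = q ^ (2 * d) := by
    rw [Module.card_eq_pow_finrank (K := K) (V := E), ← hdfin, hK, ← pow_mul]
  obtain ⟨ρ, hρ⟩ : ∃ ρ : E, ρ = AdjoinRoot.root f := ⟨_, rfl⟩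
  rw [← hρ] at hdetB
  have hmkdvd : ∀ g : K[X], AdjoinRoot.mk f g = 0 → aeval S g * e = 0 := by
    intro g hg
    rw [AdjoinRoot.mk_eq_zero] at hg
    obtain ⟨h, rfl⟩ := hg
    rw [map_mul, (Commute.all f h).map (aeval S) |>.eq, Matrix.mul_assoc, hfe, Matrix.mul_zero]
  have he0 : e ≠ 0 := by
    intro h0
    rw [h0, Matrix.rank_zero] at hrank
    have : d * m = 0 := hrank.symm
    have h3 : 0 < d * m := Nat.mul_pos hd1 hm1
    omega
  have hρ0 : ρ ≠ 0 := by
    intro h
    have h1 : AdjoinRoot.mk f (X : K[X]) = 0 := by rw [AdjoinRoot.mk_X, ← hρ, h]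
    have h2 := hmkdvd X h1
    rw [aeval_X] at h2
    apply he0
    calc e = (A.adj S * S) * e := by rw [hS, Matrix.one_mul]
      _ = A.adj S * (S * e) := by rw [Matrix.mul_assoc]
      _ = 0 := by rw [h2, Matrix.mul_zero]
  have hρ1 : ρ ^ (q ^ (2 * d) - 1) = 1 := by
    rw [← hcardE]
    exact FiniteField.pow_card_sub_one_eq_one ρ hρ0
  have hadjSe : Commute (A.adj S) e := by
    show A.adj S * e = e * A.adj S
    calc A.adj S * e = A.adj S * e * (S * A.adj S) := by rw [hS', Matrix.mul_one]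
      _ = A.adj S * (e * S) * A.adj S := by simp only [Matrix.mul_assoc]
      _ = A.adj S * (S * e) * A.adj S := by rw [hSe.eq]
      _ = (A.adj S * S) * e * A.adj S := by simp only [Matrix.mul_assoc]
      _ = e * A.adj S := by rw [hS, Matrix.one_mul]
  have he1 : e * (1 - e) = 0 := by rw [mul_sub, mul_one, he, sub_self]
  have he2 : (1 - e) * e = 0 := by rw [sub_mul, one_mul, he, sub_self]
  have he3 : (1 - e) * (1 - e) = 1 - e := by rw [mul_sub, mul_one, he2, sub_zero]
  obtain ⟨δ, hδ⟩ : ∃ δ : K, δ = (S * e + (1 - e)).det := ⟨_, rfl⟩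
  obtain ⟨δ', hδ'⟩ : ∃ δ' : K, δ' = (e + S * (1 - e)).det := ⟨_, rfl⟩
  have hprod1 : δ * δ' = 1 := by
    rw [hδ, hδ', ← Matrix.det_mul, ← hdet]
    congr 1
    have h1 : S * e * (S * (1 - e)) = 0 := by
      calc S * e * (S * (1 - e)) = S * (e * S) * (1 - e) := by simp only [Matrix.mul_assoc]
        _ = S * (S * e) * (1 - e) := by rw [hSe.eq]
        _ = S * S * (e * (1 - e)) := by simp only [Matrix.mul_assoc]
        _ = 0 := by rw [he1, Matrix.mul_zero]
    have h2 : (1 - e) * (S * (1 - e)) = S * (1 - e) := by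
      have hc : Commute (1 - e) S := ((Commute.one_left S).sub_left hSe.symm)
      rw [← Matrix.mul_assoc, hc.eq, Matrix.mul_assoc, he3]
    rw [add_mul, mul_add, mul_add, Matrix.mul_assoc S e e, he, h1, he2, h2, add_zero, zero_add,
      ← mul_add, add_sub_cancel, mul_one]
  have hprod2 : δ' * σ δ = 1 := by
    have h1 : σ δ = (e + A.adj S * (1 - e)).det := by
      rw [hδ, ← det_adj σ hσσ, ← hA, A.add', A.mul', hadj, A.adj_sub, A.one', hadj, sub_sub_cancel,
        add_comm]
      congr 2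
      exact ((Commute.one_left _).sub_left hadjSe.symm).eq
    rw [h1, hδ', ← Matrix.det_mul]
    have h2 : (e + S * (1 - e)) * (e + A.adj S * (1 - e)) = 1 := by
      have hc1 : e * (A.adj S * (1 - e)) = 0 := by
        rw [← Matrix.mul_assoc, ← hadjSe.eq, Matrix.mul_assoc, he1, Matrix.mul_zero]
      have hc2 : S * (1 - e) * e = 0 := by
        rw [Matrix.mul_assoc, he2, Matrix.mul_zero]
      have hc3 : S * (1 - e) * (A.adj S * (1 - e)) = 1 - e := by
        have hc : Commute (1 - e) (A.adj S) := ((Commute.one_left _).sub_left hadjSe.symm)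
        calc S * (1 - e) * (A.adj S * (1 - e)) = S * ((1 - e) * A.adj S) * (1 - e) := by
              simp only [Matrix.mul_assoc]
          _ = S * (A.adj S * (1 - e)) * (1 - e) := by rw [hc.eq]
          _ = (S * A.adj S) * ((1 - e) * (1 - e)) := by simp only [Matrix.mul_assoc]
          _ = 1 - e := by rw [hS', he3, Matrix.one_mul]
      rw [add_mul, mul_add, mul_add, he, hc1, hc2, hc3, add_zero, zero_add, add_sub_cancel]
    rw [h2, Matrix.det_one]
  have hσδ : σ δ = δ := by
    calc σ δ = (δ * δ') * σ δ := by rw [hprod1, one_mul]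
      _ = δ * (δ' * σ δ) := by rw [mul_assoc]
      _ = δ := by rw [hprod2, mul_one]
  have hδ0 : δ ≠ 0 := by
    intro h
    rw [h, zero_mul] at hprod1
    exact zero_ne_one hprod1
  have hδq : δ ^ (q - 1) = 1 := by
    have h1 : δ ^ q = δ := by rw [← hσ, hσδ]
    have h2 : δ ^ (q - 1) * δ = 1 * δ := by
      rw [← pow_succ, Nat.sub_add_cancel (by omega), h1, one_mul]
    exact mul_right_cancel₀ hδ0 h2
  have hnp := FiniteField.algebraMap_norm_eq_pow (K := K) (K' := E) (x := ρ ^ m)
  rw [← hdetB, ← hδ, norm_exp hK d hdfin, ← pow_mul] at hnp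
  have hρ2 : ρ ^ (m * (gs (q ^ 2) d * (q - 1))) = 1 := by
    rw [← mul_assoc, pow_mul, ← hnp, ← map_pow, hδq, map_one]
  have hord : orderOf ρ ∣ Dn q (2 * d * m) * (q + 1) := by
    apply ord_dvd_B q d m _ hq2 hd1 hm1
    · exact orderOf_dvd_of_pow_eq_one hρ1
    · exact orderOf_dvd_of_pow_eq_one hρ2
  rw [← hn2] at hord
  have hpow : ρ ^ (Dn q n * (q + 1)) = 1 := orderOf_dvd_iff_pow_eq_one.1 hord
  obtain ⟨c, hc, hcq⟩ := scalar_of_root_pow hK ρ (Dn q n) hpow
  refine ⟨c, ?_⟩
  obtain ⟨T, hT⟩ : ∃ T, T = S ^ (Dn q n) := ⟨_, rfl⟩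
  rw [← hT]
  have hTe : T * e = c • e := by
    have h1 : AdjoinRoot.mk f (X ^ (Dn q n) - C c) = 0 := by
      rw [map_sub, map_pow, AdjoinRoot.mk_X, AdjoinRoot.mk_C, ← hρ, ← hc]
      exact sub_self _
    have h2 := hmkdvd _ h1
    rw [map_sub, map_pow, aeval_X, aeval_C, sub_mul, sub_eq_zero, ← hT,
      Algebra.algebraMap_eq_smul_one, Matrix.smul_mul, Matrix.one_mul] at h2
    exact h2
  have hcT : Commute T e := by
    rw [hT]
    exact hSe.pow_left _
  have hadjT : A.adj T * T = 1 := by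
    rw [hT, A.adj_pow]
    have hc : Commute (A.adj S) S := by
      show A.adj S * S = S * A.adj S
      rw [hS, hS']
    rw [← hc.mul_pow, hS, one_pow]
  have hTe' : (1 - e) * T = c • (1 - e) := by
    have h6 := congrArg A.adj hTe
    rw [A.mul', hadj, A.smul', hadj, hAσ] at h6
    have h7 : (1 - e) = σ c • ((1 - e) * T) := by
      calc (1 - e) = (1 - e) * (A.adj T * T) := by rw [hadjT, Matrix.mul_one]
        _ = ((1 - e) * A.adj T) * T := by rw [Matrix.mul_assoc]
        _ = σ c • ((1 - e) * T) := by rw [h6, Matrix.smul_mul]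
    have h8 : c * σ c = 1 := by rw [hσ, ← pow_succ', hcq]
    calc (1 - e) * T = (c * σ c) • ((1 - e) * T) := by rw [h8, one_smul]
      _ = c • (σ c • ((1 - e) * T)) := by rw [mul_smul]
      _ = c • (1 - e) := by rw [← h7]
  calc T = T * e + (1 - e) * T := by
        rw [sub_mul, one_mul, ← hcT.eq]
        abel
    _ = c • e + c • (1 - e) := by rw [hTe, hTe']
    _ = c • 1 := by rw [← smul_add, add_sub_cancel]

theorem commute_adj_of_commute {K : Type*} [Field K] {n : ℕ} (A : AdjData (Fin n) K)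
    (S : Matrix (Fin n) (Fin n) K) (hS : A.adj S * S = 1)
    (X : Matrix (Fin n) (Fin n) K) (h : Commute X S) : Commute X (A.adj S) := by
  have hS' := mul_adj_of_adj_mul A S hS
  have h1 : A.adj S * (X * S) * A.adj S = A.adj S * (S * X) * A.adj S := by rw [h.eq]
  have h2 : A.adj S * (X * S) * A.adj S = A.adj S * X * (S * A.adj S) := by simp only [Matrix.mul_assoc]
  have h3 : A.adj S * (S * X) * A.adj S = (A.adj S * S) * X * A.adj S := by simp only [Matrix.mul_assoc]
  rw [h2, h3, hS', hS, Matrix.mul_one, Matrix.one_mul] at h1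
  exact h1.symm

theorem u_dichotomy {K : Type*} [Field K] [Fintype K] {n q : ℕ} (p a : ℕ) [Fact p.Prime] [CharP K p]
    (hq : q = p ^ a) (hK : Fintype.card K = q ^ 2) (hn : 1 ≤ n) (σ : K →+* K) (hσ : ∀ x, σ x = x ^ q)
    (hσσ : ∀ x, σ (σ x) = x)
    (S : Matrix (Fin n) (Fin n) K) (hS : (uAdj n σ hσσ).adj S * S = 1) (hdet : S.det = 1)
    (M : ℕ) (hM : (M : K) ≠ 0) (hSM : S ^ M = 1) :
    (∃ ε : Matrix (Fin n) (Fin n) K, ε * ε = ε ∧ ε ≠ 0 ∧ ε ≠ 1 ∧ (uAdj n σ hσσ).adj ε = ε ∧
      ∀ h, Commute h S → Commute h ε) ∨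
    (∃ c : K, S ^ (Dn q n) = c • 1) := by
  classical
  have hne : Nonempty (Fin n) := ⟨⟨0, by omega⟩⟩
  have hint : IsIntegral K S := Algebra.IsIntegral.isIntegral S
  have hsq : Squarefree (minpoly K S) := by
    have hsep : Squarefree (X ^ M - C (1 : K)) :=
      (Polynomial.separable_X_pow_sub_C (1 : K) hM one_ne_zero).squarefree
    apply hsep.squarefree_of_dvd
    apply minpoly.dvd
    rw [map_sub, map_pow, aeval_X, aeval_C, hSM, map_one, sub_self]
  have hnu : ¬ IsUnit (minpoly K S) := minpoly.not_isUnit K S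
  have hμ0 : minpoly K S ≠ 0 := minpoly.ne_zero hint
  by_cases hirr : Irreducible (minpoly K S)
  · right
    exact caseA p a hq hK hn σ hσ hσσ S hS hdet (minpoly K S) hirr (minpoly.aeval K S)
  · obtain ⟨A, hA⟩ : ∃ A : AdjData (Fin n) K, A = uAdj n σ hσσ := ⟨_, rfl⟩
    have hS2 : A.adj S * S = 1 := by rw [hA]; exact hS
    obtain ⟨f, hf, hfdvd⟩ := WfDvdMonoid.exists_irreducible_factor hnu hμ0
    obtain ⟨h, hμ⟩ := hfdvd
    have hhnu : ¬ IsUnit h := by
      intro hu
      apply hirr
      rw [hμ]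
      exact (irreducible_mul_isUnit hu).2 hf
    have hfnu : ¬ IsUnit f := hf.not_isUnit
    have hf0 : f ≠ 0 := hf.ne_zero
    have hh0 : h ≠ 0 := by
      intro h0
      rw [h0, mul_zero] at hμ
      exact hμ0 hμ
    rw [hμ] at hsq
    have hrel : IsRelPrime f h := (squarefree_mul_iff.1 hsq).1
    obtain ⟨a', b, hab⟩ := hrel.isCoprime
    have hker : Polynomial.aeval S (f * h) = 0 := by
      rw [← hμ]
      exact minpoly.aeval K S
    obtain ⟨e, hedef⟩ : ∃ e, e = Polynomial.aeval S (b * h) := ⟨_, rfl⟩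
    have hsum : Polynomial.aeval S (a' * f) + e = 1 := by
      rw [hedef, ← map_add, hab, map_one]
    have he : e * e = e := by
      have h1 : Polynomial.aeval S (a' * f) * e = 0 := by
        rw [hedef, ← map_mul]
        have : a' * f * (b * h) = a' * b * (f * h) := by ring
        rw [this, map_mul, hker, mul_zero]
      have h3 : Polynomial.aeval S (a' * f) = 1 - e := eq_sub_of_add_eq hsum
      rw [h3, sub_mul, one_mul, sub_eq_zero] at h1
      exact h1.symm
    have he0 : e ≠ 0 := by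
      intro h0
      have h1 : Polynomial.aeval S h = 0 := by
        have e1 : h = a' * (f * h) + h * (b * h) := by
          calc h = h * (a' * f + b * h) := by rw [hab, mul_one]
            _ = a' * (f * h) + h * (b * h) := by ring
        rw [e1, map_add, map_mul, hker, mul_zero, map_mul, ← hedef, h0, mul_zero, add_zero]
      obtain ⟨c, hc⟩ := minpoly.dvd K S h1
      rw [hμ] at hc
      have h2 : h * 1 = h * (f * c) := by
        rw [mul_one, ← mul_assoc, mul_comm h f]
        exact hc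
      have h3 : 1 = f * c := mul_left_cancel₀ hh0 h2
      exact hfnu (IsUnit.of_mul_eq_one c h3.symm)
    have he1 : e ≠ 1 := by
      intro h0
      have h1 : Polynomial.aeval S f = 0 := by
        have haf : Polynomial.aeval S (a' * f) = 0 := by
          rw [h0] at hsum
          exact add_eq_right.1 hsum
        have e1 : f = f * (a' * f) + b * (f * h) := by
          calc f = f * (a' * f + b * h) := by rw [hab, mul_one]
            _ = f * (a' * f) + b * (f * h) := by ring
        rw [e1, map_add, map_mul, haf, mul_zero, map_mul, hker, mul_zero, add_zero]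
      obtain ⟨c, hc⟩ := minpoly.dvd K S h1
      rw [hμ] at hc
      have h2 : f * 1 = f * (h * c) := by
        rw [mul_one, ← mul_assoc]
        exact hc
      have h3 : 1 = h * c := mul_left_cancel₀ hf0 h2
      exact hhnu (IsUnit.of_mul_eq_one c h3.symm)
    have hce : ∀ x, Commute x S → Commute x e := by
      intro x hx
      rw [hedef]
      exact commute_aeval x S hx _
    have hadje : A.adj e = Polynomial.aeval (A.adj S) ((b * h).map σ) := by
      rw [hedef]
      have := Cfsg.Agent.Lib.Helper16.FCR.adj_aeval σ A.adj A.add' A.mul'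
        (fun c x => by rw [A.smul', hA]; rfl) A.one' S (b * h)
      exact this
    have hcae : ∀ x, Commute x S → Commute x (A.adj e) := by
      intro x hx
      rw [hadje]
      exact commute_aeval x (A.adj S) (commute_adj_of_commute A S hS2 x hx) _
    have hSe : Commute S e := hce S (Commute.refl S)
    have heae : Commute e (A.adj e) := hcae e hSe.symm
    have hae : A.adj e * A.adj e = A.adj e := by rw [← A.mul', he]
    have hfe : aeval S f * e = 0 := by
      rw [hedef, ← map_mul]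
      have : f * (b * h) = b * (f * h) := by ring
      rw [this, map_mul, hker, mul_zero]
    rw [← hA]
    by_cases h1 : e * A.adj e = 0
    · by_cases h2 : e + A.adj e = 1
      · right
        have hadj : A.adj e = 1 - e := eq_sub_of_add_eq' h2
        rw [hA] at hadj
        exact caseB hK hn σ hσ hσσ S hS hdet f hf e he hSe hadj hfe
      · left
        refine ⟨e + A.adj e, ?_, ?_, h2, ?_, ?_⟩
        · rw [add_mul, mul_add, mul_add, he, hae, h1, ← heae.eq, h1, add_zero, zero_add]
        · intro h0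
          have h3 : e * (e + A.adj e) = e := by rw [mul_add, he, h1, add_zero]
          rw [h0, mul_zero] at h3
          exact he0 h3.symm
        · rw [A.add', A.inv', add_comm]
        · intro x hx
          exact (hce x hx).add_right (hcae x hx)
    · left
      refine ⟨e * A.adj e, ?_, h1, ?_, ?_, ?_⟩
      · calc e * A.adj e * (e * A.adj e) = (e * e) * (A.adj e * A.adj e) := by
              rw [Matrix.mul_assoc, ← Matrix.mul_assoc (A.adj e) e, ← heae.eq]
              simp only [Matrix.mul_assoc]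
          _ = e * A.adj e := by rw [he, hae]
      · intro h0
        apply he1
        calc e = e * 1 := (Matrix.mul_one e).symm
          _ = e * (e * A.adj e) := by rw [h0]
          _ = (e * e) * A.adj e := by rw [Matrix.mul_assoc]
          _ = 1 := by rw [he, h0]
      · rw [A.mul', A.inv', heae.eq]
      · intro x hx
        exact (hce x hx).mul_right (hcae x hx)

end Cfsg.Agent.Lib.helper15.UDich
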