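import Mathlib
import Cfsg.Agent.Lib.helper15.UDich
import Cfsg.Agent.Lib.helper15.MixAbs
import Cfsg.Agent.Lib.helper15.UBlk

set_option autoImplicit false

namespace Cfsg.Agent.Lib.helper15.UMix

open Matrix Polynomial Cfsg.Agent.Lib.Helper16.RN Cfsg.Agent.Lib.helper15.UBase
open Cfsg.Agent.Lib.helper15.UNat Cfsg.Agent.S2495 Cfsg.Agent.Lib.helper15.PslMix
open Cfsg.Agent.Lib.helper15.UDich Cfsg.Agent.Lib.helper15.UBlk

theorem finite_PSU {K : Type*} [Field K] [Fintype K] (n q : ℕ) : Finite (Cfsg.PSU n K q) := by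
  classical
  infer_instance

theorem exists_mix_of_idem {F : Type*} [Field F] (n : ℕ) (ε : Matrix (Fin n) (Fin n) F)
    (hε : ε * ε = ε) (h0 : ε ≠ 0) (h1 : ε ≠ 1) (ζ : F) (r : ℕ) (hr : r.Prime)
    (hζ : IsPrimitiveRoot ζ r) (hrn : ¬ r ∣ n) :
    ∃ i j : ℕ, (mix ε (ζ ^ i) (ζ ^ j)).det = 1 ∧ (∀ c : F, mix ε (ζ ^ i) (ζ ^ j) ≠ c • 1) := by
  have hrne : NeZero r := ⟨hr.ne_zero⟩
  have hζr : ζ ^ r = 1 := hζ.pow_eq_one
  obtain ⟨P, hP⟩ : ∃ P, P = mix ε ζ (1 : F) := ⟨_, rfl⟩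
  obtain ⟨Q, hQ⟩ : ∃ Q, Q = mix ε (1 : F) ζ := ⟨_, rfl⟩
  have hPr : P.det ^ r = 1 := by
    rw [← Matrix.det_pow, hP, mix_pow ε hε, hζr, one_pow, mix_one, Matrix.det_one]
  have hQr : Q.det ^ r = 1 := by
    rw [← Matrix.det_pow, hQ, mix_pow ε hε, hζr, one_pow, mix_one, Matrix.det_one]
  obtain ⟨a, -, ha⟩ := hζ.eq_pow_of_pow_eq_one hPr
  obtain ⟨b, -, hb⟩ := hζ.eq_pow_of_pow_eq_one hQr
  have hPQ : P.det * Q.det = ζ ^ n := by
    rw [← Matrix.det_mul, hP, hQ, mix_mul ε hε, mul_one, one_mul, mix_same, Matrix.det_smul,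
      Matrix.det_one, mul_one, Fintype.card_fin]
  have hab : ζ ^ (a + b) = ζ ^ n := by
    rw [pow_add, ha, hb, hPQ]
  refine ⟨b, (r - 1) * a, ?_, ?_⟩
  · have e1 : mix ε (ζ ^ b) (ζ ^ ((r - 1) * a)) = P ^ b * Q ^ ((r - 1) * a) := by
      rw [hP, hQ, mix_pow ε hε, mix_pow ε hε, mix_mul ε hε, one_pow, one_pow, mul_one, one_mul]
    rw [e1, Matrix.det_mul, Matrix.det_pow, Matrix.det_pow, ← ha, ← hb, ← pow_mul, ← pow_mul, ← pow_add]
    have e2 : a * b + b * ((r - 1) * a) = r * (a * b) := by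
      have : r = (r - 1) + 1 := by have := hr.pos; omega
      nth_rewrite 2 [this]
      ring
    rw [e2, pow_mul, hζr, one_pow]
  · intro c hc
    have hz1 : mix ε (ζ ^ b) (ζ ^ ((r - 1) * a)) * ε = (ζ ^ b) • ε := by
      unfold mix
      rw [add_mul, smul_mul_assoc, smul_mul_assoc, hε, sub_mul, one_mul, hε, sub_self, smul_zero, add_zero]
    have hz2 : mix ε (ζ ^ b) (ζ ^ ((r - 1) * a)) * (1 - ε) = (ζ ^ ((r - 1) * a)) • (1 - ε) := by
      unfold mix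
      have h2 : ε * (1 - ε) = 0 := by rw [mul_sub, mul_one, hε, sub_self]
      have h3 : (1 - ε) * (1 - ε) = 1 - ε := by
        rw [sub_mul, one_mul, h2, sub_zero]
      rw [add_mul, smul_mul_assoc, smul_mul_assoc, h2, h3, smul_zero, zero_add]
    rw [hc, smul_mul_assoc, one_mul] at hz1 hz2
    have hc1 : c = ζ ^ b := by
      have h4 : (c - ζ ^ b) • ε = 0 := by rw [sub_smul, hz1, sub_self]
      rcases smul_eq_zero.1 h4 with h5 | h5
      · exact sub_eq_zero.1 h5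
      · exact absurd h5 h0
    have hc2 : c = ζ ^ ((r - 1) * a) := by
      have h4 : (c - ζ ^ ((r - 1) * a)) • (1 - ε) = 0 := by rw [sub_smul, hz2, sub_self]
      rcases smul_eq_zero.1 h4 with h5 | h5
      · exact sub_eq_zero.1 h5
      · exfalso
        apply h1
        exact (sub_eq_zero.1 h5).symm
    have h6 : ζ ^ n = 1 := by
      rw [← hab, add_comm, pow_add, ← hc1, hc2, ← pow_add]
      have e2 : (r - 1) * a + a = r * a := by
        have : r = (r - 1) + 1 := by have := hr.pos; omega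
        nth_rewrite 2 [this]
        ring
      rw [e2, pow_mul, hζr, one_pow]
    exact hrn (hζ.dvd_of_pow_eq_one n h6)

theorem adj_mix {K : Type*} [Field K] {n : ℕ} (A : AdjData (Fin n) K) (ε : Matrix (Fin n) (Fin n) K)
    (hadj : A.adj ε = ε) (α β : K) : A.adj (mix ε α β) = mix ε (A.σ α) (A.σ β) := by
  unfold mix
  rw [A.add', A.smul', A.smul', A.adj_sub, A.one', hadj]

theorem mix_unitary {K : Type*} [Field K] {n : ℕ} (A : AdjData (Fin n) K)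
    (ε : Matrix (Fin n) (Fin n) K) (hε : ε * ε = ε)
    (hadj : A.adj ε = ε) (α β : K) (hα : A.σ α * α = 1) (hβ : A.σ β * β = 1) :
    A.adj (mix ε α β) * mix ε α β = 1 := by
  rw [adj_mix A ε hadj, mix_mul ε hε, hα, hβ, mix_one]

theorem exists_prim_root_u {K : Type*} [Field K] [Fintype K] {q : ℕ} (hK : Fintype.card K = q ^ 2)
    (r : ℕ) (hr : r.Prime) (hrq : r ∣ q + 1) :
    ∃ ζ : K, IsPrimitiveRoot ζ r ∧ ζ ^ (q + 1) = 1 := by
  have hq2 := two_le_q hK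
  have h1 : r ∣ Fintype.card K - 1 := by
    rw [hK, Cfsg.Agent.Lib.helper15.UNat.sq_sub_one_eq q (by omega)]
    exact dvd_mul_of_dvd_right hrq _
  obtain ⟨ζ, hζ⟩ := exists_prim_root (F := K) r hr h1
  refine ⟨ζ, hζ, ?_⟩
  obtain ⟨k, hk⟩ := hrq
  rw [hk, pow_mul, hζ.pow_eq_one, one_pow]

theorem exists_z_u {K : Type*} [Field K] [Fintype K] {n q : ℕ} (hK : Fintype.card K = q ^ 2)
    (σ : K →+* K) (hσ : ∀ x, σ x = x ^ q) (hσσ : ∀ x, σ (σ x) = x)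
    (ε : Matrix (Fin n) (Fin n) K) (hε : ε * ε = ε) (h0 : ε ≠ 0) (h1 : ε ≠ 1)
    (hadj : (uAdj n σ hσσ).adj ε = ε) (r : ℕ) (hr : r.Prime) (hrq : r ∣ q + 1) (hrn : ¬ r ∣ n) :
    ∃ z : Cfsg.SU n K q, (z.1 : Matrix (Fin n) (Fin n) K) ^ r = 1 ∧
      (∀ c : K, (z.1 : Matrix (Fin n) (Fin n) K) ≠ c • 1) ∧
      ∀ h, Commute h ε → Commute h (z.1 : Matrix (Fin n) (Fin n) K) := by
  obtain ⟨ζ, hζ, hζq⟩ := exists_prim_root_u hK r hr hrq
  obtain ⟨i, j, hdet, hns⟩ := exists_mix_of_idem n ε hε h0 h1 ζ r hr hζ hrn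
  have hnorm : ∀ k : ℕ, (uAdj n σ hσσ).σ (ζ ^ k) * ζ ^ k = 1 := by
    intro k
    show σ (ζ ^ k) * ζ ^ k = 1
    rw [hσ, ← pow_succ, ← pow_mul, mul_comm, pow_mul, hζq, one_pow]
  have hU := mix_unitary (uAdj n σ hσσ) ε hε hadj (ζ ^ i) (ζ ^ j) (hnorm i) (hnorm j)
  refine ⟨mkSU σ hσ hσσ (mix ε (ζ ^ i) (ζ ^ j)) hdet hU, ?_, ?_, ?_⟩
  · rw [mkSU_coe, mix_pow ε hε, ← pow_mul, ← pow_mul, mul_comm i r, mul_comm j r, pow_mul, pow_mul,
      hζ.pow_eq_one, one_pow, one_pow, mix_one]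
  · intro c
    rw [mkSU_coe]
    exact hns c
  · intro h hc
    rw [mkSU_coe]
    exact mix_commute ε _ _ h hc

theorem orderOf_mk_z {K : Type*} [Field K] [Fintype K] {n q : ℕ} (hK : Fintype.card K = q ^ 2)
    (hn : 2 ≤ n) (z : Cfsg.SU n K q) (r : ℕ) (hr : r.Prime)
    (hzr : (z.1 : Matrix (Fin n) (Fin n) K) ^ r = 1)
    (hns : ∀ c : K, (z.1 : Matrix (Fin n) (Fin n) K) ≠ c • 1) :
    orderOf (QuotientGroup.mk z : Cfsg.PSU n K q) = r := by
  have hfr : Fact r.Prime := ⟨hr⟩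
  apply orderOf_eq_prime
  · rw [mk_pow_eq_one_iff hK hn]
    exact ⟨1, by rw [hzr, one_smul]⟩
  · intro h
    have h1 : (QuotientGroup.mk z : Cfsg.PSU n K q) ^ 1 = 1 := by
      rw [pow_one]
      exact h
    rw [mk_pow_eq_one_iff hK hn] at h1
    obtain ⟨c, hc⟩ := h1
    rw [pow_one] at hc
    exact hns c hc

theorem psu_dichotomy {K : Type*} [Field K] [Fintype K] {n q : ℕ} (p a : ℕ) [Fact p.Prime] [CharP K p]
    (hq : q = p ^ a) (hK : Fintype.card K = q ^ 2) (hn : 2 ≤ n)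
    (r : ℕ) (hr : r.Prime) (hrq : r ∣ q + 1) (hrn : ¬ r ∣ n) (x : Cfsg.PSU n K q) :
    (∃ w : Cfsg.PSU n K q, orderOf w = r ∧ Commute x w) ∨
    (∀ M : ℕ, M ∣ orderOf x → M.Coprime p → M ∣ Dn q n) := by
  classical
  have hp : p.Prime := Fact.out
  obtain ⟨σ, hσ, hσσ⟩ := frob_data hK
  obtain ⟨g, rfl⟩ := QuotientGroup.mk_surjective x
  have hfin : Finite (Cfsg.SU n K q) := inferInstance
  have ho0 : orderOf g ≠ 0 := (orderOf_pos g).ne'
  obtain ⟨w, Mg, hMg, hoMg⟩ := Nat.exists_eq_pow_mul_and_not_dvd ho0 p hp.ne_one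
  obtain ⟨s, hs⟩ : ∃ s : Cfsg.SU n K q, s = g ^ (p ^ w) := ⟨_, rfl⟩
  have hsM : s ^ Mg = 1 := by
    rw [hs, ← pow_mul, ← hoMg, pow_orderOf_eq_one]
  obtain ⟨S, hS⟩ : ∃ S : Matrix (Fin n) (Fin n) K, S = (s.1 : Matrix (Fin n) (Fin n) K) := ⟨_, rfl⟩
  have hSM : S ^ Mg = 1 := by
    rw [hS, ← coe_pow_SU, hsM]
    rfl
  have hMgF : ((Mg : ℕ) : K) ≠ 0 := by
    rw [Ne, CharP.cast_eq_zero_iff K p]
    exact hMg
  have hSdet : S.det = 1 := by
    rw [hS]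
    exact s.1.det_coe
  have hSU : (uAdj n σ hσσ).adj S * S = 1 := by
    rw [hS]
    exact SU_adj σ hσ hσσ s
  rcases u_dichotomy p a hq hK (by omega) σ hσ hσσ S hSU hSdet Mg hMgF hSM with
    ⟨ε, hε, hε0, hε1, hεadj, hεc⟩ | ⟨c, hc⟩
  · left
    obtain ⟨z, hzr, hzns, hzc⟩ := exists_z_u hK σ hσ hσσ ε hε hε0 hε1 hεadj r hr hrq hrn
    refine ⟨QuotientGroup.mk z, orderOf_mk_z hK hn z r hr hzr hzns, ?_⟩
    apply commute_mk
    apply hzc
    apply hεc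
    rw [hS, hs, coe_pow_SU]
    exact (Commute.refl _).pow_right _
  · right
    intro M hM hMp
    have h1 : (QuotientGroup.mk s : Cfsg.PSU n K q) ^ (Dn q n) = 1 := by
      rw [mk_pow_eq_one_iff hK hn]
      exact ⟨c, by rw [← hS]; exact hc⟩
    rw [hs, QuotientGroup.mk_pow, ← pow_mul] at h1
    have h2 := orderOf_dvd_of_pow_eq_one h1
    have h3 : M ∣ p ^ w * Dn q n := dvd_trans hM h2
    exact (Nat.Coprime.pow_right w hMp).dvd_of_dvd_mul_left h3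

theorem reg_nilp_pow_ne {F : Type*} [Field F] {m : ℕ} (N : Matrix (Fin (m + 1)) (Fin (m + 1)) F)
    (hnil : N ^ (m + 1) = 0) (hrank : N.rank = m) : N ^ m ≠ 0 := by
  obtain ⟨P, hP, hNP⟩ := Cfsg.Agent.Lib.Helper16.exists_conj_shift N hnil hrank
  have hpow : ∀ t : ℕ, N ^ t * P = P * Cfsg.Agent.Lib.Helper16.shiftN F (m + 1) ^ t := by
    intro t
    induction t with
    | zero => rw [pow_zero, pow_zero, one_mul, mul_one]
    | succ t ih =>
      rw [pow_succ, Matrix.mul_assoc, hNP, ← Matrix.mul_assoc, ih, Matrix.mul_assoc, ← pow_succ]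
  intro h0
  have h1 := hpow m
  rw [h0, zero_mul] at h1
  have hPu : IsUnit P.det := isUnit_iff_ne_zero.2 hP
  have h2 : Cfsg.Agent.Lib.Helper16.shiftN F (m + 1) ^ m = 0 := by
    have h3 : P⁻¹ * (P * Cfsg.Agent.Lib.Helper16.shiftN F (m + 1) ^ m) = 0 := by rw [← h1, mul_zero]
    rw [← Matrix.mul_assoc, Matrix.nonsing_inv_mul _ hPu, one_mul] at h3
    exact h3
  have h4 := congrFun (congrFun h2 ⟨m, by omega⟩) ⟨0, by omega⟩
  rw [Cfsg.Agent.Lib.Helper16.shiftN_pow_apply, Matrix.zero_apply, if_pos (by simp)] at h4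
  exact one_ne_zero h4

theorem exists_unip_order_u {K : Type*} [Field K] [Fintype K] {q : ℕ} (p : ℕ) [Fact p.Prime]
    [CharP K p] (hK : Fintype.card K = q ^ 2) (σ : K →+* K) (hσ : ∀ x, σ x = x ^ q)
    (hσσ : ∀ x, σ (σ x) = x) (b : ℕ) (hb : 1 ≤ b) :
    ∃ U : Matrix (Fin b) (Fin b) K, (uAdj b σ hσσ).adj U * U = 1 ∧
      ∀ j : ℕ, U ^ (p ^ j) = 1 ↔ b ≤ p ^ j := by
  obtain ⟨m, rfl⟩ : ∃ m, b = m + 1 := ⟨b - 1, by omega⟩
  obtain ⟨U, hU1, hU2, hU3⟩ := exists_reg_unip_gu hK hb σ hσ hσσ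
  refine ⟨U, mul_eq_one_comm.1 hU1, ?_⟩
  intro j
  have hne := reg_nilp_pow_ne (U - 1) hU2 (by rw [hU3]; rfl)
  have hpow : U ^ (p ^ j) - 1 = (U - 1) ^ (p ^ j) := by
    rw [sub_pow_char_pow_of_commute _ _ (Commute.one_right _), one_pow]
  constructor
  · intro h
    by_contra hlt
    have hle : p ^ j ≤ m := by omega
    apply hne
    obtain ⟨t, ht⟩ : ∃ t, m = t + p ^ j := ⟨m - p ^ j, by omega⟩
    have h5 : (U - 1) ^ m = (U - 1) ^ t * (U - 1) ^ (p ^ j) := by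
      rw [← pow_add]
      exact congrArg _ ht
    rw [h5, ← hpow, h, sub_self, mul_zero]
  · intro h
    have : (U - 1) ^ (p ^ j) = 0 := by
      rw [← Nat.sub_add_cancel h, pow_add, hU2, mul_zero]
    rw [← hpow, sub_eq_zero] at this
    exact this

theorem eq_one_of_ppow' {F : Type*} [Field F] (p : ℕ) [Fact p.Prime] [CharP F p] (x : F) (c : ℕ)
    (h : x ^ (p ^ c) = 1) : x = 1 := eq_one_of_ppow_eq_one p x c h

theorem orderOf_mk_of_ppow_u {K : Type*} [Field K] [Fintype K] {n q : ℕ} (p : ℕ) [Fact p.Prime]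
    [CharP K p] (hK : Fintype.card K = q ^ 2) (hn : 2 ≤ n)
    (u : Cfsg.SU n K q) (c : ℕ) (hu : orderOf u = p ^ c) :
    orderOf (QuotientGroup.mk u : Cfsg.PSU n K q) = p ^ c := by
  have hp : p.Prime := Fact.out
  have hdvd : orderOf (QuotientGroup.mk u : Cfsg.PSU n K q) ∣ p ^ c := by
    apply orderOf_dvd_of_pow_eq_one
    rw [← QuotientGroup.mk_pow, ← hu, pow_orderOf_eq_one]
    rfl
  obtain ⟨c', hc', ho'⟩ := (Nat.dvd_prime_pow hp).1 hdvd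
  have h1 : (QuotientGroup.mk u : Cfsg.PSU n K q) ^ (p ^ c') = 1 := by
    rw [← ho']
    exact pow_orderOf_eq_one _
  rw [mk_pow_eq_one_iff hK hn] at h1
  obtain ⟨lam, hlam⟩ := h1
  have h2 : ((u.1 : Matrix (Fin n) (Fin n) K) ^ (p ^ c')) ^ (p ^ (c - c')) = 1 := by
    rw [← pow_mul, ← pow_add, Nat.add_sub_cancel' hc', ← coe_pow_SU, ← hu, pow_orderOf_eq_one]
    rfl
  rw [hlam, _root_.smul_pow, one_pow] at h2
  have h3 := congrFun (congrFun h2 ⟨0, by omega⟩) ⟨0, by omega⟩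
  rw [Matrix.smul_apply, Matrix.one_apply_eq, smul_eq_mul, mul_one] at h3
  have h4 : lam = 1 := eq_one_of_ppow_eq_one p lam _ h3
  rw [h4, one_smul] at hlam
  have h5 : u ^ (p ^ c') = 1 := by
    apply Subtype.ext
    apply Subtype.ext
    rw [coe_pow_SU, hlam]
    rfl
  have h6 := orderOf_dvd_of_pow_eq_one h5
  rw [hu] at h6
  rw [ho']
  exact Nat.dvd_antisymm (pow_dvd_pow p hc') h6

theorem r_ne_p_u {K : Type*} [Field K] [Fintype K] {q : ℕ} (p a : ℕ) [Fact p.Prime]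
    (hq : q = p ^ a) (ha : 1 ≤ a) (r : ℕ) (hrq : r ∣ q + 1) : r ≠ p := by
  have hp : p.Prime := Fact.out
  intro h
  rw [h] at hrq
  have h1 : p ∣ q := by
    rw [hq]
    exact dvd_pow_self p (by omega)
  have h3 : p ∣ 1 := (Nat.dvd_add_right h1).1 hrq
  exact hp.one_lt.ne' (Nat.dvd_one.1 h3)

theorem mul_r_of_commute_idem_u {K : Type*} [Field K] [Fintype K] {n q : ℕ} (p a : ℕ) [Fact p.Prime]
    [CharP K p] (hq : q = p ^ a) (ha : 1 ≤ a) (hK : Fintype.card K = q ^ 2) (hn : 2 ≤ n)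
    (σ : K →+* K) (hσ : ∀ x, σ x = x ^ q) (hσσ : ∀ x, σ (σ x) = x)
    (r : ℕ) (hr : r.Prime) (hrq : r ∣ q + 1) (hrn : ¬ r ∣ n)
    (ε : Matrix (Fin n) (Fin n) K) (hε : ε * ε = ε) (h0 : ε ≠ 0) (h1 : ε ≠ 1)
    (hadj : (uAdj n σ hσσ).adj ε = ε)
    (u : Cfsg.SU n K q) (hcomm : Commute (u.1 : Matrix (Fin n) (Fin n) K) ε) (c : ℕ)
    (hu : orderOf u = p ^ c) :
    ∃ w : Cfsg.PSU n K q, orderOf w = p ^ c * r := by
  have hp : p.Prime := Fact.out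
  obtain ⟨z, hzr, hzns, hzc⟩ := exists_z_u hK σ hσ hσσ ε hε h0 h1 hadj r hr hrq hrn
  have hzo := orderOf_mk_z hK hn z r hr hzr hzns
  have huo := orderOf_mk_of_ppow_u p hK hn u c hu
  have hcm : Commute (QuotientGroup.mk u : Cfsg.PSU n K q) (QuotientGroup.mk z) :=
    commute_mk u z (hzc _ hcomm)
  have hrp : r ≠ p := r_ne_p_u (K := K) p a hq ha r hrq
  have hcop : Nat.Coprime (p ^ c) r := Nat.Coprime.pow_left c ((Nat.coprime_primes hp hr).2 (Ne.symm hrp))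
  refine ⟨QuotientGroup.mk u * QuotientGroup.mk z, ?_⟩
  rw [hcm.orderOf_mul_eq_mul_orderOf_of_coprime (by rw [huo, hzo]; exact hcop), huo, hzo]

theorem dε_adj {K : Type*} [Field K] {n : ℕ} (σ : K →+* K) (hσσ : ∀ x, σ (σ x) = x) :
    (uAdj n σ hσσ).adj (dε K n) = dε K n := by
  rw [uAdj_apply]
  unfold dε
  rw [Matrix.diagonal_map (map_zero σ), Matrix.diagonal_transpose]
  congr 1
  funext i
  show σ (if i.val < n - 1 then 1 else 0) = _
  split_ifs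
  · exact map_one σ
  · exact map_zero σ

theorem ur_T {K : Type*} [Field K] [Fintype K] {n q : ℕ} (p a : ℕ) [Fact p.Prime]
    [CharP K p] (hq : q = p ^ a) (ha : 1 ≤ a) (hK : Fintype.card K = q ^ 2) (hn : 2 ≤ n)
    (r : ℕ) (hr : r.Prime) (hrq : r ∣ q + 1) (hrn : ¬ r ∣ n) :
    ∃ w : Cfsg.PSU n K q, orderOf w = r := by
  obtain ⟨σ, hσ, hσσ⟩ := frob_data hK
  obtain ⟨w, hw⟩ := mul_r_of_commute_idem_u p a hq ha hK hn σ hσ hσσ r hr hrq hrn (dε K n)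
    (dε_idem n) (dε_ne_zero n hn) (dε_ne_one n hn) (dε_adj σ hσσ) 1 (by
      show Commute ((1 : Matrix.SpecialLinearGroup (Fin n) K) : Matrix (Fin n) (Fin n) K) _
      rw [Matrix.SpecialLinearGroup.coe_one]
      exact Commute.one_left _) 0 (by rw [orderOf_one, pow_zero])
  exact ⟨w, by rw [hw, pow_zero, one_mul]⟩

theorem upr_T {K : Type*} [Field K] [Fintype K] {n q : ℕ} (p a : ℕ) [Fact p.Prime]
    [CharP K p] (hq : q = p ^ a) (ha : 1 ≤ a) (hK : Fintype.card K = q ^ 2) (hn : 2 ≤ n)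
    (r : ℕ) (hr : r.Prime) (hrq : r ∣ q + 1) (hrn : ¬ r ∣ n)
    (c : ℕ) (hc : p ^ c + 1 ≤ n - 1) :
    ∃ w : Cfsg.PSU n K q, orderOf w = p ^ (c + 1) * r := by
  classical
  have hp : p.Prime := Fact.out
  obtain ⟨σ, hσ, hσσ⟩ := frob_data hK
  obtain ⟨b, hb⟩ : ∃ b, b = p ^ c + 1 := ⟨_, rfl⟩
  obtain ⟨k, rfl⟩ : ∃ k, n = b + k := ⟨n - b, by omega⟩
  have hk1 : 1 ≤ k := by omega
  have hb1 : 1 ≤ b := by omega
  have hpc : 1 ≤ p ^ c := Nat.one_le_pow _ _ hp.pos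
  obtain ⟨U, hUadj, hUpow⟩ := exists_unip_order_u p hK σ hσ hσσ b hb1
  have hfin : U ^ (p ^ (c + 1)) = 1 := by
    rw [hUpow, hb]
    have h3 : p ^ (c + 1) = p * p ^ c := pow_succ' p c
    have h4 : 2 * p ^ c ≤ p * p ^ c := Nat.mul_le_mul_right _ hp.two_le
    omega
  have hnot : ¬ U ^ (p ^ c) = 1 := by
    rw [hUpow, hb]
    omega
  have hUdet : U.det = 1 := by
    apply eq_one_of_ppow_eq_one p _ (c + 1)
    rw [← Matrix.det_pow, hfin, Matrix.det_one]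
  have hneb : Nonempty (Fin b) := ⟨⟨0, by omega⟩⟩
  have hnek : Nonempty (Fin k) := ⟨⟨0, by omega⟩⟩
  obtain ⟨M, hM⟩ : ∃ M : Matrix (Fin (b + k)) (Fin (b + k)) K, M = blk U 1 := ⟨_, rfl⟩
  have hMdet : M.det = 1 := by rw [hM, blk_det, hUdet, Matrix.det_one, mul_one]
  have hMadj : (uAdj (b + k) σ hσσ).adj M * M = 1 := by
    rw [hM, blk_adj, blk_mul, hUadj, (uAdj k σ hσσ).one', mul_one, blk_one]
  obtain ⟨u, hu⟩ : ∃ u : Cfsg.SU (b + k) K q, u = mkSU σ hσ hσσ M hMdet hMadj := ⟨_, rfl⟩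
  have hucoe : (u.1 : Matrix (Fin (b + k)) (Fin (b + k)) K) = M := by rw [hu]; rfl
  have hupow : ∀ j : ℕ, u ^ j = 1 ↔ U ^ j = 1 := by
    intro j
    constructor
    · intro h
      have h1 : (u.1 : Matrix (Fin (b + k)) (Fin (b + k)) K) ^ j = 1 := by
        rw [← coe_pow_SU, h]
        rfl
      rw [hucoe, hM, blk_pow, one_pow, ← blk_one] at h1
      exact (blk_inj _ _ _ _ h1).1
    · intro h
      apply Subtype.ext
      apply Subtype.ext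
      rw [coe_pow_SU, hucoe, hM, blk_pow, one_pow, h, blk_one]
      rfl
  have huo : orderOf u = p ^ (c + 1) := by
    apply orderOf_eq_prime_pow
    · rw [hupow]
      exact hnot
    · rw [hupow]
      exact hfin
  obtain ⟨ε, hε⟩ : ∃ ε : Matrix (Fin (b + k)) (Fin (b + k)) K, ε = blk 1 0 := ⟨_, rfl⟩
  apply mul_r_of_commute_idem_u p a hq ha hK hn σ hσ hσσ r hr hrq hrn ε _ _ _ _ u _ (c + 1) huo
  · rw [hε, blk_mul, mul_one, mul_zero]
  · rw [hε, ← blk_zero]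
    intro h
    exact one_ne_zero (blk_inj _ _ _ _ h).1
  · rw [hε, ← blk_one]
    intro h
    exact zero_ne_one (blk_inj _ _ _ _ h).2
  · rw [hε, blk_adj, (uAdj b σ hσσ).one', (uAdj k σ hσσ).adj_zero]
  · rw [hucoe, hM, hε]
    show blk U 1 * blk 1 0 = blk 1 0 * blk U 1
    rw [blk_mul, blk_mul, mul_one, one_mul, one_mul, zero_mul]

theorem uppow_lt {K : Type*} [Field K] [Fintype K] {n q : ℕ} (p : ℕ) [Fact p.Prime] [CharP K p]
    (hn : 1 ≤ n) (c : ℕ)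
    (w : Cfsg.PSU n K q) (hw : orderOf w = p ^ (c + 1)) : p ^ c < n := by
  classical
  have hp : p.Prime := Fact.out
  have hne : Nonempty (Fin n) := ⟨⟨0, by omega⟩⟩
  obtain ⟨u₀, rfl⟩ := QuotientGroup.mk_surjective w
  have hfin : Finite (Cfsg.SU n K q) := inferInstance
  have ho0 : orderOf u₀ ≠ 0 := (orderOf_pos u₀).ne'
  obtain ⟨v, M', hM', hoM⟩ := Nat.exists_eq_pow_mul_and_not_dvd ho0 p hp.ne_one
  have hdvd : p ^ (c + 1) ∣ orderOf u₀ := by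
    rw [← hw]
    apply orderOf_dvd_of_pow_eq_one
    rw [← QuotientGroup.mk_pow, pow_orderOf_eq_one]
    rfl
  have hcv : c + 1 ≤ v := by
    rw [hoM] at hdvd
    have h1 : p ^ (c + 1) ∣ p ^ v := (Nat.Coprime.pow_left (c + 1)
      ((Nat.Prime.coprime_iff_not_dvd hp).2 hM')).dvd_of_dvd_mul_right hdvd
    exact (Nat.pow_dvd_pow_iff_le_right hp.one_lt).1 h1
  obtain ⟨U, hU⟩ : ∃ U : Matrix (Fin n) (Fin n) K,
      U = ((u₀ ^ M' : Cfsg.SU n K q).1 : Matrix (Fin n) (Fin n) K) := ⟨_, rfl⟩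
  have hUo : orderOf (u₀ ^ M') = p ^ v := by
    rw [orderOf_pow_of_dvd (by
      intro h0
      rw [h0, mul_zero] at hoM
      exact ho0 hoM) ⟨p ^ v, by rw [hoM]; ring⟩, hoM, Nat.mul_div_cancel _ (by
      rcases Nat.eq_zero_or_pos M' with h | h
      · rw [h, mul_zero] at hoM
        exact absurd hoM ho0
      · exact h)]
  have hU1 : U ^ (p ^ v) = 1 := by
    rw [hU, ← coe_pow_SU, ← hUo, pow_orderOf_eq_one]
    rfl
  obtain ⟨v', hv'⟩ : ∃ v', v = v' + 1 := ⟨v - 1, by omega⟩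
  have hU2 : U ^ (p ^ v') ≠ 1 := by
    intro h
    have h1 : (u₀ ^ M') ^ (p ^ v') = 1 := by
      apply Subtype.ext
      apply Subtype.ext
      rw [coe_pow_SU, ← hU, h]
      rfl
    have h2 := orderOf_dvd_of_pow_eq_one h1
    rw [hUo, hv'] at h2
    have h3 := Nat.le_of_dvd (pow_pos hp.pos v') h2
    have h4 : p ^ v' < p ^ (v' + 1) := Nat.pow_lt_pow_right hp.one_lt (by omega)
    omega
  have hnil : IsNilpotent (U - 1) := by
    refine ⟨p ^ v, ?_⟩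
    rw [sub_pow_char_pow_of_commute _ _ (Commute.one_right _), hU1, one_pow, sub_self]
  have hN := Cfsg.Agent.S2368.nilp_pow_card (U - 1) hnil
  by_contra hlt
  have hle : n ≤ p ^ v' := by
    have h1 : p ^ c ≤ p ^ v' := Nat.pow_le_pow_right hp.pos (by omega)
    omega
  have h5 : (U - 1) ^ (p ^ v') = 0 := by
    rw [← Nat.sub_add_cancel hle, pow_add, hN, mul_zero]
  rw [sub_pow_char_pow_of_commute _ _ (Commute.one_right _), one_pow, sub_eq_zero] at h5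
  exact hU2 h5

end Cfsg.Agent.Lib.helper15.UMix
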