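import Mathlib
import Cfsg.Agent.Lib.helper15.UMix

set_option autoImplicit false

namespace Cfsg.Agent.Lib.helper15.UTorus

open Matrix Polynomial Cfsg.Agent.Lib.Helper16.RN Cfsg.Agent.Lib.helper15.UBase
open Cfsg.Agent.Lib.helper15.UNat Cfsg.Agent.S2495 Cfsg.Agent.Lib.helper15.PslMix
open Cfsg.Agent.Lib.helper15.UDich Cfsg.Agent.Lib.helper15.UBlk

theorem Dn_pos (q n : ℕ) (hq : 2 ≤ q) (hn : 1 ≤ n) : 0 < Dn q n := by
  have h := Dn_mul q n (by omega)
  rcases Nat.eq_zero_or_pos (Dn q n) with h0 | h0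
  · rw [h0, zero_mul] at h
    have h1 : 2 ≤ q ^ n := by
      calc 2 ≤ q := hq
        _ = q ^ 1 := (pow_one q).symm
        _ ≤ q ^ n := Nat.pow_le_pow_right (by omega) hn
    unfold Qn at h
    split_ifs at h <;> omega
  · exact h0

theorem field_crit {K L : Type*} [Field K] [Fintype K] [Field L] [Algebra K L] {q : ℕ}
    (hK : Fintype.card K = q ^ 2) (y : L) (n : ℕ) (hn : 1 ≤ n) (hy : orderOf y = Qn q n) :
    (∀ (t : ℕ) (c : K), y ^ ((q + 1) * t) = algebraMap K L c → c ^ (q + 1) = 1 → Dn q n ∣ t) ∧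
    (∃ c : K, c ^ (q + 1) = 1 ∧ algebraMap K L c = y ^ ((q + 1) * Dn q n)) := by
  have hq2 := two_le_q hK
  constructor
  · intro t c h1 h2
    have h3 : y ^ ((q + 1) ^ 2 * t) = 1 := by
      have : (q + 1) ^ 2 * t = ((q + 1) * t) * (q + 1) := by ring
      rw [this, pow_mul, h1, ← map_pow, h2, map_one]
    have h4 := orderOf_dvd_of_pow_eq_one h3
    rw [hy] at h4
    exact (torus_dvd_iff q n t (by omega) hn).1 h4
  · have h4 : Qn q n ∣ (q + 1) ^ 2 * Dn q n := (torus_dvd_iff q n _ (by omega) hn).2 dvd_rfl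
    have h3 : y ^ (((q + 1) * Dn q n) * (q + 1)) = 1 := by
      have : ((q + 1) * Dn q n) * (q + 1) = (q + 1) ^ 2 * Dn q n := by ring
      rw [this, ← hy] at *
      exact orderOf_dvd_iff_pow_eq_one.1 h4
    obtain ⟨c, hc, hcq⟩ := scalar_of_root_pow hK y _ h3
    exact ⟨c, hcq, hc⟩

theorem torus_of_matrix {K : Type*} [Field K] [Fintype K] {n q : ℕ}
    (hK : Fintype.card K = q ^ 2) (hn : 2 ≤ n) (A : GL (Fin n) K)
    (hconj : IsConj (A : Matrix (Fin n) (Fin n) K)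
      (((A : Matrix (Fin n) (Fin n) K).map (fun x : K => x ^ q)).transpose)⁻¹)
    (D : ℕ) (hD : 0 < D)
    (hcrit1 : ∀ (t : ℕ) (c : K), (A : Matrix (Fin n) (Fin n) K) ^ ((q + 1) * t) = c • 1 →
      c ^ (q + 1) = 1 → D ∣ t)
    (hcrit2 : ∃ c : K, (A : Matrix (Fin n) (Fin n) K) ^ ((q + 1) * D) = c • 1) :
    ∃ g : Cfsg.PSU n K q, orderOf g = D := by
  classical
  obtain ⟨σ, hσ, hσσ⟩ := frob_data hK
  obtain ⟨B, hB⟩ := (Cfsg.Agent.Lib.Helper16.FCR.gu_conj_iff_self_dual hK A).2 hconj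
  obtain ⟨C, hC⟩ := isConj_iff.1 hB
  obtain ⟨Bm, hBm⟩ : ∃ Bm : Matrix (Fin n) (Fin n) K, Bm = ((B : GL (Fin n) K) : Matrix (Fin n) (Fin n) K) :=
    ⟨_, rfl⟩
  have hBadj : (uAdj n σ hσσ).adj Bm * Bm = 1 := by
    rw [hBm]
    exact (mem_GU_iff σ hσ hσσ B.1).1 B.2
  have hBpow : ∀ s : ℕ, Bm ^ s = (C : Matrix (Fin n) (Fin n) K) * (A : Matrix (Fin n) (Fin n) K) ^ s *
      ((C⁻¹ : GL (Fin n) K) : Matrix (Fin n) (Fin n) K) := by
    intro s
    rw [hBm, ← hC, ← Units.val_pow_eq_pow_val, conj_pow, Units.val_mul, Units.val_mul,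
      Units.val_pow_eq_pow_val]
  have hCC : (C : Matrix (Fin n) (Fin n) K) * ((C⁻¹ : GL (Fin n) K) : Matrix (Fin n) (Fin n) K) = 1 := by
    rw [← Units.val_mul, mul_inv_cancel, Units.val_one]
  have hCC' : ((C⁻¹ : GL (Fin n) K) : Matrix (Fin n) (Fin n) K) * (C : Matrix (Fin n) (Fin n) K) = 1 := by
    rw [← Units.val_mul, inv_mul_cancel, Units.val_one]
  have hscal : ∀ (s : ℕ) (c : K), Bm ^ s = c • 1 ↔ (A : Matrix (Fin n) (Fin n) K) ^ s = c • 1 := by
    intro s c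
    rw [hBpow]
    constructor
    · intro h
      calc (A : Matrix (Fin n) (Fin n) K) ^ s
          = ((C⁻¹ : GL (Fin n) K) : Matrix (Fin n) (Fin n) K) * ((C : Matrix (Fin n) (Fin n) K) *
            (A : Matrix (Fin n) (Fin n) K) ^ s * ((C⁻¹ : GL (Fin n) K) : Matrix (Fin n) (Fin n) K)) *
            (C : Matrix (Fin n) (Fin n) K) := by
            simp only [Matrix.mul_assoc]
            rw [hCC', Matrix.mul_one, ← Matrix.mul_assoc, hCC', Matrix.one_mul]
        _ = c • 1 := by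
            rw [h, Matrix.mul_smul, Matrix.mul_one, Matrix.smul_mul, hCC']
    · intro h
      rw [h, Matrix.mul_smul, Matrix.mul_one, Matrix.smul_mul, hCC]
  have hdetB : Bm.det ^ (q + 1) = 1 := by
    have h1 := congrArg Matrix.det hBadj
    rw [Matrix.det_mul, det_adj, Matrix.det_one, hσ, ← pow_succ] at h1
    exact h1
  obtain ⟨G, hG⟩ : ∃ G : Matrix (Fin n) (Fin n) K, G = Bm ^ (q + 1) := ⟨_, rfl⟩
  have hGdet : G.det = 1 := by rw [hG, Matrix.det_pow, hdetB]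
  have hGadj : (uAdj n σ hσσ).adj G * G = 1 := by
    rw [hG, (uAdj n σ hσσ).adj_pow]
    have hc : Commute ((uAdj n σ hσσ).adj Bm) Bm := by
      show (uAdj n σ hσσ).adj Bm * Bm = Bm * (uAdj n σ hσσ).adj Bm
      rw [hBadj, mul_adj_of_adj_mul _ Bm hBadj]
    rw [← hc.mul_pow, hBadj, one_pow]
  obtain ⟨g, hg⟩ : ∃ g : Cfsg.SU n K q, g = mkSU σ hσ hσσ G hGdet hGadj := ⟨_, rfl⟩
  have hgcoe : (g.1 : Matrix (Fin n) (Fin n) K) = G := by rw [hg]; rfl
  refine ⟨QuotientGroup.mk g, ?_⟩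
  rw [orderOf_eq_iff hD]
  constructor
  · rw [mk_pow_eq_one_iff hK hn, hgcoe, hG, ← pow_mul]
    obtain ⟨c, hc⟩ := hcrit2
    exact ⟨c, (hscal _ c).2 hc⟩
  · intro t ht htpos h
    rw [mk_pow_eq_one_iff hK hn, hgcoe] at h
    obtain ⟨c, hc⟩ := h
    have hcq : c ^ (q + 1) = 1 := by
      have h1 : (uAdj n σ hσσ).adj (G ^ t) * G ^ t = 1 := by
        rw [(uAdj n σ hσσ).adj_pow]
        have hc2 : Commute ((uAdj n σ hσσ).adj G) G := by
          show (uAdj n σ hσσ).adj G * G = G * (uAdj n σ hσσ).adj G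
          rw [hGadj, mul_adj_of_adj_mul _ G hGadj]
        rw [← hc2.mul_pow, hGadj, one_pow]
      rw [hc, adj_smul_one, Matrix.smul_mul, Matrix.one_mul, smul_smul, hσ, ← pow_succ] at h1
      have hne : Nonempty (Fin n) := ⟨⟨0, by omega⟩⟩
      have h2 := congrFun (congrFun h1 ⟨0, by omega⟩) ⟨0, by omega⟩
      rw [Matrix.smul_apply, Matrix.one_apply_eq, smul_eq_mul, mul_one] at h2
      exact h2
    rw [hG, ← pow_mul, hscal] at hc
    have := hcrit1 t c hc hcq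
    have := Nat.le_of_dvd htpos this
    omega

theorem exists_ext {K : Type*} [Field K] [Fintype K] {q : ℕ} (p : ℕ) [Fact p.Prime] [CharP K p]
    (hK : Fintype.card K = q ^ 2) (m : ℕ) (hm : 1 ≤ m) (Q : ℕ) (hQ : Q ∣ q ^ (2 * m) - 1) :
    ∃ (L : Type) (_ : Field L) (_ : Fintype L) (_ : Algebra K L), Module.finrank K L = m ∧
      Fintype.card L = q ^ (2 * m) ∧ ∃ y : L, orderOf y = Q := by
  classical
  haveI : NeZero m := ⟨by omega⟩
  let L := FiniteField.Extension K p m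
  haveI : Fintype L := Fintype.ofFinite L
  have hfr : Module.finrank K L = m := FiniteField.finrank_extension K p m
  have hcardL : Fintype.card L = q ^ (2 * m) := by
    rw [← Nat.card_eq_fintype_card, FiniteField.natCard_extension K p m, Nat.card_eq_fintype_card, hK,
      ← pow_mul]
  refine ⟨L, inferInstance, inferInstance, inferInstance, hfr, hcardL, ?_⟩
  obtain ⟨γ, hγ⟩ := IsCyclic.exists_ofOrder_eq_natCard (α := Lˣ)
  have hγo : orderOf γ = q ^ (2 * m) - 1 := by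
    rw [hγ, Nat.card_units, Nat.card_eq_fintype_card, hcardL]
  have hq2 := two_le_q hK
  have hpos : 0 < q ^ (2 * m) - 1 := by
    have : 2 ≤ q ^ (2 * m) := by
      calc 2 ≤ q := hq2
        _ = q ^ 1 := (pow_one q).symm
        _ ≤ q ^ (2 * m) := Nat.pow_le_pow_right (by omega) (by omega)
    omega
  obtain ⟨k, hk⟩ := hQ
  have hk0 : k ≠ 0 := by
    intro h
    rw [h, mul_zero] at hk
    omega
  have hQ0 : 0 < Q := by
    rcases Nat.eq_zero_or_pos Q with h | h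
    · rw [h, zero_mul] at hk
      omega
    · exact h
  refine ⟨((γ ^ k : Lˣ) : L), ?_⟩
  rw [orderOf_units, orderOf_pow_of_dvd hk0 ⟨Q, by rw [hγo, hk, mul_comm]⟩, hγo, hk,
    Nat.mul_div_cancel _ (Nat.pos_of_ne_zero hk0)]

theorem conj_of_annihilated {K : Type*} [Field K] {n : ℕ} (X X' : Matrix (Fin n) (Fin n) K)
    (f : K[X]) (hf : Irreducible f) (hX : aeval X f = 0) (hX' : aeval X' f = 0) :
    ∃ C : (Matrix (Fin n) (Fin n) K)ˣ, (C : Matrix (Fin n) (Fin n) K) * X = X' * C := by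
  classical
  have haev : ∀ Y : Matrix (Fin n) (Fin n) K, aeval (Matrix.toLin' Y) f = Matrix.toLin' (aeval Y f) := by
    intro Y
    exact Polynomial.aeval_algHom_apply (Matrix.toLinAlgEquiv' : Matrix (Fin n) (Fin n) K ≃ₐ[K] _).toAlgHom Y f
  have hprod : (∏ _k : Unit, f) = f := by simp
  obtain ⟨E, hE⟩ := Cfsg.Agent.Lib.Helper16.PSemi.conj_of_finrank_ker (κ := Unit) (fun _ => f)
    (fun _ => hf) (by
      intro a b hab
      exact absurd (Subsingleton.elim a b) hab) (Matrix.toLin' X) (Matrix.toLin' X')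
    (by rw [hprod, haev, hX, map_zero]) (by rw [hprod, haev, hX', map_zero])
    (by
      intro _
      show Module.finrank K (LinearMap.ker (aeval (Matrix.toLin' X) f)) =
        Module.finrank K (LinearMap.ker (aeval (Matrix.toLin' X') f))
      rw [haev, haev, hX, hX'])
  refine ⟨⟨LinearMap.toMatrix' E.toLinearMap, LinearMap.toMatrix' E.symm.toLinearMap, ?_, ?_⟩, ?_⟩
  · rw [← LinearMap.toMatrix'_comp]
    have : E.toLinearMap ∘ₗ E.symm.toLinearMap = LinearMap.id := by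
      apply LinearMap.ext
      intro v
      simp
    rw [this, LinearMap.toMatrix'_id]
  · rw [← LinearMap.toMatrix'_comp]
    have : E.symm.toLinearMap ∘ₗ E.toLinearMap = LinearMap.id := by
      apply LinearMap.ext
      intro v
      simp
    rw [this, LinearMap.toMatrix'_id]
  · show LinearMap.toMatrix' E.toLinearMap * X = X' * LinearMap.toMatrix' E.toLinearMap
    have h1 : X = LinearMap.toMatrix' (Matrix.toLin' X) := (LinearMap.toMatrix'_toLin' X).symm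
    have h2 : X' = LinearMap.toMatrix' (Matrix.toLin' X') := (LinearMap.toMatrix'_toLin' X').symm
    rw [h1, h2, ← LinearMap.toMatrix'_comp, ← LinearMap.toMatrix'_comp]
    congr 1
    apply LinearMap.ext
    intro v
    exact hE v

theorem map_pow_eq_adj {K : Type*} [Field K] {n q : ℕ} (σ : K →+* K) (hσ : ∀ x, σ x = x ^ q)
    (hσσ : ∀ x, σ (σ x) = x) (X : Matrix (Fin n) (Fin n) K) :
    (X.map (fun x : K => x ^ q)).transpose = (uAdj n σ hσσ).adj X := by
  rw [uAdj_apply]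
  congr 1
  ext i j
  simp only [Matrix.map_apply, hσ]

theorem torus_odd {K : Type*} [Field K] [Fintype K] {n q : ℕ} (p a : ℕ) [Fact p.Prime] [CharP K p]
    (hq : q = p ^ a) (hK : Fintype.card K = q ^ 2) (hn : 2 ≤ n) (hodd : Odd n) :
    ∃ g : Cfsg.PSU n K q, orderOf g = Dn q n := by
  classical
  have hq2 := two_le_q hK
  obtain ⟨σ, hσ, hσσ⟩ := frob_data hK
  have hXn : 1 ≤ q ^ n := Nat.one_le_pow _ _ (by omega)
  have hQdvd : Qn q n ∣ q ^ (2 * n) - 1 := by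
    rw [Qn_odd q n hodd]
    have : q ^ (2 * n) = (q ^ n) ^ 2 := by rw [← pow_mul, mul_comm]
    rw [this, Cfsg.Agent.Lib.helper15.UNat.sq_sub_one_eq _ hXn]
    exact dvd_mul_left _ _
  obtain ⟨L, instF, instFin, instAlg, hfr, hcardL, y, hy⟩ := exists_ext p hK n (by omega) (Qn q n) hQdvd
  have hy1 : y ^ (q ^ n + 1) = 1 := by
    rw [← Qn_odd q n hodd, ← hy]
    exact pow_orderOf_eq_one y
  have hy0 : y ≠ 0 := by
    intro h
    rw [h, zero_pow (by omega)] at hy1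
    exact zero_ne_one hy1
  have hyinv : y ^ (q ^ n) = y⁻¹ := by
    rw [pow_succ] at hy1
    exact eq_inv_of_mul_eq_one_left hy1
  let b : Module.Basis (Fin n) K L := Module.finBasisOfFinrankEq K L hfr
  have hρinj : Function.Injective (Algebra.leftMulMatrix b) := Algebra.leftMulMatrix_injective b
  obtain ⟨A₀, hA₀⟩ : ∃ A₀, A₀ = Algebra.leftMulMatrix b y := ⟨_, rfl⟩
  obtain ⟨A₁, hA₁⟩ : ∃ A₁, A₁ = Algebra.leftMulMatrix b y⁻¹ := ⟨_, rfl⟩
  have h01 : A₀ * A₁ = 1 := by rw [hA₀, hA₁, ← map_mul, mul_inv_cancel₀ hy0, map_one]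
  have h10 : A₁ * A₀ = 1 := by rw [hA₀, hA₁, ← map_mul, inv_mul_cancel₀ hy0, map_one]
  obtain ⟨A, hA⟩ : ∃ A : GL (Fin n) K, A = ⟨A₀, A₁, h01, h10⟩ := ⟨_, rfl⟩
  have hAcoe : (A : Matrix (Fin n) (Fin n) K) = A₀ := by rw [hA]
  obtain ⟨hc1, c0, hc0q, hc0⟩ := field_crit hK y n (by omega) hy
  apply torus_of_matrix hK hn A _ (Dn q n) (Dn_pos q n hq2 (by omega))
  · intro t c h1 h2
    apply hc1 t c _ h2
    apply hρinj
    rw [map_pow, ← hA₀, ← hAcoe, h1, AlgHom.commutes, Algebra.algebraMap_eq_smul_one]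
  · refine ⟨c0, ?_⟩
    rw [hAcoe, hA₀, ← map_pow, ← hc0, AlgHom.commutes, Algebra.algebraMap_eq_smul_one]
  · rw [hAcoe, map_pow_eq_adj σ hσ hσσ]
    have hinv : ((uAdj n σ hσσ).adj A₀)⁻¹ = (uAdj n σ hσσ).adj A₁ := by
      apply Matrix.inv_eq_right_inv
      rw [← (uAdj n σ hσσ).mul', h10, (uAdj n σ hσσ).one']
    rw [hinv]
    obtain ⟨f, hf⟩ : ∃ f : K[X], f = minpoly K y := ⟨_, rfl⟩
    have hyint : IsIntegral K y := Algebra.IsIntegral.isIntegral y
    have hfirr : Irreducible f := by rw [hf]; exact minpoly.irreducible hyint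
    have hfy : aeval y f = 0 := by rw [hf]; exact minpoly.aeval K y
    have hX : aeval A₀ f = 0 := by
      rw [hA₀, Polynomial.aeval_algHom_apply, hfy, map_zero]
    haveI charL : CharP L p := charP_of_injective_algebraMap (algebraMap K L).injective p
    let frobL : L →+* L := iterateFrobenius L p a
    have hfrobL : ∀ x : L, frobL x = x ^ q := by
      intro x
      rw [hq]
      exact iterateFrobenius_def p a x
    have hφK : ∀ c : K, frobL (algebraMap K L c) = algebraMap K L (σ c) := by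
      intro c
      rw [hfrobL, hσ, map_pow]
    obtain ⟨j, hj⟩ := hodd
    obtain ⟨β, hβ⟩ : ∃ β : L, β = y ^ (q ^ (2 * j)) := ⟨_, rfl⟩
    have hfrobβ : frobL β = y⁻¹ := by
      rw [hfrobL, hβ, ← pow_mul, ← pow_succ, ← hj, hyinv]
    have hβroot : aeval β f = 0 := by
      have h1 : β = (FiniteField.frobeniusAlgHom K L ^ j) y := by
        rw [AlgHom.coe_pow, FiniteField.coe_frobeniusAlgHom, pow_iterate, hK, ← pow_mul, hβ]
      rw [h1, Polynomial.aeval_algHom_apply, hfy, map_zero]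
    have hinvroot : aeval y⁻¹ (f.map σ) = 0 := by
      have h1 := Cfsg.Agent.Lib.Helper16.GUSemi.aeval_frob frobL σ hφK β f
      rw [hfrobβ, hβroot, map_zero] at h1
      exact h1
    have hX' : aeval ((uAdj n σ hσσ).adj A₁) f = 0 := by
      have h1 := Cfsg.Agent.Lib.Helper16.FCR.adj_aeval σ (uAdj n σ hσσ).adj (uAdj n σ hσσ).add'
        (uAdj n σ hσσ).mul' (uAdj n σ hσσ).smul' (uAdj n σ hσσ).one' A₁ (f.map σ)
      have h2 : (f.map σ).map σ = f := by
        rw [Polynomial.map_map]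
        have : σ.comp σ = RingHom.id K := RingHom.ext hσσ
        rw [this, Polynomial.map_id]
      rw [h2] at h1
      rw [← h1, hA₁, Polynomial.aeval_algHom_apply, hinvroot, map_zero, (uAdj n σ hσσ).adj_zero]
    obtain ⟨C, hC⟩ := conj_of_annihilated A₀ ((uAdj n σ hσσ).adj A₁) f hfirr hX hX'
    exact ⟨C, hC⟩

theorem torus_even_aux {K : Type*} [Field K] [Fintype K] {m q : ℕ} (p a : ℕ) [Fact p.Prime] [CharP K p]
    (hq : q = p ^ a) (hK : Fintype.card K = q ^ 2) (hm : 1 ≤ m) :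
    ∃ g : Cfsg.PSU (m + m) K q, orderOf g = Dn q (m + m) := by
  classical
  have hq2 := two_le_q hK
  obtain ⟨σ, hσ, hσσ⟩ := frob_data hK
  have heven : Even (m + m) := ⟨m, rfl⟩
  have hQdvd : Qn q (m + m) ∣ q ^ (2 * m) - 1 := by
    rw [Qn_even q (m + m) heven, two_mul]
  obtain ⟨L, instF, instFin, instAlg, hfr, hcardL, y, hy⟩ := exists_ext p hK m hm (Qn q (m + m)) hQdvd
  have hQpos : 0 < Qn q (m + m) := by
    have h := Dn_mul q (m + m) (by omega)
    have h2 := Dn_pos q (m + m) hq2 (by omega)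
    rw [← h]
    exact Nat.mul_pos h2 (Nat.mul_pos (by omega) (Nat.gcd_pos_of_pos_right _ (by omega)))
  have hy0 : y ≠ 0 := by
    intro h
    have h1 : y ^ (Qn q (m + m)) = 1 := by
      rw [← hy]
      exact pow_orderOf_eq_one y
    rw [h, zero_pow hQpos.ne'] at h1
    exact zero_ne_one h1
  let b : Module.Basis (Fin m) K L := Module.finBasisOfFinrankEq K L hfr
  have hρinj : Function.Injective (Algebra.leftMulMatrix b) := Algebra.leftMulMatrix_injective b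
  obtain ⟨Y₀, hY₀⟩ : ∃ Y₀, Y₀ = Algebra.leftMulMatrix b y := ⟨_, rfl⟩
  obtain ⟨Y₁, hY₁⟩ : ∃ Y₁, Y₁ = Algebra.leftMulMatrix b y⁻¹ := ⟨_, rfl⟩
  have h01 : Y₀ * Y₁ = 1 := by rw [hY₀, hY₁, ← map_mul, mul_inv_cancel₀ hy0, map_one]
  have h10 : Y₁ * Y₀ = 1 := by rw [hY₀, hY₁, ← map_mul, inv_mul_cancel₀ hy0, map_one]
  obtain ⟨Am, hAm⟩ : ∃ Am : AdjData (Fin m) K, Am = uAdj m σ hσσ := ⟨_, rfl⟩
  have hAmσ : Am.σ = σ := by rw [hAm]; rfl
  obtain ⟨A₀, hA₀⟩ : ∃ A₀, A₀ = blk Y₀ (Am.adj Y₁) := ⟨_, rfl⟩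
  obtain ⟨A₁, hA₁⟩ : ∃ A₁, A₁ = blk Y₁ (Am.adj Y₀) := ⟨_, rfl⟩
  have hA01 : A₀ * A₁ = 1 := by
    rw [hA₀, hA₁, blk_mul, h01, ← Am.mul', h01, Am.one', blk_one]
  have hA10 : A₁ * A₀ = 1 := by
    rw [hA₀, hA₁, blk_mul, h10, ← Am.mul', h10, Am.one', blk_one]
  obtain ⟨A, hA⟩ : ∃ A : GL (Fin (m + m)) K, A = ⟨A₀, A₁, hA01, hA10⟩ := ⟨_, rfl⟩
  have hAcoe : (A : Matrix (Fin (m + m)) (Fin (m + m)) K) = A₀ := by rw [hA]
  obtain ⟨hc1, c0, hc0q, hc0⟩ := field_crit hK y (m + m) (by omega) hy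
  apply torus_of_matrix hK (by omega) A _ (Dn q (m + m)) (Dn_pos q (m + m) hq2 (by omega))
  · intro t c h1 h2
    apply hc1 t c _ h2
    apply hρinj
    rw [hAcoe, hA₀, blk_pow, ← blk_one, ← blk_smul] at h1
    have h3 := (blk_inj _ _ _ _ h1).1
    rw [map_pow, ← hY₀, h3, AlgHom.commutes, Algebra.algebraMap_eq_smul_one]
  · refine ⟨c0, ?_⟩
    have hc00 : c0 ≠ 0 := by
      intro h
      rw [h, zero_pow (by omega)] at hc0q
      exact zero_ne_one hc0q
    have hσc : σ c0⁻¹ = c0 := by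
      rw [hσ, inv_pow]
      have h1 : c0 ^ q * c0 = 1 := by rw [← pow_succ, hc0q]
      rw [eq_inv_of_mul_eq_one_left h1, inv_inv]
    rw [hAcoe, hA₀, blk_pow, ← blk_one, ← blk_smul]
    congr 1
    · rw [hY₀, ← map_pow, ← hc0, AlgHom.commutes, Algebra.algebraMap_eq_smul_one]
    · rw [← Am.adj_pow, hY₁, ← map_pow, inv_pow, ← hc0, ← map_inv₀, AlgHom.commutes,
        Algebra.algebraMap_eq_smul_one, Am.smul', Am.one', hAmσ, hσc]
  · rw [hAcoe, map_pow_eq_adj σ hσ hσσ]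
    have hadjA₀ : (uAdj (m + m) σ hσσ).adj A₀ = blk (Am.adj Y₀) Y₁ := by
      rw [hA₀, blk_adj, ← hAm, Am.inv']
    have hinv : ((uAdj (m + m) σ hσσ).adj A₀)⁻¹ = blk (Am.adj Y₁) Y₀ := by
      apply Matrix.inv_eq_right_inv
      rw [hadjA₀, blk_mul, ← Am.mul', h10, Am.one', blk_one]
    rw [hinv, hA₀]
    refine ⟨⟨swapM K m, swapM K m, swapM_mul_swapM, swapM_mul_swapM⟩, ?_⟩
    show swapM K m * blk Y₀ (Am.adj Y₁) = blk (Am.adj Y₁) Y₀ * swapM K m
    exact swapM_mul_blk _ _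

theorem exists_torus_u {K : Type*} [Field K] [Fintype K] {n q : ℕ} (p a : ℕ) [Fact p.Prime] [CharP K p]
    (hq : q = p ^ a) (hK : Fintype.card K = q ^ 2) (hn : 2 ≤ n) :
    ∃ g : Cfsg.PSU n K q, orderOf g = Dn q n := by
  rcases Nat.even_or_odd n with he | ho
  · obtain ⟨m, rfl⟩ := he
    exact torus_even_aux p a hq hK (by omega)
  · exact torus_odd p a hq hK hn ho

end Cfsg.Agent.Lib.helper15.UTorus
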