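import Mathlib
import Cfsg.Prelude.Def_Blocks
import Cfsg.Agent.Lib.Helper16.AP3
import Cfsg.Agent.Lib.Helper10.SLB.Defs
import Cfsg.Agent.S0908
import Cfsg.Agent.Lib.Helper25.DefectOneTwo

/-!
# Project SLB (leader helper10), row G09 (`defect_zero_iff`), verbatim.
-/

set_option autoImplicit false

open Polynomial

namespace Cfsg.Agent.Lib.Helper10.SLB

open Cfsg.Agent.Lib.Helper16.AP

universe u

/-- G09 [S-M]  a block has defect zero iff the trivial subgroup is a defect group. -/
theorem defect_zero_iff {G : Type*} [Group G] [Finite G] (p : ℕ) [Fact p.Prime]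
    (M : Ideal Cfsg.AlgInt) (hM : Cfsg.IsPModular p M) (B : Set (Cfsg.IrrCharacter G))
    (hB : Cfsg.IsPBlock M B) :
    Cfsg.blockDefect p B = 0 ↔ Cfsg.IsDefectGroup p M B (⊥ : Subgroup G) := by
  constructor
  · intro h0
    obtain ⟨D, hD⟩ := Cfsg.Agent.Lib.Helper25.sd_exists_defect p M hM B hB
    have hc := Cfsg.Agent.S0908.result p M hM B hB D hD
    rw [h0, pow_zero] at hc
    have hbot : D = ⊥ := Subgroup.card_eq_one.mp hc
    rw [← hbot]
    exact hD
  · intro hD
    have hc := Cfsg.Agent.S0908.result p M hM B hB ⊥ hD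
    rw [Subgroup.card_bot] at hc
    have hp1 : 1 < p := (Fact.out : p.Prime).one_lt
    by_contra hne
    have : 1 < p ^ Cfsg.blockDefect p B := Nat.one_lt_pow hne hp1
    omega

end Cfsg.Agent.Lib.Helper10.SLB
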