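import Mathlib
import Cfsg.Prelude.Def_Blocks
import Cfsg.Agent.Lib.Helper16.AP3
import Cfsg.Agent.Lib.Helper10.SLB.Defs
import Cfsg.Agent.Lib.helper6.SSCONJDET

/-!
# Project SLB (leader helper10), row L08 (`isConj_of_charpoly_eq`): the core, with the conclusion of
L07 (`Squarefree x.1.charpoly`) as a hypothesis.
-/

set_option autoImplicit false

open Polynomial

namespace Cfsg.Agent.Lib.Helper10.SLB

open Cfsg.Agent.Lib.Helper16.AP

universe u

section L

variable {F : Type u} [Field F]

/-- a matrix killed by a squarefree polynomial has a semisimple `toLin'`. -/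
theorem slbl08_ss {n : Type*} [Fintype n] [DecidableEq n] (x : Matrix n n F) (f : F[X])
    (hf : Squarefree f) (h0 : Polynomial.aeval x f = 0) :
    Module.End.IsSemisimple (Matrix.toLin' x) := by
  apply Module.End.isSemisimple_of_squarefree_aeval_eq_zero hf
  have h1 : Polynomial.aeval (Matrix.toLinAlgEquiv' x) f = Matrix.toLinAlgEquiv' (Polynomial.aeval x f) :=
    (Polynomial.aeval_algHom_apply (Matrix.toLinAlgEquiv' : Matrix n n F ≃ₐ[F] _).toAlgHom x f)
  have h2 : (Matrix.toLinAlgEquiv' x : Module.End F (n → F)) = Matrix.toLin' x := rfl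
  rw [← h2, h1, h0, map_zero]

/-- L08 core: two elements of `SL_n(F)` (`F` finite) with the same squarefree characteristic polynomial
are conjugate in `SL_n(F)`. -/
theorem slbl08_core [Finite F] (n : ℕ)
    (x y : Matrix.SpecialLinearGroup (Fin n) F)
    (hsq : Squarefree (x : Matrix (Fin n) (Fin n) F).charpoly)
    (hc : (y : Matrix (Fin n) (Fin n) F).charpoly = (x : Matrix (Fin n) (Fin n) F).charpoly) :
    IsConj x y := by
  have hx : Module.End.IsSemisimple (Matrix.toLin' (x : Matrix (Fin n) (Fin n) F)) :=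
    slbl08_ss _ _ hsq (Matrix.aeval_self_charpoly _)
  have hy : Module.End.IsSemisimple (Matrix.toLin' (y : Matrix (Fin n) (Fin n) F)) := by
    apply slbl08_ss _ _ hsq
    rw [← hc]
    exact Matrix.aeval_self_charpoly _
  obtain ⟨Q, hQ⟩ := Cfsg.Agent.Lib.helper6.SSCONJ.ssconjdet_conj_sl
    (x : Matrix (Fin n) (Fin n) F) (y : Matrix (Fin n) (Fin n) F) hx hy hc.symm
  rw [isConj_iff]
  refine ⟨Q, ?_⟩
  apply Subtype.ext
  simpa [Matrix.SpecialLinearGroup.coe_mul] using hQ

end L

end Cfsg.Agent.Lib.Helper10.SLB
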