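import Mathlib
import Cfsg.Prelude.Def_Blocks
import Cfsg.Agent.Lib.Helper16.AP3
import Cfsg.Agent.Lib.Helper10.SLB.Defs

/-!
# Project SLB (leader helper10), row C04a (`card_classes_UT`): the core, with the statements of
C02 (`pregular_centralizer_UT`) and C03 (`card_center_SL`) as hypotheses.
-/

set_option autoImplicit false

open Polynomial

namespace Cfsg.Agent.Lib.Helper10.SLB

open Cfsg.Agent.Lib.Helper16.AP

universe u

/-- generic form: `G` finite group, `P` a subgroup, `N = N_G(P)`; if every `p`-regular element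
centralising `P` is central, and every central element is `p`-regular, then the classes of `N`
consisting of `p`-regular elements centralising `P` are in bijection with the centre of `G`. -/
theorem slbc04a_generic {G : Type*} [Group G] (p : ℕ) (P : Subgroup G)
    (h1 : ∀ g : G, g ∈ Subgroup.centralizer (P : Set G) → ¬ p ∣ orderOf g → g ∈ Subgroup.center G)
    (h2 : ∀ z ∈ Subgroup.center G, ¬ p ∣ orderOf z) :
    Nat.card {C : ConjClasses (Subgroup.normalizer (P : Set G)) //
      ∀ x : Subgroup.normalizer (P : Set G), ConjClasses.mk x = C →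
        ¬ p ∣ orderOf x ∧ (x : G) ∈ Subgroup.centralizer (P : Set G)} =
      Nat.card (Subgroup.center G) := by
  classical
  symm
  have hcn : ∀ z ∈ Subgroup.center G, z ∈ Subgroup.normalizer (P : Set G) := by
    intro z hz
    exact (Subgroup.center_le_normalizer (s := (P : Set G))) hz
  have hconj : ∀ (z : G) (hz : z ∈ Subgroup.center G) (x : Subgroup.normalizer (P : Set G)),
      ConjClasses.mk x = ConjClasses.mk (⟨z, hcn z hz⟩ : Subgroup.normalizer (P : Set G)) →
      x = ⟨z, hcn z hz⟩ := by
    intro z hz x hx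
    rw [ConjClasses.mk_eq_mk_iff_isConj, isConj_iff] at hx
    obtain ⟨c, hc⟩ := hx
    have hc' : (c : G) * (x : G) * (c : G)⁻¹ = z := by
      have := congrArg (Subtype.val) hc
      simpa using this
    apply Subtype.ext
    show (x : G) = z
    have hzc : (c : G)⁻¹ * z * (c : G) = z := by
      rw [Subgroup.mem_center_iff] at hz
      rw [mul_assoc, ← hz (c : G), ← mul_assoc, inv_mul_cancel, one_mul]
    calc (x : G) = (c : G)⁻¹ * ((c : G) * (x : G) * (c : G)⁻¹) * (c : G) := by group
      _ = z := by rw [hc', hzc]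
  refine Nat.card_congr (Equiv.ofBijective
    (fun z : Subgroup.center G => (⟨ConjClasses.mk (⟨z.1, hcn z.1 z.2⟩ :
      Subgroup.normalizer (P : Set G)), ?_⟩ : {C : ConjClasses (Subgroup.normalizer (P : Set G)) //
      ∀ x : Subgroup.normalizer (P : Set G), ConjClasses.mk x = C →
        ¬ p ∣ orderOf x ∧ (x : G) ∈ Subgroup.centralizer (P : Set G)})) ⟨?_, ?_⟩)
  · intro x hx
    have hxz := hconj z.1 z.2 x hx
    subst hxz
    refine ⟨?_, ?_⟩
    · rw [← Subgroup.orderOf_coe]
      exact h2 z.1 z.2
    · exact Subgroup.center_le_centralizer _ z.2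
  · intro z z' hzz
    have h := congrArg Subtype.val hzz
    simp only at h
    have := hconj z'.1 z'.2 ⟨z.1, hcn z.1 z.2⟩ h
    apply Subtype.ext
    exact congrArg (fun w : Subgroup.normalizer (P : Set G) => (w : G)) this
  · rintro ⟨C, hC⟩
    obtain ⟨x, rfl⟩ := ConjClasses.exists_rep C
    obtain ⟨hx1, hx2⟩ := hC x rfl
    have hxc : (x : G) ∈ Subgroup.center G := by
      apply h1 _ hx2
      rwa [Subgroup.orderOf_coe]
    refine ⟨⟨(x : G), hxc⟩, ?_⟩
    apply Subtype.ext
    rfl

section C

variable {F : Type u} [Field F] [Fintype F]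

/-- C04a core. -/
theorem slbc04a_core (p : ℕ) [Fact p.Prime] [CharP F p] (n : ℕ) (hn : 2 ≤ n)
    (hC02 : ∀ g : Matrix.SpecialLinearGroup (Fin n) F, (∀ u ∈ UT n F, u * g = g * u) →
      ¬ p ∣ orderOf g → g ∈ Subgroup.center (Matrix.SpecialLinearGroup (Fin n) F))
    (hC03 : Nat.card (Subgroup.center (Matrix.SpecialLinearGroup (Fin n) F)) =
      Nat.gcd n (Fintype.card F - 1))
    (P : Sylow p (Matrix.SpecialLinearGroup (Fin n) F))
    (hP : (P : Subgroup (Matrix.SpecialLinearGroup (Fin n) F)) = UT n F) :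
    Nat.card {C : ConjClasses (Subgroup.normalizer ((P : Subgroup (Matrix.SpecialLinearGroup (Fin n) F)) : Set (Matrix.SpecialLinearGroup (Fin n) F))) // ∀ x : Subgroup.normalizer ((P : Subgroup (Matrix.SpecialLinearGroup (Fin n) F)) : Set (Matrix.SpecialLinearGroup (Fin n) F)), ConjClasses.mk x = C → ¬ p ∣ orderOf x ∧ (x : Matrix.SpecialLinearGroup (Fin n) F) ∈ Subgroup.centralizer ((P : Subgroup (Matrix.SpecialLinearGroup (Fin n) F)) : Set (Matrix.SpecialLinearGroup (Fin n) F))} =
      Nat.gcd n (Fintype.card F - 1) := by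
  rw [← hC03]
  apply slbc04a_generic p (P : Subgroup (Matrix.SpecialLinearGroup (Fin n) F))
  · intro g hg hreg
    apply hC02 g _ hreg
    intro u hu
    rw [← hP] at hu
    rw [Subgroup.mem_centralizer_iff] at hg
    exact hg u hu
  · intro z hz hdvd
    have hp : p.Prime := Fact.out
    have h1 : orderOf (⟨z, hz⟩ : Subgroup.center (Matrix.SpecialLinearGroup (Fin n) F)) ∣
        Nat.card (Subgroup.center (Matrix.SpecialLinearGroup (Fin n) F)) := orderOf_dvd_natCard _
    rw [← Subgroup.orderOf_coe] at h1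
    simp only at h1
    have h2 : p ∣ Fintype.card F - 1 := by
      refine dvd_trans hdvd (dvd_trans h1 ?_)
      rw [hC03]
      exact Nat.gcd_dvd_right _ _
    obtain ⟨e, -, he⟩ := FiniteField.card F p
    have h3 : p ∣ Fintype.card F := by
      rw [he]
      exact dvd_pow_self p e.ne_zero
    have hq : 1 ≤ Fintype.card F := Fintype.card_pos
    have h4 : p ∣ 1 := by
      have := (Nat.dvd_sub h3 h2)
      rwa [Nat.sub_sub_self hq] at this
    exact hp.one_lt.ne' (Nat.dvd_one.mp h4)

end C

end Cfsg.Agent.Lib.Helper10.SLB
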