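import Mathlib
import Cfsg.Prelude.Def_Blocks
import Cfsg.Agent.Lib.Helper16.AP3
import Cfsg.Agent.Lib.Helper10.SLB.Defs
import Cfsg.Agent.Lib.helper17.SLBC02
import Cfsg.Agent.Lib.helper17.SLBC03
import Cfsg.Agent.Lib.helper15.SLBC04Acore

/-!
# Project SLB (leader helper10), row C04a (`card_classes_UT`), verbatim: `slbc04a_core` on
helper17's C02 + C03.
-/

set_option autoImplicit false

open Polynomial

namespace Cfsg.Agent.Lib.Helper10.SLB

open Cfsg.Agent.Lib.Helper16.AP

universe u

section C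

variable {F : Type u} [Field F] [Fintype F]

/-- C04a [M]  (statement = RHS of landed S0953 for `P`.) -/
theorem card_classes_UT (p : ℕ) [Fact p.Prime] [CharP F p] (n : ℕ) (hn : 2 ≤ n)
    (P : Sylow p (Matrix.SpecialLinearGroup (Fin n) F))
    (hP : (P : Subgroup (Matrix.SpecialLinearGroup (Fin n) F)) = UT n F) :
    Nat.card {C : ConjClasses (Subgroup.normalizer ((P : Subgroup (Matrix.SpecialLinearGroup (Fin n) F)) : Set (Matrix.SpecialLinearGroup (Fin n) F))) // ∀ x : Subgroup.normalizer ((P : Subgroup (Matrix.SpecialLinearGroup (Fin n) F)) : Set (Matrix.SpecialLinearGroup (Fin n) F)), ConjClasses.mk x = C → ¬ p ∣ orderOf x ∧ (x : Matrix.SpecialLinearGroup (Fin n) F) ∈ Subgroup.centralizer ((P : Subgroup (Matrix.SpecialLinearGroup (Fin n) F)) : Set (Matrix.SpecialLinearGroup (Fin n) F))} =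
      Nat.gcd n (Fintype.card F - 1) :=
  slbc04a_core p n hn (fun g hg hreg => pregular_centralizer_UT p n hn g hg hreg)
    (card_center_SL n (by omega)) P hP

end C

end Cfsg.Agent.Lib.Helper10.SLB
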