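import Cfsg.Agent.Lib.helper15.StbSt1
import Cfsg.Agent.Lib.helper7.BlockInd2
import Cfsg.Agent.Lib.helper2.PModular2
set_option autoImplicit false
open scoped MatrixGroups
open Cfsg

namespace Cfsg.Agent.Lib.helper15.StbSt

open Finset

theorem char_dvd_card {F : Type*} [Field F] [Fintype F] (p : ℕ) [Fact p.Prime] [CharP F p] :
    p ∣ Fintype.card F := by
  have h : ((Fintype.card F : ℕ) : F) = 0 := Nat.cast_card_eq_zero F
  exact (CharP.cast_eq_zero_iff F p _).mp h

theorem card_GL_ppart {F : Type*} [Field F] [Fintype F] (p : ℕ) [Fact p.Prime] [CharP F p] (n : ℕ) :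
    ∃ m : ℕ, Nat.card (GL (Fin n) F) = Fintype.card F ^ (n * (n - 1) / 2) * m ∧ ¬ p ∣ m := by
  have hp : p.Prime := Fact.out
  have hpq := char_dvd_card (F := F) p
  set q := Fintype.card F with hq
  have hq1 : 1 ≤ q := Fintype.card_pos
  refine ⟨∏ i : Fin n, (q ^ (n - i.val) - 1), ?_, ?_⟩
  · rw [Matrix.card_GL_field]
    have h1 : ∀ i : Fin n, q ^ n - q ^ (i : ℕ) = q ^ (i : ℕ) * (q ^ (n - i.val) - 1) := by
      intro i
      have hi : i.val ≤ n := i.2.le
      have : q ^ n = q ^ (i : ℕ) * q ^ (n - i.val) := by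
        rw [← pow_add]
        congr 1
        omega
      rw [this, Nat.mul_sub, mul_one]
    rw [Finset.prod_congr rfl (fun i _ => h1 i), Finset.prod_mul_distrib, Finset.prod_pow_eq_pow_sum]
    congr 2
    rw [Fin.sum_univ_eq_sum_range (fun i => i) n, Finset.sum_range_id]
  · intro hdvd
    rw [Prime.dvd_finset_prod_iff hp.prime] at hdvd
    obtain ⟨i, _, hi⟩ := hdvd
    have hpos : 1 ≤ n - i.val := by
      have := i.2
      omega
    have h2 : p ∣ q ^ (n - i.val) := dvd_trans hpq (dvd_pow_self q (by omega))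
    have h3 : 1 ≤ q ^ (n - i.val) := Nat.one_le_pow _ _ hq1
    have h4 : p ∣ 1 := by
      have := Nat.dvd_sub h2 hi
      rwa [Nat.sub_sub_self h3] at this
    exact hp.one_lt.ne' (Nat.dvd_one.mp h4)

theorem steinberg_vanish {F : Type*} [Field F] [Fintype F] (p : ℕ) [Fact p.Prime] [CharP F p] (n : ℕ)
    (y : GL (Fin n) F) (hy : p ∣ orderOf y) :
    Cfsg.unipotentCharacterGL n F (fun _ => 1) y = 0 := by
  classical
  have hp : p.Prime := Fact.out
  have : Fintype (GL (Fin n) F) := Fintype.ofFinite _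
  have : Fintype (Cfsg.IrrCharacter (GL (Fin n) F)) := Fintype.ofFinite _
  obtain ⟨M, hM⟩ := Cfsg.Agent.Lib.helper2.exists_isPModular p hp
  have hirr := Cfsg.Agent.S2421.result (F := F) (fun _ : Fin n => 1) monotone_const (by simp)
  let ξ : Cfsg.IrrCharacter (GL (Fin n) F) := ⟨_, hirr⟩
  obtain ⟨m, hm, hpm⟩ := card_GL_ppart (F := F) p n
  have hdeg : Cfsg.charDegree (ξ : GL (Fin n) F → ℂ) = Fintype.card F ^ (n * (n - 1) / 2) := by
    show ⌊(Cfsg.unipotentCharacterGL n F (fun _ => 1) 1).re⌋₊ = _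
    rw [steinberg_degree]
    rw [← Nat.cast_pow, Complex.natCast_re, Nat.floor_natCast]
  have hqpos : 0 < Fintype.card F ^ (n * (n - 1) / 2) := pow_pos Fintype.card_pos _
  have h : ¬ p ∣ Nat.card (GL (Fin n) F) / Cfsg.charDegree (ξ : GL (Fin n) F → ℂ) := by
    rw [hdeg, hm, Nat.mul_div_cancel_left _ hqpos]
    exact hpm
  exact Cfsg.Agent.Lib.helper7.h7_defect_zero_vanish hM ξ h y hy

end Cfsg.Agent.Lib.helper15.StbSt
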