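import Cfsg.Agent.Lib.helper7.Clifford
import Cfsg.Agent.Lib.Helper25.CharRestrict
set_option autoImplicit false
open Cfsg

namespace Cfsg.Agent.Lib.helper15.StbSt

open Finset Cfsg.Agent.Lib.helper7 Cfsg.Agent.Lib.Helper25 Cfsg.Agent.Lib.Helper11

theorem dvd_orderOf_of_mem_pgroup {G : Type*} [Group G] (p : ℕ) [Fact p.Prime] (P : Subgroup G)
    (hP : IsPGroup p P) (x : P) (hx : x ≠ 1) : p ∣ orderOf (x : G) := by
  have hp : p.Prime := Fact.out
  obtain ⟨k, hk⟩ := hP x
  rw [Subgroup.orderOf_coe]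
  have h1 : orderOf x ∣ p ^ k := orderOf_dvd_of_pow_eq_one hk
  obtain ⟨j, _, hj⟩ := (Nat.dvd_prime_pow hp).mp h1
  rcases j with _ | j
  · rw [pow_zero, orderOf_eq_one_iff] at hj
    exact absurd hj hx
  · rw [hj, pow_succ]
    exact dvd_mul_left p _

theorem sum_cj_sylow {G : Type*} [Group G] [Fintype G] (N : Subgroup G) [hN : N.Normal] (p : ℕ) [Fact p.Prime]
    (P : Sylow p N) [Fintype (P : Subgroup N)] (θ : N → ℂ) (hθ : Cfsg.IsClassFunction N θ) (g : G) :
    ∑ x : (P : Subgroup N), cj N θ g (x : N) = ∑ x : (P : Subgroup N), θ (x : N) := by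
  classical
  have hfr := Sylow.normalizer_sup_eq_top P
  have hg : g ∈ Subgroup.normalizer (Subgroup.map N.subtype (P : Subgroup N) : Set G) ⊔ N := by
    rw [hfr]
    exact Subgroup.mem_top g
  rw [sup_comm, Subgroup.mem_sup_of_normal_left] at hg
  obtain ⟨n, hn, h, hh, rfl⟩ := hg
  have hnorm : ∀ y : G, y ∈ Subgroup.map N.subtype (P : Subgroup N) ↔
      h * y * h⁻¹ ∈ Subgroup.map N.subtype (P : Subgroup N) := fun y =>
    (Subgroup.mem_normalizer_iff.mp hh) y
  have hmem : ∀ x : (P : Subgroup N), ∃ z : (P : Subgroup N), ((z : N) : G) = h * ((x : N) : G) * h⁻¹ := by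
    intro x
    have h1 : ((x : N) : G) ∈ Subgroup.map N.subtype (P : Subgroup N) :=
      ⟨(x : N), x.2, rfl⟩
    obtain ⟨z, hz, hzz⟩ := (hnorm _).mp h1
    exact ⟨⟨z, hz⟩, hzz⟩
  choose f hf using hmem
  have hfinj : Function.Injective f := by
    intro a b hab
    have h1 := hf a
    rw [hab, hf b] at h1
    have h2 : ((b : N) : G) = ((a : N) : G) := by
      have := mul_left_cancel (mul_right_cancel h1)
      exact this
    exact Subtype.ext (Subtype.ext h2.symm)
  have hfbij : Function.Bijective f := Finite.injective_iff_bijective.mp hfinj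
  rw [← hfbij.sum_comp (fun x : (P : Subgroup N) => θ (x : N))]
  apply Finset.sum_congr rfl
  intro x _
  rw [cj_apply]
  have e : (⟨n * h * ((x : N) : G) * (n * h)⁻¹, hN.conj_mem _ (x : N).2 _⟩ : N) =
      ⟨n, hn⟩ * (f x : N) * ⟨n, hn⟩⁻¹ := by
    apply Subtype.ext
    show n * h * ((x : N) : G) * (n * h)⁻¹ = n * ((f x : N) : G) * n⁻¹
    rw [hf x]
    group
  rw [e, hθ]

theorem restrict_irr_of_sylow_regular {G : Type*} [Group G] [Fintype G] (N : Subgroup G) [hN : N.Normal]
    (p : ℕ) [Fact p.Prime] (χ : G → ℂ) (hχ : Cfsg.IsIrrCharacter G χ)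
    (hvan : ∀ y : G, p ∣ orderOf y → χ y = 0)
    (P : Sylow p N) (hdeg : χ 1 = (Nat.card (P : Subgroup N) : ℂ)) :
    Cfsg.IsIrrCharacter N (fun n : N => χ n) := by
  classical
  have : Fintype N := Fintype.ofFinite _
  have : Fintype (Cfsg.IrrCharacter N) := Fintype.ofFinite _
  have : Fintype (P : Subgroup N) := Fintype.ofFinite _
  have hR := Cfsg.Agent.Lib.helper2.isCharacter_restrict (h7_irr_isCharacter hχ) N
  obtain ⟨m, hm, hexp⟩ := Cfsg.Agent.Lib.helper2.isCharacter_expansion hR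
  have hcardpos : 0 < Nat.card (P : Subgroup N) := Nat.card_pos
  have hχ1 : χ 1 ≠ 0 := by
    rw [hdeg]
    exact_mod_cast hcardpos.ne'
  have hex : ∃ θ : Cfsg.IrrCharacter N, m θ ≠ 0 := by
    by_contra hcon
    push Not at hcon
    have h0 : (fun n : N => χ n) = 0 := by
      rw [hexp]
      apply Finset.sum_eq_zero
      intro θ _
      rw [hcon θ]
      simp
    have := congrFun h0 1
    exact hχ1 this
  obtain ⟨θ, hθm⟩ := hex
  have hcon : Cfsg.classInner (fun n : N => χ n) (θ : N → ℂ) ≠ 0 := by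
    rw [hm θ]
    exact_mod_cast hθm
  obtain ⟨e, hepos, _, hsum⟩ := h7_clifford N χ hχ (θ : N → ℂ) θ.2 hcon
  have hθcl := h7_irr_isClassFunction θ.2
  have hsumP : ∑ x : (P : Subgroup N), χ ((x : N) : G) = χ 1 := by
    rw [Finset.sum_eq_single (1 : (P : Subgroup N))]
    · rfl
    · intro x _ hx
      apply hvan
      have := dvd_orderOf_of_mem_pgroup p (P : Subgroup N) P.isPGroup' x hx
      rw [Subgroup.orderOf_coe]
      exact this
    · intro h
      exact absurd (Finset.mem_univ _) h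
  obtain ⟨k, hk⟩ := sum_subgroup_irr (P : Subgroup N) θ
  set I := Finset.univ.image (fun g : G => cj N (θ : N → ℂ) g) with hI
  have hsum2 : ∑ x : (P : Subgroup N), χ ((x : N) : G) =
      (e : ℂ) * ((I.card : ℂ) * ((Nat.card (P : Subgroup N) : ℂ) * (k : ℂ))) := by
    have h1 : ∀ x : (P : Subgroup N), χ ((x : N) : G) = (e : ℂ) * ∑ ψ ∈ I, ψ (x : N) := by
      intro x
      have := congrFun hsum (x : N)
      simp only [Pi.smul_apply, Finset.sum_apply, smul_eq_mul] at this
      exact this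
    rw [Finset.sum_congr rfl (fun x _ => h1 x), ← Finset.mul_sum, Finset.sum_comm]
    congr 1
    have h2 : ∀ ψ ∈ I, ∑ x : (P : Subgroup N), ψ (x : N) = (Nat.card (P : Subgroup N) : ℂ) * (k : ℂ) := by
      intro ψ hψ
      rw [hI, Finset.mem_image] at hψ
      obtain ⟨g, _, rfl⟩ := hψ
      rw [sum_cj_sylow N p P (θ : N → ℂ) hθcl g, hk]
    rw [Finset.sum_congr rfl h2, Finset.sum_const, nsmul_eq_mul]
  rw [hsumP, hdeg] at hsum2
  have hnat : Nat.card (P : Subgroup N) = e * (I.card * (Nat.card (P : Subgroup N) * k)) := by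
    exact_mod_cast hsum2
  have hetk : e * I.card * k = 1 := by
    have : Nat.card (P : Subgroup N) * 1 = Nat.card (P : Subgroup N) * (e * I.card * k) := by
      rw [mul_one]
      conv_lhs => rw [hnat]
      ring
    exact (Nat.eq_of_mul_eq_mul_left hcardpos this).symm
  have he1 : e = 1 := by
    have := Nat.eq_one_of_mul_eq_one_right (Nat.eq_one_of_mul_eq_one_right hetk)
    exact this
  have hI1 : I.card = 1 := by
    have := Nat.eq_one_of_mul_eq_one_left (Nat.eq_one_of_mul_eq_one_right hetk)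
    exact this
  have hθI : (θ : N → ℂ) ∈ I := by
    rw [hI, Finset.mem_image]
    exact ⟨1, Finset.mem_univ _, cj_one N _⟩
  obtain ⟨a, ha⟩ := Finset.card_eq_one.mp hI1
  have haθ : a = (θ : N → ℂ) := by
    rw [ha, Finset.mem_singleton] at hθI
    exact hθI.symm
  rw [hsum, ha, Finset.sum_singleton, he1, haθ, Nat.cast_one, one_smul]
  exact θ.2

end Cfsg.Agent.Lib.helper15.StbSt
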