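import Mathlib
import Cfsg.Agent.Lib.helper3.T2E.Defs

/-!
# T2E row U1 (helper15), core: uniqueness of canonical lifts, on the STATEMENTS of rows C4 (`chi_ne_one`, at `r`) and D6 (`T1_act`, at `r`)
as hypotheses; the abstract row A3 is proved here under an own name (`t2eu1h15_abs`).
-/

set_option autoImplicit false

namespace Cfsg.Agent.Lib.helper3.T2E

open Cfsg.Lie Cfsg.Lie.ChevalleyDatum Matrix
open Cfsg.Agent.Lib.helper8 Cfsg.Agent.Lib.Helper10.TEM Cfsg.Agent.Lib.helper7.Ce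
  Cfsg.Agent.Lib.helper15.St2

universe u

section Abstract

variable {Γ' : Type*} {G : Type*} [Group Γ'] [Group G] {σ : Γ' →* G} {F : Type*} [Field F]

/-- own-name copy of row A3: two additive lifts on `P`, both equivariant under some `γ` acting by `c ≠ 1`, agree on `P` -/
theorem t2eu1h15_abs (h : IsCE σ) (P : F → Prop) (hP0 : P 0)
    (hPadd : ∀ s t, P s → P t → P (s + t)) (hPneg : ∀ t, P t → P (-t)) (c : F) (hc : c ≠ 1)
    (hPc : ∀ t, P t → P (c * t)) (hPc' : ∀ t, P t → P ((c - 1)⁻¹ * t)) (L L' : F → Γ')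
    (hmap : ∀ t, P t → σ (L t) = σ (L' t))
    (hadd : ∀ s t, P s → P t → L (s + t) = L s * L t)
    (hadd' : ∀ s t, P s → P t → L' (s + t) = L' s * L' t) (γ : Γ')
    (hγ : ∀ t, P t → cj γ (L t) = L (c * t)) (hγ' : ∀ t, P t → cj γ (L' t) = L' (c * t)) :
    ∀ t, P t → L t = L' t := by
  have hz1 : ∀ t, P t → σ (L t * (L' t)⁻¹) = 1 := fun t ht => by
    rw [map_mul, map_inv, hmap t ht, mul_inv_cancel]
  have hL0 : L 0 = 1 := by
    have h0 := hadd 0 0 hP0 hP0
    rw [add_zero] at h0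
    exact mul_left_cancel (a := L 0) (by rw [← h0, mul_one])
  have hL0' : L' 0 = 1 := by
    have h0 := hadd' 0 0 hP0 hP0
    rw [add_zero] at h0
    exact mul_left_cancel (a := L' 0) (by rw [← h0, mul_one])
  -- additivity of the defect
  have hzadd : ∀ s t, P s → P t → L (s + t) * (L' (s + t))⁻¹ = (L s * (L' s)⁻¹) * (L t * (L' t)⁻¹) := by
    intro s t hs ht
    rw [hadd s t hs ht, hadd' s t hs ht, _root_.mul_inv_rev]
    have hc1 := h.comm_of_map_one (hz1 t ht) (L' s)⁻¹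
    calc L s * L t * ((L' t)⁻¹ * (L' s)⁻¹) = L s * ((L t * (L' t)⁻¹) * (L' s)⁻¹) := by group
      _ = L s * ((L' s)⁻¹ * (L t * (L' t)⁻¹)) := by rw [hc1]
      _ = (L s * (L' s)⁻¹) * (L t * (L' t)⁻¹) := by group
  -- invariance of the defect
  have hzc : ∀ t, P t → L (c * t) * (L' (c * t))⁻¹ = L t * (L' t)⁻¹ := by
    intro t ht
    rw [← hγ t ht, ← hγ' t ht]
    have := h.cj_of_map_one (hz1 t ht) γ
    rw [← this]
    unfold cj
    group
  have hc1 : c - 1 ≠ 0 := sub_ne_zero.2 hc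
  have hkey : ∀ t, P t → L ((c - 1) * t) * (L' ((c - 1) * t))⁻¹ = 1 := by
    intro t ht
    have e : (c - 1) * t = c * t + -t := by ring
    rw [e, hzadd (c * t) (-t) (hPc t ht) (hPneg t ht), hzc t ht, ← hzadd t (-t) ht (hPneg t ht), add_neg_cancel,
      hL0, hL0', inv_one, mul_one]
  intro t ht
  have h1 := hkey ((c - 1)⁻¹ * t) (hPc' t ht)
  rw [← mul_assoc, mul_inv_cancel₀ hc1, one_mul] at h1
  exact mul_inv_eq_one.1 h1

end Abstract

variable {K : Type u} [Field K] {q : ℕ} {f : K ≃+* K} {Γ : Type u} [Group Γ]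
  {π : Γ →* ↥(twistedE6 K q)}

/-- admissible parameters: closed under the field operations (fixed points of the Frobenius) -/
theorem t2eu1h15_adm_iff (hF : Frob q f) (r : ℕ) (t : K) : Adm q r t ↔ (h8sE6 r = r → f t = t) := by
  unfold Adm
  rw [hF.pow]

/-- [U1] core: uniqueness of canonical lifts, given a torus element with `χ ≠ 1` (C4) and the torus action (D6, first part only). -/
theorem t2eu1h15_core (hF : Frob q f) (hπ : IsCE π) {r : ℕ}
    (hC4 : ∃ h ∈ T1 K q, h8chi chevE6 hB h r ≠ 1)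
    (hD6 : ∀ h : GG K, h ∈ T1 K q → ∀ t : K, Adm q r t → Adm q r (h8chi chevE6 hB h r * t))
    {L L' : K → Γ} (h : IsRootLift q π r L) (h' : IsRootLift q π r L') : ∀ t, Adm q r t → L t = L' t := by
  obtain ⟨g, hg, hgc⟩ := hC4
  have hg' : g ∈ chevE6.diagonalSubgroup K ∧ g ∈ twistedE6 K q := Subgroup.mem_inf.1 hg
  obtain ⟨γ, hγ⟩ := hπ.surj ⟨g, hg'.2⟩
  have hpm : pm π γ = g := by
    show ((twistedE6 K q).subtype.comp π) γ = g
    rw [MonoidHom.comp_apply, hγ]
    rfl
  have hA : ∀ t, Adm q r t ↔ (h8sE6 r = r → f t = t) := t2eu1h15_adm_iff hF r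
  have hP1 : Adm q r (1 : K) := (hA 1).2 (fun _ => map_one f)
  have hPc0 : Adm q r (h8chi chevE6 hB g r) := by
    have := hD6 g hg 1 hP1
    rwa [mul_one] at this
  have hdiag : pm π γ ∈ chevE6.diagonalSubgroup K := by rw [hpm]; exact hg'.1
  refine t2eu1h15_abs hπ (Adm q r) ((hA 0).2 (fun _ => map_zero f)) ?_ ?_ (h8chi chevE6 hB g r) hgc ?_ ?_ L L' ?_
    h.add h'.add γ ?_ ?_
  · intro s t hs ht
    rw [hA] at hs ht ⊢
    intro hr
    rw [map_add, hs hr, ht hr]
  · intro t ht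
    rw [hA] at ht ⊢
    intro hr
    rw [map_neg, ht hr]
  · intro t ht
    exact hD6 g hg t ht
  · intro t ht
    rw [hA] at ht hPc0 ⊢
    intro hr
    rw [map_mul, map_inv₀, map_sub, map_one, hPc0 hr, ht hr]
  · intro t ht
    apply Subtype.ext
    have e1 := h.map t ht
    have e2 := h'.map t ht
    have e3 : ((π (L t) : ↥(twistedE6 K q)) : GG K) = pm π (L t) := rfl
    have e4 : ((π (L' t) : ↥(twistedE6 K q)) : GG K) = pm π (L' t) := rfl
    rw [e3, e4, e1, e2]
  · intro t ht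
    have := h.tor γ hdiag t ht
    rw [hpm] at this
    exact this
  · intro t ht
    have := h'.tor γ hdiag t ht
    rw [hpm] at this
    exact this

end Cfsg.Agent.Lib.helper3.T2E
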