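import Mathlib
import Cfsg.Agent.Lib.helper3.T2E.Defs
import Cfsg.Agent.Lib.helper15.T2EU1core
import Cfsg.Agent.Lib.Helper20.T2EC2
import Cfsg.Agent.Lib.helper23.T2EC5core

/-!
# T2E row U1 (helper15), VERBATIM: `IsRootLift.unique` — uniqueness of canonical lifts (from the core `t2eu1h15_core`, row C4 of helper20 and helper23's proved copy `t2ec5h23_T1_act` of row D6)
-/

set_option autoImplicit false

namespace Cfsg.Agent.Lib.helper3.T2E

open Cfsg.Lie Cfsg.Lie.ChevalleyDatum Matrix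
open Cfsg.Agent.Lib.helper8 Cfsg.Agent.Lib.Helper10.TEM Cfsg.Agent.Lib.helper7.Ce
  Cfsg.Agent.Lib.helper15.St2

universe u

variable {K : Type u} [Field K] {q : ℕ} {f : K ≃+* K} {Γ : Type u} [Group Γ]
  {π : Γ →* ↥(twistedE6 K q)}

-- ROW U1 [M]  A3 with `P := Adm q r`, `γ` a lift of `h` of C4, `c := h8chi … h r` (`∈ k` if `σ r = r`: D6).
theorem IsRootLift.unique [Fintype K] (hq : IsPrimePow q) (hK : Fintype.card K = q ^ 2) (h2 : q ≠ 2)
    (hF : Frob q f) (hπ : IsCE π) {r : ℕ} (hr : r < 72) {L L' : K → Γ} (h : IsRootLift q π r L)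
    (h' : IsRootLift q π r L') : ∀ t, Adm q r t → L t = L' t :=
  t2eu1h15_core hF hπ (chi_ne_one hq hK h2 hF r hr) (fun g hg t ht => (t2ec5h23_T1_act hF g hg r hr t ht).1) h h'

end Cfsg.Agent.Lib.helper3.T2E
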