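import Mathlib
import Cfsg.Agent.Lib.helper3.BSZ.Defs

set_option autoImplicit false

/-!
# Project BSZ (S5737, designer helper3), row B03 (`zs_norm`), verbatim.
-/

namespace Cfsg.Agent.Lib.helper3.BSZ

open Cfsg Cfsg.Agent.Lib.helper3

variable {F : Type*} [Field F] [Fintype F] {m : ℕ}

/-- B03 [S]: `a⁻¹` fixes `oInf`, `a⁻¹ = gT x y * gD l` (`stab_decomp`), `h = gT 0 β` (`mem_Zs`), `conj_gT_zero`. -/
theorem zs_norm (hF : Fintype.card F = 2 ^ (2 * m + 1)) (hm : 1 ≤ m) {a : Sz F m}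
    (ha : a • oInf F m = oInf F m) {h : Sz F m} (hh : h ∈ Zs hF) : a⁻¹ * h * a ∈ Zs hF := by
  have ha' : a⁻¹ • oInf F m = oInf F m := by
    rw [inv_smul_eq_iff, ha]
  obtain ⟨x, y, l, hl⟩ := stab_decomp hF hm ha'
  obtain ⟨β, rfl⟩ := (mem_Zs hF).mp hh
  have e : a⁻¹ * gT hF 0 β * a =
      (gT hF x y * gD hF l) * gT hF 0 β * (gT hF x y * gD hF l)⁻¹ := by
    rw [← hl, inv_inv]
  rw [e, conj_gT_zero]
  exact (mem_Zs hF).mpr ⟨_, rfl⟩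

end Cfsg.Agent.Lib.helper3.BSZ
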