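import Mathlib
import Cfsg.Agent.Lib.helper3.C6U.Defs
import Cfsg.Agent.Lib.Lead.Unitary
import Cfsg.Agent.Lib.helper7.C6PWSMUL

set_option autoImplicit false
set_option linter.unusedVariables false
set_option linter.unusedSectionVars false

/-!
# Project C6U, rows W1 (`gram_mul`) and W5 (`nrmu_transport`), verbatim from `helper3/C6U/Skel.lean.txt`.
-/

namespace Cfsg.Agent.Lib.helper3.C6U

open Polynomial Matrix
open Cfsg.Agent.Lib.Helper10.C6P
open scoped MatrixGroups

variable {F : Type*} [Field F]

section fin

variable [Fintype F] {p : ℕ} [Fact p.Prime] [CharP F p]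

/-- entrywise `p`-th power is multiplicative on matrices in characteristic `p` -/
theorem c6uw1_map_mul (A B : M4 F) :
    (A * B).map (fun a => a ^ p) = A.map (fun a => a ^ p) * B.map (fun a => a ^ p) := by
  have h := Matrix.map_mul (f := frobenius F p) (L := A) (M := B)
  have hf : (⇑(frobenius F p) : F → F) = fun a => a ^ p := by
    funext a
    exact frobenius_def p a
  rw [hf] at h
  exact h

/-- W1 [S-M] : the Gram matrix of a product; unitary matrices are closed under products and inverses (`Matrix.map_mul` for the ring hom `frobenius F p`). -/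
theorem gram_mul (A B : M4 F) : gram p (A * B) = B.transpose * gram p A * B.map (fun a => a ^ p) := by
  unfold gram
  rw [Matrix.transpose_mul, c6uw1_map_mul]
  simp only [Matrix.mul_assoc]

/-- products of unitary matrices are unitary -/
theorem c6uw1_isU_mul (A B : M4 F) (hA : IsU p A) (hB : IsU p B) : IsU p (A * B) := by
  unfold IsU at hA hB ⊢
  rw [gram_mul, hA, Matrix.mul_one]
  exact hB

/-- membership in `GU` gives the matrix form of unitarity -/
theorem c6uw1_isU_of_mem (g : GL (Fin 4) F) (hg : g ∈ Cfsg.GU 4 F p) : IsU p (g : M4 F) := by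
  unfold IsU gram
  have h := (Cfsg.Agent.Lib.Lead.preserves_iff (n := 4) (q := p) (frobenius F p)
    (fun x => frobenius_def p x) (g : M4 F)).1 (fun u v => hg u v)
  have hf : (⇑(frobenius F p) : F → F) = fun a => a ^ p := by
    funext a
    exact frobenius_def p a
  rw [hf] at h
  exact h

/-- W5 [M] : transport of a unitary witness along the unitary conjugation `P` (helper7 `nrm_transport`; W1). -/
theorem nrmu_transport (hF : Fintype.card F = p ^ 2) (R : Subgroup (GL (Fin 4) F)) (P : GL (Fin 4) F) (hP : P ∈ Cfsg.GU 4 F p)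
    (M : M4 F) (h : NrmU p (R.map (MulAut.conj P).toMonoidHom) M) :
    NrmU p R (((P⁻¹ : GL (Fin 4) F) : M4 F) * M * (P : M4 F)) := by
  obtain ⟨hN, hU⟩ := h
  refine ⟨nrm_transport R P M hN, ?_⟩
  exact c6uw1_isU_mul _ _ (c6uw1_isU_mul _ _ (c6uw1_isU_of_mem P⁻¹ (Subgroup.inv_mem _ hP)) hU)
    (c6uw1_isU_of_mem P hP)

end fin

end Cfsg.Agent.Lib.helper3.C6U
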