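import Mathlib
import Cfsg.Agent.Lib.helper3.C6U.Defs
import Cfsg.Agent.Lib.helper15.C6UW1

set_option autoImplicit false
set_option linter.unusedVariables false
set_option linter.unusedSectionVars false

/-!
# Project C6U, row E0 (`uconj`), verbatim from `helper3/C6U/Skel.lean.txt`.
-/

namespace Cfsg.Agent.Lib.helper3.C6U

open Polynomial Matrix
open Cfsg.Agent.Lib.Helper10.C6P
open scoped MatrixGroups

variable {F : Type*} [Field F]

section fin

variable [Fintype F] {p : ℕ} [Fact p.Prime] [CharP F p]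

/-- the matrix form of unitarity gives membership in `GU` -/
theorem c6ue0_mem_of_isU (g : GL (Fin 4) F) (hg : IsU p (g : M4 F)) : g ∈ Cfsg.GU 4 F p := by
  unfold IsU gram at hg
  have hf : (⇑(frobenius F p) : F → F) = fun a => a ^ p := by
    funext a
    exact frobenius_def p a
  have h := (Cfsg.Agent.Lib.Lead.preserves_iff (n := 4) (q := p) (frobenius F p)
    (fun x => frobenius_def p x) (g : M4 F)).2 (by rw [hf]; exact hg)
  intro u v
  exact h u v

/-- the determinant of a Gram matrix -/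
theorem c6ue0_det_gram (B : M4 F) : (gram p B).det = B.det ^ (p + 1) := by
  unfold gram
  rw [Matrix.det_mul, Matrix.det_transpose]
  have h := RingHom.map_det (frobenius F p) B
  rw [RingHom.mapMatrix_apply] at h
  have hf : (⇑(frobenius F p) : F → F) = fun a => a ^ p := by
    funext a
    exact frobenius_def p a
  rw [hf] at h
  rw [← h]
  show B.det * B.det ^ p = B.det ^ (p + 1)
  rw [pow_succ']

/-- E0 [M] : the conjugacy step. -/
theorem uconj (hF : Fintype.card F = p ^ 2) (R : Subgroup (GL (Fin 4) F)) (x : GL (Fin 4) F)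
    (hx : x ∈ Cfsg.GU 4 F p ⊓ Cfsg.Geo.specialLinear (Fin 4) F) (w : F) (hw : w ^ (p + 1) = 1) (y : M4 F) (hyN : Nrm R y)
    (G0 D : M4 F) (Bu By : GL (Fin 4) F) (hBu : gram p (Bu : M4 F) = G0) (hBy : gram p (By : M4 F) = G0)
    (hDu : ((Bu⁻¹ : GL (Fin 4) F) : M4 F) * (w⁻¹ • (x : M4 F)) * (Bu : M4 F) = D)
    (hDy : ((By⁻¹ : GL (Fin 4) F) : M4 F) * y * (By : M4 F) = D)
    (hC : ∀ δ : F, δ ^ (p + 1) = 1 → ∃ C : GL (Fin 4) F,
      (C : M4 F).transpose * G0 * (C : M4 F).map (fun a => a ^ p) = G0 ∧ (C : M4 F) * D = D * (C : M4 F) ∧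
      (C : M4 F).det = δ) :
    ∃ g ∈ Cfsg.GU 4 F p ⊓ Cfsg.Geo.specialLinear (Fin 4) F, g⁻¹ * x * g ∈ Cfsg.Geo.subgroupNormalizer R := by
  have hw0 : w ≠ 0 := by
    rintro rfl
    rw [zero_pow (by omega)] at hw
    exact zero_ne_one hw
  obtain ⟨s, hs⟩ : ∃ s : GL (Fin 4) F, s = c6pwsmul_scal w hw0 := ⟨_, rfl⟩
  have hscomm : ∀ a : GL (Fin 4) F, s * a = a * s := by rw [hs]; exact c6pwsmul_scal_comm w hw0
  have hscoe : (s : M4 F) = w • (1 : M4 F) := by rw [hs]; rfl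
  have hsicoe : ((s⁻¹ : GL (Fin 4) F) : M4 F) = w⁻¹ • (1 : M4 F) := by rw [hs]; rfl
  -- determinants
  set dBu : Fˣ := Matrix.GeneralLinearGroup.det Bu with hdBu
  set dBy : Fˣ := Matrix.GeneralLinearGroup.det By with hdBy
  have hdBu' : ((dBu : Fˣ) : F) = (Bu : M4 F).det := rfl
  have hdBy' : ((dBy : Fˣ) : F) = (By : M4 F).det := rfl
  have hpow : dBy ^ (p + 1) = dBu ^ (p + 1) := by
    apply Units.ext
    rw [Units.val_pow_eq_pow_val, Units.val_pow_eq_pow_val, hdBu', hdBy', ← c6ue0_det_gram,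
      ← c6ue0_det_gram, hBu, hBy]
  have hδ : (((dBy / dBu : Fˣ) : Fˣ) : F) ^ (p + 1) = 1 := by
    rw [← Units.val_pow_eq_pow_val, div_pow, hpow, div_self', Units.val_one]
  obtain ⟨C, hCG, hCD, hCdet⟩ := hC _ hδ
  -- `D` as a unit
  obtain ⟨u, hu⟩ : ∃ u : GL (Fin 4) F, u = s⁻¹ * x := ⟨_, rfl⟩
  obtain ⟨Dg, hDg⟩ : ∃ Dg : GL (Fin 4) F, Dg = Bu⁻¹ * u * Bu := ⟨_, rfl⟩
  have hucoe : (u : M4 F) = w⁻¹ • (x : M4 F) := by
    rw [hu, Units.val_mul, hsicoe, Matrix.smul_mul, Matrix.one_mul]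
  have hDgcoe : (Dg : M4 F) = D := by
    rw [hDg, Units.val_mul, Units.val_mul, hucoe]
    exact hDu
  have hCDg : C * Dg = Dg * C := by
    apply Units.ext
    rw [Units.val_mul, Units.val_mul, hDgcoe]
    exact hCD
  -- `y` as a unit
  obtain ⟨yg, hyg⟩ : ∃ yg : GL (Fin 4) F, yg = By * Dg * By⁻¹ := ⟨_, rfl⟩
  have hygcoe : (yg : M4 F) = y := by
    rw [hyg, Units.val_mul, Units.val_mul, hDgcoe, ← hDy]
    have h1 : (By : M4 F) * ((By⁻¹ : GL (Fin 4) F) : M4 F) = 1 := by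
      rw [← Units.val_mul, mul_inv_cancel, Units.val_one]
    calc (By : M4 F) * (((By⁻¹ : GL (Fin 4) F) : M4 F) * y * (By : M4 F)) * ((By⁻¹ : GL (Fin 4) F) : M4 F)
        = ((By : M4 F) * ((By⁻¹ : GL (Fin 4) F) : M4 F)) * y *
            ((By : M4 F) * ((By⁻¹ : GL (Fin 4) F) : M4 F)) := by
          simp only [Matrix.mul_assoc]
      _ = y := by rw [h1, Matrix.one_mul, Matrix.mul_one]
  -- the conjugating element
  obtain ⟨g, hg⟩ : ∃ g : GL (Fin 4) F, g = Bu * C * By⁻¹ := ⟨_, rfl⟩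
  have hgU : IsU p (g : M4 F) := by
    unfold IsU
    rw [hg, Units.val_mul, gram_mul, Units.val_mul, gram_mul, hBu, hCG, ← hBy]
    unfold gram
    have h1 : (By : M4 F) * ((By⁻¹ : GL (Fin 4) F) : M4 F) = 1 := by
      rw [← Units.val_mul, mul_inv_cancel, Units.val_one]
    calc ((By⁻¹ : GL (Fin 4) F) : M4 F).transpose * ((By : M4 F).transpose * (By : M4 F).map (fun a => a ^ p)) *
          (((By⁻¹ : GL (Fin 4) F) : M4 F)).map (fun a => a ^ p)
        = (((By⁻¹ : GL (Fin 4) F) : M4 F).transpose * (By : M4 F).transpose) *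
            ((By : M4 F).map (fun a => a ^ p) * (((By⁻¹ : GL (Fin 4) F) : M4 F)).map (fun a => a ^ p)) := by
          simp only [Matrix.mul_assoc]
      _ = 1 := by
          rw [← Matrix.transpose_mul, ← c6uw1_map_mul, h1, Matrix.transpose_one, Matrix.one_mul]
          ext a b
          simp [Matrix.map_apply, Matrix.one_apply]
          split_ifs <;> simp
          have := (Fact.out : p.Prime).pos
          omega
  have hgdet : Matrix.GeneralLinearGroup.det g = 1 := by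
    have hCd : Matrix.GeneralLinearGroup.det C = dBy / dBu := by
      apply Units.ext
      exact hCdet
    rw [hg, map_mul, map_mul, map_inv, hCd, ← hdBu, ← hdBy]
    rw [div_eq_mul_inv]
    calc dBu * (dBy * dBu⁻¹) * dBy⁻¹ = (dBu * dBu⁻¹) * (dBy * dBy⁻¹) := by
          simp only [mul_comm, mul_assoc, mul_left_comm]
      _ = 1 := by rw [mul_inv_cancel, mul_inv_cancel, one_mul]
  refine ⟨g, ⟨c6ue0_mem_of_isU g hgU, ?_⟩, ?_⟩
  · show g ∈ (Matrix.GeneralLinearGroup.det : GL (Fin 4) F →* Fˣ).ker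
    rw [MonoidHom.mem_ker]
    exact hgdet
  · -- `g⁻¹ * x * g = s * yg`
    have hxs : x = s * u := by rw [hu]; group
    have hub : u = Bu * Dg * Bu⁻¹ := by rw [hDg]; group
    have hconj : g⁻¹ * u * g = yg := by
      rw [hg, hyg, hub]
      have h1 : (Bu * C * By⁻¹)⁻¹ * (Bu * Dg * Bu⁻¹) * (Bu * C * By⁻¹) = By * (C⁻¹ * (Dg * C)) * By⁻¹ := by
        group
      rw [h1, ← hCDg]
      group
    have hfin : g⁻¹ * x * g = s * yg := by
      rw [hxs, ← hconj]
      have h1 : g⁻¹ * (s * u) * g = g⁻¹ * s * (u * g) := by group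
      rw [h1, ← hscomm g⁻¹]
      group
    obtain ⟨n, hn, hnN⟩ := nrm_smul R y hyN w hw0
    have hnn : n = g⁻¹ * x * g := by
      apply Units.ext
      rw [hn, hfin, Units.val_mul, hygcoe, hscoe, Matrix.smul_mul, Matrix.one_mul]
    rw [← hnn]
    exact hnN

end fin

end Cfsg.Agent.Lib.helper3.C6U
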