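import Mathlib

/-!
# Generic Sylvester lemma (pre-work for project ORE = S2444)

If `A` on `V₁` and `B` on `V₂` are killed by coprime polynomials, then `Z ↦ A ∘ Z - Z ∘ B` is bijective
on `V₂ →ₗ V₁`.
-/

set_option autoImplicit false

namespace Cfsg.Agent.Lib.helper15.OREgen

open Polynomial

theorem oreb1_intertwine_pow {F V₁ V₂ : Type*} [Field F] [AddCommGroup V₁] [Module F V₁]
    [AddCommGroup V₂] [Module F V₂] (A : V₁ →ₗ[F] V₁) (B : V₂ →ₗ[F] V₂) (Z : V₂ →ₗ[F] V₁)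
    (h : A ∘ₗ Z = Z ∘ₗ B) : ∀ n : ℕ, (A ^ n) ∘ₗ Z = Z ∘ₗ (B ^ n)
  | 0 => by
    rw [pow_zero, pow_zero, Module.End.one_eq_id, Module.End.one_eq_id, LinearMap.id_comp,
      LinearMap.comp_id]
  | n + 1 => by
    rw [pow_succ, pow_succ, Module.End.mul_eq_comp, Module.End.mul_eq_comp, LinearMap.comp_assoc, h,
      ← LinearMap.comp_assoc, oreb1_intertwine_pow A B Z h n, LinearMap.comp_assoc]

theorem oreb1_intertwine {F V₁ V₂ : Type*} [Field F] [AddCommGroup V₁] [Module F V₁]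
    [AddCommGroup V₂] [Module F V₂] (A : V₁ →ₗ[F] V₁) (B : V₂ →ₗ[F] V₂) (Z : V₂ →ₗ[F] V₁)
    (h : A ∘ₗ Z = Z ∘ₗ B) (f : F[X]) : (aeval A f) ∘ₗ Z = Z ∘ₗ (aeval B f) := by
  induction f using Polynomial.induction_on' with
  | add f₁ f₂ h₁ h₂ =>
    rw [map_add, map_add, LinearMap.add_comp, LinearMap.comp_add, h₁, h₂]
  | monomial n a =>
    rw [aeval_monomial, aeval_monomial, Algebra.algebraMap_eq_smul_one,
      Algebra.algebraMap_eq_smul_one, smul_mul_assoc, smul_mul_assoc, one_mul, one_mul,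
      LinearMap.smul_comp, LinearMap.comp_smul, oreb1_intertwine_pow A B Z h n]

/-- Sylvester: the operator `Z ↦ A ∘ Z - Z ∘ B`. -/
noncomputable def oreb1_T {F V₁ V₂ : Type*} [Field F] [AddCommGroup V₁] [Module F V₁]
    [AddCommGroup V₂] [Module F V₂] (A : V₁ →ₗ[F] V₁) (B : V₂ →ₗ[F] V₂) :
    (V₂ →ₗ[F] V₁) →ₗ[F] (V₂ →ₗ[F] V₁) where
  toFun Z := A ∘ₗ Z - Z ∘ₗ B
  map_add' Z Y := by
    rw [LinearMap.comp_add, LinearMap.add_comp]
    abel
  map_smul' c Z := by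
    rw [LinearMap.comp_smul, LinearMap.smul_comp, RingHom.id_apply, smul_sub]

theorem oreb1_T_injective {F V₁ V₂ : Type*} [Field F] [AddCommGroup V₁] [Module F V₁]
    [AddCommGroup V₂] [Module F V₂] (A : V₁ →ₗ[F] V₁) (B : V₂ →ₗ[F] V₂) (p r : F[X])
    (hp : aeval A p = 0) (hr : aeval B r = 0) (hc : IsCoprime p r) :
    Function.Injective (oreb1_T A B) := by
  rw [← LinearMap.ker_eq_bot, LinearMap.ker_eq_bot']
  intro Z hZ
  have h : A ∘ₗ Z = Z ∘ₗ B := sub_eq_zero.mp hZ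
  obtain ⟨u, w, huw⟩ := hc
  have h1 := oreb1_intertwine A B Z h (u * p)
  have h2 : aeval B (u * p) = 1 := by
    have : aeval B (u * p + w * r) = 1 := by rw [huw, map_one]
    rw [map_add, map_mul (aeval B) w r, hr, mul_zero, add_zero] at this
    exact this
  rw [h2, map_mul, hp, mul_zero] at h1
  have h3 : Z ∘ₗ (1 : V₂ →ₗ[F] V₂) = Z := LinearMap.comp_id Z
  rw [← h3, ← h1]
  exact LinearMap.zero_comp Z

theorem oreb1_sylvester {F V₁ V₂ : Type*} [Field F] [AddCommGroup V₁] [Module F V₁]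
    [FiniteDimensional F V₁] [AddCommGroup V₂] [Module F V₂] [FiniteDimensional F V₂]
    (A : V₁ →ₗ[F] V₁) (B : V₂ →ₗ[F] V₂) (p r : F[X])
    (hp : aeval A p = 0) (hr : aeval B r = 0) (hc : IsCoprime p r) (C : V₂ →ₗ[F] V₁) :
    ∃! Z : V₂ →ₗ[F] V₁, A ∘ₗ Z - Z ∘ₗ B = C := by
  have hinj := oreb1_T_injective A B p r hp hr hc
  have hsurj : Function.Surjective (oreb1_T A B) := LinearMap.injective_iff_surjective.mp hinj
  obtain ⟨Z, hZ⟩ := hsurj C
  refine ⟨Z, hZ, ?_⟩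
  intro Y hY
  exact hinj ((show oreb1_T A B Y = C from hY).trans hZ.symm)

end Cfsg.Agent.Lib.helper15.OREgen
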