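import Mathlib

/-!
# Generic cyclic-summand lemma (pre-work for project ORE = S2444)

For an endomorphism `g` of a non-zero finite-dimensional vector space `V`: there is a `g`-invariant
decomposition `V = W ⊕ W'` with `W` cyclic, generated by a vector `v` whose order ideal is `(p ^ e)`,
`p` irreducible, `e > 0`.
-/

set_option autoImplicit false

namespace Cfsg.Agent.Lib.helper15.OREgen

open Polynomial

universe u v

theorem ored1_aeval_mem_span {F V : Type*} [Field F] [AddCommGroup V] [Module F V]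
    (g : V →ₗ[F] V) (v : V) (f : F[X]) :
    (aeval g f) v ∈ Submodule.span F (Set.range fun k : ℕ => (g ^ k) v) := by
  rw [Polynomial.aeval_eq_sum_range]
  rw [LinearMap.sum_apply]
  refine Submodule.sum_mem _ (fun k _ => ?_)
  rw [LinearMap.smul_apply]
  exact Submodule.smul_mem _ _ (Submodule.subset_span ⟨k, rfl⟩)

theorem ored1_split {F : Type u} {V : Type v} [Field F] [AddCommGroup V] [Module F V]
    [FiniteDimensional F V] [Nontrivial V] (g : V →ₗ[F] V) :
    ∃ (W W' : Submodule F V) (v : V) (p : F[X]) (e : ℕ), Irreducible p ∧ 0 < e ∧ IsCompl W W' ∧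
      (∀ w ∈ W, g w ∈ W) ∧ (∀ w ∈ W', g w ∈ W') ∧
      W = Submodule.span F (Set.range fun k : ℕ => (g ^ k) v) ∧
      (∀ f : F[X], (aeval g f) v = 0 ↔ p ^ e ∣ f) := by
  classical
  have hT : Module.IsTorsion F[X] (Module.AEval' g) :=
    Module.AEval.isTorsion_of_finiteDimensional F V g
  obtain ⟨ι, _, p, hp, e, ⟨φ⟩⟩ := Module.equiv_directSum_of_isTorsion hT
  -- the `F`-linear identification
  set of := Module.AEval'.of g with hof
  -- a non-trivial summand
  obtain ⟨x, hx⟩ := exists_ne (0 : V)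
  have hφx : φ (of x) ≠ 0 := by
    intro h
    apply hx
    have := φ.injective (h.trans (map_zero φ).symm)
    exact of.injective (this.trans (map_zero of).symm)
  obtain ⟨i₀, hi₀⟩ : ∃ i, (φ (of x)) i ≠ 0 := by
    by_contra hcon
    push Not at hcon
    exact hφx (DFinsupp.ext hcon)
  have he0 : 0 < e i₀ := by
    rcases Nat.eq_zero_or_pos (e i₀) with h | h
    · exfalso
      apply hi₀
      have htop : Submodule.span F[X] {p i₀ ^ e i₀} = ⊤ := by
        rw [h, pow_zero]
        exact Ideal.span_singleton_one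
      obtain ⟨y, hy⟩ := Submodule.Quotient.mk_surjective _ ((φ (of x)) i₀)
      rw [← hy, Submodule.Quotient.mk_eq_zero, htop]
      trivial
    · exact h
  -- the summand
  let Q : ι → Type u := fun i => F[X] ⧸ Submodule.span F[X] {p i ^ e i}
  let ι₀ : Q i₀ →ₗ[F[X]] DirectSum ι Q := DirectSum.lof F[X] ι Q i₀
  let π₀ : DirectSum ι Q →ₗ[F[X]] Q i₀ := DirectSum.component F[X] ι Q i₀
  have hπι : ∀ y, π₀ (ι₀ y) = y := fun y => DirectSum.component.lof_self F[X] i₀ y
  let one₀ : Q i₀ := Submodule.Quotient.mk (1 : F[X])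
  have hmk : ∀ f : F[X], (Submodule.Quotient.mk f : Q i₀) = f • one₀ := by
    intro f
    show _ = f • Submodule.Quotient.mk (1 : F[X])
    rw [← Submodule.Quotient.mk_smul, smul_eq_mul, mul_one]
  let m₀ : Module.AEval' g := φ.symm (ι₀ one₀)
  let P : Module.AEval' g →ₗ[F[X]] Module.AEval' g :=
    φ.symm.toLinearMap ∘ₗ ι₀ ∘ₗ π₀ ∘ₗ φ.toLinearMap
  have hP : ∀ m, P m = φ.symm (ι₀ (π₀ (φ m))) := fun m => rfl
  have hPP : ∀ m, P (P m) = P m := by
    intro m
    rw [hP, hP, LinearEquiv.apply_symm_apply, hπι]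
  have hPfix : ∀ y, P (φ.symm (ι₀ y)) = φ.symm (ι₀ y) := by
    intro y
    rw [hP, LinearEquiv.apply_symm_apply, hπι]
  let PV : V →ₗ[F] V := of.symm.toLinearMap ∘ₗ (P.restrictScalars F) ∘ₗ of.toLinearMap
  have hPV : ∀ x, PV x = of.symm (P (of x)) := fun x => rfl
  have hPVPV : ∀ x, PV (PV x) = PV x := by
    intro x
    rw [hPV, hPV, LinearEquiv.apply_symm_apply, hPP]
  have hofg : ∀ x, of (g x) = (X : F[X]) • of x := fun x => (Module.AEval'.X_smul_of g x).symm
  have hofsymm : ∀ (f : F[X]) (m : Module.AEval' g), of.symm (f • m) = (aeval g f) (of.symm m) :=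
    fun f m => Module.AEval.of_symm_smul g f m
  have hPVg : ∀ x, PV (g x) = g (PV x) := by
    intro x
    rw [hPV, hPV, hofg, map_smul, hofsymm, aeval_X]
  let v : V := of.symm m₀
  have hidem : IsIdempotentElem PV := by
    apply LinearMap.ext
    intro x
    exact hPVPV x
  have hv_aeval : ∀ f : F[X], (aeval g f) v = of.symm (φ.symm (ι₀ (f • one₀))) := by
    intro f
    show (aeval g f) (of.symm m₀) = _
    rw [← hofsymm]
    show of.symm (f • φ.symm (ι₀ one₀)) = _
    rw [← map_smul, ← map_smul]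
  refine ⟨LinearMap.range PV, LinearMap.ker PV, v, p i₀, e i₀, hp i₀, he0, LinearMap.IsIdempotentElem.isCompl hidem, ?_, ?_, ?_, ?_⟩
  · rintro w ⟨x, rfl⟩
    exact ⟨g x, hPVg x⟩
  · intro w hw
    rw [LinearMap.mem_ker] at hw ⊢
    rw [hPVg, hw, map_zero]
  · apply le_antisymm
    · rintro w ⟨x, rfl⟩
      obtain ⟨f, hf⟩ := Submodule.Quotient.mk_surjective _ (π₀ (φ (of x)))
      have : PV x = (aeval g f) v := by
        rw [hv_aeval, hPV, hP, ← hmk, hf]
      rw [this]
      exact ored1_aeval_mem_span g v f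
    · rw [Submodule.span_le]
      rintro w ⟨k, rfl⟩
      have h1 : (g ^ k) v = (aeval g (X ^ k : F[X])) v := by
        rw [map_pow, aeval_X]
      refine ⟨(g ^ k) v, ?_⟩
      show PV ((g ^ k) v) = (g ^ k) v
      rw [h1, hv_aeval, hPV, LinearEquiv.apply_symm_apply, hPfix]
  · intro f
    rw [hv_aeval]
    constructor
    · intro h
      have h1 : φ.symm (ι₀ (f • one₀)) = 0 := of.symm.injective (h.trans (map_zero _).symm)
      have h2 : ι₀ (f • one₀) = 0 := φ.symm.injective (h1.trans (map_zero _).symm)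
      have h3 : f • one₀ = 0 := by
        have := congrArg π₀ h2
        rwa [hπι, map_zero] at this
      rw [← hmk, Submodule.Quotient.mk_eq_zero, Submodule.mem_span_singleton] at h3
      obtain ⟨a, ha⟩ := h3
      exact ⟨a, by rw [← ha, smul_eq_mul, mul_comm]⟩
    · rintro ⟨a, rfl⟩
      have h3 : (p i₀ ^ e i₀ * a) • one₀ = 0 := by
        rw [← hmk, Submodule.Quotient.mk_eq_zero, Submodule.mem_span_singleton]
        exact ⟨a, by rw [smul_eq_mul, mul_comm]⟩
      rw [h3, map_zero, map_zero, map_zero]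

end Cfsg.Agent.Lib.helper15.OREgen
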