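import Mathlib
import Cfsg.Prelude.Def_Classical
import Cfsg.Agent.Lib.Helper19.SO8.Defs
import Cfsg.Agent.Lib.Helper19.OPELEVI
import Cfsg.Agent.Lib.helper4.OTSSTDP

set_option autoImplicit false

/-!
# Project SO8 (designer helper19), row SPLUS (`oreal_splus`), verbatim from `Helper19/SO8/Skel.lean.txt` (helper15).
A Singer cycle of `GL_k(q)` (order `q ^ k - 1`) in the Levi subgroup of the isometry group of `quadFormPlus k F`.
-/

namespace Cfsg.Agent.Lib.Helper19.SO8

open Polynomial Cfsg.Agent.Lib.Helper13.OTS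

/-- a Singer cycle: an element of order `q ^ k - 1` in `GL_k(F)` -/
theorem so8splus_singer {F : Type*} [Field F] [Fintype F] (k : ℕ) (hk : 1 ≤ k) :
    ∃ G : Matrix.GeneralLinearGroup (Fin k) F, orderOf G = Fintype.card F ^ k - 1 := by
  classical
  obtain ⟨p, hp⟩ := CharP.exists F
  haveI : Fact p.Prime := ⟨CharP.char_is_prime F p⟩
  haveI : NeZero k := ⟨by omega⟩
  let K := FiniteField.Extension F p k
  haveI : Fintype K := Fintype.ofFinite K
  have hfr : Module.finrank F K = k := FiniteField.finrank_extension F p k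
  have hcardK : Nat.card K = Fintype.card F ^ k := by
    rw [FiniteField.natCard_extension F p k, Nat.card_eq_fintype_card]
  obtain ⟨γ, hγ⟩ := IsCyclic.exists_ofOrder_eq_natCard (α := Kˣ)
  have hγo : orderOf γ = Fintype.card F ^ k - 1 := by
    rw [hγ, Nat.card_units, hcardK]
  let b : Module.Basis (Fin k) F K := Module.finBasisOfFinrankEq F K hfr
  have hρinj : Function.Injective (Algebra.leftMulMatrix b) := Algebra.leftMulMatrix_injective b
  let f : K →* Matrix (Fin k) (Fin k) F := (Algebra.leftMulMatrix b).toRingHom.toMonoidHom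
  have hf : Function.Injective f := hρinj
  refine ⟨Units.map f γ, ?_⟩
  rw [orderOf_injective (Units.map f) (Units.map_injective hf) γ, hγo]

/-- the Levi embedding is injective -/
theorem so8splus_levi_inj {F : Type*} [Field F] (d : ℕ)
    (φ : Matrix.GeneralLinearGroup (Fin d) F →* ↥(Cfsg.isometryGroup F (Cfsg.quadFormPlus d F)))
    (hφ : ∀ g : Matrix.GeneralLinearGroup (Fin d) F,
      (((φ g : ↥(Cfsg.isometryGroup F (Cfsg.quadFormPlus d F))) :
          Matrix.GeneralLinearGroup (Fin d ⊕ Fin d) F) :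
          Matrix (Fin d ⊕ Fin d) (Fin d ⊕ Fin d) F) =
        Matrix.fromBlocks (g : Matrix (Fin d) (Fin d) F) 0 0
          (((g⁻¹ : Matrix.GeneralLinearGroup (Fin d) F) : Matrix (Fin d) (Fin d) F).transpose)) :
    Function.Injective φ := by
  intro g h hgh
  have h1 := hφ g
  rw [hgh, hφ h] at h1
  have h2 := (Matrix.fromBlocks_inj.mp h1).1
  exact Units.ext h2.symm

theorem oreal_splus {F : Type*} [Field F] [Fintype F] (k : ℕ) (hk : 1 ≤ k) :
    OReal F k 1 (Fintype.card F ^ k - 1) := by
  obtain ⟨G, hG⟩ := so8splus_singer (F := F) k hk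
  obtain ⟨φ, hφ, _⟩ := Cfsg.Agent.Lib.Helper18.OPE.levi (F := F) k
  have hinj := so8splus_levi_inj k φ hφ
  have hord : orderOf (φ G) = Fintype.card F ^ k - 1 := by
    rw [orderOf_injective φ hinj G, hG]
  exact ⟨Fin k ⊕ Fin k, inferInstance, inferInstance, Cfsg.Agent.Lib.Helper16.qfPlus k F,
    q_std_plus k, φ G, hord⟩

end Cfsg.Agent.Lib.Helper19.SO8
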