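import Mathlib
import Cfsg.Prelude.Def_Classical
import Cfsg.Agent.Lib.Helper1.S8U.Defs
import Cfsg.Agent.Lib.Helper22.SO8A2
import Cfsg.Agent.Lib.helper23.SO8ASM
import Cfsg.Agent.Lib.Helper1.S8UORXFER
import Cfsg.Agent.Lib.helper14.S8UORODD

set_option autoImplicit false

/-!
# Project S8U, row TGODD (`tgt_odd`), helper15.
-/

namespace Cfsg.Agent.Lib.Helper1.S8U

open Matrix Module Polynomial Cfsg.Agent.Lib.Helper16 Cfsg.Agent.Lib.Helper13.OTS Cfsg.Agent.Lib.Helper19.SO8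
  Cfsg.Agent.Lib.helper14.OrthInv

/-- TGODD. -/
theorem tgt_odd {F : Type*} [Field F] [Fintype F] [CharP F 2] (a b : F) (hab : Aniso a b) (N : ℕ)
    (hN : N ∈ T8 (Fintype.card F)) (hodd : Odd N) : ∃ g ∈ Hd a b hab, orderOf g = N := by
  obtain ⟨-, c, hc⟩ := aniso_facts a b hab
  have h1 : OReal F 4 (-1) N := oreal_asm c hc N hN
  have h2 : OR F 4 (-1) N 0 False := or_odd 4 (-1) N hodd h1
  obtain ⟨g, hg, hord, -⟩ := or_xfer a b hab N False h2
  exact ⟨g, hg, hord⟩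

end Cfsg.Agent.Lib.Helper1.S8U
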