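import Mathlib
import Cfsg.Agent.Lib.helper7.BR.Defs
import Cfsg.Agent.Lib.helper7.BlockQuot
import Cfsg.Agent.Lib.Helper25.Gagola
import Cfsg.Agent.Lib.helper2.CharNat
import Cfsg.Agent.Lib.helper15.BH.Main

/-!
# Project BR (Brauer–Reynolds), wave 1, piece BRM : the small-degree branch, by S4503

A perfect group with `|P| = p` has no irreducible character `θ` of degree `d` with `2 d + 1 < p` that is
non-trivial on `P`.
-/

set_option autoImplicit false
set_option linter.unusedVariables false
set_option linter.unusedSectionVars false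
set_option linter.style.haveILetI false

namespace Cfsg.Agent.Lib.helper7.BR

open Classical
open Cfsg.Agent.Lib.Helper25

universe u

/-- a homomorphism to a group in which all elements commute kills the commutator subgroup -/
theorem brbrm_commutator_le_ker {G H : Type*} [Group G] [Group H] (f : G →* H)
    (hcomm : ∀ a b : H, a * b = b * a) : commutator G ≤ f.ker := by
  rw [commutator_eq_closure, Subgroup.closure_le]
  rintro _ ⟨g, h, rfl⟩
  rw [SetLike.mem_coe, MonoidHom.mem_ker, map_commutatorElement, commutatorElement_def,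
    hcomm (f g) (f h)]
  group

/-- a perfect finite group has no non-trivial normal Sylow subgroup of prime order -/
theorem brbrm_perfect_no_normal_sylow {Q : Type*} [Group Q] [Finite Q] {p : ℕ} [Fact p.Prime]
    (hperf : commutator Q = ⊤) (S : Sylow p Q) (hS : Nat.card ↥(S : Subgroup Q) = p)
    (hn : (S : Subgroup Q).Normal) : False := by
  have hp : p.Prime := Fact.out
  haveI := hn
  haveI : IsCyclic ↥(S : Subgroup Q) := isCyclic_of_prime_card hS
  -- `Aut(S)` is commutative
  have hcomm : ∀ a b : MulAut ↥(S : Subgroup Q), a * b = b * a := by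
    intro a b
    apply (IsCyclic.mulAutMulEquiv (G := ↥(S : Subgroup Q))).injective
    rw [map_mul, map_mul, mul_comm]
  have hker : (MulAut.conjNormal : Q →* MulAut ↥(S : Subgroup Q)).ker = ⊤ := by
    apply top_le_iff.mp
    rw [← hperf]
    exact brbrm_commutator_le_ker _ hcomm
  -- so `S` is central
  have hcen : Subgroup.centralizer ((S : Subgroup Q) : Set Q) = ⊤ := by
    apply top_le_iff.mp
    intro g _
    rw [Subgroup.mem_centralizer_iff]
    intro s hs
    have hg : g ∈ (MulAut.conjNormal : Q →* MulAut ↥(S : Subgroup Q)).ker := by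
      rw [hker]; exact Subgroup.mem_top g
    rw [MonoidHom.mem_ker] at hg
    have h1 := congrArg (fun α : MulAut ↥(S : Subgroup Q) => ((α ⟨s, hs⟩ : ↥(S : Subgroup Q)) : Q)) hg
    simp only [MulAut.conjNormal_apply, MulAut.one_apply] at h1
    calc s * g = g * s * g⁻¹ * g := by rw [h1]
      _ = g * s := by group
  have hNC : Subgroup.normalizer ((S : Subgroup Q) : Set Q) ≤
      Subgroup.centralizer ((S : Subgroup Q) : Set Q) := by
    rw [hcen]; exact le_top
  have hc := MonoidHom.ker_transferSylow_isComplement' S hNC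
  have hkert : (MonoidHom.transferSylow S hNC).ker = ⊤ := by
    apply top_le_iff.mp
    rw [← hperf]
    apply brbrm_commutator_le_ker
    intro a b
    apply Subtype.ext
    have ha : (a : Q) ∈ Subgroup.centralizer ((S : Subgroup Q) : Set Q) := by
      rw [hcen]; exact Subgroup.mem_top _
    rw [Subgroup.mem_centralizer_iff] at ha
    exact (ha (b : Q) b.2).symm
  have hcard := hc.card_mul_card
  rw [hkert, hS, Subgroup.card_top] at hcard
  have hpos : 0 < Nat.card Q := Nat.card_pos
  have h2 := hp.two_le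
  nlinarith

variable {G : Type u} [Group G] [Fintype G] {p : ℕ} [Fact p.Prime]

/-- BRM : a perfect group with `|P| = p` has no irreducible character `θ` of degree `d` with
`2 d + 1 < p` that is non-trivial on `P`.
(`K = ker θ` (`irrKer` of Helper25), `P ∩ K = 1`; `G/K` is perfect, `p ∥ |G/K|`, `θ` deflates to a faithful
character of `G/K` (`h7_deflate`); a normal subgroup of order `p` of `G/K` would be central (perfect,
`Aut(C_p)` abelian), a central Sylow `p`-subgroup, against Burnside's transfer theorem; so S4503 gives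
`p ≤ 2 d + 1`.) -/
theorem small_degree_false (hperf : commutator G = ⊤) (P : Sylow p G)
    (hP : Nat.card ↥(P : Subgroup G) = p) (θ : Cfsg.IrrCharacter G) (d : ℕ)
    (hd : (θ : G → ℂ) 1 = (d : ℂ)) (hsmall : 2 * d + 1 < p) (x : G) (hx : x ∈ (P : Subgroup G))
    (hne : (θ : G → ℂ) x ≠ (θ : G → ℂ) 1) : False := by
  have hp : p.Prime := Fact.out
  obtain ⟨φ, hφ⟩ := Cfsg.Agent.Lib.helper7.h7_deflate (irrKer θ) θ (fun n hn => (mem_irrKer θ n).mp hn)
  have hsurj : Function.Surjective (QuotientGroup.mk' (irrKer θ)) := QuotientGroup.mk'_surjective _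
  -- the quotient is perfect
  have hperfQ : commutator (G ⧸ irrKer θ) = ⊤ := by
    rw [commutator_def, ← Subgroup.map_top_of_surjective (QuotientGroup.mk' (irrKer θ)) hsurj,
      ← Subgroup.map_commutator, ← commutator_def, hperf]
  -- `φ` is faithful
  have hfaith : ∀ q : G ⧸ irrKer θ, (φ : G ⧸ irrKer θ → ℂ) q = (φ : G ⧸ irrKer θ → ℂ) 1 → q = 1 := by
    intro q hq
    obtain ⟨m, rfl⟩ := QuotientGroup.mk_surjective q
    have h1 : (φ : G ⧸ irrKer θ → ℂ) 1 = (θ : G → ℂ) 1 := hφ 1
    have h2 : (φ : G ⧸ irrKer θ → ℂ) (QuotientGroup.mk m) = (θ : G → ℂ) m := hφ m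
    rw [h1, h2] at hq
    exact (QuotientGroup.eq_one_iff m).mpr ((mem_irrKer θ m).mpr hq)
  have hd' : (φ : G ⧸ irrKer θ → ℂ) 1 = (d : ℂ) := by
    have h1 : (φ : G ⧸ irrKer θ → ℂ) 1 = (θ : G → ℂ) 1 := hφ 1
    rw [h1, hd]
  -- the image of `P`
  set S : Sylow p (G ⧸ irrKer θ) := P.mapSurjective hsurj with hSdef
  have hScoe : (S : Subgroup (G ⧸ irrKer θ)) = (P : Subgroup G).map (QuotientGroup.mk' (irrKer θ)) := rfl
  have hScard : Nat.card ↥(S : Subgroup (G ⧸ irrKer θ)) = p := by
    have hdvd : Nat.card ↥(S : Subgroup (G ⧸ irrKer θ)) ∣ p := by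
      rw [hScoe]
      have := Subgroup.card_map_dvd (P : Subgroup G) (QuotientGroup.mk' (irrKer θ))
      rwa [hP] at this
    rcases (Nat.dvd_prime hp).mp hdvd with h1 | h1
    · exfalso
      have hbot : (S : Subgroup (G ⧸ irrKer θ)) = ⊥ := Subgroup.card_eq_one.mp h1
      have hxS : (QuotientGroup.mk' (irrKer θ)) x ∈ (S : Subgroup (G ⧸ irrKer θ)) := by
        rw [hScoe]
        exact Subgroup.mem_map_of_mem _ hx
      rw [hbot, Subgroup.mem_bot] at hxS
      have hxK : x ∈ irrKer θ := (QuotientGroup.eq_one_iff x).mp hxS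
      exact hne ((mem_irrKer θ x).mp hxK)
    · exact h1
  have hnorm : (S : Subgroup (G ⧸ irrKer θ)).Normal :=
    Cfsg.Agent.Lib.helper15.BH.bh_faithful_normal (Nat.card (G ⧸ irrKer θ)) (G ⧸ irrKer θ) rfl p S
      hScard (φ : G ⧸ irrKer θ → ℂ) (Cfsg.Agent.Lib.helper2.isCharacter_of_irr φ) hfaith d hd' hsmall
  exact brbrm_perfect_no_normal_sylow hperfQ S hScard hnorm

end Cfsg.Agent.Lib.helper7.BR
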