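import Mathlib
import Cfsg.Prelude.Def_LieTypeChar
import Cfsg.Agent.Lib.helper14.SQD.Defs
import Cfsg.Agent.Lib.helper14.SQD.DefsU
import Cfsg.Agent.Lib.Helper24.SQD.DefsO

/-!
# Project SQD (S4625, designer helper14; block O by helper24), row OP1 (`lev_mem_iso_plus`).

`levHom id g = [[g, 0], [0, (g⁻¹)ᵀ]]` is an isometry of `quadFormPlus k F` (any field, no dependency on OW).
Extras: `sqdop1_quadPlus` (`quadFormPlus` as a dot product), `sqdop1_mem_iso` (membership in the isometry group,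
= OW3 for `quadFormPlus`-independent use), `sqdop1_dot_mulVec` (`(A x) ⬝ z = x ⬝ (Aᵀ z)`).
-/

set_option autoImplicit false

namespace Cfsg.Agent.Lib.helper14.SQD

open Cfsg Cfsg.Lie Matrix

universe u v

section OP1
variable {k : ℕ}

/-- `quadFormPlus` as a dot product of the two halves -/
theorem sqdop1_quadPlus {F : Type u} [Field F] (v : Fin k ⊕ Fin k → F) :
    quadFormPlus k F v = (fun i => v (Sum.inl i)) ⬝ᵥ (fun i => v (Sum.inr i)) := rfl

/-- membership in the isometry group (the content of OW3, proved here to be independent of it) -/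
theorem sqdop1_mem_iso {ι : Type} [Fintype ι] [DecidableEq ι] {F : Type u} [Field F] (Q : (ι → F) → F)
    (g : GL ι F) (h : ∀ v : ι → F, Q ((g : Matrix ι ι F) *ᵥ v) = Q v) : g ∈ isometryGroup F Q := by
  intro u _
  exact h u

/-- `(A x) ⬝ z = x ⬝ (Aᵀ z)` -/
theorem sqdop1_dot_mulVec {m n : Type*} [Fintype m] [Fintype n] {R : Type*} [CommRing R]
    (A : Matrix m n R) (x : n → R) (z : m → R) : (A *ᵥ x) ⬝ᵥ z = x ⬝ᵥ (Aᵀ *ᵥ z) := by
  rw [Matrix.dotProduct_mulVec, Matrix.vecMul_transpose]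

/-- OP1 [M]. -/
theorem lev_mem_iso_plus {F : Type u} [Field F] (g : GL (Fin k) F) :
    levHom (RingHom.id F) g ∈ isometryGroup F (quadFormPlus k F) := by
  apply sqdop1_mem_iso
  intro v
  rw [levHom_coe, sqdop1_quadPlus, sqdop1_quadPlus]
  have hv : v = Sum.elim (fun i => v (Sum.inl i)) (fun i => v (Sum.inr i)) := by
    funext i
    cases i <;> rfl
  set x : Fin k → F := fun i => v (Sum.inl i) with hx
  set y : Fin k → F := fun i => v (Sum.inr i) with hy
  rw [hv, Matrix.fromBlocks_mulVec]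
  simp only [Sum.elim_inl, Sum.elim_inr, Matrix.zero_mulVec, add_zero, zero_add]
  rw [sqdop1_dot_mulVec, Matrix.mulVec_mulVec]
  have h1 : (g : Matrix (Fin k) (Fin k) F)ᵀ *
      tadj (RingHom.id F) ((g⁻¹ : GL (Fin k) F) : Matrix (Fin k) (Fin k) F) = 1 := by
    unfold tadj
    rw [show (((g⁻¹ : GL (Fin k) F) : Matrix (Fin k) (Fin k) F).map (RingHom.id F)) =
      ((g⁻¹ : GL (Fin k) F) : Matrix (Fin k) (Fin k) F) from by ext i j; rfl]
    rw [← Matrix.transpose_mul, ← Units.val_mul, inv_mul_cancel, Units.val_one, Matrix.transpose_one]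
  rw [h1, Matrix.one_mulVec]
  rfl

end OP1

end Cfsg.Agent.Lib.helper14.SQD
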