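import Mathlib
import Cfsg.Agent.Lib.helper23.TD4V.Defs

/-!
# Project TD4V (S2462, designer helper23), row JA (`ident_A`): the core, with the statements of
J1 (`rank_one`) and J2 (`X_comm`, `hh_comm`) as hypotheses.
-/

set_option autoImplicit false

namespace Cfsg.Agent.Lib.helper23.TD4V

open Cfsg.Lie Cfsg.Lie.ChevalleyDatum Matrix
open Cfsg.Agent.Lib.helper8 Cfsg.Agent.Lib.helper8.TD4
open Cfsg.Agent.Lib.helper23.P4V

universe u v

/-- swapping two commuting factors inside a right-associated product -/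
theorem td4vja_sw {G : Type*} [Group G] {a b : G} (h : b * a = a * b) (z : G) :
    b * (a * z) = a * (b * z) := by
  rw [← mul_assoc, h, mul_assoc]

/-- regrouping `a₁ a₂ a₃ b₁ b₂ b₃ = (a₁ b₁)(a₂ b₂)(a₃ b₃)` -/
theorem td4vja_pair {G : Type*} [Group G] (a1 a2 a3 b1 b2 b3 : G) (h1 : a3 * b1 = b1 * a3)
    (h2 : a2 * b1 = b1 * a2) (h3 : a3 * b2 = b2 * a3) :
    a1 * a2 * a3 * (b1 * b2 * b3) = (a1 * b1) * ((a2 * b2) * (a3 * b3)) := by
  simp only [mul_assoc]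
  rw [td4vja_sw h1, td4vja_sw h2, td4vja_sw h3]

/-- regrouping `(A₁ H₁ B₁)(A₂ H₂ B₂)(A₃ H₃ B₃) = (A₁ A₂ A₃)(H₁ H₂ H₃)(B₁ B₂ B₃)` (no `H`–`H` swap needed) -/
theorem td4vja_rearr {G : Type*} [Group G] (A1 H1 B1 A2 H2 B2 A3 H3 B3 : G)
    (h1 : B1 * A2 = A2 * B1) (h2 : B1 * H2 = H2 * B1) (h3 : H1 * A2 = A2 * H1)
    (h4 : B2 * A3 = A3 * B2) (h5 : B1 * A3 = A3 * B1) (h6 : H2 * A3 = A3 * H2)
    (h7 : H1 * A3 = A3 * H1) (h8 : B2 * H3 = H3 * B2) (h9 : B1 * H3 = H3 * B1) :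
    (A1 * H1 * B1) * ((A2 * H2 * B2) * (A3 * H3 * B3)) =
      (A1 * A2 * A3) * (H1 * H2 * H3) * (B1 * B2 * B3) := by
  simp only [mul_assoc]
  rw [td4vja_sw h1, td4vja_sw h2, td4vja_sw h3, td4vja_sw h4, td4vja_sw h5, td4vja_sw h6,
    td4vja_sw h7, td4vja_sw h8, td4vja_sw h9]

variable {K : Type u} [Field K]

/-- JA core. -/
theorem td4vja_core
    (hR : ∀ (r : ℕ), r < 24 → ∀ s t : K, 1 + s * t ≠ 0 →
      X r s * X (23 - r) t =
        X (23 - r) (t / (1 + s * t)) * hh r (1 + s * t) * X r (s / (1 + s * t)))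
    (hX : ∀ (r s : ℕ), r < 24 → s < 24 → chevD4.commTerms r s = [] → r + s ≠ 23 →
      ∀ t u : K, X r t * X s u = X s u * X r t)
    (hH : ∀ (r s : ℕ), r < 24 → s < 24 → chevD4.commTerms r s = [] →
      chevD4.commTerms (23 - r) s = [] → r + s ≠ 23 → r ≠ s →
      ∀ c u : K, hh r c * X s u = X s u * hh r c)
    (s1 s2 s3 r1 r2 r3 : K) (h1 : 1 + s1 * r1 ≠ 0) (h2 : 1 + s2 * r2 ≠ 0)
    (h3 : 1 + s3 * r3 ≠ 0) :
    XA s1 s2 s3 * XmA r1 r2 r3 =
      XmA (r1 / (1 + s1 * r1)) (r2 / (1 + s2 * r2)) (r3 / (1 + s3 * r3)) *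
        hJ3 (1 + s1 * r1) (1 + s2 * r2) (1 + s3 * r3) *
        XA (s1 / (1 + s1 * r1)) (s2 / (1 + s2 * r2)) (s3 / (1 + s3 * r3)) := by
  have e1 : X 18 s1 * X 5 r1 =
      X 5 (r1 / (1 + s1 * r1)) * hh 18 (1 + s1 * r1) * X 18 (s1 / (1 + s1 * r1)) :=
    hR 18 (by norm_num) s1 r1 h1
  have e2 : X 13 s2 * X 10 r2 =
      X 10 (r2 / (1 + s2 * r2)) * hh 13 (1 + s2 * r2) * X 13 (s2 / (1 + s2 * r2)) :=
    hR 13 (by norm_num) s2 r2 h2
  have e3 : X 12 s3 * X 11 r3 =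
      X 11 (r3 / (1 + s3 * r3)) * hh 12 (1 + s3 * r3) * X 12 (s3 / (1 + s3 * r3)) :=
    hR 12 (by norm_num) s3 r3 h3
  -- commutations of root elements of different `SL₂`'s
  have x12_5 : ∀ t u : K, X 12 t * X 5 u = X 5 u * X 12 t :=
    hX 12 5 (by norm_num) (by norm_num) (by decide) (by norm_num)
  have x13_5 : ∀ t u : K, X 13 t * X 5 u = X 5 u * X 13 t :=
    hX 13 5 (by norm_num) (by norm_num) (by decide) (by norm_num)
  have x12_10 : ∀ t u : K, X 12 t * X 10 u = X 10 u * X 12 t :=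
    hX 12 10 (by norm_num) (by norm_num) (by decide) (by norm_num)
  have x18_10 : ∀ t u : K, X 18 t * X 10 u = X 10 u * X 18 t :=
    hX 18 10 (by norm_num) (by norm_num) (by decide) (by norm_num)
  have x13_11 : ∀ t u : K, X 13 t * X 11 u = X 11 u * X 13 t :=
    hX 13 11 (by norm_num) (by norm_num) (by decide) (by norm_num)
  have x18_11 : ∀ t u : K, X 18 t * X 11 u = X 11 u * X 18 t :=
    hX 18 11 (by norm_num) (by norm_num) (by decide) (by norm_num)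
  -- commutations of torus elements with root elements of the other `SL₂`'s
  have h13_18 : ∀ c u : K, hh 13 c * X 18 u = X 18 u * hh 13 c :=
    hH 13 18 (by norm_num) (by norm_num) (by decide) (by decide) (by norm_num) (by norm_num)
  have h18_10 : ∀ c u : K, hh 18 c * X 10 u = X 10 u * hh 18 c :=
    hH 18 10 (by norm_num) (by norm_num) (by decide) (by decide) (by norm_num) (by norm_num)
  have h13_11 : ∀ c u : K, hh 13 c * X 11 u = X 11 u * hh 13 c :=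
    hH 13 11 (by norm_num) (by norm_num) (by decide) (by decide) (by norm_num) (by norm_num)
  have h18_11 : ∀ c u : K, hh 18 c * X 11 u = X 11 u * hh 18 c :=
    hH 18 11 (by norm_num) (by norm_num) (by decide) (by decide) (by norm_num) (by norm_num)
  have h12_13 : ∀ c u : K, hh 12 c * X 13 u = X 13 u * hh 12 c :=
    hH 12 13 (by norm_num) (by norm_num) (by decide) (by decide) (by norm_num) (by norm_num)
  have h12_18 : ∀ c u : K, hh 12 c * X 18 u = X 18 u * hh 12 c :=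
    hH 12 18 (by norm_num) (by norm_num) (by decide) (by decide) (by norm_num) (by norm_num)
  unfold XA XmA hJ3
  rw [td4vja_pair (X 18 s1) (X 13 s2) (X 12 s3) (X 5 r1) (X 10 r2) (X 11 r3)
    (x12_5 s3 r1) (x13_5 s2 r1) (x12_10 s3 r2), e1, e2, e3]
  exact td4vja_rearr _ _ _ _ _ _ _ _ _ (x18_10 _ _) (h13_18 _ _).symm (h18_10 _ _) (x13_11 _ _)
    (x18_11 _ _) (h13_11 _ _) (h18_11 _ _) (h12_13 _ _).symm (h12_18 _ _).symm

end Cfsg.Agent.Lib.helper23.TD4V
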