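import Mathlib
import Cfsg.Agent.Lib.helper23.TD4V.Defs
import Cfsg.Agent.Lib.helper15.TD4VJAcore
import Cfsg.Agent.Lib.helper4.TD4VJ1
import Cfsg.Agent.Lib.helper4.TD4VJ2

/-!
# Project TD4V (S2462, designer helper23), row JA (`ident_A`), verbatim wrapper of `td4vja_core`.
-/

set_option autoImplicit false

namespace Cfsg.Agent.Lib.helper23.TD4V

open Cfsg.Lie Cfsg.Lie.ChevalleyDatum Matrix
open Cfsg.Agent.Lib.helper8 Cfsg.Agent.Lib.helper8.TD4
open Cfsg.Agent.Lib.helper23.P4V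

universe u v

variable {K : Type u} [Field K]

/-- **JA** [M].  The three `SL₂`'s of `α₁ α₃ α₄` commute elementwise (J2: roots `18 13 12 5 10 11`, no sums among different ones);
J1 for `r = 18, 13, 12` (`23 - r = 5, 10, 11`). -/
theorem ident_A (s1 s2 s3 r1 r2 r3 : K) (h1 : 1 + s1 * r1 ≠ 0) (h2 : 1 + s2 * r2 ≠ 0)
    (h3 : 1 + s3 * r3 ≠ 0) :
    XA s1 s2 s3 * XmA r1 r2 r3 =
      XmA (r1 / (1 + s1 * r1)) (r2 / (1 + s2 * r2)) (r3 / (1 + s3 * r3)) *
        hJ3 (1 + s1 * r1) (1 + s2 * r2) (1 + s3 * r3) *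
        XA (s1 / (1 + s1 * r1)) (s2 / (1 + s2 * r2)) (s3 / (1 + s3 * r3)) :=
  td4vja_core (fun r hr s t hd => rank_one r hr s t hd)
    (fun r s hr hs h hne t u => X_comm r s hr hs h hne t u)
    (fun r s hr hs h h' hne hne' c u => hh_comm r s hr hs h h' hne hne' c u) s1 s2 s3 r1 r2 r3 h1 h2 h3

end Cfsg.Agent.Lib.helper23.TD4V
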