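import Mathlib
import Cfsg.Agent.Lib.helper17.STM.Defs
import Cfsg.Agent.Lib.helper17.STM.Defs2
import Cfsg.Agent.Lib.Helper24.STCI1
import Cfsg.Agent.Lib.Lead.STDB1
import Cfsg.Agent.Lib.Helper21.STMB1

/-!
# Project STM (designer helper17; family S2099), row B5 (helper15), VERBATIM vs `helper17/STM/Skel1.lean.txt`:
`cj_x_xs`, `cj_x_xs'`, `cj_xs_x`, `cj_xs_x'`: conjugation forms of `ls` and of its mirror image under `S.sym`
(port of `Helper18.STBB5`).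
Extras: `stmb5_comm_xs_x`, `stmb5_comm_xs_xn`, `stmb5_comm_x_xn` (the pairwise commutation of `xs a`, `x a b`, `x a (ng b)`).
-/

set_option autoImplicit false
set_option linter.unusedSectionVars false
set_option linter.unusedVariables false

namespace Cfsg.Agent.Lib.helper17.STM

open Cfsg.Agent.Lib.helper15.St2 Cfsg.Agent.Lib.helper3.STC Cfsg.Agent.Lib.Lead.STD

universe v w

namespace SysM

variable {F : Type*} [Field F] {A B : F} [Fact (∀ r : F, r ^ 2 ≠ -B + A * r)] {ι : Type*} {G : Type*} [Group G] (S : SysM F A B ι G)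

/-- `xs a` commutes with `x a b` -/
theorem stmb5_comm_xs_x {a b : ι ⊕ ι} (hab : a ≠ b) (hab' : a ≠ ng b) (s : Kq F A B) (t : F) :
    S.xs a s * S.x a b t = S.x a b t * S.xs a s :=
  S.comm_ls a a b hab hab' hab.symm (ne_ng a) s t

/-- `xs a` commutes with `x a (ng b)` -/
theorem stmb5_comm_xs_xn {a b : ι ⊕ ι} (hab : a ≠ b) (hab' : a ≠ ng b) (s : Kq F A B) (t : F) :
    S.xs a s * S.x a (ng b) t = S.x a (ng b) t * S.xs a s :=
  S.comm_ls a a (ng b) hab' (by rw [ng_ng]; exact hab) hab'.symm (ne_ng a) s t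

/-- `x a b` commutes with `x a (ng b)` -/
theorem stmb5_comm_x_xn {a b : ι ⊕ ι} (hab : a ≠ b) (hab' : a ≠ ng b) (s t : F) :
    S.x a b s * S.x a (ng b) t = S.x a (ng b) t * S.x a b s := by
  have h1 : S.x a (ng b) t = S.x b (ng a) (-t) := by
    have := S.sym a (ng b) hab' (by rw [ng_ng]; exact hab) t
    rw [ng_ng] at this
    exact this
  rw [h1]
  exact S.sso a b hab hab' s (-t)

/-- B5 [S-M]  model STB B5 (`Helper18.STBB5`): conjugation forms of `ls` and its mirror image under `S.sym` (`x a b t = x (ng b) (ng a) (-t)`).  `xs a`, `x a (ng b)`, `x a b` commute pairwise (`comm_ls`, `S.sso`).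
`(-t) • u = -(t • u)` (`neg_smul`). -/
theorem cj_x_xs {a b : ι ⊕ ι} (hab : a ≠ b) (hab' : a ≠ ng b) (t : F) (u : Kq F A B) :
    cj (S.x a b t) (S.xs b u) = S.xs a (t • u) * S.x a (ng b) (t * nm u) * S.xs b u := by
  rw [← S.ls a b hab hab' t u]
  unfold cj
  group

theorem cj_x_xs' {a b : ι ⊕ ι} (hab : a ≠ b) (hab' : a ≠ ng b) (t : F) (u : Kq F A B) :
    cj (S.x a b t) (S.xs (ng a) u) = S.xs (ng b) (-(t • u)) * S.x (ng b) a (-(t * nm u)) * S.xs (ng a) u := by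
  rw [S.sym a b hab hab' t]
  have h := S.cj_x_xs (SysD.stdb1_ng_ne hab) (SysD.stdb1_ng_ne' hab') (-t) u
  rw [ng_ng] at h
  rw [h]
  have e1 : (-t) • u = -(t • u) := neg_smul t u
  have e2 : -t * nm u = -(t * nm u) := by ring
  rw [e1, e2]

theorem cj_xs_x {a b : ι ⊕ ι} (hab : a ≠ b) (hab' : a ≠ ng b) (t : F) (u : Kq F A B) :
    cj (S.xs b u) (S.x a b t) = S.x a b t * S.xs a (-(t • u)) * S.x a (ng b) (-(t * nm u)) := by
  have h := S.ls a b hab hab' t u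
  rw [S.xs_neg, S.toSysD.x_neg]
  have c1 := S.stmb5_comm_xs_x hab hab' (t • u) t
  have c2 := S.stmb5_comm_xs_xn hab hab' (t • u) (t * nm u)
  have c3 := S.stmb5_comm_x_xn hab hab' t (t * nm u)
  generalize S.xs a (t • u) = P at *
  generalize S.x a (ng b) (t * nm u) = Q at *
  generalize S.x a b t = X at *
  generalize S.xs b u = Y at *
  -- X Y X⁻¹ Y⁻¹ = P Q ;  Y X Y⁻¹ = Q⁻¹ P⁻¹ X
  have e1 : cj Y X = Q⁻¹ * P⁻¹ * X := by
    have : Q⁻¹ * P⁻¹ = (X * Y * X⁻¹ * Y⁻¹)⁻¹ := by rw [h]; group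
    rw [this]
    unfold cj
    group
  rw [e1]
  have c1' : P⁻¹ * X = X * P⁻¹ := by
    calc P⁻¹ * X = P⁻¹ * (X * P) * P⁻¹ := by group
      _ = P⁻¹ * (P * X) * P⁻¹ := by rw [c1]
      _ = X * P⁻¹ := by group
  have c3' : Q⁻¹ * X = X * Q⁻¹ := by
    calc Q⁻¹ * X = Q⁻¹ * (X * Q) * Q⁻¹ := by group
      _ = Q⁻¹ * (Q * X) * Q⁻¹ := by rw [c3]
      _ = X * Q⁻¹ := by group
  have c2' : Q⁻¹ * P⁻¹ = P⁻¹ * Q⁻¹ := by
    calc Q⁻¹ * P⁻¹ = (P * Q)⁻¹ := by group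
      _ = (Q * P)⁻¹ := by rw [c2]
      _ = P⁻¹ * Q⁻¹ := by group
  calc Q⁻¹ * P⁻¹ * X = Q⁻¹ * (P⁻¹ * X) := by group
    _ = Q⁻¹ * (X * P⁻¹) := by rw [c1']
    _ = (Q⁻¹ * X) * P⁻¹ := by group
    _ = X * Q⁻¹ * P⁻¹ := by rw [c3']
    _ = X * (Q⁻¹ * P⁻¹) := by group
    _ = X * (P⁻¹ * Q⁻¹) := by rw [c2']
    _ = X * P⁻¹ * Q⁻¹ := by group

theorem cj_xs_x' {a b : ι ⊕ ι} (hab : a ≠ b) (hab' : a ≠ ng b) (t : F) (u : Kq F A B) :
    cj (S.xs (ng a) u) (S.x a b t) = S.x a b t * S.xs (ng b) (t • u) * S.x (ng b) a (t * nm u) := by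
  rw [S.sym a b hab hab' t]
  have h := S.cj_xs_x (SysD.stdb1_ng_ne hab) (SysD.stdb1_ng_ne' hab') (-t) u
  rw [ng_ng] at h
  rw [h]
  have e1 : -((-t) • u) = t • u := by rw [neg_smul, neg_neg]
  have e2 : -(-t * nm u) = t * nm u := by ring
  rw [e1, e2]

end SysM

end Cfsg.Agent.Lib.helper17.STM
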