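import Mathlib

set_option autoImplicit false

namespace Cfsg.Agent.Lib.helper15

section Braid

variable {G : Type*} [Group G]

def descProd (s : ℕ → G) (a : ℕ) : ℕ → G
  | 0 => 1
  | m + 1 => s (a + m) * descProd s a m

theorem descProd_zero (s : ℕ → G) (a : ℕ) : descProd s a 0 = 1 := rfl

theorem descProd_succ (s : ℕ → G) (a m : ℕ) :
    descProd s a (m + 1) = s (a + m) * descProd s a m := rfl

theorem descProd_peel (s : ℕ → G) (a m : ℕ) :
    descProd s a (m + 1) = descProd s (a + 1) m * s a := by
  induction m with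
  | zero => simp [descProd]
  | succ m ih =>
    rw [descProd_succ, ih, descProd_succ, mul_assoc]
    congr 2
    omega

structure BraidRel (s : ℕ → G) (n : ℕ) : Prop where
  sq : ∀ i, i < n → s i * s i = 1
  comm : ∀ i j, i + 1 < j → j < n → s i * s j = s j * s i
  braid : ∀ i, i + 1 < n → s i * s (i + 1) * s i = s (i + 1) * s i * s (i + 1)

theorem BraidRel.mono {s : ℕ → G} {n n' : ℕ} (h : BraidRel s n) (hn : n' ≤ n) : BraidRel s n' where
  sq i hi := h.sq i (lt_of_lt_of_le hi hn)
  comm i j hij hj := h.comm i j hij (lt_of_lt_of_le hj hn)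
  braid i hi := h.braid i (lt_of_lt_of_le hi hn)

theorem BraidRel.comm_low {s : ℕ → G} {n : ℕ} (h : BraidRel s n) (i a m : ℕ) (hi : i + 1 < a)
    (hm : a + m ≤ n) : s i * descProd s a m = descProd s a m * s i := by
  induction m with
  | zero => simp [descProd]
  | succ m ih =>
    rw [descProd_succ, ← mul_assoc, h.comm i (a + m) (by omega) (by omega), mul_assoc,
      ih (by omega), mul_assoc]

theorem BraidRel.comm_high {s : ℕ → G} {n : ℕ} (h : BraidRel s n) (j a m : ℕ) (hj : a + m < j)
    (hjn : j < n) : s j * descProd s a m = descProd s a m * s j := by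
  induction m with
  | zero => simp [descProd]
  | succ m ih =>
    rw [descProd_succ, ← mul_assoc, ← h.comm (a + m) j (by omega) hjn, mul_assoc,
      ih (by omega), mul_assoc]

theorem BraidRel.shift {s : ℕ → G} {n : ℕ} (h : BraidRel s n) (a m i : ℕ) (hai : a ≤ i)
    (him : i + 1 < a + m) (hm : a + m ≤ n) :
    descProd s a m * s (i + 1) = s i * descProd s a m := by
  induction m with
  | zero => omega
  | succ m ih =>
    rw [descProd_succ]
    by_cases hlt : i + 1 < a + m
    · rw [mul_assoc, ih hlt (by omega), ← mul_assoc, ← mul_assoc,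
        h.comm i (a + m) hlt (by omega)]
    · have him' : i + 1 = a + m := by omega
      obtain ⟨m', rfl⟩ : ∃ m', m = m' + 1 := ⟨m - 1, by omega⟩
      have hi : i = a + m' := by omega
      subst hi
      rw [descProd_succ]
      have e1 : a + (m' + 1) = a + m' + 1 := by omega
      rw [e1]
      have hc := h.comm_high (a + m' + 1) a m' (by omega) (by omega)
      have hb := h.braid (a + m') (by omega)
      calc s (a + m' + 1) * (s (a + m') * descProd s a m') * s (a + m' + 1)
          = s (a + m' + 1) * s (a + m') * (descProd s a m' * s (a + m' + 1)) := by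
            simp only [mul_assoc]
        _ = s (a + m' + 1) * s (a + m') * (s (a + m' + 1) * descProd s a m') := by rw [hc]
        _ = (s (a + m' + 1) * s (a + m') * s (a + m' + 1)) * descProd s a m' := by
            simp only [mul_assoc]
        _ = (s (a + m') * s (a + m' + 1) * s (a + m')) * descProd s a m' := by rw [hb]
        _ = s (a + m') * (s (a + m' + 1) * (s (a + m') * descProd s a m')) := by
            simp only [mul_assoc]

def genSub (s : ℕ → G) (n : ℕ) : Subgroup G := Subgroup.closure {g | ∃ i, i < n ∧ g = s i}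

theorem mem_genSub (s : ℕ → G) {n i : ℕ} (hi : i < n) : s i ∈ genSub s n :=
  Subgroup.subset_closure ⟨i, hi, rfl⟩

def cosetRep (s : ℕ → G) (n j : ℕ) : G := descProd s j (n + 1 - j)

def cosetUnion (s : ℕ → G) (n : ℕ) : Set G :=
  {g | ∃ j, j ≤ n + 1 ∧ ∃ h ∈ genSub s n, g = h * cosetRep s n j}

theorem cosetRep_succ (s : ℕ → G) (n j : ℕ) (hj : j ≤ n) :
    cosetRep s n j = cosetRep s n (j + 1) * s j := by
  unfold cosetRep
  have : n + 1 - j = (n + 1 - (j + 1)) + 1 := by omega
  rw [this, descProd_peel]

theorem cosetUnion_mul_gen {s : ℕ → G} {n : ℕ} (h : BraidRel s (n + 1)) (g : G)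
    (hg : g ∈ cosetUnion s n) (i : ℕ) (hi : i < n + 1) : g * s i ∈ cosetUnion s n := by
  obtain ⟨j, hj, x, hx, rfl⟩ := hg
  rcases lt_trichotomy i j with hij | hij | hij
  · by_cases hij' : i + 1 = j
    · subst hij'
      refine ⟨i, by omega, x, hx, ?_⟩
      rw [cosetRep_succ s n i (by omega), mul_assoc]
    · refine ⟨j, hj, x * s i, (genSub s n).mul_mem hx (mem_genSub s (by omega)), ?_⟩
      unfold cosetRep
      rw [mul_assoc, mul_assoc, h.comm_low i j (n + 1 - j) (by omega) (by omega)]
  · subst hij
    refine ⟨i + 1, by omega, x, hx, ?_⟩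
    rw [cosetRep_succ s n i (by omega), mul_assoc, mul_assoc, h.sq i hi, mul_one]
  · obtain ⟨i', rfl⟩ : ∃ i', i = i' + 1 := ⟨i - 1, by omega⟩
    refine ⟨j, hj, x * s i', (genSub s n).mul_mem hx (mem_genSub s (by omega)), ?_⟩
    unfold cosetRep
    rw [mul_assoc, mul_assoc, h.shift j (n + 1 - j) i' (by omega) (by omega) (by omega)]

theorem genSub_le_cosetUnion {s : ℕ → G} {n : ℕ} (h : BraidRel s (n + 1)) (g : G)
    (hg : g ∈ genSub s (n + 1)) : g ∈ cosetUnion s n := by
  unfold genSub at hg
  induction hg using Subgroup.closure_induction_right with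
  | one =>
    refine ⟨n + 1, le_refl _, 1, (genSub s n).one_mem, ?_⟩
    unfold cosetRep
    simp [descProd]
  | mul_right x hx y hy ih =>
    obtain ⟨i, hi, rfl⟩ := hy
    exact cosetUnion_mul_gen h x ih i hi
  | mul_inv_cancel x hx y hy ih =>
    obtain ⟨i, hi, rfl⟩ := hy
    have : (s i)⁻¹ = s i := inv_eq_of_mul_eq_one_right (h.sq i hi)
    rw [this]
    exact cosetUnion_mul_gen h x ih i hi

theorem braid_card_le {s : ℕ → G} (n : ℕ) (h : BraidRel s n) :
    Finite (genSub s n) ∧ Nat.card (genSub s n) ≤ (n + 1).factorial := by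
  induction n with
  | zero =>
    have : genSub s 0 = ⊥ := by
      unfold genSub
      rw [Subgroup.closure_eq_bot_iff]
      rintro g ⟨i, hi, _⟩
      omega
    rw [this]
    exact ⟨inferInstance, by simp⟩
  | succ n ih =>
    obtain ⟨hfin, hcard⟩ := ih (h.mono (Nat.le_succ n))
    let F : Fin (n + 2) × genSub s n → G := fun p => (p.2 : G) * cosetRep s n p.1
    have hsub : (genSub s (n + 1) : Set G) ⊆ Set.range F := by
      intro g hg
      obtain ⟨j, hj, x, hx, rfl⟩ := genSub_le_cosetUnion h g hg
      exact ⟨(⟨j, by omega⟩, ⟨x, hx⟩), rfl⟩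
    have hfinR : (Set.range F).Finite := Set.finite_range F
    have hfin' : Finite (genSub s (n + 1)) := (hfinR.subset hsub).to_subtype
    refine ⟨hfin', ?_⟩
    have h1 : Nat.card (genSub s (n + 1)) ≤ Nat.card (Set.range F) :=
      Nat.card_mono hfinR hsub
    have h2 : Nat.card (Set.range F) ≤ Nat.card (Fin (n + 2) × genSub s n) :=
      Nat.card_le_card_of_surjective (Set.rangeFactorization F) Set.rangeFactorization_surjective
    rw [Nat.card_prod, Nat.card_fin] at h2
    calc Nat.card (genSub s (n + 1)) ≤ (n + 2) * Nat.card (genSub s n) := le_trans h1 h2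
      _ ≤ (n + 2) * (n + 1).factorial := Nat.mul_le_mul_left _ hcard
      _ = (n + 1 + 1).factorial := by rw [Nat.factorial_succ (n + 1)]

end Braid

end Cfsg.Agent.Lib.helper15
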