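import Mathlib
import Cfsg.Agent.Lib.helper17.SLP.Defs

/-!
# Project SLP (S2286, designer helper17), row B6 (`exists_x_R2`): the core, with the statement of
B5 (`exists_x_R`, at `p = 2`) as a hypothesis.
-/

set_option autoImplicit false

namespace Cfsg.Agent.Lib.helper17.SLP

open Polynomial

universe u v

/-- two involutions whose product is an involution commute. -/
theorem slpb6_commute {G : Type*} [Group G] (a b : G) (ha : a ^ 2 = 1) (hb : b ^ 2 = 1)
    (hab : (a * b) ^ 2 = 1) : Commute b a := by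
  have ha' : a⁻¹ = a := by
    rw [inv_eq_iff_mul_eq_one, ← sq, ha]
  have hb' : b⁻¹ = b := by
    rw [inv_eq_iff_mul_eq_one, ← sq, hb]
  have h1 : (a * b)⁻¹ = a * b := by
    rw [inv_eq_iff_mul_eq_one, ← sq, hab]
  rw [mul_inv_rev, ha', hb'] at h1
  exact h1

/-- `cj h u i` is an involution when `u` is. -/
theorem slpb6_cj_sq {G : Type*} [Group G] (h u : G) (i : ℤ) (hu : u ^ 2 = 1) : cj h u i ^ 2 = 1 := by
  rw [← cj_pow, hu]
  simp [cj]

/-- the word of `X` over `ZMod 2`. -/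
theorem slpb6_pw_X {G : Type*} [Group G] (h u : G) : pw 2 h u 1 (X : (ZMod 2)[X]) = cj h u 1 := by
  unfold pw
  rw [natDegree_X]
  have h1 : ((1 : ZMod 2)).val = 1 := by decide
  simp [List.range_succ, coeff_X, h1]

/-- B6 core. -/
theorem slpb6_core {G : Type*} [Group G] {F : Type*} [Field F] [Finite F] [Algebra (ZMod 2) F]
    (hB5 : ∀ (u h : G) (k l : ℤ) (lam mu : F), lam ≠ 0 → mu = lam ^ l → lam ^ k = mu + 1 →
      ∀ fl : (ZMod 2)[X], aeval mu fl = lam →
      Function.Surjective (fun f : (ZMod 2)[X] => aeval mu f) →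
      u ^ 2 = 1 → Commute u (cj h u l) → cj h u k = cj h u l * u →
      pw 2 h u l (minpoly (ZMod 2) mu) = 1 → cj h u 1 = pw 2 h u l fl →
      ∃ x : F → G, (∀ s t, x (s + t) = x s * x t) ∧ (∀ t, h * x t * h⁻¹ = x (lam * t)) ∧ x 1 = u ∧
        ∀ f : (ZMod 2)[X], x (aeval mu f) = pw 2 h u l f)
    (u h : G) (k : ℤ) (lam : F) (hlam : lam ≠ 0) (hk : lam ^ k = lam + 1)
    (hsurj : Function.Surjective (fun f : (ZMod 2)[X] => aeval lam f))
    (a1 : u ^ 2 = 1) (a3 : cj h u k = cj h u 1 * u) (a4 : pw 2 h u 1 (minpoly (ZMod 2) lam) = 1) :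
    ∃ x : F → G, (∀ s t, x (s + t) = x s * x t) ∧ (∀ t, h * x t * h⁻¹ = x (lam * t)) ∧ x 1 = u ∧
      ∀ f : (ZMod 2)[X], x (aeval lam f) = pw 2 h u 1 f := by
  have a2 : Commute u (cj h u 1) := by
    apply slpb6_commute (cj h u 1) u (slpb6_cj_sq h u 1 a1) a1
    rw [← a3]
    exact slpb6_cj_sq h u k a1
  exact hB5 u h k 1 lam lam hlam (zpow_one lam).symm hk X (aeval_X lam) hsurj a1 a2 a3 a4
    (slpb6_pw_X h u).symm

end Cfsg.Agent.Lib.helper17.SLP
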