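import Mathlib
import Cfsg.Agent.Lib.helper17.SLP.Defs
import Cfsg.Agent.Lib.helper8.SLPB5
import Cfsg.Agent.Lib.helper15.SLPB6core

/-!
# Project SLP (S2286, designer helper17), row B6 (`exists_x_R2`), verbatim: `slpb6_core` on B5.
-/

set_option autoImplicit false

namespace Cfsg.Agent.Lib.helper17.SLP

open Polynomial

universe u v

/-- B6 [S-M]  dep B5 with `p = 2`, `l = 1`, `mu = lam`, `fl = X`. -/
theorem exists_x_R2 {G : Type*} [Group G] {F : Type*} [Field F] [Finite F] [Algebra (ZMod 2) F]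
    (u h : G) (k : ℤ) (lam : F) (hlam : lam ≠ 0) (hk : lam ^ k = lam + 1)
    (hsurj : Function.Surjective (fun f : (ZMod 2)[X] => aeval lam f))
    (a1 : u ^ 2 = 1) (a3 : cj h u k = cj h u 1 * u) (a4 : pw 2 h u 1 (minpoly (ZMod 2) lam) = 1) :
    ∃ x : F → G, (∀ s t, x (s + t) = x s * x t) ∧ (∀ t, h * x t * h⁻¹ = x (lam * t)) ∧ x 1 = u ∧
      ∀ f : (ZMod 2)[X], x (aeval lam f) = pw 2 h u 1 f :=
  slpb6_core (fun u h k l lam mu hlam hmu hk fl hfl hsurj a1 a2 a3 a4 a5 =>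
    exists_x_R 2 u h k l lam mu hlam hmu hk fl hfl hsurj a1 a2 a3 a4 a5)
    u h k lam hlam hk hsurj a1 a3 a4

end Cfsg.Agent.Lib.helper17.SLP
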