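import Mathlib
import Cfsg.Agent.Lib.helper17.SLP.Defs

/-!
# Project SLP (S2286, designer helper17), row M5 (`braid_M`), verbatim.  The few identities of M1
that are needed are proved here under own names, so this file does not wait for M1.
-/

set_option autoImplicit false

namespace Cfsg.Agent.Lib.helper17.SLP

open Polynomial

universe u v

section M

variable {F : Type u} [Field F]

theorem slpm5_hM_mul (s t : Fˣ) : (hM s * hM t : Matrix.SpecialLinearGroup (Fin 2) F) = hM (s * t) := by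
  apply Subtype.ext
  show (hM s).1 * (hM t).1 = (hM (s * t)).1
  simp only [hM]
  rw [Matrix.mul_fin_two]
  simp [mul_comm]

theorem slpm5_hM_one : (hM (1 : Fˣ) : Matrix.SpecialLinearGroup (Fin 2) F) = 1 := by
  ext i j
  fin_cases i <;> fin_cases j <;> simp [hM]

theorem slpm5_hM_pow (s : Fˣ) (n : ℕ) :
    (hM s ^ n : Matrix.SpecialLinearGroup (Fin 2) F) = hM (s ^ n) := by
  induction n with
  | zero => rw [pow_zero, pow_zero, slpm5_hM_one]
  | succ n ih => rw [pow_succ, pow_succ, ih, slpm5_hM_mul]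

theorem slpm5_hM_inv (s : Fˣ) : ((hM s)⁻¹ : Matrix.SpecialLinearGroup (Fin 2) F) = hM s⁻¹ := by
  rw [inv_eq_iff_mul_eq_one, slpm5_hM_mul, mul_inv_cancel, slpm5_hM_one]

theorem slpm5_kw (s : Fˣ) :
    (hM s * wM * wM : Matrix.SpecialLinearGroup (Fin 2) F) = hM (-s) := by
  apply Subtype.ext
  show (hM s).1 * (wM : Matrix.SpecialLinearGroup (Fin 2) F).1 *
    (wM : Matrix.SpecialLinearGroup (Fin 2) F).1 = (hM (-s)).1
  simp only [hM, wM]
  rw [Matrix.mul_fin_two, Matrix.mul_fin_two]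
  simp [inv_neg]

theorem slpm5_wk (s : Fˣ) :
    (wM * (hM s * wM) : Matrix.SpecialLinearGroup (Fin 2) F) = hM (-s⁻¹) := by
  apply Subtype.ext
  show (wM : Matrix.SpecialLinearGroup (Fin 2) F).1 * ((hM s).1 *
    (wM : Matrix.SpecialLinearGroup (Fin 2) F).1) = (hM (-s⁻¹)).1
  simp only [hM, wM]
  rw [Matrix.mul_fin_two, Matrix.mul_fin_two]
  simp [inv_neg]

/-- M5 [M]. -/
theorem braid_M (s : Fˣ) (m : ℕ) : braid (2 * m + 1) (hM s * wM) wM = hM (s ^ (2 * m + 1)) := by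
  unfold braid
  rw [alt_odd, alt_odd, slpm5_kw, slpm5_wk, slpm5_hM_pow, slpm5_hM_pow, mul_inv_rev, slpm5_hM_inv]
  have e : (hM ((-s) ^ m) * (hM s * wM) * (wM⁻¹ * hM ((-s⁻¹) ^ m)⁻¹) :
      Matrix.SpecialLinearGroup (Fin 2) F) = hM ((-s) ^ m) * hM s * hM ((-s⁻¹) ^ m)⁻¹ := by
    group
  rw [e, slpm5_hM_mul, slpm5_hM_mul]
  congr 1
  have h1 : ((-s⁻¹) ^ m)⁻¹ = (-s) ^ m := by
    rw [← inv_pow, neg_inv, inv_inv]
  rw [h1]
  have h2 : (-s) ^ m * s * (-s) ^ m = (-s) ^ (2 * m) * s := by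
    rw [two_mul, pow_add]
    exact mul_right_comm _ _ _
  rw [h2, pow_mul, neg_sq, ← pow_mul, pow_succ]

end M

end Cfsg.Agent.Lib.helper17.SLP
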