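import Mathlib
import Cfsg.Agent.Lib.Helper19.U3P.Defs
import Cfsg.Agent.Lib.Helper25.SU3P.Basic
import Cfsg.Agent.Lib.Helper25.SU3P.Conj
import Cfsg.Agent.Lib.Helper25.SU3P.Center
import Cfsg.Agent.Lib.helper15.SU3G.A3

/-!
# U3P row X22 (helper15), core: `gen_S` with the statement of X13 (`gen_U`) as a hypothesis.
-/

set_option autoImplicit false

namespace Cfsg.Agent.Lib.Helper19.U3P

open Cfsg.Agent.Lib.helper17.SLP Cfsg.Agent.Lib.helper14.SU3J Cfsg.Agent.Lib.Helper25.SU3P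
open Polynomial Matrix

universe u v

section X

variable {F : Type u} [Field F] [Fintype F] {K : Type u} [Field K] [Fintype K] {q : ℕ}

omit [Fintype F] in
/-- the frame equation from `Coords.hform`. -/
theorem u3px22_frame {σ : F →+* F} (hσ : ∀ x, σ x = x ^ q) (c : Coords F q σ) :
    c.Tᵀ * c.T.map σ = Cfsg.Agent.Lib.helper15.SU3G.Jm := by
  ext i j
  have h := c.hform (Pi.single i 1) (Pi.single j 1)
  rw [Matrix.mulVec_single_one, Matrix.mulVec_single_one] at h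
  have e : (c.Tᵀ * c.T.map σ) i j = Cfsg.hermForm 3 F q (c.T.col i) (c.T.col j) := by
    unfold Cfsg.hermForm
    rw [Matrix.mul_apply]
    apply Finset.sum_congr rfl
    intro k _
    simp [hσ, Matrix.col]
  rw [e, h]
  fin_cases i <;> fin_cases j <;> simp [hJ, Cfsg.Agent.Lib.helper15.SU3G.Jm]

omit [Fintype F] in
theorem u3px22_Pinv {σ : F →+* F} (hσ : ∀ x, σ x = x ^ q) (c : Coords F q σ) :
    Cfsg.Agent.Lib.helper15.SU3G.Pinv σ c.T = c.Ti := by
  have h1 := Cfsg.Agent.Lib.helper15.SU3G.Pinv_mul σ c.T (u3px22_frame hσ c)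
  calc Cfsg.Agent.Lib.helper15.SU3G.Pinv σ c.T
      = Cfsg.Agent.Lib.helper15.SU3G.Pinv σ c.T * (c.T * c.Ti) := by rw [c.hTTi, Matrix.mul_one]
    _ = c.Ti := by rw [← Matrix.mul_assoc, h1, Matrix.one_mul]

omit [Fintype F] in
theorem u3px22_InJ {σ : F →+* F} (hσ : ∀ x, σ x = x ^ q) (c : Coords F q σ)
    (H : Subgroup ↥(Cfsg.SU 3 F q)) (x : ↥(Cfsg.SU 3 F q)) (hx : x ∈ H) :
    Cfsg.Agent.Lib.helper15.SU3G.InJ σ c.T H (c.cj x) := by
  refine ⟨x, hx, ?_⟩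
  rw [u3px22_Pinv hσ c]
  exact c.smat_eq x

omit [Fintype F] in
/-- `PresJ` (bilinear form language) gives `IsJU` (matrix language). -/
theorem u3px22_isJU {σ : F →+* F} (M : Matrix (Fin 3) (Fin 3) F) (hM : PresJ σ M) :
    Cfsg.Agent.Lib.helper15.SU3G.IsJU σ M := by
  unfold Cfsg.Agent.Lib.helper15.SU3G.IsJU
  ext i j
  have h := hM (Pi.single i 1) (Pi.single j 1)
  rw [Matrix.mulVec_single_one, Matrix.mulVec_single_one] at h
  have e : (Mᵀ * (Cfsg.Agent.Lib.helper15.SU3G.Jm : Matrix (Fin 3) (Fin 3) F) * M.map σ) i j =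
      hJ σ (M.col i) (M.col j) := by
    simp [Matrix.mul_apply, Fin.sum_univ_three, hJ, Cfsg.Agent.Lib.helper15.SU3G.Jm, Matrix.col]
    ring
  rw [e, h]
  fin_cases i <;> fin_cases j <;> simp [hJ, Cfsg.Agent.Lib.helper15.SU3G.Jm]

variable {D : Par F K q} {a b c : ↥(Cfsg.SU 3 F q)} {ρ : SL2 K →* ↥(Cfsg.SU 3 F q)}

/-- X22, core: the statement of X13 `gen_U` is the hypothesis `hU`. -/
theorem u3px22_core (hG : Gens D a b c ρ) (hF : Fintype.card F = q ^ 2) (hq : 4 ≤ q)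
    (hγ : D.γ0 ≠ 0)
    (hU : ∀ X : ↥(Cfsg.SU 3 F q), IsUT (D.c.cj X) →
      X ∈ Subgroup.closure ({a, b} : Set ↥(Cfsg.SU 3 F q))) :
    Subgroup.closure ({a, b, c} : Set ↥(Cfsg.SU 3 F q)) = ⊤ := by
  have hσ := D.hσ
  have hσσ : ∀ x, D.σ (D.σ x) = x := by
    intro x
    rw [hσ, hσ, ← pow_mul, ← sq, ← hF, FiniteField.pow_card]
  have hle : Subgroup.closure ({a, b} : Set ↥(Cfsg.SU 3 F q)) ≤
      Subgroup.closure ({a, b, c} : Set ↥(Cfsg.SU 3 F q)) := by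
    apply Subgroup.closure_mono
    intro x hx
    rcases hx with rfl | rfl
    · simp
    · simp
  have hP := u3px22_frame hσ D.c
  have hc : c ∈ Subgroup.closure ({a, b, c} : Set ↥(Cfsg.SU 3 F q)) :=
    Subgroup.subset_closure (by simp)
  have hM := u3px22_InJ hσ D.c _ c hc
  rw [hG.hc] at hM
  have hMJ : Cfsg.Agent.Lib.helper15.SU3G.IsJU D.σ (wJ D.γ0) := by
    apply u3px22_isJU
    rw [← hG.hc]
    exact D.c.cj_presJ c
  refine Cfsg.Agent.Lib.helper15.SU3G.top_of_UP hF (by omega) hσ hσσ hP ?_ hMJ hM ?_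
  · intro a' b' hv
    have hpres : PresJ D.σ (uu D.σ a' b') := ConjAux.presJ_uu D.σ hσσ a' b' hv
    obtain ⟨X, hX⟩ := D.c.exists_lift (uu D.σ a' b') hpres (ConjAux.det_uu D.σ a' b')
    have hXm := hle (hU X (by rw [hX]; exact CenterAux.isUT_uu D.σ a' b'))
    have := u3px22_InJ hσ D.c _ X hXm
    rw [hX] at this
    exact this
  · simp [wJ, hγ]

end X

end Cfsg.Agent.Lib.Helper19.U3P
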