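import Mathlib
import Cfsg.Agent.Lib.Helper19.U3P.Defs

/-!
# Project U3P (S2289, designer helper19), row P4 (`exists_word_B`): an element of `closure {a, b}` is the value
`ev a b 1 r` of a word.
-/

set_option autoImplicit false

namespace Cfsg.Agent.Lib.Helper19.U3P

open Cfsg.Agent.Lib.helper17.SLP Cfsg.Agent.Lib.helper14.SU3J Cfsg.Agent.Lib.Helper25.SU3P
open Polynomial Matrix

universe u v

/-- P4 [S-M]  `X ∈ closure {a, b}` is `ev a b 1 r` for a word `r`: the range of `ev a b 1` is a subgroup containing `a`, `b` (`Subgroup.closure_le`). -/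
theorem exists_word_B {S : Type u} [Group S] (a b : S) (X : S) (hX : X ∈ Subgroup.closure ({a, b} : Set S)) :
    ∃ r : FreeGroup (Fin 3), ev a b 1 r = X := by
  have hle : Subgroup.closure ({a, b} : Set S) ≤ (ev a b 1).range := by
    rw [Subgroup.closure_le]
    intro x hx
    simp only [Set.mem_insert_iff, Set.mem_singleton_iff] at hx
    rcases hx with rfl | rfl
    · exact ⟨gU, ev_gU _ _ _⟩
    · exact ⟨gH, ev_gH _ _ _⟩
  exact hle hX

end Cfsg.Agent.Lib.Helper19.U3P
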