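import Mathlib
import Cfsg.Agent.Lib.helper15.St2
import Cfsg.Agent.Lib.helper7.StA
import Cfsg.Agent.Lib.helper7.StC
import Cfsg.Agent.Lib.Helper24.STCI1
import Cfsg.Agent.Lib.helper23.STCX2
import Cfsg.Agent.Lib.Helper27.STU.Defs
import Cfsg.Agent.Lib.Helper27.STU.Defs2
import Cfsg.Agent.Lib.Helper11.STUB3

/-!
# Project STU (helper27, S2291), row W1 (helper15): `cj_ws_disj`, `cj_ws_disj_l`, verbatim.
-/

set_option autoImplicit false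

namespace Cfsg.Agent.Lib.Helper27.STU

open Cfsg.Agent.Lib.helper15.St2 Cfsg.Agent.Lib.helper7.St Cfsg.Agent.Lib.helper3.STC

namespace SysU

variable {F : Type*} [Field F] [StarRing F] {od : Prop} {ι : Type*} {G : Type*} [Group G] (S : SysU F od ι G)

theorem stuw1_ne_ng {a b : ι ⊕ ι} (h : a ≠ ng b) : b ≠ ng a := fun h' => h (by rw [h', ng_ng])

/-- W1 [S]  model `SysC.cj_w_disj`: `unfold ws`, three times `cj_comm_ss` / `cj_comm_sl`. -/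
theorem cj_ws_disj {a b k l : ι ⊕ ι} (hab : a ≠ b) (hab' : a ≠ ng b) (hkl : k ≠ l) (hkl' : k ≠ ng l)
    (hka : k ≠ a) (hkb : k ≠ b) (hka' : k ≠ ng a) (hkb' : k ≠ ng b)
    (hla : l ≠ a) (hlb : l ≠ b) (hla' : l ≠ ng a) (hlb' : l ≠ ng b) (u t : F) :
    cj (S.ws a b u) (S.xs k l t) = S.xs k l t := by
  have hba' : b ≠ ng a := stuw1_ne_ng hab'
  unfold ws
  rw [← cj_cj, ← cj_cj,
    S.cj_comm_ss hab hab' hkl hkl' hkb.symm hla.symm (stuw1_ne_ng hlb') (stuw1_ne_ng hka'),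
    S.cj_comm_ss hab.symm hba' hkl hkl' hka.symm hlb.symm (stuw1_ne_ng hla') (stuw1_ne_ng hkb'),
    S.cj_comm_ss hab hab' hkl hkl' hkb.symm hla.symm (stuw1_ne_ng hlb') (stuw1_ne_ng hka')]

theorem cj_ws_disj_l {a b k : ι ⊕ ι} (hab : a ≠ b) (hab' : a ≠ ng b)
    (hka : k ≠ a) (hkb : k ≠ b) (hka' : k ≠ ng a) (hkb' : k ≠ ng b) (u : F) (ξ : Lam F od) :
    cj (S.ws a b u) (S.xl k ξ) = S.xl k ξ := by
  have hba' : b ≠ ng a := stuw1_ne_ng hab'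
  unfold ws
  rw [← cj_cj, ← cj_cj,
    S.cj_comm_sl hab hab' (stuw1_ne_ng hka') hkb.symm,
    S.cj_comm_sl hab.symm hba' (stuw1_ne_ng hkb') hka.symm,
    S.cj_comm_sl hab hab' (stuw1_ne_ng hka') hkb.symm]

end SysU

end Cfsg.Agent.Lib.Helper27.STU
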