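import Mathlib
import Cfsg.Agent.Lib.Helper24.SU3M.Defs
import Cfsg.Agent.Lib.helper7.CeA

/-!
# Project SU3M (designer helper24; rank one half of S2089), block G, row G3 (`cm_central`, `cm_mul_of_comm`, `cm_mul_of_comm'`), VERBATIM vs `Helper24/SU3M/Skel.lean.txt`.
-/

set_option autoImplicit false

namespace Cfsg.Agent.Lib.Helper24.SU3M

open Cfsg.Agent.Lib.Helper19.U3P Cfsg.Agent.Lib.Helper25.SU3P Cfsg.Agent.Lib.helper14.SU3J Cfsg.Agent.Lib.helper7.Ce Matrix Polynomial

universe u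

section G

variable {Γ G : Type*} [Group Γ] [Group G] {π : Γ →* G}

/-- G3 [S]  `π (cm x y) = cm (π x) (π y) = 1`, kernel central. -/
theorem cm_central (h : IsCE π) {x y : Γ} (hxy : π x * π y = π y * π x) : cm x y ∈ Subgroup.center Γ := by
  apply h.cen
  rw [MonoidHom.mem_ker, map_cm]
  exact cm_eq_one_iff.2 hxy

/-- G3 [S]  `cm_mul_left`, `cm x' y` central (`cm_central`). -/
theorem cm_mul_of_comm (h : IsCE π) {x x' y : Γ} (hxy : π x * π y = π y * π x) (hx'y : π x' * π y = π y * π x') :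
    cm (x * x') y = cm x y * cm x' y := by
  have h1 := Subgroup.mem_center_iff.1 (cm_central h hx'y)
  rw [cm_mul_left, h1 x, mul_assoc (cm x' y) x x⁻¹, mul_inv_cancel, mul_one, ← h1 (cm x y)]

/-- G3 [S]  `cm_mul_right`. -/
theorem cm_mul_of_comm' (h : IsCE π) {x y y' : Γ} (hxy : π x * π y = π y * π x) (hxy' : π x * π y' = π y' * π x) :
    cm x (y * y') = cm x y * cm x y' := by
  have h1 := Subgroup.mem_center_iff.1 (cm_central h hxy')
  rw [cm_mul_right, h1 y, mul_assoc (cm x y') y y⁻¹, mul_inv_cancel, mul_one]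

end G

end Cfsg.Agent.Lib.Helper24.SU3M
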