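import Mathlib
import Cfsg.Agent.Lib.helper17.SLP.Defs
import Cfsg.Agent.Lib.helper17.SLN.Defs

/-!
# Project SLN (S2290, designer helper17), row S3 (`yM_eq`, `wM_eq`, `yM_mul`): 2×2 identities.
Extras: `slns3_coe_xM`, `slns3_coe_yM`, `slns3_coe_wM` (the underlying matrices), `slns3_yM_wM` (`yM t * wM = wM * xM (-t)`).
-/

set_option autoImplicit false

namespace Cfsg.Agent.Lib.helper17.SLN

open Cfsg.Agent.Lib.helper17.SLP
open Cfsg.Agent.Lib.helper7.St

universe u v w v'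

section S

variable {F : Type u} [Field F]

theorem slns3_coe_xM (t : F) : ((xM t : Matrix.SpecialLinearGroup (Fin 2) F) : Matrix (Fin 2) (Fin 2) F) =
    !![1, t; 0, 1] := rfl

theorem slns3_coe_yM (t : F) : ((yM t : Matrix.SpecialLinearGroup (Fin 2) F) : Matrix (Fin 2) (Fin 2) F) =
    !![1, 0; t, 1] := rfl

theorem slns3_coe_wM : ((wM : Matrix.SpecialLinearGroup (Fin 2) F) : Matrix (Fin 2) (Fin 2) F) =
    !![0, 1; -1, 0] := rfl

theorem slns3_yM_wM (t : F) : yM t * (wM : Matrix.SpecialLinearGroup (Fin 2) F) = wM * xM (-t) := by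
  apply Subtype.ext
  rw [Matrix.SpecialLinearGroup.coe_mul, Matrix.SpecialLinearGroup.coe_mul, slns3_coe_yM, slns3_coe_wM,
    slns3_coe_xM, Matrix.mul_fin_two, Matrix.mul_fin_two]
  simp

/-- S3 [S]  2×2 identities. -/
theorem yM_eq (t : F) : yM t = wM * xM (-t) * wM⁻¹ :=
  eq_mul_inv_of_mul_eq (slns3_yM_wM t)

theorem wM_eq : (wM : Matrix.SpecialLinearGroup (Fin 2) F) = xM 1 * yM (-1) * xM 1 := by
  apply Subtype.ext
  rw [Matrix.SpecialLinearGroup.coe_mul, Matrix.SpecialLinearGroup.coe_mul, slns3_coe_yM, slns3_coe_wM,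
    slns3_coe_xM, Matrix.mul_fin_two, Matrix.mul_fin_two]
  simp

theorem yM_mul (s t : F) : yM s * yM t = yM (s + t) := by
  apply Subtype.ext
  rw [Matrix.SpecialLinearGroup.coe_mul, slns3_coe_yM, slns3_coe_yM, slns3_coe_yM, Matrix.mul_fin_two]
  simp [add_comm]

end S

end Cfsg.Agent.Lib.helper17.SLN
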