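import Mathlib
import Cfsg.Agent.Lib.Helper24.SU3M.Defs
import Cfsg.Agent.Lib.helper7.CeA

/-!
# Project SU3M (designer helper24; rank one half of S2089), block G, row G2 (`perfect_of_stem`), VERBATIM vs `Helper24/SU3M/Skel.lean.txt`.
-/

set_option autoImplicit false

namespace Cfsg.Agent.Lib.Helper24.SU3M

open Cfsg.Agent.Lib.Helper19.U3P Cfsg.Agent.Lib.Helper25.SU3P Cfsg.Agent.Lib.helper14.SU3J Cfsg.Agent.Lib.helper7.Ce Matrix Polynomial

universe u

section G

variable {Γ G : Type*} [Group Γ] [Group G] {π : Γ →* G}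

/-- G2 [S-M]  `π (commutator Γ) = commutator G = ⊤` (`Subgroup.map_commutator`-type / `MonoidHom.map_closure`), so every `g` is `c * k` with `c ∈ commutator Γ`, `k ∈ π.ker ≤ commutator Γ`. -/
theorem perfect_of_stem (hsurj : Function.Surjective π) (hder : π.ker ≤ commutator Γ) (hG : commutator G = ⊤) :
    commutator Γ = ⊤ := by
  have h1 : (commutator Γ).map π = ⊤ := by
    rw [commutator_def, Subgroup.map_commutator, ← MonoidHom.range_eq_map, MonoidHom.range_eq_top.mpr hsurj,
      ← commutator_def, hG]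
  have h2 := Subgroup.comap_map_eq π (commutator Γ)
  rw [h1, Subgroup.comap_top, sup_eq_left.mpr hder] at h2
  exact h2.symm

end G

end Cfsg.Agent.Lib.Helper24.SU3M
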