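import Mathlib
import Cfsg.Agent.Lib.Helper24.SU3M.Defs
import Cfsg.Agent.Lib.helper7.CeA
import Cfsg.Agent.Lib.Helper25.SU3P.Basic
import Cfsg.Agent.Lib.Helper25.SU3P.Conj
import Cfsg.Agent.Lib.Lead.Unitary
import Cfsg.Agent.Lib.Lead.HermIso
import Cfsg.Agent.Lib.helper4.U3PX2

/-!
# SU3M U9 (`exists_dat`): the skew element `ε`, the torus generator `hz`, the embedding `ρ` of `SL₂(K)`.

Model: `helper4.U3PX2 exists_gens`.  `ε := a - σ a` for `a` outside the fixed field.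
-/

set_option autoImplicit false

namespace Cfsg.Agent.Lib.Helper24.SU3M

open Cfsg.Agent.Lib.Helper19.U3P Cfsg.Agent.Lib.Helper25.SU3P Cfsg.Agent.Lib.helper14.SU3J Cfsg.Agent.Lib.helper7.Ce Matrix Polynomial

universe u

section U

variable {F : Type u} [Field F] [Fintype F] {K : Type u} [Field K] [Fintype K] {q : ℕ}

/-- a skew element: `ε ≠ 0`, `σ ε = -ε`. -/
theorem su3mu9_exists_skew (hF : Fintype.card F = q ^ 2) (σ : F →+* F) (hσ : ∀ x, σ x = x ^ q) :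
    ∃ ε : F, ε ≠ 0 ∧ σ ε = -ε := by
  obtain ⟨a, ha⟩ := Cfsg.Agent.Lib.Lead.HI.exists_not_fixed hF
  have hσσ : σ (σ a) = a := Cfsg.Agent.Lib.Lead.frob_frob hF σ hσ a
  refine ⟨a - σ a, ?_, ?_⟩
  · rw [hσ a]
    exact sub_ne_zero.mpr (Ne.symm ha)
  · rw [map_sub, hσσ]
    ring

/-- U9 [M]  the data `ε hz ρ`. -/
theorem exists_dat (D : Par F K q) (hF : Fintype.card F = q ^ 2) :
    ∃ (ε : F) (hz : ↥(Cfsg.SU 3 F q)) (ρ : SL2 K →* ↥(Cfsg.SU 3 F q)), Dat D ε hz ρ := by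
  have hσσ : ∀ x, D.σ (D.σ x) = x := fun x => Cfsg.Agent.Lib.Lead.frob_frob hF D.σ D.hσ x
  have hι : ∀ y : K, D.σ (D.ι y) = D.ι y := fun y => (D.hι (D.ι y)).2 ⟨y, rfl⟩
  obtain ⟨ε, hε, hεσ⟩ := su3mu9_exists_skew hF D.σ D.hσ
  obtain ⟨b, hb⟩ := D.c.exists_lift (dd D.σ (D.ζ : F))
    (ConjAux.presJ_dd D.σ hσσ _ D.ζ.ne_zero) (ConjAux.det_dd D.σ _ D.ζ.ne_zero)
  have hex : ∀ g : SL2 K, ∃ X : ↥(Cfsg.SU 3 F q), D.c.cj X = rhoM D.ι ε g := fun g =>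
    D.c.exists_lift _ (u3px2_presJ_rhoM D.σ D.ι hι ε hε hεσ g) (u3px2_det_rhoM D.ι ε hε g)
  have hspec : ∀ g : SL2 K, D.c.cj (Classical.choose (hex g)) = rhoM D.ι ε g := fun g =>
    Classical.choose_spec (hex g)
  refine ⟨ε, b, MonoidHom.mk' (fun g => Classical.choose (hex g)) ?_, ⟨hε, hεσ, hb, ?_⟩⟩
  · intro g g'
    apply D.c.cj_inj
    rw [D.c.cj_mul, hspec, hspec, hspec, u3px2_rhoM_mul D.ι ε hε]
  · intro g
    exact hspec g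

end U

end Cfsg.Agent.Lib.Helper24.SU3M
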