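import Mathlib
import Cfsg.Agent.Lib.Helper24.SU3M.Defs
import Cfsg.Agent.Lib.helper7.CeA

/-!
# Project SU3M (designer helper24; rank one half of S2089), block G, row G5 (`comm_le_core`), VERBATIM vs `Helper24/SU3M/Skel.lean.txt`.
-/

set_option autoImplicit false

namespace Cfsg.Agent.Lib.Helper24.SU3M

open Cfsg.Agent.Lib.Helper19.U3P Cfsg.Agent.Lib.Helper25.SU3P Cfsg.Agent.Lib.helper14.SU3J Cfsg.Agent.Lib.helper7.Ce Matrix Polynomial

universe u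

section G

variable {Γ G : Type*} [Group Γ] [Group G] {π : Γ →* G}

/-- G5 [M]  `R := ⁅L.comap π, L.comap π⁆`.  (1) `L.comap π = R · ker`: `π y ∈ L ≤ ⁅L, L⁆ = π R`.  (2) `R` is normal in `E := (L ⊔ zpowers d).comap π` (`L.comap π` is: `L` is normalised by `d`, hence normal in `L ⊔ zpowers d`; commutator subgroups of normal subgroups are normal).
(3) `E` is generated by `L.comap π` and one lift `d'` of `d`; modulo `R` the elements of `L.comap π = R ker` are central and `d'` commutes with itself: `E / R` is commutative, i.e. all `⁅e, e'⁆ ∈ R`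
(`Subgroup.commutator_le`, `Subgroup.closure_induction₂` or the quotient `E ⧸ R.subgroupOf E`). -/
theorem comm_le_core (h : IsCE π) (L : Subgroup G) (d : G) (hd : ∀ g ∈ L, d * g * d⁻¹ ∈ L) (hd' : ∀ g ∈ L, d⁻¹ * g * d ∈ L)
    (hperf : ∀ g ∈ L, g ∈ ⁅L, L⁆) :
    ⁅(L ⊔ Subgroup.zpowers d).comap π, (L ⊔ Subgroup.zpowers d).comap π⁆ ≤ ⁅L.comap π, L.comap π⁆ := by
  -- `d` normalises `L`
  have hdN : d ∈ Subgroup.normalizer L := by
    rw [Subgroup.mem_normalizer_iff]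
    intro g
    refine ⟨fun hg => hd g hg, fun hg => ?_⟩
    have := hd' _ hg
    have e : d⁻¹ * (d * g * d⁻¹) * d = g := by group
    rwa [e] at this
  have hzN : Subgroup.zpowers d ≤ Subgroup.normalizer L := by
    rw [Subgroup.zpowers_le]
    exact hdN
  have hsupN : L ⊔ Subgroup.zpowers d ≤ Subgroup.normalizer L := sup_le Subgroup.le_normalizer hzN
  have hnorm : ∀ x ∈ L ⊔ Subgroup.zpowers d, ∀ g ∈ L, x * g * x⁻¹ ∈ L := by
    intro x hx g hg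
    exact ((Subgroup.mem_normalizer_iff.1 (hsupN hx)) g).1 hg
  -- `A = L.comap π` is normal in `E`
  have hAE : ∀ e ∈ (L ⊔ Subgroup.zpowers d).comap π, ∀ a ∈ L.comap π, e * a * e⁻¹ ∈ L.comap π := by
    intro e he a ha
    rw [Subgroup.mem_comap, map_mul, map_mul, map_inv]
    exact hnorm (π e) he (π a) ha
  -- `R` is normal in `E`
  have hRE : ∀ e ∈ (L ⊔ Subgroup.zpowers d).comap π, ∀ r ∈ ⁅L.comap π, L.comap π⁆,
      e * r * e⁻¹ ∈ ⁅L.comap π, L.comap π⁆ := by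
    intro e he r hr
    have hmap : (⁅L.comap π, L.comap π⁆).map (MulAut.conj e).toMonoidHom ≤ ⁅L.comap π, L.comap π⁆ := by
      rw [Subgroup.map_commutator]
      apply Subgroup.commutator_mono <;>
      · rintro _ ⟨a, ha, rfl⟩
        exact hAE e he a ha
    exact hmap ⟨r, hr, rfl⟩
  -- elements of `A` are in `R` modulo the kernel
  have hdec : ∀ a ∈ L.comap π, ∃ r ∈ ⁅L.comap π, L.comap π⁆, π r = π a := by
    intro a ha
    have h1 : π a ∈ ⁅L, L⁆ := hperf _ ha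
    have h2 : ⁅L, L⁆ = (⁅L.comap π, L.comap π⁆).map π := by
      rw [Subgroup.map_commutator, Subgroup.map_comap_eq_self_of_surjective h.surj]
    rw [h2] at h1
    obtain ⟨r, hr, hre⟩ := h1
    exact ⟨r, hr, hre⟩
  -- commutators of `A` with `E` lie in `R`
  have hii : ∀ a ∈ L.comap π, ∀ e ∈ (L ⊔ Subgroup.zpowers d).comap π,
      a * e * a⁻¹ * e⁻¹ ∈ ⁅L.comap π, L.comap π⁆ := by
    intro a ha e he
    obtain ⟨r, hr, hre⟩ := hdec a ha
    have hk : π (r⁻¹ * a) = 1 := by rw [map_mul, map_inv, hre, inv_mul_cancel]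
    have hkc := h.comm_of_map_one hk
    have e1 : a * e * a⁻¹ * e⁻¹ = r * (e * r⁻¹ * e⁻¹) := by
      calc a * e * a⁻¹ * e⁻¹ = r * ((r⁻¹ * a) * e) * (r⁻¹ * a)⁻¹ * r⁻¹ * e⁻¹ := by group
        _ = r * (e * (r⁻¹ * a)) * (r⁻¹ * a)⁻¹ * r⁻¹ * e⁻¹ := by rw [hkc e]
        _ = r * (e * r⁻¹ * e⁻¹) := by group
    rw [e1]
    exact Subgroup.mul_mem _ hr (hRE e he _ (Subgroup.inv_mem _ hr))
  -- splitting of `E`
  obtain ⟨d', hd'e⟩ := h.surj d
  have hAleE : L.comap π ≤ (L ⊔ Subgroup.zpowers d).comap π := Subgroup.comap_mono le_sup_left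
  have hd'E : ∀ n : ℤ, d' ^ n ∈ (L ⊔ Subgroup.zpowers d).comap π := by
    intro n
    rw [Subgroup.mem_comap, map_zpow, hd'e]
    exact (le_sup_right : Subgroup.zpowers d ≤ L ⊔ Subgroup.zpowers d) (Subgroup.zpow_mem_zpowers d n)
  have hsplit : ∀ e ∈ (L ⊔ Subgroup.zpowers d).comap π, ∃ a ∈ L.comap π, ∃ n : ℤ, e = a * d' ^ n := by
    intro e he
    have h1 : π e ∈ (↑(L ⊔ Subgroup.zpowers d) : Set G) := he
    rw [Subgroup.coe_mul_of_right_le_normalizer_left L (Subgroup.zpowers d) hzN] at h1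
    obtain ⟨l, hl, z, hz, hlz⟩ := h1
    obtain ⟨n, rfl⟩ := Subgroup.mem_zpowers_iff.1 hz
    refine ⟨e * (d' ^ n)⁻¹, ?_, n, by group⟩
    rw [Subgroup.mem_comap, map_mul, map_inv, map_zpow, hd'e]
    have : π e = l * d ^ n := hlz.symm
    rw [this, mul_inv_cancel_right]
    exact hl
  rw [Subgroup.commutator_le]
  intro e he e' he'
  rw [commutatorElement_def]
  obtain ⟨a, ha, n, rfl⟩ := hsplit e he
  obtain ⟨a', ha', m, rfl⟩ := hsplit e' he'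
  -- `⁅a d'^n, e'⁆ = a ⁅d'^n, e'⁆ a⁻¹ ⁅a, e'⁆`, `⁅d'^n, a' d'^m⁆ = ⁅d'^n, a'⁆ = ⁅a', d'^n⁆⁻¹`
  have hcomm : d' ^ n * d' ^ m = d' ^ m * d' ^ n := by
    rw [← _root_.zpow_add, ← _root_.zpow_add, add_comm]
  have e1 : a * d' ^ n * (a' * d' ^ m) * (a * d' ^ n)⁻¹ * (a' * d' ^ m)⁻¹ =
      a * (a' * d' ^ n * a'⁻¹ * (d' ^ n)⁻¹)⁻¹ * a⁻¹ * (a * (a' * d' ^ m) * a⁻¹ * (a' * d' ^ m)⁻¹) := by
    have e2 : d' ^ n * (a' * d' ^ m) * (d' ^ n)⁻¹ * (a' * d' ^ m)⁻¹ = (a' * d' ^ n * a'⁻¹ * (d' ^ n)⁻¹)⁻¹ := by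
      calc d' ^ n * (a' * d' ^ m) * (d' ^ n)⁻¹ * (a' * d' ^ m)⁻¹
          = d' ^ n * a' * (d' ^ m * (d' ^ n)⁻¹ * (d' ^ m)⁻¹) * a'⁻¹ := by group
        _ = d' ^ n * a' * (d' ^ n)⁻¹ * a'⁻¹ := by
            have : d' ^ m * (d' ^ n)⁻¹ * (d' ^ m)⁻¹ = (d' ^ n)⁻¹ := by
              rw [← _root_.zpow_neg, ← _root_.zpow_neg, ← _root_.zpow_add, ← _root_.zpow_add]
              congr 1
              ring
            rw [this]
        _ = (a' * d' ^ n * a'⁻¹ * (d' ^ n)⁻¹)⁻¹ := by group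
    rw [← e2]
    group
  rw [e1]
  have hE' : a' * d' ^ m ∈ (L ⊔ Subgroup.zpowers d).comap π := Subgroup.mul_mem _ (hAleE ha') (hd'E m)
  refine Subgroup.mul_mem _ ?_ (hii a ha _ hE')
  exact hRE a (hAleE ha) _ (Subgroup.inv_mem _ (hii a' ha' _ (hd'E n)))

end G

end Cfsg.Agent.Lib.Helper24.SU3M
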