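import Mathlib
import Cfsg.Agent.Lib.helper3.CEUO.Defs2
import Cfsg.Agent.Lib.Helper27.STU.Defs3
import Cfsg.Agent.Lib.Helper27.STU.Frob
import Cfsg.Agent.Lib.Helper27.STUH8
import Cfsg.Agent.Lib.Helper12.SU3S.Equiv
import Cfsg.Agent.Lib.Helper24.SU3MSplit

/-!
# Project CEUO (sub-designer helper3; odd case of helper7's CEU, S2089), row N1 (helper15), VERBATIM vs `helper3/CEUO/Skel.lean.txt`:
`hlift_frob`: (`q ≥ 3`) every homomorphism from the rank one group `SUm F True ≅ SU_3(q)` lifts along a central extension with `Γ` finite.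
From helper24's `su3_lift_equiv` (`Helper24.SU3MSplit`) and helper12's `sum_equiv` (`Helper12/SU3S/Equiv.lean`).
-/

set_option autoImplicit false

namespace Cfsg.Agent.Lib.helper3.CEUO

open Cfsg.Agent.Lib.helper15.St2 Cfsg.Agent.Lib.helper7.Ce Cfsg.Agent.Lib.helper3.STC Cfsg.Agent.Lib.Helper27.STU
  Cfsg.Agent.Lib.helper7.CEU

open Cfsg.Agent.Lib.helper7.CEC (I2 I3 I4 U2 U3)

section N

universe u w w₀

variable {F : Type u} [Field F] [Fintype F] {q : ℕ}

/-- N1 [M]  (`q ≥ 3`) every homomorphism from the rank one group `SUm F True ≅ SU_3(q)` lifts along a central extension with `Γ` finite. -/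
theorem hlift_frob (hF : Fintype.card F = q ^ 2) (hq : 3 ≤ q) {Γ : Type w} {G : Type w₀} [Group Γ] [Group G] [Finite Γ] {σ : Γ →* G}
    (h : IsCE σ) :
    letI := frobStar hF
    ∀ ρ : ↥(SUm F True) →* G, ∃ ρ' : ↥(SUm F True) →* Γ, ∀ x, σ (ρ' x) = ρ x := by
  letI := frobStar hF
  intro ρ
  obtain ⟨φ, hφ⟩ := Cfsg.Agent.Lib.Lead.exists_frob hF
  obtain ⟨c⟩ := Cfsg.Agent.Lib.Helper19.U3P.exists_coords0 hF φ hφ
  obtain ⟨e, -⟩ := Cfsg.Agent.Lib.Helper12.SU3S.sum_equiv hF (fun _ => rfl) hφ c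
  exact Cfsg.Agent.Lib.Helper24.SU3M.su3_lift_equiv hF hq e σ h.surj h.cen ρ

end N

end Cfsg.Agent.Lib.helper3.CEUO
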