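import Mathlib
import Cfsg.Agent.Lib.Helper13.OTS.Defs
import Cfsg.Agent.Lib.helper17.OTSQOCTX
import Cfsg.Agent.Lib.Helper24.S5972SPLIT
import Cfsg.Agent.Lib.Helper5.S5955T6

/-!
# Project OTS, row NECDIM (`q_nec_dim`), verbatim from `Helper13/OTS/Skel.lean.txt`
(twin of `o_nec_dim`, `Helper13/S5972NECDIM.lean`; here the bound is taken inside `cycS`).
-/

set_option autoImplicit false
set_option linter.unusedVariables false
set_option linter.unusedSectionVars false

namespace Cfsg.Agent.Lib.Helper13.OTS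

open Polynomial Module Cfsg.Agent.Lib.Helper13.S5955 Cfsg.Agent.Lib.helper15.S5972

/-- totally singular implies totally isotropic for the polar form -/
theorem otsnecdim_ti {F : Type*} [Field F] {V : Type*} [AddCommGroup V] [Module F V]
    (Q : QuadraticForm F V) (W : Submodule F V) (hWs : QTS Q W) : STI (qB Q) W := by
  intro u hu v hv
  rw [QuadraticMap.polarBilin_apply_apply]
  unfold QuadraticMap.polar
  rw [hWs _ (W.add_mem hu hv), hWs _ hu, hWs _ hv]
  simp

theorem q_nec_dim {F : Type*} [Field F] [Fintype F] {p : ℕ} [Fact p.Prime] [CharP F p]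
    {V : Type*} [AddCommGroup V] [Module F V] [FiniteDimensional F V]
    {r : ℕ} [Fact r.Prime] (hrp : r ≠ p) {Q : QuadraticForm F V} {x : Module.End F V}
    (h : QCtx r Q x) (W : Submodule F V) (hW : SInv x W) (hWs : QTS Q W) :
    ∃ (s : ℕ) (T : Submodule F V), T ≤ fixS x ∧ QTS Q T ∧
      finrank F W = finrank F T + s * orderOf ((Fintype.card F : ℕ) : ZMod r) ∧
      2 * (s * orderOf ((Fintype.card F : ℕ) : ZMod r)) ≤ finrank F (cycS r x) := by
  set i := orderOf ((Fintype.card F : ℕ) : ZMod r) with hi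
  have ho := q_octx h
  have hipos : 0 < i := Cfsg.Agent.Lib.Helper24.el_ord_pos (F := F) (p := p) r hrp
  have hQ0 : cyclotomic r F ≠ 0 := cyclotomic_ne_zero r F
  have hdeg : ∀ P : F[X], Irreducible P → P ∣ cyclotomic r F → P.natDegree = i :=
    fun P hP hPd => Cfsg.Agent.Lib.Helper24.el_cyc_deg (F := F) (p := p) r hrp P hP hPd
  have hcop : IsCoprime (X - 1 : F[X]) (cyclotomic r F) :=
    Cfsg.Agent.Lib.Helper24.el_cyc_coprime (F := F) (p := p) r hrp
  have hkill : aeval x ((X - 1) * cyclotomic r F) = 0 :=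
    Cfsg.Agent.Lib.Helper24.el_cyc_kill r x h.pow
  have hsplit := Cfsg.Agent.Lib.Helper24.el_split_W x (cyclotomic r F) hcop hkill W hW
  have hW2inv : SInv x (W ⊓ LinearMap.ker (aeval x (cyclotomic r F))) :=
    Cfsg.Agent.Lib.Helper24.el_inv_inf hW (Cfsg.Agent.Lib.Helper24.el_inv_ker x _)
  have hW2kill : ∀ u ∈ W ⊓ LinearMap.ker (aeval x (cyclotomic r F)),
      aeval x (cyclotomic r F) u = 0 := fun u hu => LinearMap.mem_ker.mp hu.2
  obtain ⟨s, hs⟩ := Cfsg.Agent.Lib.Helper24.el_dvd_dim x _ hW2inv (cyclotomic r F) hQ0 hW2kill i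
    hipos hdeg
  have hWti := otsnecdim_ti Q W hWs
  have hW2le : W ⊓ LinearMap.ker (aeval x (cyclotomic r F)) ≤ cycS r x := inf_le_right
  have hW2ti : STI (qB Q) (W ⊓ LinearMap.ker (aeval x (cyclotomic r F))) :=
    fun u hu v hv => hWti u hu.1 v hv.1
  have h2 := ti_le_half (qB Q) (cycS r x) _ (o_split hrp ho).2.2.2 hW2le hW2ti
  refine ⟨s, W ⊓ LinearMap.ker (aeval x (X - 1 : F[X])), inf_le_right,
    fun w hw => hWs w hw.1, ?_, ?_⟩
  · rw [hsplit, hs, mul_comm]
  · rw [hs] at h2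
    rw [mul_comm s i]
    exact h2

end Cfsg.Agent.Lib.Helper13.OTS
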