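import Mathlib
import Cfsg.Agent.Lib.helper15.S5972.Defs
import Cfsg.Agent.Lib.Helper5.S5955T12
import Cfsg.Agent.Lib.Helper28.S5955N12

/-!
# Project S5972, rows ARITHS (`o_arith_suff`) and ARITHN (`o_arith_nec`) (verbatim),
reduced to the arithmetic rows T12 / N12 of S5955: `c` is even, so `(2d+1) % c = (2d) % c + 1`, and for `i` even `(2d+1) / i = (2d) / i`.
-/

set_option autoImplicit false

namespace Cfsg.Agent.Lib.helper15.S5972

open Cfsg.Agent.Lib.Helper13.S5955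

/-- `(2d+1) % (2e) = (2d) % (2e) + 1` and `(2d) % (2e)` is even -/
theorem s5972arith_mod (d e : ℕ) (he : 0 < e) :
    (2 * d + 1) % (2 * e) = (2 * d) % (2 * e) + 1 ∧ Even ((2 * d) % (2 * e)) := by
  have h1 : (2 * d) % (2 * e) = 2 * (d % e) := Nat.mul_mod_mul_left 2 d e
  have h2 : d % e < e := Nat.mod_lt d he
  have h3 : 2 * d + 1 = (2 * (d % e) + 1) + (2 * e) * (d / e) := by
    have := Nat.div_add_mod d e
    nlinarith
  refine ⟨?_, ?_⟩
  · rw [h3, Nat.add_mul_mod_self_left, Nat.mod_eq_of_lt (by omega), h1]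
  · rw [h1]
    exact even_two_mul _

/-- `(2d+1) / (2e) = (2d) / (2e)` -/
theorem s5972arith_div (d e : ℕ) : (2 * d + 1) / (2 * e) = (2 * d) / (2 * e) := by
  rw [← Nat.div_div_eq_div_mul, ← Nat.div_div_eq_div_mul]
  congr 1
  omega

/-- `c` is even -/
theorem s5972arith_c (i c : ℕ) (hi : 1 ≤ i) (hc : c = if Even i then i else 2 * i) :
    ∃ e, 0 < e ∧ c = 2 * e := by
  by_cases h : Even i
  · rw [if_pos h] at hc
    obtain ⟨e, he⟩ := h
    exact ⟨e, by omega, by omega⟩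
  · rw [if_neg h] at hc
    exact ⟨i, by omega, hc⟩

theorem o_arith_suff (i c d m fixd cycd tdim r : ℕ) (hi : 1 ≤ i)
    (hc : c = if Even i then i else 2 * i) (hm : m ≤ d)
    (hsum : fixd + cycd = 2 * d + 1) (hce : Even cycd) (hidvd : i ∣ cycd) (hit : i ∣ tdim)
    (hir : i ∣ r - 1) (hT2 : 2 * tdim ≤ cycd)
    (hT : (Odd i ∧ 2 * tdim = cycd) ∨ (Even i ∧ cycd ≤ 2 * tdim + (r - 1)))
    (h1 : 2 * (m % i) < (2 * d + 1) % c)
    (h2 : Odd i ∨ (r - 1) / i + 2 * (m / i) ≤ (2 * d + 1) / i) :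
    ∃ w1 s : ℕ, 2 * w1 + 1 ≤ fixd ∧ s * i ≤ tdim ∧ m = w1 + s * i := by
  obtain ⟨e, he, hce'⟩ := s5972arith_c i c hi hc
  obtain ⟨hmod, _⟩ := s5972arith_mod d e he
  obtain ⟨k, hk⟩ := hce
  have hfix1 : 1 ≤ fixd := by omega
  have hfe : Even (fixd - 1) := ⟨d - k, by omega⟩
  have h1' : 2 * (m % i) ≤ (2 * d) % c := by
    rw [hce'] at h1 ⊢
    omega
  have h2' : Odd i ∨ (r - 1) / i + 2 * (m / i) ≤ (2 * d) / i := by
    rcases h2 with h | h
    · exact Or.inl h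
    · by_cases hie : Even i
      · right
        obtain ⟨e', he'⟩ := hie
        have : i = 2 * e' := by omega
        rw [this] at h ⊢
        rw [s5972arith_div] at h
        exact h
      · exact Or.inl (Nat.not_even_iff_odd.mp hie)
  obtain ⟨w1, s, hw, hs, hms⟩ := arith_suff i c d m (fixd - 1) cycd tdim r hi hc hm (by omega) hfe
    hidvd hit hir hT2 hT h1' h2'
  exact ⟨w1, s, by omega, hs, hms⟩

theorem o_arith_nec (i c d m t : ℕ) (hi : 1 ≤ i) (hc : c = if Even i then i else 2 * i)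
    (hm1 : 1 ≤ m) (hmd : m ≤ d)
    (hj : ∃ j, j < m ∧ i ∣ 2 * (d - j))
    (hmax : ∃ w1 s : ℕ, m = w1 + s * i ∧ 2 * w1 ≤ (2 * d + 1) % c)
    (hdist : Even i → 2 * m + i * min t ((2 * d + 1) / i) ≤ 2 * d + 1) :
    i ≤ m ∧ 2 * (m % i) < (2 * d + 1) % c ∧ (Odd i ∨ t + 2 * (m / i) ≤ (2 * d + 1) / i) := by
  obtain ⟨e, he, hce'⟩ := s5972arith_c i c hi hc
  obtain ⟨hmod, hmodeven⟩ := s5972arith_mod d e he
  have hmax' : ∃ w1 s : ℕ, m = w1 + s * i ∧ 2 * w1 ≤ (2 * d) % c := by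
    obtain ⟨w1, s, hms, hw⟩ := hmax
    refine ⟨w1, s, hms, ?_⟩
    rw [hce'] at hw ⊢
    obtain ⟨k, hk⟩ := hmodeven
    omega
  have hdist' : Even i → 2 * m + i * min t ((2 * d) / i) ≤ 2 * d := by
    intro hie
    have h := hdist hie
    obtain ⟨e', he'⟩ := hie
    have hi2 : i = 2 * e' := by omega
    rw [hi2, s5972arith_div] at h
    rw [hi2]
    have : 2 * e' * min t (2 * d / (2 * e')) = 2 * (e' * min t (2 * d / (2 * e'))) := by ring
    rw [this] at h ⊢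
    omega
  obtain ⟨h1, h2, h3⟩ := arith_nec i c d m t hi hc hm1 hmd hj hmax' hdist'
  refine ⟨h1, ?_, ?_⟩
  · rw [hce'] at h2 ⊢
    omega
  · rcases h3 with h | h
    · exact Or.inl h
    · by_cases hie : Even i
      · right
        obtain ⟨e', he'⟩ := hie
        have hi2 : i = 2 * e' := by omega
        rw [hi2] at h ⊢
        rw [s5972arith_div]
        exact h
      · exact Or.inl (Nat.not_even_iff_odd.mp hie)

end Cfsg.Agent.Lib.helper15.S5972
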