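import Mathlib
import Cfsg.Agent.Lib.Helper13.OTS.Defs

/-!
# Project OTS, row TSOFTI (`q_ts_of_ti`), verbatim from `Helper13/OTS/Skel.lean.txt`.
-/

set_option autoImplicit false
set_option linter.unusedVariables false
set_option linter.unusedSectionVars false

namespace Cfsg.Agent.Lib.Helper13.OTS

open Polynomial Module Cfsg.Agent.Lib.Helper13.S5955 Cfsg.Agent.Lib.helper15.S5972

/-- `Q` is additive on finite sums inside a totally isotropic subspace -/
theorem otstsofti_sum {F : Type*} [Field F] {V : Type*} [AddCommGroup V] [Module F V]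
    (Q : QuadraticForm F V) (T : Submodule F V) (hTi : STI (qB Q) T) {κ : Type*} (s : Finset κ)
    (w : κ → V) (hw : ∀ j ∈ s, w j ∈ T) : Q (∑ j ∈ s, w j) = ∑ j ∈ s, Q (w j) := by
  classical
  induction s using Finset.induction_on with
  | empty => simp
  | insert a s ha ih =>
    rw [Finset.sum_insert ha, Finset.sum_insert ha]
    have h1 : w a ∈ T := hw a (Finset.mem_insert_self a s)
    have h2 : ∑ j ∈ s, w j ∈ T := Submodule.sum_mem _ (fun j hj => hw j (Finset.mem_insert_of_mem hj))
    have h3 : Q (w a + ∑ j ∈ s, w j) = Q (w a) + Q (∑ j ∈ s, w j) + QuadraticMap.polar Q (w a) (∑ j ∈ s, w j) := by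
      unfold QuadraticMap.polar; ring
    have h4 : QuadraticMap.polar Q (w a) (∑ j ∈ s, w j) = 0 := hTi _ h1 _ h2
    rw [h3, h4, add_zero, ih (fun j hj => hw j (Finset.mem_insert_of_mem hj))]

/-- powers of an isometry preserve `Q` -/
theorem otstsofti_pow {F : Type*} [Field F] {V : Type*} [AddCommGroup V] [Module F V]
    (Q : QuadraticForm F V) (x : Module.End F V) (hx : ∀ v, Q (x v) = Q v) (j : ℕ) (v : V) :
    Q ((x ^ j) v) = Q v := by
  induction j with
  | zero => simp
  | succ j ih => rw [pow_succ', Module.End.mul_apply, hx, ih]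

/-- powers of `x` keep an invariant subspace -/
theorem otstsofti_pow_mem {F : Type*} [Field F] {V : Type*} [AddCommGroup V] [Module F V]
    (x : Module.End F V) (T : Submodule F V) (hT : SInv x T) (j : ℕ) (v : V) (hv : v ∈ T) :
    (x ^ j) v ∈ T := by
  induction j with
  | zero => simpa using hv
  | succ j ih => rw [pow_succ', Module.End.mul_apply]; exact hT _ ih

theorem q_ts_of_ti {F : Type*} [Field F] {p : ℕ} [Fact p.Prime] [CharP F p]
    {V : Type*} [AddCommGroup V] [Module F V] {r : ℕ} [Fact r.Prime] (hrp : r ≠ p)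
    {Q : QuadraticForm F V} {x : Module.End F V} (h : QCtx r Q x) (T : Submodule F V)
    (hTc : T ≤ cycS r x) (hT : SInv x T) (hTi : STI (qB Q) T) : QTS Q T := by
  intro v hv
  have hrF : (r : F) ≠ 0 := by
    intro h0
    rw [CharP.cast_eq_zero_iff F p] at h0
    exact hrp ((Nat.prime_dvd_prime_iff_eq (Fact.out : p.Prime) (Fact.out : r.Prime)).1 h0).symm
  have h1 : aeval x (cyclotomic r F) v = 0 := LinearMap.mem_ker.1 (hTc hv)
  rw [cyclotomic_prime, map_sum, LinearMap.sum_apply] at h1
  simp only [map_pow, aeval_X] at h1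
  have h2 := otstsofti_sum Q T hTi (Finset.range r) (fun j => (x ^ j) v)
    (fun j _ => otstsofti_pow_mem x T hT j v hv)
  rw [h1, map_zero] at h2
  simp only [otstsofti_pow Q x h.pres, Finset.sum_const, Finset.card_range, nsmul_eq_mul] at h2
  exact (mul_eq_zero.1 h2.symm).resolve_left hrF

end Cfsg.Agent.Lib.Helper13.OTS
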