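import Mathlib
import Cfsg.Agent.Lib.Helper19.U3P.Defs
import Cfsg.Agent.Lib.helper2.SLPM1
import Cfsg.Agent.Lib.Helper19.U3PBv

/-!
# U3P row B5 (helper15): `Z_central8`, verbatim.
-/

set_option autoImplicit false

namespace Cfsg.Agent.Lib.Helper19.U3P

open Cfsg.Agent.Lib.helper17.SLP Cfsg.Agent.Lib.helper14.SU3J Cfsg.Agent.Lib.Helper25.SU3P
open Polynomial Matrix

universe u v

section B

variable {K : Type u} [Field K] [Fintype K] {G : Type v} [Group G]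

/-- the core: from `B2 (1)` and the three commutation relations `c0 c1 c2`. -/
theorem u3pb5_core (bK : Kˣ)
    (hspan : ∀ t : K, ∃ e₀ e₁ e₂ : ℕ, t = e₀ + e₁ * (bK : K) + e₂ * (bK : K) ^ 2)
    (φ : SL2 K →* G) (u h : G)
    (H1 : ∀ (t : K) (i : ℤ), cj h (φ (xM t)) i = φ (xM (((bK ^ i : Kˣ) : K) * t)))
    (c0 : Commute (φ (xM 1)) u) (c1 : Commute (cj h (φ (xM 1)) 1) u)
    (c2 : Commute (cj h (φ (xM 1)) 2) u) :
    ∀ (t : K) (j : ℤ), Commute (φ (xM t)) (cj h u j) := by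
  have a1 : Commute (φ (xM ((bK : Kˣ) : K))) u := by
    have := c1
    rw [H1 1 1] at this
    simpa using this
  have a2 : Commute (φ (xM (((bK : Kˣ) : K) ^ 2))) u := by
    have := c2
    rw [H1 1 2] at this
    simpa using this
  have hu : ∀ t : K, Commute (φ (xM t)) u := by
    intro t
    obtain ⟨e₀, e₁, e₂, rfl⟩ := hspan t
    have hx : xM ((e₀ : K) + e₁ * (bK : K) + e₂ * (bK : K) ^ 2)
        = xM (1 : K) ^ e₀ * xM (bK : K) ^ e₁ * xM ((bK : K) ^ 2) ^ e₂ := by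
      rw [xM_pow, xM_pow, xM_pow, xM_mul, xM_mul, mul_one]
    rw [hx, map_mul, map_mul, map_pow, map_pow, map_pow]
    exact ((c0.pow_left e₀).mul_left (a1.pow_left e₁)).mul_left (a2.pow_left e₂)
  intro t j
  have hc := hu (((bK ^ (-j) : Kˣ) : K) * t)
  have h2 : cj h (φ (xM (((bK ^ (-j) : Kˣ) : K) * t))) j = φ (xM t) := by
    rw [H1]
    congr 2
    rw [← mul_assoc, ← Units.val_mul, ← _root_.zpow_add]
    simp
  rw [← h2]
  unfold cj
  have e : h ^ (-j) = (h ^ j)⁻¹ := _root_.zpow_neg h j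
  rw [e]
  exact (Commute.conj_iff (h ^ j)).2 hc

/-- B5 -/
theorem Z_central8 (hK : Fintype.card K = 8) (bK : Kˣ) (hbK : ∀ y : Kˣ, y ∈ Subgroup.zpowers bK)
    (hspan : ∀ t : K, ∃ e₀ e₁ e₂ : ℕ, t = e₀ + e₁ * (bK : K) + e₂ * (bK : K) ^ 2)
    (φ : SL2 K →* G) (u h w : G) (R : RelM 8 bK φ u h w) (C : ConstsB8 K) (hB : RelB8 φ u h C) :
    ∀ (t : K) (j : ℤ), Commute (φ (xM t)) (cj h u j) :=
  u3pb5_core bK hspan φ u h (relM_basic 8 (by norm_num) hK bK hbK φ u h w R).1 hB.c0 hB.c1 hB.c2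

end B

end Cfsg.Agent.Lib.Helper19.U3P
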