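import Mathlib
import Cfsg.Agent.Lib.helper17.SLP.Defs

/-!
# Project SLP (S2286, designer helper17), row F2A (`two_squares`), verbatim.
-/

set_option autoImplicit false

namespace Cfsg.Agent.Lib.helper17.SLP

open Polynomial

universe u v

/-- in a finite group generated by `ζ`, every element is a natural power of `ζ`. -/
theorem slpf2a_pow {G : Type*} [Group G] [Finite G] (ζ : G) (hζ : ∀ y : G, y ∈ Subgroup.zpowers ζ)
    (y : G) : ∃ i : ℕ, ζ ^ i = y := by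
  have h := (mem_powers_iff_mem_zpowers (x := ζ) (y := y)).mpr (hζ y)
  exact (Submonoid.mem_powers_iff y ζ).mp h

/-- F2A [S-M]. -/
theorem two_squares {F : Type*} [Field F] [Fintype F] (h2 : (2 : F) ≠ 0) (hq : 5 < Fintype.card F)
    (ζ : Fˣ) (hζ : ∀ y : Fˣ, y ∈ Subgroup.zpowers ζ) :
    ∃ k l : ℕ, ((ζ : F) ^ 2) ^ k = ((ζ : F) ^ 2) ^ l + 1 ∧
      ((ζ : F) ^ 2) ^ l = (((ζ : F) - (ζ : F)⁻¹) / 2) ^ 2 := by
  classical
  have hz : (ζ : F) ≠ 0 := ζ.ne_zero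
  have hzi : (ζ : F) * (ζ : F)⁻¹ = 1 := mul_inv_cancel₀ hz
  have hz4 : (ζ : F) ^ 4 ≠ 1 := by
    intro h
    have h' : ζ ^ 4 = 1 := Units.ext (by push_cast; exact h)
    have hd := orderOf_dvd_of_pow_eq_one h'
    have ho : orderOf ζ = Fintype.card F - 1 := by
      rw [orderOf_eq_card_of_forall_mem_zpowers hζ, Nat.card_eq_fintype_card, Fintype.card_units]
    rw [ho] at hd
    have := Nat.le_of_dvd (by norm_num) hd
    omega
  have ha : ((ζ : F) - (ζ : F)⁻¹) / 2 ≠ 0 := by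
    intro h
    apply hz4
    have h1 : (ζ : F) - (ζ : F)⁻¹ = 0 := by
      rcases div_eq_zero_iff.mp h with h | h
      · exact h
      · exact absurd h h2
    have h2' : (ζ : F) ^ 2 = 1 := by linear_combination (ζ : F) * h1 + hzi
    calc (ζ : F) ^ 4 = ((ζ : F) ^ 2) ^ 2 := by ring
      _ = 1 := by rw [h2']; ring
  have hb : ((ζ : F) + (ζ : F)⁻¹) / 2 ≠ 0 := by
    intro h
    apply hz4
    have h1 : (ζ : F) + (ζ : F)⁻¹ = 0 := by
      rcases div_eq_zero_iff.mp h with h | h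
      · exact h
      · exact absurd h h2
    have h2' : (ζ : F) ^ 2 = -1 := by linear_combination (ζ : F) * h1 - hzi
    calc (ζ : F) ^ 4 = ((ζ : F) ^ 2) ^ 2 := by ring
      _ = 1 := by rw [h2']; ring
  obtain ⟨i, hi⟩ := slpf2a_pow ζ hζ (Units.mk0 _ ha)
  obtain ⟨j, hj⟩ := slpf2a_pow ζ hζ (Units.mk0 _ hb)
  have hi' : (ζ : F) ^ i = ((ζ : F) - (ζ : F)⁻¹) / 2 := by
    have := congrArg (fun y : Fˣ => (y : F)) hi
    simpa using this
  have hj' : (ζ : F) ^ j = ((ζ : F) + (ζ : F)⁻¹) / 2 := by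
    have := congrArg (fun y : Fˣ => (y : F)) hj
    simpa using this
  have hab : (((ζ : F) + (ζ : F)⁻¹) / 2) ^ 2 = (((ζ : F) - (ζ : F)⁻¹) / 2) ^ 2 + 1 := by
    field_simp
    ring
  refine ⟨j, i, ?_, ?_⟩
  · rw [← pow_mul, ← pow_mul, mul_comm 2 j, mul_comm 2 i, pow_mul, pow_mul, hi', hj', hab]
  · rw [← pow_mul, mul_comm 2 i, pow_mul, hi']

end Cfsg.Agent.Lib.helper17.SLP
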