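import Mathlib
import Cfsg.Agent.Lib.helper17.SLP.Defs
import Cfsg.Agent.Lib.helper3.SP4.Defs
import Cfsg.Prelude.Def_Classical

/-!
# Project SP4 (S2293, designer helper3), row H6 (`sl_hom`), core: the statements of H4 (`sl_hom_odd`) and
H5 (`sl_hom_two`) at `F` are hypotheses.
-/

set_option autoImplicit false

namespace Cfsg.Agent.Lib.helper3.SP4

open Cfsg.Agent.Lib.helper17.SLP

universe u v

/-- core of H6: `by_cases (2 : F) = 0` on the statements of H4 and H5 -/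
theorem sp4h6_core {F : Type u} [Field F] [Fintype F] (ζ : Fˣ) (hζ : ∀ y : Fˣ, y ∈ Subgroup.zpowers ζ)
    (hOdd : (2 : F) ≠ 0 →
      ∃ (L : List (FreeGroup (Fin 3))) (az : FreeGroup (Fin 3)), L.length ≤ 9 ∧
      (∀ r ∈ L, ev (xM (1 : F)) (hM ζ) wM r = 1) ∧ ev (xM (1 : F)) (hM ζ) wM az = xM (ζ : F) ∧
      ∀ (G : Type) [Group G] (u h w : G), (∀ r ∈ L, ev u h w r = 1) →
        ∃ φ : Matrix.SpecialLinearGroup (Fin 2) F →* G, φ (xM 1) = u ∧ φ (hM ζ) = h ∧ φ wM = w)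
    (hTwo : (2 : F) = 0 →
      ∃ (L : List (FreeGroup (Fin 3))) (az : FreeGroup (Fin 3)), L.length ≤ 5 ∧
      (∀ r ∈ L, ev (xM (1 : F)) (hM ζ) wM r = 1) ∧ ev (xM (1 : F)) (hM ζ) wM az = xM (ζ : F) ∧
      ∀ (G : Type) [Group G] (u h w : G), (∀ r ∈ L, ev u h w r = 1) →
        ∃ φ : Matrix.SpecialLinearGroup (Fin 2) F →* G, φ (xM 1) = u ∧ φ (hM ζ) = h ∧ φ wM = w) :
    ∃ (L : List (FreeGroup (Fin 3))) (az : FreeGroup (Fin 3)), L.length ≤ 9 ∧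
      ((2 : F) = 0 → L.length ≤ 5) ∧
      (∀ r ∈ L, ev (xM (1 : F)) (hM ζ) wM r = 1) ∧ ev (xM (1 : F)) (hM ζ) wM az = xM (ζ : F) ∧
      ∀ (G : Type) [Group G] (u h w : G), (∀ r ∈ L, ev u h w r = 1) →
        ∃ φ : Matrix.SpecialLinearGroup (Fin 2) F →* G, φ (xM 1) = u ∧ φ (hM ζ) = h ∧ φ wM = w := by
  by_cases h2 : (2 : F) = 0
  · obtain ⟨L, az, hlen, hrel, haz, hφ⟩ := hTwo h2
    exact ⟨L, az, le_trans hlen (by norm_num), fun _ => hlen, hrel, haz, hφ⟩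
  · obtain ⟨L, az, hlen, hrel, haz, hφ⟩ := hOdd h2
    exact ⟨L, az, hlen, fun h => absurd h h2, hrel, haz, hφ⟩

end Cfsg.Agent.Lib.helper3.SP4
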