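import Mathlib
import Cfsg.Agent.Lib.helper17.SLP.Defs
import Cfsg.Agent.Lib.helper3.SP4.Defs
import Cfsg.Prelude.Def_Classical
import Cfsg.Agent.Lib.helper15.SP4H6core
import Cfsg.Agent.Lib.Helper27.SP4H4
import Cfsg.Agent.Lib.Helper27.SP4H5

/-!
# Project SP4 (S2293, designer helper3), row H6 (`sl_hom`), verbatim wrapper of `sp4h6_core`.
-/

set_option autoImplicit false

namespace Cfsg.Agent.Lib.helper3.SP4

open Cfsg.Agent.Lib.helper17.SLP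

universe u v

/-- H6 [S]  deps H4 H5 (`by_cases (2 : F) = 0`). -/
theorem sl_hom {F : Type u} [Field F] [Fintype F] (ζ : Fˣ) (hζ : ∀ y : Fˣ, y ∈ Subgroup.zpowers ζ) :
    ∃ (L : List (FreeGroup (Fin 3))) (az : FreeGroup (Fin 3)), L.length ≤ 9 ∧
      ((2 : F) = 0 → L.length ≤ 5) ∧
      (∀ r ∈ L, ev (xM (1 : F)) (hM ζ) wM r = 1) ∧ ev (xM (1 : F)) (hM ζ) wM az = xM (ζ : F) ∧
      ∀ (G : Type) [Group G] (u h w : G), (∀ r ∈ L, ev u h w r = 1) →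
        ∃ φ : Matrix.SpecialLinearGroup (Fin 2) F →* G, φ (xM 1) = u ∧ φ (hM ζ) = h ∧ φ wM = w :=
  sp4h6_core ζ hζ (fun h2 => sl_hom_odd h2 ζ hζ) (fun h2 => sl_hom_two h2 ζ hζ)

end Cfsg.Agent.Lib.helper3.SP4
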