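import Mathlib
import Cfsg.Agent.Lib.helper15.S5972.Defs
import Cfsg.Agent.Lib.Lead.OrthOdd

/-!
# Project S5972, row PERPCOUNT : `ts_perp_count` (verbatim).
Uses the hyperbolic frame counting library of the lead (`Lead/FrameCount`, `Lead/OrthGen`, `Lead/OrthOdd`).
-/

set_option autoImplicit false
set_option linter.unusedVariables false
set_option linter.unusedSectionVars false

namespace Cfsg.Agent.Lib.helper15.S5972

open Polynomial Module Cfsg.Agent.Lib.Helper13.S5955 Cfsg.Agent.Lib.Lead Cfsg.Agent.Lib.Lead.OG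

/-- `stdO` is the lead's `polarO` -/
theorem s5972perp_stdO_eq {F : Type*} [Field F] (h2 : (2 : F) ≠ 0) (d : ℕ) (u v : OI d → F) :
    stdO d F u v = polarO F d u v := by
  rw [stdO_apply, (isQP_odd (m := d) (F := F) h2).polar_eq_sub]

/-- the `e`-part of a hyperbolic frame is linearly independent -/
theorem s5972perp_li {F : Type*} [Field F] {κ : Type*} [Fintype κ] [DecidableEq κ] {j : ℕ}
    (B : LinearMap.BilinForm F (κ → F)) (e h : Fin j → (κ → F)) (hf : IsHFrame B 1 e h) :
    LinearIndependent F e := by
  classical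
  rw [Fintype.linearIndependent_iff]
  intro c hc b
  have h1 := congrArg (fun x => B x (h b)) hc
  simp only [map_sum, LinearMap.sum_apply, map_smul, LinearMap.smul_apply, hf.eh, smul_eq_mul,
    mul_ite, mul_one, mul_zero, Finset.sum_ite_eq', Finset.mem_univ, if_true, map_zero,
    LinearMap.zero_apply] at h1
  exact h1

/-- a hyperbolic frame of length `k ≤ j` inside a totally singular `j`-space -/
theorem s5972perp_frame_le {F : Type*} [Field F] [Fintype F] (h2 : (2 : F) ≠ 0) (d j : ℕ) (hj : j ≤ d)
    (W : Submodule F (OI d → F)) (hW : finrank F W = j)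
    (hWs : ∀ w ∈ W, Cfsg.quadFormOdd d F w = 0) :
    ∀ k : ℕ, k ≤ j → ∃ e h : Fin k → (OI d → F), IsHFrame (polarO F d) 1 e h ∧
      (∀ a, Cfsg.quadFormOdd d F (e a) = 0) ∧ (∀ a, Cfsg.quadFormOdd d F (h a) = 0) ∧
      Submodule.span F (Set.range e) ≤ W := by
  classical
  have hQP := isQP_odd (m := d) (F := F) h2
  have hWti : ∀ u ∈ W, ∀ v ∈ W, polarO F d u v = 0 := by
    intro u hu v hv
    rw [hQP.polar_eq_sub, hWs u hu, hWs v hv, hWs _ (W.add_mem hu hv)]
    ring
  intro k
  induction k with
  | zero =>
    intro _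
    refine ⟨Fin.elim0, Fin.elim0, ⟨fun a => a.elim0, fun a => a.elim0, fun a => a.elim0⟩,
      fun a => a.elim0, fun a => a.elim0, ?_⟩
    rw [Submodule.span_le]
    rintro _ ⟨a, _⟩
    exact a.elim0
  | succ k ih =>
    intro hk
    obtain ⟨e, h, hf, he, hh, hspan⟩ := ih (by omega)
    have hli := s5972perp_li (polarO F d) e h hf
    have hfr : finrank F (Submodule.span F (Set.range e)) = k := by
      rw [finrank_span_eq_card hli, Fintype.card_fin]
    have hlt : Submodule.span F (Set.range e) < W := by
      refine lt_of_le_of_ne hspan ?_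
      intro heq
      rw [heq, hW] at hfr
      omega
    obtain ⟨e₀, he₀W, he₀⟩ := SetLike.exists_of_lt hlt
    -- make it orthogonal to the `h`'s
    set u : OI d → F := e₀ - ∑ a, polarO F d e₀ (h a) • e a with hu
    have hsumW : ∑ a, polarO F d e₀ (h a) • e a ∈ Submodule.span F (Set.range e) :=
      Submodule.sum_mem _ (fun a _ => Submodule.smul_mem _ _ (Submodule.subset_span ⟨a, rfl⟩))
    have huW : u ∈ W := W.sub_mem he₀W (hspan hsumW)
    have hu0 : u ≠ 0 := by
      intro h0
      apply he₀
      have : e₀ = ∑ a, polarO F d e₀ (h a) • e a := sub_eq_zero.mp h0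
      rw [this]
      exact hsumW
    have hQu : Cfsg.quadFormOdd d F u = 0 := hWs u huW
    have hue : ∀ b, polarO F d u (e b) = 0 :=
      fun b => hWti u huW (e b) (hspan (Submodule.subset_span ⟨b, rfl⟩))
    have huh : ∀ b, polarO F d u (h b) = 0 := by
      intro b
      rw [hu, map_sub, LinearMap.sub_apply, map_sum, LinearMap.sum_apply]
      simp only [map_smul, LinearMap.smul_apply, hf.eh, smul_eq_mul, mul_ite, mul_one, mul_zero,
        Finset.sum_ite_eq', Finset.mem_univ, if_true, sub_self]
    have hbu : bmap (polarO F d) e h u = 0 := by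
      rw [bmap_eq_zero_iff]
      exact ⟨hue, huh⟩
    -- a partner
    have hcard := card_partner_odd (F := F) h2 e h hf (by omega) u hbu hu0 hQu
    have hpos : 0 < (Finset.univ.filter (fun w : OI d → F => bmap (polarO F d) e h w = 0 ∧
        polarO F d u w = 1 ∧ Cfsg.quadFormOdd d F w = 0)).card := by
      rw [hcard]
      exact pow_pos Fintype.card_pos _
    obtain ⟨w, hw⟩ := Finset.card_pos.mp hpos
    simp only [Finset.mem_filter, Finset.mem_univ, true_and] at hw
    obtain ⟨hbw, huw, hQw⟩ := hw
    rw [bmap_eq_zero_iff] at hbw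
    obtain ⟨hwe, hwh⟩ := hbw
    have hsym : ∀ x y, polarO F d x y = polarO F d y x := by
      intro x y
      rw [hQP.symm y x, one_mul]
    have huu : polarO F d u u = 0 := by rw [hQP.self, hQu, add_zero]
    have hww : polarO F d w w = 0 := by rw [hQP.self, hQw, add_zero]
    refine ⟨Fin.cons u e, Fin.cons w h, ⟨?_, ?_, ?_⟩, ?_, ?_, ?_⟩
    · intro a b
      refine Fin.cases ?_ (fun a => ?_) a <;> refine Fin.cases ?_ (fun b => ?_) b
      · simp only [Fin.cons_zero]; exact huu
      · simp only [Fin.cons_zero, Fin.cons_succ]; exact hue b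
      · simp only [Fin.cons_zero, Fin.cons_succ]; rw [hsym]; exact hue a
      · simp only [Fin.cons_succ]; exact hf.ee a b
    · intro a b
      refine Fin.cases ?_ (fun a => ?_) a <;> refine Fin.cases ?_ (fun b => ?_) b
      · simp only [Fin.cons_zero]; exact hww
      · simp only [Fin.cons_zero, Fin.cons_succ]; exact hwh b
      · simp only [Fin.cons_zero, Fin.cons_succ]; rw [hsym]; exact hwh a
      · simp only [Fin.cons_succ]; exact hf.hh a b
    · intro a b
      refine Fin.cases ?_ (fun a => ?_) a <;> refine Fin.cases ?_ (fun b => ?_) b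
      · simp only [Fin.cons_zero, if_true]; exact huw
      · simp only [Fin.cons_zero, Fin.cons_succ]
        rw [if_neg (Fin.succ_ne_zero b).symm]; exact huh b
      · simp only [Fin.cons_zero, Fin.cons_succ]
        rw [if_neg (Fin.succ_ne_zero a)]; rw [hsym]; exact hwe a
      · simp only [Fin.cons_succ, Fin.succ_inj]; exact hf.eh a b
    · intro a
      refine Fin.cases ?_ (fun a => ?_) a
      · simp only [Fin.cons_zero]; exact hQu
      · simp only [Fin.cons_succ]; exact he a
    · intro a
      refine Fin.cases ?_ (fun a => ?_) a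
      · simp only [Fin.cons_zero]; exact hQw
      · simp only [Fin.cons_succ]; exact hh a
    · rw [Submodule.span_le]
      rintro _ ⟨a, rfl⟩
      refine Fin.cases ?_ (fun a => ?_) a
      · simp only [Fin.cons_zero]; exact huW
      · simp only [Fin.cons_succ]; exact hspan (Submodule.subset_span ⟨a, rfl⟩)

/-- a hyperbolic frame whose `e`-part spans a given totally singular `j`-space -/
theorem s5972perp_frame {F : Type*} [Field F] [Fintype F] (h2 : (2 : F) ≠ 0) (d j : ℕ) (hj : j ≤ d)
    (W : Submodule F (OI d → F)) (hW : finrank F W = j)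
    (hWs : ∀ w ∈ W, Cfsg.quadFormOdd d F w = 0) :
    ∃ e h : Fin j → (OI d → F), IsHFrame (polarO F d) 1 e h ∧
      (∀ a, Cfsg.quadFormOdd d F (e a) = 0) ∧ (∀ a, Cfsg.quadFormOdd d F (h a) = 0) ∧
      Submodule.span F (Set.range e) = W := by
  obtain ⟨e, h, hf, he, hh, hspan⟩ := s5972perp_frame_le h2 d j hj W hW hWs j le_rfl
  refine ⟨e, h, hf, he, hh, ?_⟩
  apply Submodule.eq_of_le_of_finrank_eq hspan
  rw [finrank_span_eq_card (s5972perp_li (polarO F d) e h hf), Fintype.card_fin, hW]

/-- the count in terms of a frame -/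
theorem s5972perp_count_frame {F : Type*} [Field F] [Fintype F] [DecidableEq F] (h2 : (2 : F) ≠ 0)
    (d j : ℕ) (hj : j ≤ d) (e h : Fin j → (OI d → F)) (hf : IsHFrame (polarO F d) 1 e h)
    (he : ∀ a, Cfsg.quadFormOdd d F (e a) = 0) (hh : ∀ a, Cfsg.quadFormOdd d F (h a) = 0) :
    (Finset.univ.filter (fun v : OI d → F => Cfsg.quadFormOdd d F v = 0 ∧
      ∀ a, polarO F d v (e a) = 0)).card = Fintype.card F ^ (2 * d - j) := by
  classical
  have hQP := isQP_odd (m := d) (F := F) h2
  rw [Finset.card_eq_sum_card_fiberwise (f := bmap (polarO F d) e h) (t := Finset.univ)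
    (fun a _ => Finset.mem_univ _)]
  have hfib : ∀ x : (Fin j → F) × (Fin j → F),
      ((Finset.univ.filter (fun v : OI d → F => Cfsg.quadFormOdd d F v = 0 ∧
        ∀ a, polarO F d v (e a) = 0)).filter (fun v => bmap (polarO F d) e h v = x)).card =
      if x.1 = 0 then Fintype.card F ^ (2 * (d - j)) else 0 := by
    intro x
    by_cases hx : x.1 = 0
    · rw [if_pos hx, ← NWo_zero (F := F) h2 e h hf he hh hj, NW]
      have hb : bmap (polarO F d) e h (comb e h x.2 x.1) = x := by
        rw [bmap_comb (polarO F d) 1 1 hQP.symm e h hf]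
        simp
      refine Finset.card_bij (fun v _ => v - comb e h x.2 x.1) ?_ ?_ ?_
      · intro v hv
        simp only [Finset.mem_filter, Finset.mem_univ, true_and] at hv ⊢
        obtain ⟨⟨h1, _⟩, h3⟩ := hv
        have hw : bmap (polarO F d) e h (v - comb e h x.2 x.1) = 0 := by
          rw [map_sub, hb, h3, sub_self]
        refine ⟨hw, ?_⟩
        have hs : ∑ a, x.2 a * x.1 a = 0 := by rw [hx]; simp
        have := Q_add_comb hQP e h hf he hh _ hw x.2 x.1
        rw [sub_add_cancel, h1, hs, add_zero] at this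
        exact this.symm
      · intro v _ v' _ h
        exact sub_left_injective h
      · intro w hw
        simp only [Finset.mem_filter, Finset.mem_univ, true_and] at hw
        obtain ⟨h1, h3⟩ := hw
        refine ⟨w + comb e h x.2 x.1, ?_, by simp⟩
        simp only [Finset.mem_filter, Finset.mem_univ, true_and]
        have hbm : bmap (polarO F d) e h (w + comb e h x.2 x.1) = x := by
          rw [map_add, h1, hb, zero_add]
        refine ⟨⟨?_, ?_⟩, hbm⟩
        · have hs : ∑ a, x.2 a * x.1 a = 0 := by rw [hx]; simp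
          rw [Q_add_comb hQP e h hf he hh _ h1, h3, hs, add_zero]
        · intro a
          have := congrArg Prod.fst hbm
          rw [bmap_apply] at this
          have h4 := congrFun this a
          have h5 : x.1 a = 0 := by rw [hx]; rfl
          rw [h5] at h4
          exact h4
    · rw [if_neg hx]
      rw [Finset.card_eq_zero, Finset.filter_eq_empty_iff]
      intro v hv hbv
      simp only [Finset.mem_filter, Finset.mem_univ, true_and] at hv
      apply hx
      rw [← hbv, bmap_apply]
      funext a
      exact hv.2 a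
  rw [Finset.sum_congr rfl (fun x _ => hfib x)]
  rw [← Finset.sum_filter, Finset.sum_const, smul_eq_mul]
  have hcard : (Finset.univ.filter (fun x : (Fin j → F) × (Fin j → F) => x.1 = 0)).card =
      Fintype.card F ^ j := by
    have : (Finset.univ.filter (fun x : (Fin j → F) × (Fin j → F) => x.1 = 0)) =
        (Finset.univ : Finset (Fin j → F)).image (fun b => ((0 : Fin j → F), b)) := by
      ext x
      simp only [Finset.mem_filter, Finset.mem_univ, true_and, Finset.mem_image]
      constructor
      · intro hx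
        exact ⟨x.2, Prod.ext hx.symm rfl⟩
      · rintro ⟨b, rfl⟩
        rfl
    rw [this, Finset.card_image_of_injective _ (fun a b hab => (Prod.ext_iff.mp hab).2),
      Finset.card_univ, Fintype.card_fun, Fintype.card_fin]
  rw [hcard, ← pow_add]
  congr 1
  omega

theorem ts_perp_count {F : Type*} [Field F] [Fintype F] (hodd : Odd (Fintype.card F)) (d j : ℕ)
    (hj : j ≤ d) (W : Submodule F (Unit ⊕ (Fin d ⊕ Fin d) → F)) (hW : Module.finrank F ↥W = j)
    (hWs : ∀ w ∈ W, Cfsg.quadFormOdd d F w = 0) :
    Nat.card {v : Unit ⊕ (Fin d ⊕ Fin d) → F //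
      Cfsg.quadFormOdd d F v = 0 ∧ ∀ w ∈ W, stdO d F w v = 0} = Fintype.card F ^ (2 * d - j) := by
  classical
  have h2 : (2 : F) ≠ 0 := by
    intro h0
    have hchar : ringChar F = 2 := by
      have : CharP F 2 := CharTwo.of_one_ne_zero_of_two_eq_zero one_ne_zero h0
      exact ringChar.eq F 2
    have := FiniteField.even_card_of_char_two hchar
    obtain ⟨k, hk⟩ := hodd
    omega
  have hQP := isQP_odd (m := d) (F := F) h2
  obtain ⟨e, h, hf, he, hh, hspan⟩ := s5972perp_frame h2 d j hj W hW hWs
  rw [← s5972perp_count_frame h2 d j hj e h hf he hh, Nat.card_eq_fintype_card,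
    Fintype.card_subtype]
  congr 1
  ext v
  simp only [Finset.mem_filter, Finset.mem_univ, true_and]
  constructor
  · rintro ⟨h1, h3⟩
    refine ⟨h1, fun a => ?_⟩
    have := h3 (e a) (by rw [← hspan]; exact Submodule.subset_span ⟨a, rfl⟩)
    rw [s5972perp_stdO_eq h2] at this
    rw [hQP.symm (e a) v, one_mul]
    exact this
  · rintro ⟨h1, h3⟩
    refine ⟨h1, fun w hw => ?_⟩
    rw [s5972perp_stdO_eq h2]
    rw [← hspan] at hw
    induction hw using Submodule.span_induction with
    | mem w hw' =>
      obtain ⟨a, rfl⟩ := hw'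
      rw [← one_mul (polarO F d (e a) v), ← hQP.symm (e a) v]
      exact h3 a
    | zero => simp
    | add w₁ w₂ _ _ h₁ h₂ => rw [map_add, LinearMap.add_apply, h₁, h₂, add_zero]
    | smul c w₁ _ h₁ => rw [map_smul, LinearMap.smul_apply, h₁, smul_zero]

end Cfsg.Agent.Lib.helper15.S5972
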