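import Mathlib
import Cfsg.Agent.Lib.helper15.S5972.Defs
import Cfsg.Agent.Lib.helper6.Disc

/-!
# Project S5972, row TISUB : `o_ti_sub` (verbatim): Witt index over a finite field of odd characteristic.
-/

set_option autoImplicit false
set_option linter.unusedVariables false
set_option linter.unusedSectionVars false

namespace Cfsg.Agent.Lib.helper15.S5972

open Polynomial Module Cfsg.Agent.Lib.Helper13.S5955 Cfsg.Agent.Lib.helper6

universe u v

/-- half hyperbolic frames: `j` pairwise orthogonal isotropic vectors with dual partners, in a non-degenerate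
symmetric space of dimension `≥ 2j + 1` over a finite field, `2 ≠ 0` -/
theorem s5972tisub_frame {F : Type u} [Field F] [Fintype F] (h2 : (2 : F) ≠ 0) :
    ∀ (j : ℕ) (V : Type v) [AddCommGroup V] [Module F V] [FiniteDimensional F V]
      (B : LinearMap.BilinForm F V), B.IsSymm → B.Nondegenerate → 2 * j + 1 ≤ finrank F V →
      ∃ (e h : Fin j → V), (∀ a b, B (e a) (e b) = 0) ∧
        (∀ a b, B (e a) (h b) = if a = b then 1 else 0) := by
  intro j
  induction j with
  | zero =>
    intro V _ _ _ B hS hB hV
    exact ⟨Fin.elim0, Fin.elim0, fun a => a.elim0, fun a => a.elim0⟩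
  | succ m ih =>
    intro V _ _ _ B hS hB hV
    obtain ⟨x, hx0, hxx⟩ := Disc.exists_isotropic_of_three_le h2 B hS hB (by omega)
    obtain ⟨y, hyy, hxy⟩ := Disc.exists_partner h2 B hS hB x hx0 hxx
    have hyx : B y x = 1 := by rw [hS.eq]; exact hxy
    obtain ⟨π, hπ⟩ : ∃ π : V →ₗ[F] F × F, π = (B x).prod (B y) := ⟨_, rfl⟩
    obtain ⟨W, hW⟩ : ∃ W : Submodule F V, W = LinearMap.ker π := ⟨_, rfl⟩
    have hmemW : ∀ v, v ∈ W ↔ B x v = 0 ∧ B y v = 0 := by
      intro v
      rw [hW, LinearMap.mem_ker, hπ]
      show (B x v, B y v) = 0 ↔ _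
      rw [Prod.mk_eq_zero]
    have hsurj : LinearMap.range π = ⊤ := by
      rw [LinearMap.range_eq_top]
      rintro ⟨a, b⟩
      refine ⟨a • y + b • x, ?_⟩
      rw [hπ]
      show (B x (a • y + b • x), B y (a • y + b • x)) = (a, b)
      simp only [map_add, map_smul, smul_eq_mul, hxx, hxy, hyx, hyy, mul_zero, mul_one, add_zero,
        zero_add]
    have hdim : finrank F W + 2 = finrank F V := by
      have h1 := LinearMap.finrank_range_add_finrank_ker π
      rw [hsurj, finrank_top, Module.finrank_prod, Module.finrank_self, ← hW] at h1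
      omega
    have hproj : ∀ v, v - B y v • x - B x v • y ∈ W := by
      intro v
      rw [hmemW]
      constructor
      · simp only [map_sub, map_smul, smul_eq_mul, hxx, hxy, mul_zero, mul_one, sub_zero, sub_self]
      · simp only [map_sub, map_smul, smul_eq_mul, hyx, hyy, mul_zero, mul_one, sub_zero, sub_self]
    have hBW : (B.restrict W).Nondegenerate := by
      refine ((hS.restrict W).isRefl.nondegenerate_iff_separatingLeft).mpr ?_
      intro w hw
      apply Subtype.ext
      apply hB.1
      intro v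
      have h1 : B (w : V) (v - B y v • x - B x v • y) = 0 := hw ⟨_, hproj v⟩
      have hwx : B (w : V) x = 0 := by rw [hS.eq]; exact ((hmemW _).mp w.2).1
      have hwy : B (w : V) y = 0 := by rw [hS.eq]; exact ((hmemW _).mp w.2).2
      simp only [map_sub, map_smul, smul_eq_mul, hwx, hwy, mul_zero, sub_zero] at h1
      exact h1
    obtain ⟨e', h', hee, heh⟩ := ih W (B.restrict W) (hS.restrict W) hBW (by omega)
    have hee' : ∀ a b, B (e' a : V) (e' b : V) = 0 := hee
    have heh' : ∀ a b, B (e' a : V) (h' b : V) = if a = b then 1 else 0 := heh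
    have hxW : ∀ v : W, B x (v : V) = 0 := fun v => ((hmemW _).mp v.2).1
    have hyW : ∀ v : W, B y (v : V) = 0 := fun v => ((hmemW _).mp v.2).2
    have hWx : ∀ v : W, B (v : V) x = 0 := fun v => by rw [hS.eq]; exact hxW v
    have hWy : ∀ v : W, B (v : V) y = 0 := fun v => by rw [hS.eq]; exact hyW v
    refine ⟨Fin.cons x (fun a => (e' a : V)), Fin.cons y (fun a => (h' a : V)), ?_, ?_⟩
    · intro a b
      refine Fin.cases ?_ (fun a => ?_) a <;> refine Fin.cases ?_ (fun b => ?_) b
      · simp only [Fin.cons_zero]; exact hxx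
      · simp only [Fin.cons_zero, Fin.cons_succ]; exact hxW _
      · simp only [Fin.cons_zero, Fin.cons_succ]; exact hWx _
      · simp only [Fin.cons_succ]; exact hee' a b
    · intro a b
      refine Fin.cases ?_ (fun a => ?_) a <;> refine Fin.cases ?_ (fun b => ?_) b
      · simp only [Fin.cons_zero, if_true]; exact hxy
      · simp only [Fin.cons_zero, Fin.cons_succ]
        rw [if_neg (Fin.succ_ne_zero b).symm]; exact hxW _
      · simp only [Fin.cons_zero, Fin.cons_succ]
        rw [if_neg (Fin.succ_ne_zero a)]; exact hWy _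
      · simp only [Fin.cons_succ, Fin.succ_inj]; exact heh' a b

/-- the whole-space version -/
theorem s5972tisub_whole {F : Type u} [Field F] [Fintype F] (h2 : (2 : F) ≠ 0)
    {V : Type v} [AddCommGroup V] [Module F V] [FiniteDimensional F V]
    (B : LinearMap.BilinForm F V) (hS : B.IsSymm) (hB : B.Nondegenerate) (j : ℕ)
    (hj : 2 * j + 1 ≤ finrank F V) :
    ∃ T : Submodule F V, STI B T ∧ finrank F T = j := by
  classical
  obtain ⟨e, h, hee, heh⟩ := s5972tisub_frame h2 j V B hS hB hj
  have hli : LinearIndependent F e := by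
    rw [Fintype.linearIndependent_iff]
    intro c hc b
    have h1 := congrArg (fun x => B x (h b)) hc
    simp only [map_sum, LinearMap.sum_apply, map_smul, LinearMap.smul_apply, heh, smul_eq_mul,
      mul_ite, mul_one, mul_zero, Finset.sum_ite_eq', Finset.mem_univ, if_true, map_zero,
      LinearMap.zero_apply] at h1
    exact h1
  refine ⟨Submodule.span F (Set.range e), ?_, ?_⟩
  · intro u hu v hv
    induction hu using Submodule.span_induction with
    | mem u hu' =>
      obtain ⟨a, rfl⟩ := hu'
      induction hv using Submodule.span_induction with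
      | mem v hv' =>
        obtain ⟨b, rfl⟩ := hv'
        exact hee a b
      | zero => simp
      | add v₁ v₂ _ _ h₁ h₂ => rw [map_add, h₁, h₂, add_zero]
      | smul c v₁ _ h₁ => rw [map_smul, h₁, smul_zero]
    | zero => simp
    | add u₁ u₂ _ _ h₁ h₂ => rw [map_add, LinearMap.add_apply, h₁, h₂, add_zero]
    | smul c u₁ _ h₁ => rw [map_smul, LinearMap.smul_apply, h₁, smul_zero]
  · rw [finrank_span_eq_card hli, Fintype.card_fin]

theorem o_ti_sub {F : Type*} [Field F] [Fintype F] (h2 : (2 : F) ≠ 0)
    {V : Type*} [AddCommGroup V] [Module F V] [FiniteDimensional F V]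
    (B : LinearMap.BilinForm F V) (hsymm : ∀ u v, B u v = B v u)
    (N : Submodule F V) (hN : SND B N) (j : ℕ) (hj : 2 * j + 1 ≤ finrank F N) :
    ∃ T : Submodule F V, T ≤ N ∧ STI B T ∧ finrank F T = j := by
  have hS : B.IsSymm := ⟨fun u v => hsymm u v⟩
  have hSN : (B.restrict N).IsSymm := hS.restrict N
  have hBN : (B.restrict N).Nondegenerate := by
    refine (hSN.isRefl.nondegenerate_iff_separatingLeft).mpr ?_
    intro w hw
    apply Subtype.ext
    apply hN w.1 w.2
    intro v hv
    exact hw ⟨v, hv⟩
  obtain ⟨T', hT', hTd⟩ := s5972tisub_whole h2 (B.restrict N) hSN hBN j hj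
  refine ⟨T'.map N.subtype, ?_, ?_, ?_⟩
  · rintro _ ⟨w, _, rfl⟩
    exact w.2
  · rintro _ ⟨u, hu, rfl⟩ _ ⟨v, hv, rfl⟩
    exact hT' u hu v hv
  · rw [← hTd]
    exact (Submodule.equivMapOfInjective N.subtype N.injective_subtype T').finrank_eq.symm

end Cfsg.Agent.Lib.helper15.S5972
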