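import Mathlib
import Cfsg.Agent.S0269

set_option autoImplicit false

namespace Cfsg.Agent.Lib.helper15.SpGen

open Matrix Cfsg.Agent.Lib.helper6 Cfsg.Agent.S0269

variable {F : Type*} [Field F] {m : ℕ}

def bv (j : Fin m ⊕ Fin m) : Fin m ⊕ Fin m → F := Pi.single j 1

def sg (j : Fin m ⊕ Fin m) : F := Sum.elim (fun _ => 1) (fun _ => -1) j

lemma sg_ne_zero (j : Fin m ⊕ Fin m) : (sg j : F) ≠ 0 := by
  cases j <;> simp [sg]

lemma sg_mul_swap (j : Fin m ⊕ Fin m) : (sg j : F) * sg j.swap = -1 := by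
  cases j <;> simp [sg]

lemma sf_bv (x : Fin m ⊕ Fin m → F) (j : Fin m ⊕ Fin m) :
    Cfsg.sympForm m F x (bv j) = sg j * x j.swap := by
  unfold Cfsg.sympForm bv
  rw [Matrix.mulVec_single_one]
  cases j with
  | inl a =>
    simp [dotProduct, Fintype.sum_sum_type, Matrix.J, sg, Matrix.one_apply]
  | inr a =>
    simp [dotProduct, Fintype.sum_sum_type, Matrix.J, sg, Matrix.one_apply]

lemma bv_apply (j l : Fin m ⊕ Fin m) : (bv j : Fin m ⊕ Fin m → F) l = if l = j then 1 else 0 := by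
  unfold bv
  rw [Pi.single_apply]

def typ (j : Fin m ⊕ Fin m) : Fin m := Sum.elim id id j

@[simp] lemma typ_swap (j : Fin m ⊕ Fin m) : typ j.swap = typ j := by
  cases j <;> rfl

lemma swap_ne (j : Fin m ⊕ Fin m) : j.swap ≠ j := by
  cases j <;> simp

lemma ne_of_typ {j l : Fin m ⊕ Fin m} (h : typ j ≠ typ l) : j ≠ l := by
  rintro rfl; exact h rfl

@[simp] lemma bv_self (j : Fin m ⊕ Fin m) : (bv j : Fin m ⊕ Fin m → F) j = 1 := by
  rw [bv_apply, if_pos rfl]

@[simp] lemma bv_swap_self (j : Fin m ⊕ Fin m) : (bv j : Fin m ⊕ Fin m → F) j.swap = 0 := by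
  rw [bv_apply, if_neg (swap_ne j)]

@[simp] lemma bv_swap_self' (j : Fin m ⊕ Fin m) : (bv j.swap : Fin m ⊕ Fin m → F) j = 0 := by
  rw [bv_apply, if_neg (swap_ne j).symm]

lemma bv_typ {j l : Fin m ⊕ Fin m} (h : typ l ≠ typ j) : (bv j : Fin m ⊕ Fin m → F) l = 0 := by
  rw [bv_apply, if_neg (ne_of_typ h)]

def DD (G : Subgroup (Matrix.symplecticGroup (Fin m) F)) : Set (Fin m ⊕ Fin m → F) :=
  {v | ∀ t : F, τ v t ∈ G}

lemma DD_zero (G : Subgroup (Matrix.symplecticGroup (Fin m) F)) :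
    (0 : Fin m ⊕ Fin m → F) ∈ DD G := by
  intro t
  have : τ (0 : Fin m ⊕ Fin m → F) t = 1 := by
    apply sp_ext; intro x; rw [τ_mulVec, one_mv]; simp
  rw [this]; exact G.one_mem

lemma DD_smul {G : Subgroup (Matrix.symplecticGroup (Fin m) F)} {v : Fin m ⊕ Fin m → F}
    (hv : v ∈ DD G) (k : F) : k • v ∈ DD G := by
  intro t; rw [τ_smul]; exact hv _

lemma DD_act {G : Subgroup (Matrix.symplecticGroup (Fin m) F)} {v : Fin m ⊕ Fin m → F}
    (hv : v ∈ DD G) {g : Matrix.symplecticGroup (Fin m) F} (hg : g ∈ G) :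
    (g : Matrix (Fin m ⊕ Fin m) (Fin m ⊕ Fin m) F) *ᵥ v ∈ DD G := by
  intro t
  have h1 := conj_τ g v t
  have h2 : τ ((g : Matrix (Fin m ⊕ Fin m) (Fin m ⊕ Fin m) F) *ᵥ v) t = g * τ v t * g⁻¹ := by
    rw [h1]; group
  rw [h2]; exact G.mul_mem (G.mul_mem hg (hv t)) (G.inv_mem hg)

lemma DD_move {G : Subgroup (Matrix.symplecticGroup (Fin m) F)} {u v : Fin m ⊕ Fin m → F}
    (hu : u ∈ DD G) (hv : v ∈ DD G) (h : Cfsg.sympForm m F v u ≠ 0) (c : F) :
    v + c • u ∈ DD G := by
  have h1 := DD_act hv (hu (c / Cfsg.sympForm m F v u))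
  rw [τ_mulVec] at h1
  have h2 : c / Cfsg.sympForm m F v u * Cfsg.sympForm m F v u = c := by field_simp
  rwa [h2] at h1

def QQ (G : Subgroup (Matrix.symplecticGroup (Fin m) F)) (j l : Fin m ⊕ Fin m) : Prop :=
  ∀ c : F, (bv j + c • bv l : Fin m ⊕ Fin m → F) ∈ DD G

section
variable {G : Subgroup (Matrix.symplecticGroup (Fin m) F)}
  (hb : ∀ j : Fin m ⊕ Fin m, (bv j : Fin m ⊕ Fin m → F) ∈ DD G)
include hb

lemma QQ_of_one {j l : Fin m ⊕ Fin m} (h : typ j ≠ typ l)
    (h1 : (bv j + bv l : Fin m ⊕ Fin m → F) ∈ DD G) : QQ G j l := by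
  intro c
  by_cases hc : c = 0
  · subst hc; simpa using hb j
  have e1 : (bv j + bv l + (1 : F) • bv l.swap : Fin m ⊕ Fin m → F) ∈ DD G := by
    apply DD_move (hb _) h1
    rw [sf_bv]
    simp [bv_typ h.symm, sg_ne_zero]
  have e2 : (bv j + bv l + (1 : F) • bv l.swap + (c - 1) • bv l : Fin m ⊕ Fin m → F) ∈ DD G := by
    apply DD_move (hb _) e1
    rw [sf_bv]
    have : typ l.swap ≠ typ j := by simpa using h.symm
    simp [bv_typ this, sg_ne_zero]
  have e3 : (bv j + bv l + (1 : F) • bv l.swap + (c - 1) • bv l + (-1 : F) • bv l.swap :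
      Fin m ⊕ Fin m → F) ∈ DD G := by
    apply DD_move (hb _) e2
    rw [sf_bv]
    simp [bv_typ h.symm, sg_ne_zero, hc]
  convert e3 using 1
  module

lemma QQ_symm {j l : Fin m ⊕ Fin m} (h1 : QQ G j l) : QQ G l j := by
  intro c
  by_cases hc : c = 0
  · subst hc; simpa using hb l
  have := DD_smul (h1 c⁻¹) c
  convert this using 1
  rw [smul_add, smul_smul, mul_inv_cancel₀ hc, one_smul, add_comm]

lemma QQ_flip {j l : Fin m ⊕ Fin m} (h : typ j ≠ typ l) (h1 : QQ G j l) : QQ G j.swap l := by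
  intro c
  have e1 : (bv j + c • bv l + (1 : F) • bv j.swap : Fin m ⊕ Fin m → F) ∈ DD G := by
    apply DD_move (hb _) (h1 c)
    rw [sf_bv]
    simp [bv_typ h, sg_ne_zero]
  have e2 : (bv j + c • bv l + (1 : F) • bv j.swap + (-1 : F) • bv j : Fin m ⊕ Fin m → F) ∈ DD G := by
    apply DD_move (hb _) e1
    rw [sf_bv]
    have : typ j.swap ≠ typ l := by simpa using h
    simp [bv_typ this, sg_ne_zero]
  convert e2 using 1
  module

lemma QQ_flip' {j l : Fin m ⊕ Fin m} (h : typ j ≠ typ l) (h1 : QQ G j l) : QQ G j l.swap := by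
  apply QQ_symm hb
  apply QQ_flip hb h.symm
  exact QQ_symm hb h1

lemma QQ_comp {j l n : Fin m ⊕ Fin m} (hjl : typ j ≠ typ l) (hjn : typ j ≠ typ n)
    (hln : typ l ≠ typ n) (h1 : QQ G j l) (h2 : QQ G l.swap n) (h3 : QQ G l n.swap) :
    QQ G j n := by
  intro c
  by_cases hc : c = 0
  · subst hc; simpa using hb j
  have a0 : (bv j + bv l : Fin m ⊕ Fin m → F) ∈ DD G := by simpa using h1 1
  have hnj : typ n.swap ≠ typ j := by simpa using hjn.symm
  have hnl : typ n.swap ≠ typ l := by simpa using hln.symm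
  have hlj : typ l.swap ≠ typ j := by simpa using hjl.symm
  have hln' : typ l.swap ≠ typ n := by simpa using hln
  have e1 : (bv j + bv l + (1 : F) • (bv l.swap + c • bv n) : Fin m ⊕ Fin m → F) ∈ DD G := by
    apply DD_move (h2 c) a0
    rw [sympForm_add_right, sympForm_smul_right, sf_bv, sf_bv]
    simp [bv_typ hjl.symm, bv_typ hnj, bv_typ hnl, sg_ne_zero]
  have e2 : (bv j + bv l + (1 : F) • (bv l.swap + c • bv n) + (-1 : F) • bv l.swap :
      Fin m ⊕ Fin m → F) ∈ DD G := by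
    apply DD_move (hb _) e1
    rw [sf_bv]
    simp [bv_typ hjl.symm, bv_typ hln, sg_ne_zero]
  have e3 : (bv j + bv l + (1 : F) • (bv l.swap + c • bv n) + (-1 : F) • bv l.swap +
      (-1 : F) • (bv l + (1 : F) • bv n.swap) : Fin m ⊕ Fin m → F) ∈ DD G := by
    apply DD_move (h3 1) e2
    rw [sympForm_add_right, sympForm_smul_right, sf_bv, sf_bv]
    simp [bv_typ hlj, bv_typ hln', bv_typ hjn.symm, bv_typ hln.symm, sg_ne_zero, hc]
  have e4 : (bv j + bv l + (1 : F) • (bv l.swap + c • bv n) + (-1 : F) • bv l.swap +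
      (-1 : F) • (bv l + (1 : F) • bv n.swap) + (1 : F) • bv n.swap : Fin m ⊕ Fin m → F) ∈ DD G := by
    apply DD_move (hb _) e3
    rw [sf_bv]
    simp [bv_typ hjn.symm, bv_typ hln.symm, sg_ne_zero, hc]
  convert e4 using 1
  module

end

variable {F : Type*} [Field F] {m : ℕ}

lemma typ_ne_iff (j l : Fin m ⊕ Fin m) : typ l ≠ typ j ↔ l ≠ j ∧ l ≠ j.swap := by
  cases j <;> cases l <;> simp [typ, eq_comm]

lemma all_DD {G : Subgroup (Matrix.symplecticGroup (Fin m) F)}
    (hb : ∀ j : Fin m ⊕ Fin m, (bv j : Fin m ⊕ Fin m → F) ∈ DD G)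
    (hq : ∀ j l : Fin m ⊕ Fin m, typ j ≠ typ l → QQ G j l) :
    ∀ v : Fin m ⊕ Fin m → F, v ∈ DD G := by
  have key : ∀ s : Finset (Fin m ⊕ Fin m), ∀ v : Fin m ⊕ Fin m → F,
      (∀ j, v j ≠ 0 → j ∈ s) → v ∈ DD G := by
    intro s
    induction s using Finset.induction_on with
    | empty =>
      intro v hv
      have : v = 0 := by
        ext j
        by_contra h
        exact absurd (hv j h) (Finset.notMem_empty _)
      rw [this]; exact DD_zero G
    | insert j s hj ih =>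
      intro v hv
      have hy : Function.update v j 0 ∈ DD G := by
        apply ih
        intro l hl
        have hlj : l ≠ j := by
          rintro rfl
          simp at hl
        rw [Function.update_of_ne hlj] at hl
        rcases Finset.mem_insert.mp (hv l hl) with h | h
        · exact absurd h hlj
        · exact h
      have hv_eq : v = Function.update v j 0 + v j • bv j := by
        ext l
        by_cases hlj : l = j
        · subst hlj; simp
        · simp [Function.update_of_ne hlj, bv_apply, hlj]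
      by_cases hA : v j.swap = 0
      · by_cases hB : ∃ l, l ≠ j ∧ v l ≠ 0
        · obtain ⟨l, hlj, hl⟩ := hB
          have hls : l ≠ j.swap := by
            rintro rfl; exact hl hA
          have htyp : typ l ≠ typ j := (typ_ne_iff j l).mpr ⟨hlj, hls⟩
          have htyp' : typ j ≠ typ l.swap := by simpa using htyp.symm
          have hu := hq j l.swap htyp' 1
          have e1 : (Function.update v j 0 + v j • (bv j + (1 : F) • bv l.swap) :
              Fin m ⊕ Fin m → F) ∈ DD G := by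
            apply DD_move hu hy
            rw [sympForm_add_right, sympForm_smul_right, sf_bv, sf_bv]
            simp [Function.update_of_ne (swap_ne j), hA, Function.update_of_ne hlj, hl, sg_ne_zero]
          have e2 : (Function.update v j 0 + v j • (bv j + (1 : F) • bv l.swap) +
              (-(v j)) • bv l.swap : Fin m ⊕ Fin m → F) ∈ DD G := by
            apply DD_move (hb _) e1
            rw [sf_bv]
            simp [Function.update_of_ne hlj, hl, sg_ne_zero, bv_typ htyp]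
          rw [hv_eq]
          convert e2 using 1
          module
        · have : v = v j • bv j := by
            ext l
            by_cases hlj : l = j
            · subst hlj; simp
            · have : v l = 0 := by
                by_contra h; exact hB ⟨l, hlj, h⟩
              simp [this, bv_apply, hlj]
          rw [this]
          exact DD_smul (hb j) _
      · rw [hv_eq]
        apply DD_move (hb j) hy
        rw [sf_bv]
        simp [Function.update_of_ne (swap_ne j), hA, sg_ne_zero]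
  intro v
  exact key Finset.univ v (fun j _ => Finset.mem_univ j)

lemma top_of_all_DD {G : Subgroup (Matrix.symplecticGroup (Fin m) F)}
    (h : ∀ v : Fin m ⊕ Fin m → F, v ∈ DD G) : G = ⊤ := by
  rw [eq_top_iff, ← Cfsg.Agent.S0765.result (F := F) m, Subgroup.closure_le]
  rintro A ⟨w, c, hA⟩
  have : A = τ w c := Subtype.ext hA
  rw [SetLike.mem_coe, this]
  exact h w c

variable {F : Type*} [Field F] {n : ℕ}

@[simp] lemma typ_inl {m : ℕ} (a : Fin m) : typ (Sum.inl a : Fin m ⊕ Fin m) = a := rfl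
@[simp] lemma typ_inr {m : ℕ} (a : Fin m) : typ (Sum.inr a : Fin m ⊕ Fin m) = a := rfl

lemma gen_pairs {G : Subgroup (Matrix.symplecticGroup (Fin (n + 2)) F)}
    (hb : ∀ j : Fin (n + 2) ⊕ Fin (n + 2), (bv j : Fin (n + 2) ⊕ Fin (n + 2) → F) ∈ DD G)
    (adj : ∀ i : Fin (n + 1), QQ G (Sum.inl i.castSucc) (Sum.inl i.succ)) :
    ∀ d : ℕ, ∀ a b : Fin (n + 2), a.val + d + 1 = b.val → QQ G (Sum.inl a) (Sum.inl b) := by
  intro d
  induction d with
  | zero =>
    intro a b hab
    have ha : a.val < n + 1 := by omega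
    have e1 : a = (⟨a.val, ha⟩ : Fin (n + 1)).castSucc := by ext; simp
    have e2 : b = (⟨a.val, ha⟩ : Fin (n + 1)).succ := by ext; simp; omega
    rw [e1, e2]
    exact adj _
  | succ d ih =>
    intro a b hab
    have hc : a.val + d + 1 < n + 2 := by omega
    have h1 := ih a ⟨a.val + d + 1, hc⟩ rfl
    have hc' : a.val + d + 1 < n + 1 := by omega
    have e1 : (⟨a.val + d + 1, hc⟩ : Fin (n + 2)) = (⟨a.val + d + 1, hc'⟩ : Fin (n + 1)).castSucc := by
      ext; simp
    have e2 : b = (⟨a.val + d + 1, hc'⟩ : Fin (n + 1)).succ := by ext; simp; omega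
    have h2 := adj ⟨a.val + d + 1, hc'⟩
    rw [← e1, ← e2] at h2
    have t1 : typ (Sum.inl a : Fin (n + 2) ⊕ Fin (n + 2)) ≠ typ (Sum.inl (⟨a.val + d + 1, hc⟩ : Fin (n + 2)) : Fin (n + 2) ⊕ Fin (n + 2)) := by
      rw [typ_inl, typ_inl, Ne, Fin.ext_iff]; simp; omega
    have t2 : typ (Sum.inl a : Fin (n + 2) ⊕ Fin (n + 2)) ≠ typ (Sum.inl b : Fin (n + 2) ⊕ Fin (n + 2)) := by
      rw [typ_inl, typ_inl, Ne, Fin.ext_iff]; omega
    have t3 : typ (Sum.inl (⟨a.val + d + 1, hc⟩ : Fin (n + 2)) : Fin (n + 2) ⊕ Fin (n + 2)) ≠ typ (Sum.inl b : Fin (n + 2) ⊕ Fin (n + 2)) := by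
      rw [typ_inl, typ_inl, Ne, Fin.ext_iff]; simp; omega
    exact QQ_comp hb t1 t2 t3 h1 (QQ_flip hb t3 h2) (QQ_flip' hb t3 h2)

lemma gen_hq {m : ℕ} {G : Subgroup (Matrix.symplecticGroup (Fin m) F)}
    (hb : ∀ j : Fin m ⊕ Fin m, (bv j : Fin m ⊕ Fin m → F) ∈ DD G)
    (hll : ∀ a b : Fin m, a ≠ b → QQ G (Sum.inl a) (Sum.inl b)) :
    ∀ j l : Fin m ⊕ Fin m, typ j ≠ typ l → QQ G j l := by
  intro j l hjl
  rcases j with a | a <;> rcases l with b | b
  · exact hll a b hjl
  · have h1 := hll a b hjl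
    have t : typ (Sum.inl a : Fin m ⊕ Fin m) ≠ typ (Sum.inl b : Fin m ⊕ Fin m) := hjl
    have h2 := QQ_flip' hb t h1
    rwa [Sum.swap_inl] at h2
  · have h1 := hll a b hjl
    have t : typ (Sum.inl a : Fin m ⊕ Fin m) ≠ typ (Sum.inl b : Fin m ⊕ Fin m) := hjl
    have h2 := QQ_flip hb t h1
    rwa [Sum.swap_inl] at h2
  · have h1 := hll a b hjl
    have t : typ (Sum.inl a : Fin m ⊕ Fin m) ≠ typ (Sum.inl b : Fin m ⊕ Fin m) := hjl
    have h2 := QQ_flip' hb t h1
    rw [Sum.swap_inl] at h2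
    have t' : typ (Sum.inl a : Fin m ⊕ Fin m) ≠ typ (Sum.inr b : Fin m ⊕ Fin m) := hjl
    have h3 := QQ_flip hb t' h2
    rwa [Sum.swap_inl] at h3

theorem gen_top {G : Subgroup (Matrix.symplecticGroup (Fin (n + 2)) F)}
    (w : Matrix.symplecticGroup (Fin (n + 2)) F) (hwG : w ∈ G)
    (hw1 : ∀ i : Fin (n + 1), (w : Matrix (Fin (n + 2) ⊕ Fin (n + 2)) (Fin (n + 2) ⊕ Fin (n + 2)) F) *ᵥ bv (Sum.inl i.castSucc) = bv (Sum.inl i.succ))
    (hw2 : (w : Matrix (Fin (n + 2) ⊕ Fin (n + 2)) (Fin (n + 2) ⊕ Fin (n + 2)) F) *ᵥ bv (Sum.inl (Fin.last (n + 1))) = bv (Sum.inr 0))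
    (hw3 : ∀ i : Fin (n + 1), (w : Matrix (Fin (n + 2) ⊕ Fin (n + 2)) (Fin (n + 2) ⊕ Fin (n + 2)) F) *ᵥ bv (Sum.inr i.castSucc) = bv (Sum.inr i.succ))
    (h0 : (bv (Sum.inl 0) : Fin (n + 2) ⊕ Fin (n + 2) → F) ∈ DD G)
    (h01 : (bv (Sum.inl 0) + bv (Sum.inl 1) : Fin (n + 2) ⊕ Fin (n + 2) → F) ∈ DD G) :
    G = ⊤ := by
  have hbl : ∀ i : Fin (n + 2), (bv (Sum.inl i) : Fin (n + 2) ⊕ Fin (n + 2) → F) ∈ DD G := by
    intro i
    induction i using Fin.induction with
    | zero => exact h0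
    | succ i ih =>
      have := DD_act ih hwG
      rwa [hw1] at this
  have hbr : ∀ i : Fin (n + 2), (bv (Sum.inr i) : Fin (n + 2) ⊕ Fin (n + 2) → F) ∈ DD G := by
    intro i
    induction i using Fin.induction with
    | zero =>
      have := DD_act (hbl (Fin.last (n + 1))) hwG
      rwa [hw2] at this
    | succ i ih =>
      have := DD_act ih hwG
      rwa [hw3] at this
  have hb : ∀ j : Fin (n + 2) ⊕ Fin (n + 2), (bv j : Fin (n + 2) ⊕ Fin (n + 2) → F) ∈ DD G := by
    rintro (i | i)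
    · exact hbl i
    · exact hbr i
  have adj : ∀ i : Fin (n + 1), QQ G (Sum.inl i.castSucc) (Sum.inl i.succ) := by
    intro i
    induction i using Fin.induction with
    | zero =>
      apply QQ_of_one hb
      · rw [typ_inl, typ_inl]; simp
      · simpa using h01
    | succ i ih =>
      intro c
      have := DD_act (ih c) hwG
      rw [Matrix.mulVec_add, Matrix.mulVec_smul, hw1, Fin.succ_castSucc, hw1] at this
      rw [← Fin.succ_castSucc]
      exact this
  have pairs := gen_pairs hb adj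
  have hll : ∀ a b : Fin (n + 2), a ≠ b → QQ G (Sum.inl a) (Sum.inl b) := by
    intro a b hab
    rcases lt_or_gt_of_ne (fun h => hab (Fin.ext h) : a.val ≠ b.val) with h | h
    · exact pairs (b.val - a.val - 1) a b (by omega)
    · exact QQ_symm hb (pairs (a.val - b.val - 1) b a (by omega))
  exact top_of_all_DD (all_DD hb (gen_hq hb hll))

end Cfsg.Agent.Lib.helper15.SpGen
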