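import Mathlib
import Cfsg.Agent.Lib.helper15.SpGen1

set_option autoImplicit false

namespace Cfsg.Agent.Lib.helper15.SpGen

open Matrix Cfsg.Agent.Lib.helper6 Cfsg.Agent.S0269

variable {F : Type*} [Field F] {m : ℕ}

lemma mem_sp_of_bv (A : Matrix (Fin m ⊕ Fin m) (Fin m ⊕ Fin m) F)
    (h : ∀ j l, Cfsg.sympForm m F (A *ᵥ bv j) (A *ᵥ bv l) = Cfsg.sympForm m F (bv j) (bv l)) :
    A ∈ Matrix.symplecticGroup (Fin m) F := by
  rw [SymplecticGroup.mem_iff']
  have key : ∀ u v, Cfsg.sympForm m F (A *ᵥ u) (A *ᵥ v)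
      = u ⬝ᵥ ((Aᵀ * Matrix.J (Fin m) F * A) *ᵥ v) := by
    intro u v
    unfold Cfsg.sympForm
    rw [← Matrix.mulVec_mulVec, ← Matrix.mulVec_mulVec, Matrix.dotProduct_mulVec (v := u),
      Matrix.vecMul_transpose]
  ext i j
  have := h i j
  rw [key] at this
  unfold Cfsg.sympForm bv at this
  simpa using this

lemma sp_ext_bv {g h : Matrix.symplecticGroup (Fin m) F}
    (H : ∀ j, (g : Matrix (Fin m ⊕ Fin m) (Fin m ⊕ Fin m) F) *ᵥ bv j =
      (h : Matrix (Fin m ⊕ Fin m) (Fin m ⊕ Fin m) F) *ᵥ bv j) : g = h := by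
  apply Subtype.ext
  ext i j
  have := congrFun (H j) i
  unfold bv at this
  simpa [Matrix.mulVec_single_one] using this

def monoM (σ : Fin m ⊕ Fin m → Fin m ⊕ Fin m) (ε : Fin m ⊕ Fin m → F) :
    Matrix (Fin m ⊕ Fin m) (Fin m ⊕ Fin m) F :=
  Matrix.of fun r c => if r = σ c then ε c else 0

lemma monoM_mulVec_bv (σ : Fin m ⊕ Fin m → Fin m ⊕ Fin m) (ε : Fin m ⊕ Fin m → F)
    (j : Fin m ⊕ Fin m) : monoM σ ε *ᵥ bv j = ε j • bv (σ j) := by
  unfold bv
  rw [Matrix.mulVec_single_one]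
  ext r
  simp [monoM, Pi.single_apply]

lemma monoM_mem (σ : Fin m ⊕ Fin m → Fin m ⊕ Fin m) (ε : Fin m ⊕ Fin m → F)
    (hσ : ∀ l, σ l.swap = (σ l).swap) (hinj : Function.Injective σ)
    (hε : ∀ l, ε l.swap * ε l * sg (σ l) = sg l) :
    monoM σ ε ∈ Matrix.symplecticGroup (Fin m) F := by
  apply mem_sp_of_bv
  intro j l
  rw [monoM_mulVec_bv, monoM_mulVec_bv, sympForm_smul_left, sympForm_smul_right, sf_bv, sf_bv,
    bv_apply, bv_apply, ← hσ]
  by_cases h : l.swap = j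
  · subst h
    rw [if_pos rfl, if_pos rfl, mul_one, mul_one, ← mul_assoc]
    exact hε l
  · rw [if_neg h, if_neg (fun h' => h (hinj h'))]
    ring

variable {F : Type*} [Field F] {n : ℕ}

def sw : Fin (n + 2) ⊕ Fin (n + 2) → Fin (n + 2) ⊕ Fin (n + 2)
  | Sum.inl i => if i = Fin.last (n + 1) then Sum.inr (i + 1) else Sum.inl (i + 1)
  | Sum.inr i => if i = Fin.last (n + 1) then Sum.inl (i + 1) else Sum.inr (i + 1)

lemma sw_swap (l : Fin (n + 2) ⊕ Fin (n + 2)) : sw l.swap = (sw l).swap := by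
  rcases l with i | i <;> simp only [sw, Sum.swap_inl, Sum.swap_inr] <;> split_ifs <;> rfl

lemma add_one_eq_zero_iff' (b : Fin (n + 2)) : b + 1 = 0 ↔ b = Fin.last (n + 1) := by
  constructor
  · intro h
    have hl : (Fin.last (n + 1) : Fin (n + 2)) + 1 = 0 := Fin.last_add_one _
    exact add_right_cancel (h.trans hl.symm)
  · rintro rfl; exact Fin.last_add_one _

lemma sw_injective : Function.Injective (sw : Fin (n + 2) ⊕ Fin (n + 2) → _) := by
  intro x y h
  rcases x with a | a <;> rcases y with b | b <;> simp only [sw] at h <;>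
    split_ifs at h with h1 h2 h2 <;> simp_all [add_one_eq_zero_iff', eq_comm (a := (0 : Fin (n + 2)))]

def ew (j : Fin (n + 2) ⊕ Fin (n + 2)) : F := if j = Sum.inr (Fin.last (n + 1)) then -1 else 1

lemma ew_cond (l : Fin (n + 2) ⊕ Fin (n + 2)) :
    (ew l.swap : F) * ew l * sg (sw l) = sg l := by
  rcases l with i | i
  · by_cases h : i = Fin.last (n + 1)
    · simp [ew, sw, sg, h]
    · simp [ew, sw, sg, h]
  · by_cases h : i = Fin.last (n + 1)
    · simp [ew, sw, sg, h]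
    · simp [ew, sw, sg, h]

def wEl (F : Type*) [Field F] (n : ℕ) : Matrix.symplecticGroup (Fin (n + 2)) F :=
  ⟨monoM sw ew, monoM_mem sw ew sw_swap sw_injective ew_cond⟩

lemma wEl_bv (j : Fin (n + 2) ⊕ Fin (n + 2)) :
    (wEl F n).1 *ᵥ bv j = (ew j : F) • bv (sw j) :=
  monoM_mulVec_bv sw ew j

lemma wEl_inl (i : Fin (n + 1)) :
    (wEl F n).1 *ᵥ bv (Sum.inl i.castSucc) = bv (Sum.inl i.succ) := by
  rw [wEl_bv]
  have h : i.castSucc ≠ Fin.last (n + 1) := (Fin.castSucc_lt_last i).ne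
  simp [ew, sw, h, Fin.coeSucc_eq_succ]

lemma wEl_inl_last :
    (wEl F n).1 *ᵥ bv (Sum.inl (Fin.last (n + 1))) = bv (Sum.inr 0) := by
  rw [wEl_bv]
  simp [ew, sw]

lemma wEl_inr (i : Fin (n + 1)) :
    (wEl F n).1 *ᵥ bv (Sum.inr i.castSucc) = bv (Sum.inr i.succ) := by
  rw [wEl_bv]
  have h : i.castSucc ≠ Fin.last (n + 1) := (Fin.castSucc_lt_last i).ne
  simp [ew, sw, h, Fin.coeSucc_eq_succ]

variable {F : Type*} [Field F] {m : ℕ}

def eh (j : Fin m ⊕ Fin m) (k : F) (l : Fin m ⊕ Fin m) : F :=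
  if l = j then k else if l = j.swap then k⁻¹ else 1

lemma eh_cond (j : Fin m ⊕ Fin m) (k : F) (hk : k ≠ 0) (l : Fin m ⊕ Fin m) :
    eh j k l.swap * eh j k l * sg (id l) = sg l := by
  have h1 : l.swap ≠ l := swap_ne l
  have h2 : j.swap ≠ j := swap_ne j
  by_cases hlj : l = j
  · subst hlj
    simp [eh, h1, hk]
  · by_cases hls : l = j.swap
    · subst hls
      simp [eh, h2, hk]
    · have h3 : l.swap ≠ j := by
        intro h; apply hls; rw [← h, Sum.swap_swap]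
      have h4 : l.swap ≠ j.swap := by
        intro h; apply hlj
        have := congrArg Sum.swap h
        simpa using this
      simp [eh, hlj, hls, h3, h4]

def hEl (j : Fin m ⊕ Fin m) (k : F) (hk : k ≠ 0) : Matrix.symplecticGroup (Fin m) F :=
  ⟨monoM id (eh j k), monoM_mem id (eh j k) (fun _ => rfl) Function.injective_id (eh_cond j k hk)⟩

lemma hEl_bv (j : Fin m ⊕ Fin m) (k : F) (hk : k ≠ 0) (l : Fin m ⊕ Fin m) :
    (hEl j k hk).1 *ᵥ bv l = eh j k l • bv l :=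
  monoM_mulVec_bv id (eh j k) l

lemma hEl_mul (j : Fin m ⊕ Fin m) (k k' : F) (hk : k ≠ 0) (hk' : k' ≠ 0) :
    hEl j k hk * hEl j k' hk' = hEl j (k * k') (mul_ne_zero hk hk') := by
  apply sp_ext_bv
  intro l
  rw [mmv, hEl_bv, Matrix.mulVec_smul, hEl_bv, hEl_bv, smul_smul]
  congr 1
  unfold eh
  split_ifs <;> simp [mul_comm]

lemma hEl_one (j : Fin m ⊕ Fin m) : hEl j (1 : F) one_ne_zero = 1 := by
  apply sp_ext_bv
  intro l
  rw [hEl_bv, one_mv]
  unfold eh
  split_ifs <;> simp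

lemma hEl_inv (j : Fin m ⊕ Fin m) (k : F) (hk : k ≠ 0) :
    (hEl j k hk)⁻¹ = hEl j k⁻¹ (inv_ne_zero hk) := by
  rw [inv_eq_iff_mul_eq_one, hEl_mul]
  have : hEl j (k * k⁻¹) (mul_ne_zero hk (inv_ne_zero hk)) = hEl j (1 : F) one_ne_zero := by
    congr 1; exact mul_inv_cancel₀ hk
  rw [this, hEl_one]

lemma hEl_swap (j : Fin m ⊕ Fin m) (k : F) (hk : k ≠ 0) :
    hEl j.swap k hk = hEl j k⁻¹ (inv_ne_zero hk) := by
  apply sp_ext_bv
  intro l
  rw [hEl_bv, hEl_bv]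
  congr 1
  unfold eh
  have h2 : j.swap ≠ j := swap_ne j
  by_cases hlj : l = j
  · subst hlj; simp [h2.symm]
  · by_cases hls : l = j.swap
    · subst hls; simp [h2]
    · simp [hlj, hls]

lemma hEl_comm (j j' : Fin m ⊕ Fin m) (k k' : F) (hk : k ≠ 0) (hk' : k' ≠ 0) :
    hEl j k hk * hEl j' k' hk' = hEl j' k' hk' * hEl j k hk := by
  apply sp_ext_bv
  intro l
  rw [mmv, mmv, hEl_bv, hEl_bv, Matrix.mulVec_smul, Matrix.mulVec_smul, hEl_bv, hEl_bv,
    smul_smul, smul_smul, mul_comm]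

variable {F : Type*} [Field F] {m n : ℕ}

lemma wEl_hEl (j : Fin (n + 2) ⊕ Fin (n + 2)) (k : F) (hk : k ≠ 0) :
    wEl F n * hEl j k hk = hEl (sw j) k hk * wEl F n := by
  apply sp_ext_bv
  intro l
  rw [mmv, mmv, hEl_bv, Matrix.mulVec_smul, wEl_bv, Matrix.mulVec_smul, hEl_bv, smul_smul, smul_smul]
  congr 1
  have e : eh (sw j) k (sw l) = eh j k l := by
    unfold eh
    rw [← sw_swap]
    by_cases h1 : l = j
    · subst h1; simp
    · have h1' : sw l ≠ sw j := fun h => h1 (sw_injective h)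
      by_cases h2 : l = j.swap
      · subst h2; simp [h1', swap_ne j]
      · have h2' : sw l ≠ sw j.swap := fun h => h2 (sw_injective h)
        simp [h1, h2, h1', h2']
  rw [e, mul_comm]

def SS (u v : Fin m ⊕ Fin m → F) (t : F) : Matrix.symplecticGroup (Fin m) F :=
  τ (u + v) t * τ u (-t) * τ v (-t)

lemma SS_mulVec {u v : Fin m ⊕ Fin m → F} (h : Cfsg.sympForm m F u v = 0) (t : F)
    (x : Fin m ⊕ Fin m → F) :
    (SS u v t).1 *ᵥ x = x + (t * Cfsg.sympForm m F x v) • u + (t * Cfsg.sympForm m F x u) • v := by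
  have h' : Cfsg.sympForm m F v u = 0 := by rw [sympForm_swap, h, neg_zero]
  unfold SS
  rw [mmv, mmv, τ_mulVec, τ_mulVec, τ_mulVec]
  simp only [sympForm_add_left, sympForm_add_right, sympForm_smul_left, sympForm_self, h, h',
    mul_zero, add_zero]
  module

lemma SS_conj (g : Matrix.symplecticGroup (Fin m) F) (u v : Fin m ⊕ Fin m → F) (t : F) :
    g * SS u v t = SS (g.1 *ᵥ u) (g.1 *ᵥ v) t * g := by
  unfold SS
  have hA := conj_τ g (u + v) t
  have hB := conj_τ g u (-t)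
  have hC := conj_τ g v (-t)
  rw [Matrix.mulVec_add] at hA
  calc g * (τ (u + v) t * τ u (-t) * τ v (-t))
      = (g * τ (u + v) t) * τ u (-t) * τ v (-t) := by group
    _ = τ (g.1 *ᵥ u + g.1 *ᵥ v) t * (g * τ u (-t)) * τ v (-t) := by rw [hA]; group
    _ = τ (g.1 *ᵥ u + g.1 *ᵥ v) t * τ (g.1 *ᵥ u) (-t) * (g * τ v (-t)) := by rw [hB]; group
    _ = τ (g.1 *ᵥ u + g.1 *ᵥ v) t * τ (g.1 *ᵥ u) (-t) * τ (g.1 *ᵥ v) (-t) * g := by
        rw [hC]; group

lemma SS_add {u v : Fin m ⊕ Fin m → F} (h : Cfsg.sympForm m F u v = 0) (s t : F) :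
    SS u v s * SS u v t = SS u v (s + t) := by
  have h' : Cfsg.sympForm m F v u = 0 := by rw [sympForm_swap, h, neg_zero]
  apply sp_ext
  intro x
  rw [mmv, SS_mulVec h, SS_mulVec h, SS_mulVec h]
  simp only [sympForm_add_left, sympForm_smul_left, sympForm_self, h, h', mul_zero, add_zero]
  module

lemma SS_zero (u v : Fin m ⊕ Fin m → F) : SS u v (0 : F) = 1 := by
  unfold SS
  rw [neg_zero, τ_zero, τ_zero, τ_zero, one_mul, one_mul]

lemma SS_inv {u v : Fin m ⊕ Fin m → F} (h : Cfsg.sympForm m F u v = 0) (t : F) :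
    (SS u v t)⁻¹ = SS u v (-t) := by
  rw [inv_eq_iff_mul_eq_one, SS_add h, add_neg_cancel, SS_zero]

lemma SS_smul_right {u v : Fin m ⊕ Fin m → F} (h : Cfsg.sympForm m F u v = 0) (c t : F) :
    SS u (c • v) t = SS u v (c * t) := by
  have hc : Cfsg.sympForm m F u (c • v) = 0 := by rw [sympForm_smul_right, h, mul_zero]
  apply sp_ext
  intro x
  rw [SS_mulVec hc, SS_mulVec h, sympForm_smul_right]
  module

lemma SS_smul_left {u v : Fin m ⊕ Fin m → F} (h : Cfsg.sympForm m F u v = 0) (c t : F) :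
    SS (c • u) v t = SS u v (c * t) := by
  have hc : Cfsg.sympForm m F (c • u) v = 0 := by rw [sympForm_smul_left, h, mul_zero]
  apply sp_ext
  intro x
  rw [SS_mulVec hc, SS_mulVec h, sympForm_smul_right]
  module

lemma τ_comm_SS {u v : Fin m ⊕ Fin m → F} (h : Cfsg.sympForm m F u v = 0) (c t : F) :
    τ u c * SS u v t = SS u v t * τ u c := by
  have h' : Cfsg.sympForm m F v u = 0 := by rw [sympForm_swap, h, neg_zero]
  rw [SS_conj, τ_mulVec, τ_mulVec, sympForm_self, h']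
  simp

lemma τ_eq_SS (u v : Fin m ⊕ Fin m → F) (t : F) :
    τ (u + v) t = SS u v t * τ v t * τ u t := by
  unfold SS
  have e1 : τ v (-t) * τ v t = 1 := by rw [τ_add, neg_add_cancel, τ_zero]
  have e2 : τ u (-t) * τ u t = 1 := by rw [τ_add, neg_add_cancel, τ_zero]
  calc τ (u + v) t = τ (u + v) t * (τ u (-t) * ((τ v (-t) * τ v t)) * τ u t) := by
        rw [e1, mul_one, e2, mul_one]
    _ = _ := by group

end Cfsg.Agent.Lib.helper15.SpGen
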