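import Mathlib
import Cfsg.Agent.Lib.helper15.SpGen2

set_option autoImplicit false

namespace Cfsg.Agent.Lib.helper15.SpGen

open Matrix Cfsg.Agent.Lib.helper6 Cfsg.Agent.S0269

variable {F : Type*} [Field F]

lemma exists_pow_eq [Finite F] (k : Fˣ) (hk : ∀ u : Fˣ, u ∈ Subgroup.zpowers k) (a : F) (ha : a ≠ 0) :
    ∃ i : ℕ, (k : F) ^ i = a := by
  have h1 := hk (Units.mk0 a ha)
  rw [← mem_powers_iff_mem_zpowers] at h1
  obtain ⟨i, hi⟩ := h1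
  refine ⟨i, ?_⟩
  have := congrArg (fun u : Fˣ => (u : F)) hi
  simpa using this

lemma additive_gen [Finite F] (k : Fˣ) (hk : ∀ u : Fˣ, u ∈ Subgroup.zpowers k)
    (S : AddSubgroup F) (c : F) (hc : c ∈ S) (hc0 : c ≠ 0)
    (hmul : ∀ t ∈ S, (k : F) * t ∈ S) : ∀ t : F, t ∈ S := by
  have hpow : ∀ i : ℕ, (k : F) ^ i * c ∈ S := by
    intro i
    induction i with
    | zero => simpa using hc
    | succ i ih =>
      have := hmul _ ih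
      rwa [← mul_assoc, ← pow_succ'] at this
  intro t
  by_cases ht : t = 0
  · subst ht; exact S.zero_mem
  obtain ⟨i, hi⟩ := exists_pow_eq k hk (t / c) (div_ne_zero ht hc0)
  have := hpow i
  rw [hi] at this
  have e : t / c * c = t := by field_simp
  rwa [e] at this

lemma additive_gen_sq [Fintype F] (k : Fˣ) (hk : ∀ u : Fˣ, u ∈ Subgroup.zpowers k)
    (S : AddSubgroup F) (c : F) (hc : c ∈ S) (hc0 : c ≠ 0)
    (hmul : ∀ t ∈ S, (k : F) * (k : F) * t ∈ S) : ∀ t : F, t ∈ S := by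
  have hpow : ∀ i : ℕ, ((k : F) ^ i) ^ 2 * c ∈ S := by
    intro i
    induction i with
    | zero => simpa using hc
    | succ i ih =>
      have := hmul _ ih
      have e : (k : F) * (k : F) * (((k : F) ^ i) ^ 2 * c) = ((k : F) ^ (i + 1)) ^ 2 * c := by ring
      rwa [e] at this
  have hsq : ∀ a : F, a ^ 2 * c ∈ S := by
    intro a
    by_cases ha : a = 0
    · subst ha; simp
    obtain ⟨i, hi⟩ := exists_pow_eq k hk a ha
    rw [← hi]; exact hpow i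
  intro t
  by_cases hF : ringChar F = 2
  · obtain ⟨a, ha⟩ := FiniteField.isSquare_of_char_two hF (t / c)
    have := hsq a
    have e : a ^ 2 * c = t := by
      rw [pow_two, ← ha]; field_simp
    rwa [e] at this
  · have h2 : (2 : F) ≠ 0 := Ring.two_ne_zero hF
    have h1 := S.sub_mem (hsq ((t / c + 1) / 2)) (hsq ((t / c - 1) / 2))
    have e : ((t / c + 1) / 2) ^ 2 * c - ((t / c - 1) / 2) ^ 2 * c = t := by
      field_simp
      ring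
    rwa [e] at h1

lemma gen_sq_ne_one [Fintype F] (hK : 3 < Fintype.card F) (k : Fˣ)
    (hk : ∀ u : Fˣ, u ∈ Subgroup.zpowers k) : (k : F) ^ 2 ≠ 1 := by
  classical
  intro h
  have hk2 : k ^ 2 = 1 := Units.ext (by simpa using h)
  have hall : ∀ u : Fˣ, u = 1 ∨ u = -1 := by
    intro u
    obtain ⟨m, rfl⟩ := hk u
    have h2 : (k ^ m) ^ 2 = 1 := by
      rw [← zpow_natCast, ← _root_.zpow_mul, mul_comm, _root_.zpow_mul, zpow_natCast, hk2, _root_.one_zpow]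
    have h3 : ((k ^ m : Fˣ) : F) ^ 2 = 1 := by
      have := congrArg (fun z : Fˣ => (z : F)) h2
      simpa using this
    have h5 : (((k ^ m : Fˣ) : F) - 1) * (((k ^ m : Fˣ) : F) + 1) = 0 := by
      linear_combination h3
    rcases mul_eq_zero.mp h5 with h4 | h4
    · left; exact Units.ext (by simpa using sub_eq_zero.mp h4)
    · right; exact Units.ext (by simpa using eq_neg_of_add_eq_zero_left h4)
  have hsub : (Finset.univ : Finset Fˣ) ⊆ {1, -1} := by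
    intro u _
    rcases hall u with rfl | rfl <;> simp
  have h1 := Finset.card_le_card hsub
  have h2 : ({1, -1} : Finset Fˣ).card ≤ 2 := Finset.card_le_two
  rw [Finset.card_univ, Fintype.card_units] at h1
  omega

variable {F : Type*} [Field F] {n : ℕ}

abbrev e0 (F : Type*) [Field F] (n : ℕ) : Fin (n + 2) ⊕ Fin (n + 2) → F := bv (Sum.inl 0)
abbrev e1 (F : Type*) [Field F] (n : ℕ) : Fin (n + 2) ⊕ Fin (n + 2) → F := bv (Sum.inl 1)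

lemma sf_e0_e1 : Cfsg.sympForm (n + 2) F (e0 F n) (e1 F n) = 0 := by
  rw [sf_bv]; simp [bv_apply]

lemma hEl_e0_of_ne (j : Fin (n + 2) ⊕ Fin (n + 2)) (k : F) (hk : k ≠ 0)
    (h1 : Sum.inl 0 ≠ j) (h2 : Sum.inl 0 ≠ j.swap) :
    (hEl j k hk).1 *ᵥ e0 F n = e0 F n := by
  rw [hEl_bv]; simp [eh, h1, h2]

lemma hEl0_e0 (k : F) (hk : k ≠ 0) :
    (hEl (Sum.inl 0 : Fin (n + 2) ⊕ Fin (n + 2)) k hk).1 *ᵥ e0 F n = k • e0 F n := by
  rw [hEl_bv]; simp [eh]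

lemma hEl0_e1 (k : F) (hk : k ≠ 0) :
    (hEl (Sum.inl 0 : Fin (n + 2) ⊕ Fin (n + 2)) k hk).1 *ᵥ e1 F n = e1 F n := by
  rw [hEl_bv]; simp [eh]

lemma hEl1_e1 (k : F) (hk : k ≠ 0) :
    (hEl (Sum.inl 1 : Fin (n + 2) ⊕ Fin (n + 2)) k hk).1 *ᵥ e1 F n = k • e1 F n := by
  rw [hEl_bv]; simp [eh]

lemma sw_inl_castSucc (i : Fin (n + 1)) :
    sw (Sum.inl i.castSucc : Fin (n + 2) ⊕ Fin (n + 2)) = Sum.inl i.succ := by
  have h : i.castSucc ≠ Fin.last (n + 1) := (Fin.castSucc_lt_last i).ne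
  simp [sw, h, Fin.coeSucc_eq_succ]

lemma sw_inl_last :
    sw (Sum.inl (Fin.last (n + 1)) : Fin (n + 2) ⊕ Fin (n + 2)) = Sum.inr 0 := by
  simp [sw]

lemma hEl_τ_comm (j : Fin (n + 2) ⊕ Fin (n + 2)) (k : F) (hk : k ≠ 0)
    (h1 : Sum.inl 0 ≠ j) (h2 : Sum.inl 0 ≠ j.swap) (t : F) :
    hEl j k hk * τ (e0 F n) t = τ (e0 F n) t * hEl j k hk := by
  rw [conj_τ, hEl_e0_of_ne j k hk h1 h2]

variable {F : Type*} [Field F] {n : ℕ}

lemma grp_step1 {G : Type*} [Group G] (x x' w h h' : G) (h1 : w * h = h' * w)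
    (h2 : h' * x = x' * h') : (x * w) * h * (x * w)⁻¹ = x * x'⁻¹ * h' := by
  have e1 : (x * w) * h * (x * w)⁻¹ = x * (w * h) * w⁻¹ * x⁻¹ := by group
  have e2 : h' * x⁻¹ = x'⁻¹ * h' := by
    have : h' = x' * h' * x⁻¹ := by rw [← h2]; group
    calc h' * x⁻¹ = x'⁻¹ * (x' * h' * x⁻¹) := by group
      _ = x'⁻¹ * h' := by rw [← this]
  rw [e1, h1]
  calc x * (h' * w) * w⁻¹ * x⁻¹ = x * (h' * x⁻¹) := by group
    _ = x * x'⁻¹ * h' := by rw [e2]; group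

lemma sw_inl_zero : sw (Sum.inl 0 : Fin (n + 2) ⊕ Fin (n + 2)) = Sum.inl 1 := by
  have h : (0 : Fin (n + 2)) ≠ Fin.last (n + 1) := by
    intro h; have := congrArg Fin.val h; simp at this
  simp [sw, h]

lemma hEl0_SS (k : F) (hk : k ≠ 0) (c : F) :
    hEl (Sum.inl 0 : Fin (n + 2) ⊕ Fin (n + 2)) k hk * SS (e0 F n) (e1 F n) c =
      SS (e0 F n) (e1 F n) (k * c) * hEl (Sum.inl 0) k hk := by
  rw [SS_conj, hEl0_e0, hEl0_e1, SS_smul_left sf_e0_e1]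

lemma hEl1_SS (k : F) (hk : k ≠ 0) (c : F) :
    hEl (Sum.inl 1 : Fin (n + 2) ⊕ Fin (n + 2)) k hk * SS (e0 F n) (e1 F n) c =
      SS (e0 F n) (e1 F n) (k * c) * hEl (Sum.inl 1) k hk := by
  have h1 : (Sum.inl 0 : Fin (n + 2) ⊕ Fin (n + 2)) ≠ Sum.inl 1 := by simp
  have h2 : (Sum.inl 0 : Fin (n + 2) ⊕ Fin (n + 2)) ≠ (Sum.inl 1 : Fin (n + 2) ⊕ Fin (n + 2)).swap := by simp
  rw [SS_conj, hEl_e0_of_ne _ k hk h1 h2, hEl1_e1, SS_smul_right sf_e0_e1]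

lemma hEl0_τ (k : F) (hk : k ≠ 0) (c : F) :
    hEl (Sum.inl 0 : Fin (n + 2) ⊕ Fin (n + 2)) k hk * τ (e0 F n) c =
      τ (e0 F n) (k * k * c) * hEl (Sum.inl 0) k hk := by
  rw [conj_τ, hEl0_e0, τ_smul]

variable {F : Type*} [Field F] {n : ℕ}

lemma τ_inv' {m : ℕ} (v : Fin m ⊕ Fin m → F) (t : F) : (τ v t)⁻¹ = τ v (-t) := by
  rw [inv_eq_iff_mul_eq_one, τ_add, add_neg_cancel, τ_zero]

section big
variable (k : F) (hk0 : k ≠ 0) (H : Subgroup (Matrix.symplecticGroup (Fin (n + 2)) F))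

lemma big_u1 (hhH : hEl (Sum.inl 0 : Fin (n + 2) ⊕ Fin (n + 2)) k hk0 ∈ H)
    (hbH : τ (e0 F n) 1 * SS (e0 F n) (e1 F n) 1 * wEl F n ∈ H) :
    SS (e0 F n) (e1 F n) (1 - k) * hEl (Sum.inl 1 : Fin (n + 2) ⊕ Fin (n + 2)) k hk0 ∈ H := by
  have hwh : wEl F n * hEl (Sum.inl 0 : Fin (n + 2) ⊕ Fin (n + 2)) k hk0 =
      hEl (Sum.inl 1 : Fin (n + 2) ⊕ Fin (n + 2)) k hk0 * wEl F n := by
    have := wEl_hEl (n := n) (Sum.inl 0) k hk0
    rw [sw_inl_zero] at this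
    exact this
  have h10 : (Sum.inl 0 : Fin (n + 2) ⊕ Fin (n + 2)) ≠ Sum.inl 1 := by simp
  have h10' : (Sum.inl 0 : Fin (n + 2) ⊕ Fin (n + 2)) ≠
      (Sum.inl 1 : Fin (n + 2) ⊕ Fin (n + 2)).swap := by simp
  have hh'x : hEl (Sum.inl 1 : Fin (n + 2) ⊕ Fin (n + 2)) k hk0 *
      (τ (e0 F n) 1 * SS (e0 F n) (e1 F n) 1) =
      (τ (e0 F n) 1 * SS (e0 F n) (e1 F n) (k * 1)) * hEl (Sum.inl 1) k hk0 := by
    rw [← mul_assoc, hEl_τ_comm _ _ hk0 h10 h10', mul_assoc, hEl1_SS, ← mul_assoc]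
  have e := grp_step1 (τ (e0 F n) 1 * SS (e0 F n) (e1 F n) 1) _ (wEl F n) _ _ hwh hh'x
  have e2 : (τ (e0 F n) 1 * SS (e0 F n) (e1 F n) 1) *
      (τ (e0 F n) 1 * SS (e0 F n) (e1 F n) (k * 1))⁻¹ = SS (e0 F n) (e1 F n) (1 - k) := by
    rw [_root_.mul_inv_rev, SS_inv sf_e0_e1, mul_one]
    calc τ (e0 F n) 1 * SS (e0 F n) (e1 F n) 1 * (SS (e0 F n) (e1 F n) (-k) * (τ (e0 F n) 1)⁻¹)
        = τ (e0 F n) 1 * (SS (e0 F n) (e1 F n) 1 * SS (e0 F n) (e1 F n) (-k)) * (τ (e0 F n) 1)⁻¹ := by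
          group
      _ = τ (e0 F n) 1 * SS (e0 F n) (e1 F n) (1 - k) * (τ (e0 F n) 1)⁻¹ := by
          rw [SS_add sf_e0_e1, sub_eq_add_neg]
      _ = SS (e0 F n) (e1 F n) (1 - k) := by
          rw [τ_comm_SS sf_e0_e1]; group
  rw [e2] at e
  rw [← e]
  exact H.mul_mem (H.mul_mem hbH hhH) (H.inv_mem hbH)

lemma big_comm (c : F) (hhH : hEl (Sum.inl 0 : Fin (n + 2) ⊕ Fin (n + 2)) k hk0 ∈ H)
    (hu1 : SS (e0 F n) (e1 F n) c * hEl (Sum.inl 1 : Fin (n + 2) ⊕ Fin (n + 2)) k hk0 ∈ H) :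
    SS (e0 F n) (e1 F n) (k * c - c) ∈ H := by
  set h := hEl (Sum.inl 0 : Fin (n + 2) ⊕ Fin (n + 2)) k hk0 with hh
  set h' := hEl (Sum.inl 1 : Fin (n + 2) ⊕ Fin (n + 2)) k hk0 with hh'
  have ec : h * h' = h' * h := hEl_comm _ _ _ _ _ _
  have ec' : h' * h⁻¹ = h⁻¹ * h' := by
    calc h' * h⁻¹ = h⁻¹ * (h * h') * h⁻¹ := by group
      _ = h⁻¹ * (h' * h) * h⁻¹ := by rw [ec]
      _ = h⁻¹ * h' := by group
  have e : h * (SS (e0 F n) (e1 F n) c * h') * h⁻¹ * (SS (e0 F n) (e1 F n) c * h')⁻¹ =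
      SS (e0 F n) (e1 F n) (k * c - c) := by
    calc h * (SS (e0 F n) (e1 F n) c * h') * h⁻¹ * (SS (e0 F n) (e1 F n) c * h')⁻¹
        = (h * SS (e0 F n) (e1 F n) c) * (h' * h⁻¹) * h'⁻¹ * (SS (e0 F n) (e1 F n) c)⁻¹ := by group
      _ = (SS (e0 F n) (e1 F n) (k * c) * h) * (h⁻¹ * h') * h'⁻¹ * (SS (e0 F n) (e1 F n) c)⁻¹ := by
          rw [hh, hEl0_SS, ← hh, ec']
      _ = SS (e0 F n) (e1 F n) (k * c) * (SS (e0 F n) (e1 F n) c)⁻¹ := by group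
      _ = SS (e0 F n) (e1 F n) (k * c - c) := by
          rw [SS_inv sf_e0_e1, SS_add sf_e0_e1, sub_eq_add_neg]
  rw [← e]
  exact H.mul_mem (H.mul_mem (H.mul_mem hhH hu1) (H.inv_mem hhH)) (H.inv_mem hu1)

lemma big_chain (hhH : hEl (Sum.inl 0 : Fin (n + 2) ⊕ Fin (n + 2)) k hk0 ∈ H)
    (hb' : τ (e0 F n) 1 * wEl F n ∈ H) :
    ∀ i : Fin (n + 2), hEl (Sum.inl i : Fin (n + 2) ⊕ Fin (n + 2)) k hk0 ∈ H := by
  intro i
  induction i using Fin.induction with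
  | zero => exact hhH
  | succ i ih =>
    have ee1 := wEl_hEl (n := n) (Sum.inl i.castSucc) k hk0
    rw [sw_inl_castSucc] at ee1
    have n1 : (Sum.inl 0 : Fin (n + 2) ⊕ Fin (n + 2)) ≠ Sum.inl i.succ := by
      simp [(Fin.succ_ne_zero i).symm]
    have n2 : (Sum.inl 0 : Fin (n + 2) ⊕ Fin (n + 2)) ≠
        (Sum.inl i.succ : Fin (n + 2) ⊕ Fin (n + 2)).swap := by simp
    have ee2 := hEl_τ_comm (Sum.inl i.succ) k hk0 n1 n2 (1 : F)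
    have ee3 : hEl (Sum.inl i.succ : Fin (n + 2) ⊕ Fin (n + 2)) k hk0 =
        (τ (e0 F n) 1 * wEl F n) * hEl (Sum.inl i.castSucc) k hk0 * (τ (e0 F n) 1 * wEl F n)⁻¹ := by
      calc hEl (Sum.inl i.succ : Fin (n + 2) ⊕ Fin (n + 2)) k hk0
          = (τ (e0 F n) 1 * hEl (Sum.inl i.succ) k hk0) * (τ (e0 F n) 1)⁻¹ := by
            rw [← ee2]; group
        _ = τ (e0 F n) 1 * (hEl (Sum.inl i.succ) k hk0 * wEl F n) * (wEl F n)⁻¹ * (τ (e0 F n) 1)⁻¹ := by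
            group
        _ = _ := by rw [← ee1]; group
    rw [ee3]
    exact H.mul_mem (H.mul_mem hb' ih) (H.inv_mem hb')

lemma big_long (hhH : hEl (Sum.inl 0 : Fin (n + 2) ⊕ Fin (n + 2)) k hk0 ∈ H)
    (hb' : τ (e0 F n) 1 * wEl F n ∈ H)
    (hlast : hEl (Sum.inl (Fin.last (n + 1)) : Fin (n + 2) ⊕ Fin (n + 2)) k hk0 ∈ H) :
    τ (e0 F n) (1 - k⁻¹ * k⁻¹) ∈ H := by
  set h := hEl (Sum.inl 0 : Fin (n + 2) ⊕ Fin (n + 2)) k hk0 with hh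
  have ee1 := wEl_hEl (n := n) (Sum.inl (Fin.last (n + 1))) k hk0
  rw [sw_inl_last] at ee1
  have ee2 : hEl (Sum.inr 0 : Fin (n + 2) ⊕ Fin (n + 2)) k hk0 = h⁻¹ := by
    have := hEl_swap (Sum.inl 0 : Fin (n + 2) ⊕ Fin (n + 2)) k hk0
    rw [Sum.swap_inl] at this
    rw [this, hh, hEl_inv]
  rw [ee2] at ee1
  have ee3 : h⁻¹ * τ (e0 F n) (-1) = τ (e0 F n) (-(k⁻¹ * k⁻¹)) * h⁻¹ := by
    rw [hh, hEl_inv, hEl0_τ]
    congr 2
    ring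
  have ee4 : τ (e0 F n) (1 - k⁻¹ * k⁻¹) =
      (τ (e0 F n) 1 * wEl F n) * hEl (Sum.inl (Fin.last (n + 1))) k hk0 *
        (τ (e0 F n) 1 * wEl F n)⁻¹ * h := by
    calc τ (e0 F n) (1 - k⁻¹ * k⁻¹)
        = τ (e0 F n) 1 * (τ (e0 F n) (-(k⁻¹ * k⁻¹)) * h⁻¹) * h := by
          rw [sub_eq_add_neg, ← τ_add]; group
      _ = τ (e0 F n) 1 * (h⁻¹ * τ (e0 F n) (-1)) * h := by rw [ee3]
      _ = τ (e0 F n) 1 * (h⁻¹ * wEl F n) * (wEl F n)⁻¹ * (τ (e0 F n) 1)⁻¹ * h := by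
          rw [τ_inv']; group
      _ = _ := by rw [← ee1]; group
  rw [ee4]
  exact H.mul_mem (H.mul_mem (H.mul_mem hb' hlast) (H.inv_mem hb')) hhH

end big

end Cfsg.Agent.Lib.helper15.SpGen
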