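import Mathlib
import Cfsg.Agent.Lib.helper15.SpGen3

set_option autoImplicit false

namespace Cfsg.Agent.Lib.helper15.SpGen

open Matrix Cfsg.Agent.Lib.helper6 Cfsg.Agent.S0269

variable {F : Type*} [Field F] {n : ℕ}

lemma gen_hb {G : Subgroup (Matrix.symplecticGroup (Fin (n + 2)) F)}
    (w : Matrix.symplecticGroup (Fin (n + 2)) F) (hwG : w ∈ G)
    (hw1 : ∀ i : Fin (n + 1), (w : Matrix (Fin (n + 2) ⊕ Fin (n + 2)) (Fin (n + 2) ⊕ Fin (n + 2)) F) *ᵥ bv (Sum.inl i.castSucc) = bv (Sum.inl i.succ))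
    (hw2 : (w : Matrix (Fin (n + 2) ⊕ Fin (n + 2)) (Fin (n + 2) ⊕ Fin (n + 2)) F) *ᵥ bv (Sum.inl (Fin.last (n + 1))) = bv (Sum.inr 0))
    (hw3 : ∀ i : Fin (n + 1), (w : Matrix (Fin (n + 2) ⊕ Fin (n + 2)) (Fin (n + 2) ⊕ Fin (n + 2)) F) *ᵥ bv (Sum.inr i.castSucc) = bv (Sum.inr i.succ))
    (h0 : (bv (Sum.inl 0) : Fin (n + 2) ⊕ Fin (n + 2) → F) ∈ DD G) :
    ∀ j : Fin (n + 2) ⊕ Fin (n + 2), (bv j : Fin (n + 2) ⊕ Fin (n + 2) → F) ∈ DD G := by
  have hbl : ∀ i : Fin (n + 2), (bv (Sum.inl i) : Fin (n + 2) ⊕ Fin (n + 2) → F) ∈ DD G := by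
    intro i
    induction i using Fin.induction with
    | zero => exact h0
    | succ i ih =>
      have := DD_act ih hwG
      rwa [hw1] at this
  have hbr : ∀ i : Fin (n + 2), (bv (Sum.inr i) : Fin (n + 2) ⊕ Fin (n + 2) → F) ∈ DD G := by
    intro i
    induction i using Fin.induction with
    | zero =>
      have := DD_act (hbl (Fin.last (n + 1))) hwG
      rwa [hw2] at this
    | succ i ih =>
      have := DD_act ih hwG
      rwa [hw3] at this
  rintro (i | i)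
  · exact hbl i
  · exact hbr i

lemma wEl_e0 : (wEl F n).1 *ᵥ e0 F n = e1 F n := by
  have := wEl_inl (F := F) (n := n) 0
  rwa [Fin.castSucc_zero, Fin.succ_zero_eq_one] at this

def ssSub (H : Subgroup (Matrix.symplecticGroup (Fin (n + 2)) F)) : AddSubgroup F where
  carrier := {t | SS (e0 F n) (e1 F n) t ∈ H}
  zero_mem' := by
    show SS (e0 F n) (e1 F n) 0 ∈ H
    rw [SS_zero]; exact H.one_mem
  add_mem' := by
    intro s t hs ht
    show SS (e0 F n) (e1 F n) (s + t) ∈ H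
    rw [← SS_add sf_e0_e1]; exact H.mul_mem hs ht
  neg_mem' := by
    intro s hs
    show SS (e0 F n) (e1 F n) (-s) ∈ H
    rw [← SS_inv sf_e0_e1]; exact H.inv_mem hs

def tauSub (H : Subgroup (Matrix.symplecticGroup (Fin (n + 2)) F)) : AddSubgroup F where
  carrier := {t | τ (e0 F n) t ∈ H}
  zero_mem' := by
    show τ (e0 F n) 0 ∈ H
    rw [τ_zero]; exact H.one_mem
  add_mem' := by
    intro s t hs ht
    show τ (e0 F n) (s + t) ∈ H
    rw [← τ_add]; exact H.mul_mem hs ht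
  neg_mem' := by
    intro s hs
    show τ (e0 F n) (-s) ∈ H
    rw [← τ_inv']; exact H.inv_mem hs

lemma mem_ssSub (H : Subgroup (Matrix.symplecticGroup (Fin (n + 2)) F)) (t : F) :
    t ∈ ssSub H ↔ SS (e0 F n) (e1 F n) t ∈ H := Iff.rfl

lemma mem_tauSub (H : Subgroup (Matrix.symplecticGroup (Fin (n + 2)) F)) (t : F) :
    t ∈ tauSub H ↔ τ (e0 F n) t ∈ H := Iff.rfl

lemma top_of_e0_SS (H : Subgroup (Matrix.symplecticGroup (Fin (n + 2)) F))
    (hw : wEl F n ∈ H) (h0 : e0 F n ∈ DD H) (hS : ∀ t : F, SS (e0 F n) (e1 F n) t ∈ H) :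
    H = ⊤ := by
  have h1 : e1 F n ∈ DD H := by
    have := DD_act h0 hw
    rwa [wEl_e0] at this
  have h01 : e0 F n + e1 F n ∈ DD H := by
    intro t
    rw [τ_eq_SS]
    exact H.mul_mem (H.mul_mem (hS t) (h1 t)) (h0 t)
  exact gen_top (wEl F n) hw wEl_inl wEl_inl_last wEl_inr h0 h01

theorem two_gen_big [Fintype F] (hq : 3 < Fintype.card F) (n : ℕ) :
    ∃ a b : Matrix.symplecticGroup (Fin (n + 2)) F, Subgroup.closure {a, b} = ⊤ := by
  obtain ⟨g, hg⟩ := IsCyclic.exists_generator (α := Fˣ)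
  have hk0 : (g : F) ≠ 0 := g.ne_zero
  have hsq := gen_sq_ne_one hq g hg
  have hk1 : (g : F) ≠ 1 := by
    intro h; rw [h] at hsq; simp at hsq
  refine ⟨hEl (Sum.inl 0 : Fin (n + 2) ⊕ Fin (n + 2)) (g : F) hk0,
    τ (e0 F n) 1 * SS (e0 F n) (e1 F n) 1 * wEl F n, ?_⟩
  set H := Subgroup.closure ({hEl (Sum.inl 0 : Fin (n + 2) ⊕ Fin (n + 2)) (g : F) hk0,
    τ (e0 F n) 1 * SS (e0 F n) (e1 F n) 1 * wEl F n} : Set _) with hH
  have haH : hEl (Sum.inl 0 : Fin (n + 2) ⊕ Fin (n + 2)) (g : F) hk0 ∈ H :=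
    Subgroup.subset_closure (by simp)
  have hbH : τ (e0 F n) 1 * SS (e0 F n) (e1 F n) 1 * wEl F n ∈ H :=
    Subgroup.subset_closure (by simp)
  have hu1 := big_u1 (g : F) hk0 H haH hbH
  have hc := big_comm (g : F) hk0 H (1 - (g : F)) haH hu1
  have hSall : ∀ t : F, t ∈ ssSub H := by
    apply additive_gen g hg (ssSub H) _ hc
    · have e : (g : F) * (1 - (g : F)) - (1 - (g : F)) = -(((g : F) - 1) * ((g : F) - 1)) := by ring
      rw [e]
      exact neg_ne_zero.mpr (mul_ne_zero (sub_ne_zero.mpr hk1) (sub_ne_zero.mpr hk1))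
    · intro t ht
      rw [mem_ssSub] at ht ⊢
      have e := hEl0_SS (n := n) (g : F) hk0 t
      have e2 : SS (e0 F n) (e1 F n) ((g : F) * t) =
          hEl (Sum.inl 0 : Fin (n + 2) ⊕ Fin (n + 2)) (g : F) hk0 * SS (e0 F n) (e1 F n) t *
            (hEl (Sum.inl 0 : Fin (n + 2) ⊕ Fin (n + 2)) (g : F) hk0)⁻¹ := by
        rw [e]; group
      rw [e2]
      exact H.mul_mem (H.mul_mem haH ht) (H.inv_mem haH)
  have hS : ∀ t : F, SS (e0 F n) (e1 F n) t ∈ H := fun t => (mem_ssSub H t).mp (hSall t)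
  have hb' : τ (e0 F n) 1 * wEl F n ∈ H := by
    have e : τ (e0 F n) 1 * wEl F n = (SS (e0 F n) (e1 F n) 1)⁻¹ *
        (τ (e0 F n) 1 * SS (e0 F n) (e1 F n) 1 * wEl F n) := by
      rw [τ_comm_SS sf_e0_e1]; group
    rw [e]
    exact H.mul_mem (H.inv_mem (hS 1)) hbH
  have hchain := big_chain (g : F) hk0 H haH hb'
  have hlong := big_long (g : F) hk0 H haH hb' (hchain _)
  have hTall : ∀ t : F, t ∈ tauSub H := by
    apply additive_gen_sq g hg (tauSub H) _ hlong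
    · intro h
      apply hsq
      have h2 : (g : F)⁻¹ * (g : F)⁻¹ = 1 := by linear_combination -h
      have h3 : ((g : F) * (g : F)) * ((g : F)⁻¹ * (g : F)⁻¹) = 1 := by
        field_simp
      rw [h2, mul_one] at h3
      rw [pow_two]; exact h3
    · intro t ht
      rw [mem_tauSub] at ht ⊢
      have e := hEl0_τ (n := n) (g : F) hk0 t
      have e2 : τ (e0 F n) ((g : F) * (g : F) * t) =
          hEl (Sum.inl 0 : Fin (n + 2) ⊕ Fin (n + 2)) (g : F) hk0 * τ (e0 F n) t *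
            (hEl (Sum.inl 0 : Fin (n + 2) ⊕ Fin (n + 2)) (g : F) hk0)⁻¹ := by
        rw [e]; group
      rw [e2]
      exact H.mul_mem (H.mul_mem haH ht) (H.inv_mem haH)
  have h0 : e0 F n ∈ DD H := fun t => (mem_tauSub H t).mp (hTall t)
  have hw : wEl F n ∈ H := by
    have e : wEl F n = (τ (e0 F n) 1)⁻¹ * (τ (e0 F n) 1 * wEl F n) := by group
    rw [e]
    exact H.mul_mem (H.inv_mem (h0 1)) hb'
  exact top_of_e0_SS H hw h0 hS

variable {F : Type*} [Field F] {n : ℕ}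

lemma addsub_top_of_prime [Fintype F] {p : ℕ} (hp : p.Prime) (hq : Fintype.card F = p)
    (S : AddSubgroup F) (c : F) (hc : c ∈ S) (hc0 : c ≠ 0) : ∀ t : F, t ∈ S := by
  have : Fact (Nat.card F).Prime := ⟨by rw [Nat.card_eq_fintype_card, hq]; exact hp⟩
  rcases S.eq_bot_or_eq_top_of_prime_card with h | h
  · rw [h, AddSubgroup.mem_bot] at hc
    exact absurd hc hc0
  · intro t; rw [h]; exact AddSubgroup.mem_top t

lemma hEl_congr {m : ℕ} (j : Fin m ⊕ Fin m) (k k' : F) (hk : k ≠ 0) (hk' : k' ≠ 0) (h : k = k') :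
    hEl j k hk = hEl j k' hk' := by
  subst h; rfl

abbrev f1 (F : Type*) [Field F] (n : ℕ) : Fin (n + 2) ⊕ Fin (n + 2) → F := bv (Sum.inr 1)

lemma sf_e0_f1 : Cfsg.sympForm (n + 2) F (e0 F n) (f1 F n) = 0 := by
  rw [sf_bv]; simp [bv_apply]

lemma sf_e1_f1 : Cfsg.sympForm (n + 2) F (e1 F n) (f1 F n) = -1 := by
  rw [sf_bv]; simp [sg]

lemma sf_e1_e0 : Cfsg.sympForm (n + 2) F (e1 F n) (e0 F n) = 0 := by
  rw [sf_bv]; simp [bv_apply]

lemma sf_f1_e0 : Cfsg.sympForm (n + 2) F (f1 F n) (e0 F n) = 0 := by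
  rw [sf_bv]; simp [bv_apply]

lemma SS01_e0 (t : F) : (SS (e0 F n) (f1 F n) t).1 *ᵥ e0 F n = e0 F n := by
  rw [SS_mulVec sf_e0_f1, sf_e0_f1, sympForm_self]; simp

lemma SS01_e1 (t : F) : (SS (e0 F n) (f1 F n) t).1 *ᵥ e1 F n = e1 F n + (-t) • e0 F n := by
  rw [SS_mulVec sf_e0_f1, sf_e1_f1, sf_e1_e0]; simp

lemma hEl1_e0 (k : F) (hk : k ≠ 0) :
    (hEl (Sum.inl 1 : Fin (n + 2) ⊕ Fin (n + 2)) k hk).1 *ᵥ e0 F n = e0 F n := by
  apply hEl_e0_of_ne <;> simp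

lemma neg_one_ne_zero' : (-1 : F) ≠ 0 := neg_ne_zero.mpr one_ne_zero

def zEl (F : Type*) [Field F] (n : ℕ) : Matrix.symplecticGroup (Fin (n + 2)) F :=
  SS (e0 F n) (f1 F n) 1 * hEl (Sum.inl 1) (-1) neg_one_ne_zero' * (SS (e0 F n) (f1 F n) 1)⁻¹

lemma zEl_sq : zEl F n * zEl F n = 1 := by
  unfold zEl
  have h : hEl (Sum.inl 1 : Fin (n + 2) ⊕ Fin (n + 2)) (-1 : F) neg_one_ne_zero' *
      hEl (Sum.inl 1) (-1) neg_one_ne_zero' = 1 := by
    rw [hEl_mul, ← hEl_one (Sum.inl 1 : Fin (n + 2) ⊕ Fin (n + 2))]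
    apply hEl_congr
    ring
  calc SS (e0 F n) (f1 F n) 1 * hEl (Sum.inl 1) (-1) neg_one_ne_zero' * (SS (e0 F n) (f1 F n) 1)⁻¹ *
      (SS (e0 F n) (f1 F n) 1 * hEl (Sum.inl 1) (-1) neg_one_ne_zero' * (SS (e0 F n) (f1 F n) 1)⁻¹)
      = SS (e0 F n) (f1 F n) 1 * (hEl (Sum.inl 1) (-1) neg_one_ne_zero' *
        hEl (Sum.inl 1) (-1) neg_one_ne_zero') * (SS (e0 F n) (f1 F n) 1)⁻¹ := by group
    _ = 1 := by rw [h]; group

lemma zEl_e0 : (zEl F n).1 *ᵥ e0 F n = e0 F n := by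
  unfold zEl
  rw [mmv, mmv, SS_inv sf_e0_f1, SS01_e0, hEl1_e0, SS01_e0]

lemma zEl_e1 : (zEl F n).1 *ᵥ e1 F n = (-1 : F) • e1 F n + (2 : F) • e0 F n := by
  unfold zEl
  rw [mmv, mmv, SS_inv sf_e0_f1, SS01_e1, Matrix.mulVec_add, Matrix.mulVec_smul, hEl1_e0, hEl1_e1,
    Matrix.mulVec_add, Matrix.mulVec_smul, Matrix.mulVec_smul, SS01_e0, SS01_e1]
  module

lemma zEl_τ (t : F) : zEl F n * τ (e0 F n) t = τ (e0 F n) t * zEl F n := by
  rw [conj_τ, zEl_e0]

theorem two_gen_three [Fintype F] (hq : Fintype.card F = 3) (n : ℕ) :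
    ∃ a b : Matrix.symplecticGroup (Fin (n + 2)) F, Subgroup.closure {a, b} = ⊤ := by
  have h3 : (3 : F) = 0 := by
    have := FiniteField.cast_card_eq_zero F
    rw [hq] at this
    exact_mod_cast this
  have h2 : (2 : F) = -1 := by linear_combination h3
  refine ⟨τ (e0 F n) 1 * zEl F n, wEl F n, ?_⟩
  set H := Subgroup.closure ({τ (e0 F n) 1 * zEl F n, wEl F n} : Set _) with hH
  have haH : τ (e0 F n) 1 * zEl F n ∈ H := Subgroup.subset_closure (by simp)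
  have hw : wEl F n ∈ H := Subgroup.subset_closure (by simp)
  have ha2 : (τ (e0 F n) 1 * zEl F n) * (τ (e0 F n) 1 * zEl F n) = τ (e0 F n) 2 := by
    calc (τ (e0 F n) 1 * zEl F n) * (τ (e0 F n) 1 * zEl F n)
        = τ (e0 F n) 1 * (zEl F n * τ (e0 F n) 1) * zEl F n := by group
      _ = τ (e0 F n) 1 * τ (e0 F n) 1 * (zEl F n * zEl F n) := by rw [zEl_τ]; group
      _ = τ (e0 F n) 2 := by rw [zEl_sq, mul_one, τ_add]; norm_num
  have h2mem : (2 : F) ∈ tauSub H := by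
    rw [mem_tauSub, ← ha2]
    exact H.mul_mem haH haH
  have hTall := addsub_top_of_prime Nat.prime_three hq (tauSub H) 2 h2mem
    (by rw [h2]; exact neg_one_ne_zero')
  have h0 : e0 F n ∈ DD H := fun t => (mem_tauSub H t).mp (hTall t)
  have hz : zEl F n ∈ H := by
    have e : zEl F n = (τ (e0 F n) 1)⁻¹ * (τ (e0 F n) 1 * zEl F n) := by group
    rw [e]
    exact H.mul_mem (H.inv_mem (h0 1)) haH
  have h1 : e1 F n ∈ DD H := by
    have := DD_act h0 hw
    rwa [wEl_e0] at this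
  have h01 : e0 F n + e1 F n ∈ DD H := by
    have := DD_smul (DD_act h1 hz) (-1)
    rw [zEl_e1] at this
    have e : (-1 : F) • ((-1 : F) • e1 F n + (2 : F) • e0 F n) = e0 F n + e1 F n := by
      rw [h2]; module
    rwa [e] at this
  exact gen_top (wEl F n) hw wEl_inl wEl_inl_last wEl_inr h0 h01

variable {F : Type*} [Field F] {n : ℕ}

def tauSubV {m : ℕ} (H : Subgroup (Matrix.symplecticGroup (Fin m) F)) (x : Fin m ⊕ Fin m → F) :
    AddSubgroup F where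
  carrier := {t | τ x t ∈ H}
  zero_mem' := by
    show τ x 0 ∈ H
    rw [τ_zero]; exact H.one_mem
  add_mem' := by
    intro s t hs ht
    show τ x (s + t) ∈ H
    rw [← τ_add]; exact H.mul_mem hs ht
  neg_mem' := by
    intro s hs
    show τ x (-s) ∈ H
    rw [← τ_inv']; exact H.inv_mem hs

lemma mem_tauSubV {m : ℕ} (H : Subgroup (Matrix.symplecticGroup (Fin m) F)) (x : Fin m ⊕ Fin m → F)
    (t : F) : t ∈ tauSubV H x ↔ τ x t ∈ H := Iff.rfl

lemma DD_of_one_two [Fintype F] (hq : Fintype.card F = 2) {m : ℕ}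
    (H : Subgroup (Matrix.symplecticGroup (Fin m) F)) (x : Fin m ⊕ Fin m → F)
    (h : τ x 1 ∈ H) : x ∈ DD H := by
  intro t
  exact (mem_tauSubV H x t).mp
    (addsub_top_of_prime Nat.prime_two hq (tauSubV H x) 1 h one_ne_zero t)

lemma grp_two_three {G : Type*} [Group G] (t c : G) (htc : t * c = c * t) (ht : t * t = 1)
    (hc : c * c * c = 1) : (t * c) * (t * c) * ((t * c) * (t * c)) = c := by
  have e1 : (t * c) * (t * c) = c * c := by
    calc (t * c) * (t * c) = t * (c * t) * c := by group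
      _ = (t * t) * c * c := by rw [← htc]; group
      _ = c * c := by rw [ht, one_mul]
  rw [e1]
  calc c * c * (c * c) = (c * c * c) * c := by group
    _ = c := by rw [hc, one_mul]

lemma grp_braid_three {G : Type*} [Group G] (x y : G) (hx : x * x = 1) (hy : y * y = 1)
    (hb : x * y * x = y * x * y) : (x * y) * (x * y) * (x * y) = 1 := by
  calc (x * y) * (x * y) * (x * y) = (x * y * x) * (y * x * y) := by group
    _ = (x * y * x) * (x * y * x) := by rw [hb]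
    _ = x * y * (x * x) * y * x := by group
    _ = x * (y * y) * x := by rw [hx]; group
    _ = 1 := by rw [hy, mul_one, hx]

abbrev u01 (F : Type*) [Field F] (n : ℕ) : Fin (n + 2) ⊕ Fin (n + 2) → F := e0 F n + e1 F n

lemma sf_e0_u01 : Cfsg.sympForm (n + 2) F (e0 F n) (u01 F n) = 0 := by
  rw [sympForm_add_right, sympForm_self, sf_e0_e1, add_zero]

lemma sf_u01_f1 : Cfsg.sympForm (n + 2) F (u01 F n) (f1 F n) = -1 := by
  rw [sympForm_add_left, sf_e0_f1, sf_e1_f1, zero_add]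

lemma sf_f1_u01 : Cfsg.sympForm (n + 2) F (f1 F n) (u01 F n) = 1 := by
  rw [sympForm_swap, sf_u01_f1, neg_neg]

section two
variable [Fintype F] (hq : Fintype.card F = 2)
include hq

lemma two_eq_zero' : (2 : F) = 0 := by
  have := FiniteField.cast_card_eq_zero F
  rw [hq] at this
  exact_mod_cast this

lemma τ_sq_two {m : ℕ} (x : Fin m ⊕ Fin m → F) : τ x 1 * τ x 1 = 1 := by
  rw [τ_add, one_add_one_eq_two, two_eq_zero' hq, τ_zero]

lemma braid_two : τ (u01 F n) 1 * τ (f1 F n) 1 * τ (u01 F n) 1 =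
    τ (f1 F n) 1 * τ (u01 F n) 1 * τ (f1 F n) 1 := by
  have hm1 : (-1 : F) = 1 := by linear_combination -(two_eq_zero' hq)
  have e1 : τ (u01 F n) 1 * τ (f1 F n) 1 = τ (f1 F n + u01 F n) 1 * τ (u01 F n) 1 := by
    rw [conj_τ, τ_mulVec, sf_f1_u01]; simp
  have e2 : τ (f1 F n) 1 * τ (u01 F n) 1 = τ (f1 F n + u01 F n) 1 * τ (f1 F n) 1 := by
    rw [conj_τ, τ_mulVec, sf_u01_f1, mul_neg, mul_one, hm1, one_smul, add_comm (u01 F n) (f1 F n)]
  rw [e1, e2, mul_assoc, mul_assoc, τ_sq_two hq, τ_sq_two hq]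

theorem two_gen_two (n : ℕ) :
    ∃ a b : Matrix.symplecticGroup (Fin (n + 2)) F, Subgroup.closure {a, b} = ⊤ := by
  set c := τ (u01 F n) 1 * τ (f1 F n) 1 with hc
  refine ⟨τ (e0 F n) 1 * c, wEl F n, ?_⟩
  set H := Subgroup.closure ({τ (e0 F n) 1 * c, wEl F n} : Set _) with hH
  have haH : τ (e0 F n) 1 * c ∈ H := Subgroup.subset_closure (by simp)
  have hw : wEl F n ∈ H := Subgroup.subset_closure (by simp)
  have hc3 : c * c * c = 1 :=
    grp_braid_three _ _ (τ_sq_two hq _) (τ_sq_two hq _) (braid_two hq)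
  have hce0 : c.1 *ᵥ e0 F n = e0 F n := by
    have h1 : (τ (f1 F n) 1).1 *ᵥ e0 F n = e0 F n := by
      rw [τ_mulVec, sf_e0_f1]; simp
    rw [hc, mmv, h1, τ_mulVec, sf_e0_u01]; simp
  have hcomm : τ (e0 F n) 1 * c = c * τ (e0 F n) 1 := by
    rw [conj_τ c, hce0]
  have hcH : c ∈ H := by
    rw [← grp_two_three _ _ hcomm (τ_sq_two hq _) hc3]
    exact H.mul_mem (H.mul_mem haH haH) (H.mul_mem haH haH)
  have hτ : τ (e0 F n) 1 ∈ H := by
    have e : τ (e0 F n) 1 = (τ (e0 F n) 1 * c) * c⁻¹ := by group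
    rw [e]
    exact H.mul_mem haH (H.inv_mem hcH)
  have h0 : e0 F n ∈ DD H := DD_of_one_two hq H _ hτ
  have hb := gen_hb (wEl F n) hw wEl_inl wEl_inl_last wEl_inr h0
  have hu : τ (u01 F n) 1 ∈ H := by
    have e : τ (u01 F n) 1 = c * (τ (f1 F n) 1)⁻¹ := by rw [hc]; group
    rw [e]
    exact H.mul_mem hcH (H.inv_mem (hb (Sum.inr 1) 1))
  have h01 : e0 F n + e1 F n ∈ DD H := DD_of_one_two hq H _ hu
  exact gen_top (wEl F n) hw wEl_inl wEl_inl_last wEl_inr h0 h01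

end two

theorem two_gen [Fintype F] (n : ℕ) :
    ∃ a b : Matrix.symplecticGroup (Fin (n + 2)) F, Subgroup.closure {a, b} = ⊤ := by
  have h1 : 1 < Fintype.card F := Fintype.one_lt_card
  rcases Nat.lt_or_ge 3 (Fintype.card F) with h | h
  · exact two_gen_big h n
  · have : Fintype.card F = 2 ∨ Fintype.card F = 3 := by omega
    rcases this with h2 | h3
    · exact two_gen_two h2 n
    · exact two_gen_three h3 n

end Cfsg.Agent.Lib.helper15.SpGen
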