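import Mathlib
import Cfsg.Prelude.Def_LieTypeChar
import Cfsg.Agent.Lib.helper14.SQD.Defs
import Cfsg.Agent.Lib.helper14.SQD.DefsU

/-!
# Project SQD (S4625, designer helper14), row UE1 (`mem_su_iff`).

`g ∈ SU n F (2 ^ e)` iff `gᵀ * g^τ = 1`, `τ = frobE F e`.  Extras: `sqdue1_herm` (the Hermitian form as a dot
product), `sqdue1_herm_mulVec` (`hermForm (g u) (g v) = u ⬝ᵥ (gᵀ * g^τ) *ᵥ v^τ`), both over any field of
characteristic 2 (no finiteness).
-/

set_option autoImplicit false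

namespace Cfsg.Agent.Lib.helper14.SQD

open Cfsg Cfsg.Lie Matrix

universe u v

section UE1x
variable {F : Type u} [Field F] [CharP F 2] (e : ℕ)

/-- the Hermitian form as a dot product with the twisted vector -/
theorem sqdue1_herm (n : ℕ) (u v : Fin n → F) :
    hermForm n F (2 ^ e) u v = u ⬝ᵥ (fun i => frobE F e (v i)) := by
  unfold hermForm dotProduct
  apply Finset.sum_congr rfl
  intro i _
  show u i * v i ^ 2 ^ e = u i * (iterateFrobenius F 2 e) (v i)
  rw [iterateFrobenius_def]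

/-- `hermForm (g u) (g v) = u ⬝ᵥ (gᵀ * g^τ) *ᵥ v^τ` -/
theorem sqdue1_herm_mulVec (n : ℕ) (g : Matrix (Fin n) (Fin n) F) (u v : Fin n → F) :
    hermForm n F (2 ^ e) (g *ᵥ u) (g *ᵥ v) =
      u ⬝ᵥ ((gᵀ * g.map (frobE F e)) *ᵥ (fun i => frobE F e (v i))) := by
  rw [sqdue1_herm]
  have h1 : (fun i => frobE F e ((g *ᵥ v) i)) = g.map (frobE F e) *ᵥ (fun i => frobE F e (v i)) := by
    funext i
    exact RingHom.map_mulVec (frobE F e) g v i
  rw [h1, ← Matrix.mulVec_mulVec, Matrix.dotProduct_mulVec u, Matrix.vecMul_transpose]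

end UE1x

section UE
variable {F : Type} [Field F] [Fintype F] [CharP F 2] (e : ℕ) {k : ℕ}

/-- UE1 [M]. -/
theorem mem_su_iff (n : ℕ) (g : Matrix.SpecialLinearGroup (Fin n) F) :
    g ∈ SU n F (2 ^ e) ↔
      (g : Matrix (Fin n) (Fin n) F)ᵀ * (g : Matrix (Fin n) (Fin n) F).map (frobE F e) = 1 := by
  have hcoe : (slToMat n F g : Matrix (Fin n) (Fin n) F) = (g : Matrix (Fin n) (Fin n) F) := rfl
  constructor
  · intro hg
    have hg' : ∀ u v : Fin n → F, hermForm n F (2 ^ e) ((g : Matrix (Fin n) (Fin n) F) *ᵥ u)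
        ((g : Matrix (Fin n) (Fin n) F) *ᵥ v) = hermForm n F (2 ^ e) u v := fun u v => hg u v
    ext i j
    have h := hg' (Pi.single i 1) (Pi.single j 1)
    rw [sqdue1_herm_mulVec, sqdue1_herm] at h
    have hs : (fun l => frobE F e ((Pi.single j (1 : F) : Fin n → F) l)) = Pi.single j 1 := by
      funext l
      by_cases hl : l = j
      · subst hl; simp
      · simp [Pi.single_eq_of_ne hl]
    rw [hs] at h
    rw [Matrix.one_apply]
    by_cases hij : i = j
    · subst hij
      simpa using h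
    · rw [if_neg hij]
      simpa [Pi.single_eq_of_ne (Ne.symm hij)] using h
  · intro h u v
    show hermForm n F (2 ^ e) ((slToMat n F g) *ᵥ u) ((slToMat n F g) *ᵥ v) = hermForm n F (2 ^ e) u v
    rw [hcoe, sqdue1_herm_mulVec, h, Matrix.one_mulVec, sqdue1_herm]

end UE

end Cfsg.Agent.Lib.helper14.SQD
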