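import Mathlib
import Cfsg.Agent.Lib.helper3.SU5.Defs
import Cfsg.Agent.Lib.Helper27.STUQ1
import Cfsg.Agent.Lib.helper2.STUV1

/-!
# Project SU5 (designer helper3; odd side of S2291), block I, row I4 (`XpU_mul`, `XmU_mul`, `WU_XpU`, `WU_XmU`), VERBATIM vs `helper3/SU5/Skel.lean.txt`.
-/

set_option autoImplicit false

namespace Cfsg.Agent.Lib.helper3.SU5

open Cfsg.Agent.Lib.helper15.St2 Cfsg.Agent.Lib.Helper27.STU
open Cfsg.Agent.Lib.helper3.STC (ng sws)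

universe u v w w₀

section I

variable {F : Type u} [Field F] [StarRing F] {od : Prop}

/-- I4 [S-M]  the rank one group: products, and the long Weyl element on its root elements (`Subtype.ext` twice down to matrices; `stuq1_XpM_mul`, `WM_eq`, `WM_mul_XpM`, `WM_mul_XmM`;
`cj g x = y` from `g * x = y * g`). -/
theorem XpU_mul (ξ η : Lam F od) : XpU ξ * XpU η = XpU (ξ * η) := by
  apply Subtype.ext
  apply Subtype.ext
  show XpM ξ * XpM η = XpM (ξ * η)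
  exact stuq1_XpM_mul ξ η

theorem XmU_mul (ξ η : Lam F od) : XmU ξ * XmU η = XmU (ξ * η) := by
  apply Subtype.ext
  apply Subtype.ext
  show XmM ξ * XmM η = XmM (ξ * η)
  exact stuq1_XmM_mul ξ η

theorem WU_XpU {ξ : Lam F od} (hc : ξ.c ≠ 0) (η : Lam F od) :
    cj (WU ξ) (XpU η) = XmU (Lam.act (-(ξ.c / (star ξ.c) ^ 2)) η) := by
  have h : WU ξ * XpU η = XmU (Lam.act (-(ξ.c / (star ξ.c) ^ 2)) η) * WU ξ := by
    apply Subtype.ext
    apply Subtype.ext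
    show XpM ξ * XmM (Lam.mu ξ) * XpM (Lam.nu ξ) * XpM η =
      XmM (Lam.act (-(ξ.c / (star ξ.c) ^ 2)) η) * (XpM ξ * XmM (Lam.mu ξ) * XpM (Lam.nu ξ))
    rw [SysU.WM_eq hc]
    exact SysU.WM_mul_XpM hc η
  unfold cj
  rw [h, mul_inv_cancel_right]

theorem WU_XmU {ξ : Lam F od} (hc : ξ.c ≠ 0) (η : Lam F od) :
    cj (WU ξ) (XmU η) = XpU (Lam.act (-(ξ.c ^ 2 / star ξ.c)) η) := by
  have h : WU ξ * XmU η = XpU (Lam.act (-(ξ.c ^ 2 / star ξ.c)) η) * WU ξ := by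
    apply Subtype.ext
    apply Subtype.ext
    show XpM ξ * XmM (Lam.mu ξ) * XpM (Lam.nu ξ) * XmM η =
      XpM (Lam.act (-(ξ.c ^ 2 / star ξ.c)) η) * (XpM ξ * XmM (Lam.mu ξ) * XpM (Lam.nu ξ))
    rw [SysU.WM_eq hc]
    exact SysU.WM_mul_XmM hc η
  unfold cj
  rw [h, mul_inv_cancel_right]

end I

end Cfsg.Agent.Lib.helper3.SU5
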