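import Mathlib
import Cfsg.Agent.Lib.helper17.SLP.Defs
import Cfsg.Agent.Lib.helper3.SP4.Defs
import Cfsg.Agent.Lib.Helper22.SU4.Defs
import Cfsg.Agent.Lib.Helper27.STU.Defs
import Cfsg.Agent.Lib.Helper27.STU.Defs3
import Cfsg.Agent.Lib.Helper19.SU5.Defs

/-!
# SU5 F7 (`hu_conjU`): the torus of `SU₃` on its root elements.
-/

set_option autoImplicit false

namespace Cfsg.Agent.Lib.Helper19.SU5

open Cfsg.Agent.Lib.helper17.SLP Cfsg.Agent.Lib.helper3.SP4 Cfsg.Agent.Lib.Helper22.SU4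
open Cfsg.Agent.Lib.Helper27.STU (Lam XpM XmM XpS XmS SUm XpU XmU)

universe u v

section F

variable {F : Type u} {K : Type u} [Field F] [Field K] [StarRing F] {D : Tw F K}

/-- the matrix identity behind the action of the torus on `XpM`. -/
theorem su5f7_XpM (r : F) (hr : r ≠ 0) (ξ : Lam F True) :
    (!![r, 0, 0; 0, star r / r, 0; 0, 0, (star r)⁻¹] : Matrix (Fin 3) (Fin 3) F) * XpM ξ =
      XpM (Lam.act (r ^ 2 / star r) ξ) * !![r, 0, 0; 0, star r / r, 0; 0, 0, (star r)⁻¹] := by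
  have hsr : star r ≠ 0 := star_ne_zero.mpr hr
  ext i j
  fin_cases i <;> fin_cases j <;>
    simp [XpM, Matrix.mul_apply, Fin.sum_univ_three, star_div₀, star_pow] <;>
    field_simp

/-- the matrix identity behind the action of the torus on `XmM`. -/
theorem su5f7_XmM (r : F) (hr : r ≠ 0) (ξ : Lam F True) :
    (!![r, 0, 0; 0, star r / r, 0; 0, 0, (star r)⁻¹] : Matrix (Fin 3) (Fin 3) F) * XmM ξ =
      XmM (Lam.act (r / star r ^ 2) ξ) * !![r, 0, 0; 0, star r / r, 0; 0, 0, (star r)⁻¹] := by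
  have hsr : star r ≠ 0 := star_ne_zero.mpr hr
  ext i j
  fin_cases i <;> fin_cases j <;>
    simp [XmM, Matrix.mul_apply, Fin.sum_univ_three, star_div₀, star_pow] <;>
    field_simp

/-- F7 [M]  the torus of `SU₃` on its root elements. -/
theorem hu_conjU (P : RO D) (r : Fˣ) (ξ : Lam F True) :
    P.HU r * XpU ξ * (P.HU r)⁻¹ = XpU (Lam.act ((r : F) ^ 2 / star (r : F)) ξ) ∧
      P.HU r * XmU ξ * (P.HU r)⁻¹ = XmU (Lam.act ((r : F) / star (r : F) ^ 2) ξ) := by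
  constructor
  · rw [mul_inv_eq_iff_eq_mul]
    apply Cfsg.Agent.Lib.Helper27.STU.SUm.mat_injective
    rw [Cfsg.Agent.Lib.Helper27.STU.SUm.mat_mul, Cfsg.Agent.Lib.Helper27.STU.SUm.mat_mul, P.HU_mat,
      Cfsg.Agent.Lib.Helper27.STU.SUm.mat_XpU, Cfsg.Agent.Lib.Helper27.STU.SUm.mat_XpU]
    exact su5f7_XpM (r : F) r.ne_zero ξ
  · rw [mul_inv_eq_iff_eq_mul]
    apply Cfsg.Agent.Lib.Helper27.STU.SUm.mat_injective
    rw [Cfsg.Agent.Lib.Helper27.STU.SUm.mat_mul, Cfsg.Agent.Lib.Helper27.STU.SUm.mat_mul, P.HU_mat,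
      Cfsg.Agent.Lib.Helper27.STU.SUm.mat_XmU, Cfsg.Agent.Lib.Helper27.STU.SUm.mat_XmU]
    exact su5f7_XmM (r : F) r.ne_zero ξ

end F

end Cfsg.Agent.Lib.Helper19.SU5
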