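import Mathlib
import Cfsg.Agent.Lib.helper17.SLP.Defs
import Cfsg.Agent.Lib.helper3.SP4.Defs
import Cfsg.Agent.Lib.Helper22.SU4.Defs
import Cfsg.Prelude.Def_Classical
import Cfsg.Agent.Lib.Lead.SP4E4

/-!
# Project SU4 (helper22), row E4 (helper15): `bn_count8T`, verbatim.  Copy of `Lead.SP4E4` with two sizes
(on its lemmas `sp4e4_ext`, `sp4e4_card_ext`, `sp4e4_cover_ext`).
-/

set_option autoImplicit false

namespace Cfsg.Agent.Lib.Helper22.SU4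

open Cfsg.Agent.Lib.helper17.SLP Cfsg.Agent.Lib.helper3.SP4

universe u v

section E

variable {G : Type u} [Group G]

/-- E4 [M] -/
theorem bn_count8T (B : Subgroup G) [Finite B] (n1 n2 : G) (X1 X2 : Set G) (q₁ q₂ : ℕ)
    (hX1 : X1.Finite ∧ X1.ncard ≤ q₁) (hX2 : X2.Finite ∧ X2.ncard ≤ q₂)
    (hc1 : ∀ g ∈ B, ∃ b ∈ B, ∃ y ∈ X1, n1 * g = b * n1 * y)
    (hc2 : ∀ g ∈ B, ∃ b ∈ B, ∃ y ∈ X2, n2 * g = b * n2 * y)
    (hall : ∀ g : G, g ∈ Cell8 B n1 n2) :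
    Finite G ∧ Nat.card G ≤ Nat.card B *
      (1 + q₁ + q₂ + 2 * (q₁ * q₂) + q₁ ^ 2 * q₂ + q₁ * q₂ ^ 2 + q₁ ^ 2 * q₂ ^ 2) := by
  classical
  have hBfin : (B : Set G).Finite := Set.toFinite _
  set Bf : Finset G := hBfin.toFinset with hBf
  set Y1 : Finset G := hX1.1.toFinset with hY1
  set Y2 : Finset G := hX2.1.toFinset with hY2
  have hBmem : ∀ g, g ∈ Bf ↔ g ∈ B := fun g => by rw [hBf, Set.Finite.mem_toFinset]; rfl
  have hY1mem : ∀ g, g ∈ Y1 ↔ g ∈ X1 := fun g => by rw [hY1, Set.Finite.mem_toFinset]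
  have hY2mem : ∀ g, g ∈ Y2 ↔ g ∈ X2 := fun g => by rw [hY2, Set.Finite.mem_toFinset]
  have hBcard : Bf.card = Nat.card B := by
    rw [hBf, ← Set.ncard_eq_toFinset_card _ hBfin]
    exact (Nat.card_coe_set_eq (B : Set G))
  have hY1card : Y1.card ≤ q₁ := by
    rw [hY1, ← Set.ncard_eq_toFinset_card _ hX1.1]; exact hX1.2
  have hY2card : Y2.card ≤ q₂ := by
    rw [hY2, ← Set.ncard_eq_toFinset_card _ hX2.1]; exact hX2.2
  set cB := Nat.card B with hcB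
  -- covering sets
  have v0 : ∀ b₁ ∈ B, ∀ b₂ ∈ B, b₁ * 1 * b₂ ∈ Bf := by
    intro b₁ h₁ b₂ h₂
    rw [hBmem, mul_one]
    exact B.mul_mem h₁ h₂
  have k0 : Bf.card ≤ cB := le_of_eq hBcard
  set S1 := sp4e4_ext Bf n1 Y1 with hS1
  set S2 := sp4e4_ext Bf n2 Y2 with hS2
  set S12 := sp4e4_ext S1 n2 Y2 with hS12
  set S21 := sp4e4_ext S2 n1 Y1 with hS21
  set S121 := sp4e4_ext S12 n1 Y1 with hS121
  set S212 := sp4e4_ext S21 n2 Y2 with hS212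
  set S1212 := sp4e4_ext S121 n2 Y2 with hS1212
  have v1 : ∀ b₁ ∈ B, ∀ b₂ ∈ B, b₁ * n1 * b₂ ∈ S1 := by
    have := sp4e4_cover_ext B Bf 1 n1 X1 Y1 hY1mem hc1 v0
    simpa only [one_mul] using this
  have v2 : ∀ b₁ ∈ B, ∀ b₂ ∈ B, b₁ * n2 * b₂ ∈ S2 := by
    have := sp4e4_cover_ext B Bf 1 n2 X2 Y2 hY2mem hc2 v0
    simpa only [one_mul] using this
  have v12 : ∀ b₁ ∈ B, ∀ b₂ ∈ B, b₁ * (n1 * n2) * b₂ ∈ S12 :=
    sp4e4_cover_ext B S1 n1 n2 X2 Y2 hY2mem hc2 v1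
  have v21 : ∀ b₁ ∈ B, ∀ b₂ ∈ B, b₁ * (n2 * n1) * b₂ ∈ S21 :=
    sp4e4_cover_ext B S2 n2 n1 X1 Y1 hY1mem hc1 v2
  have v121 : ∀ b₁ ∈ B, ∀ b₂ ∈ B, b₁ * (n1 * n2 * n1) * b₂ ∈ S121 :=
    sp4e4_cover_ext B S12 (n1 * n2) n1 X1 Y1 hY1mem hc1 v12
  have v212 : ∀ b₁ ∈ B, ∀ b₂ ∈ B, b₁ * (n2 * n1 * n2) * b₂ ∈ S212 :=
    sp4e4_cover_ext B S21 (n2 * n1) n2 X2 Y2 hY2mem hc2 v21
  have v1212 : ∀ b₁ ∈ B, ∀ b₂ ∈ B, b₁ * (n1 * n2 * n1 * n2) * b₂ ∈ S1212 :=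
    sp4e4_cover_ext B S121 (n1 * n2 * n1) n2 X2 Y2 hY2mem hc2 v121
  have k1 : S1.card ≤ cB * q₁ := sp4e4_card_ext Bf n1 Y1 cB q₁ k0 hY1card
  have k2 : S2.card ≤ cB * q₂ := sp4e4_card_ext Bf n2 Y2 cB q₂ k0 hY2card
  have k12 : S12.card ≤ cB * q₁ * q₂ := sp4e4_card_ext S1 n2 Y2 (cB * q₁) q₂ k1 hY2card
  have k21 : S21.card ≤ cB * q₂ * q₁ := sp4e4_card_ext S2 n1 Y1 (cB * q₂) q₁ k2 hY1card
  have k121 : S121.card ≤ cB * q₁ * q₂ * q₁ := sp4e4_card_ext S12 n1 Y1 (cB * q₁ * q₂) q₁ k12 hY1card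
  have k212 : S212.card ≤ cB * q₂ * q₁ * q₂ := sp4e4_card_ext S21 n2 Y2 (cB * q₂ * q₁) q₂ k21 hY2card
  have k1212 : S1212.card ≤ cB * q₁ * q₂ * q₁ * q₂ :=
    sp4e4_card_ext S121 n2 Y2 (cB * q₁ * q₂ * q₁) q₂ k121 hY2card
  let T : Finset G := Bf ∪ S1 ∪ S2 ∪ S12 ∪ S21 ∪ S121 ∪ S212 ∪ S1212
  have hcov : ∀ g : G, g ∈ T := by
    intro g
    obtain ⟨m, hm, b₁, h₁, b₂, h₂, hg⟩ := hall g
    simp only [cells8, Set.mem_insert_iff, Set.mem_singleton_iff] at hm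
    simp only [T, Finset.mem_union]
    rw [hg]
    rcases hm with hm | hm | hm | hm | hm | hm | hm | hm <;> rw [hm]
    · left; left; left; left; left; left; left
      exact v0 b₁ h₁ b₂ h₂
    · left; left; left; left; left; left; right
      exact v1 b₁ h₁ b₂ h₂
    · left; left; left; left; left; right
      exact v2 b₁ h₁ b₂ h₂
    · left; left; left; left; right
      exact v12 b₁ h₁ b₂ h₂
    · left; left; left; right
      exact v21 b₁ h₁ b₂ h₂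
    · left; left; right
      exact v121 b₁ h₁ b₂ h₂
    · left; right
      exact v212 b₁ h₁ b₂ h₂
    · right
      exact v1212 b₁ h₁ b₂ h₂
  have hfin : Finite G := by
    have : (Set.univ : Set G) ⊆ (T : Set G) := fun g _ => hcov g
    exact Set.finite_univ_iff.mp (Set.Finite.subset T.finite_toSet this)
  refine ⟨hfin, ?_⟩
  have hcard : Nat.card G ≤ T.card := by
    have : Fintype G := Fintype.ofFinite G
    rw [Nat.card_eq_fintype_card, ← Finset.card_univ]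
    exact Finset.card_le_card (fun g _ => hcov g)
  have hT : T.card ≤ Bf.card + S1.card + S2.card + S12.card + S21.card + S121.card + S212.card
      + S1212.card := by
    simp only [T]
    refine le_trans (Finset.card_union_le _ _) (Nat.add_le_add_right ?_ _)
    refine le_trans (Finset.card_union_le _ _) (Nat.add_le_add_right ?_ _)
    refine le_trans (Finset.card_union_le _ _) (Nat.add_le_add_right ?_ _)
    refine le_trans (Finset.card_union_le _ _) (Nat.add_le_add_right ?_ _)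
    refine le_trans (Finset.card_union_le _ _) (Nat.add_le_add_right ?_ _)
    refine le_trans (Finset.card_union_le _ _) (Nat.add_le_add_right ?_ _)
    exact Finset.card_union_le _ _
  calc Nat.card G ≤ T.card := hcard
    _ ≤ Bf.card + S1.card + S2.card + S12.card + S21.card + S121.card + S212.card
          + S1212.card := hT
    _ ≤ cB + cB * q₁ + cB * q₂ + cB * q₁ * q₂ + cB * q₂ * q₁ + cB * q₁ * q₂ * q₁ + cB * q₂ * q₁ * q₂
          + cB * q₁ * q₂ * q₁ * q₂ := by omega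
    _ = cB * (1 + q₁ + q₂ + 2 * (q₁ * q₂) + q₁ ^ 2 * q₂ + q₁ * q₂ ^ 2 + q₁ ^ 2 * q₂ ^ 2) := by ring

end E

end Cfsg.Agent.Lib.Helper22.SU4
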