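import Mathlib
import Cfsg.Agent.Lib.helper17.SLP.Defs
import Cfsg.Agent.Lib.helper3.SP4.Defs
import Cfsg.Agent.Lib.Helper22.SU4.Defs
import Cfsg.Prelude.Def_Classical
import Cfsg.Agent.Lib.helper8.SP4D1
import Cfsg.Agent.Lib.Helper5.SU4T9

/-!
# Project SU4 (helper22), row D2 (helper15): `rd_commT`, verbatim.  Model: `helper8.SP4D2`.
-/

set_option autoImplicit false

namespace Cfsg.Agent.Lib.Helper22.SU4

open Cfsg.Agent.Lib.helper17.SLP Cfsg.Agent.Lib.helper3.SP4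

universe u v

section D

variable {F : Type u} {K : Type u} [Field F] [Field K] [Fintype F] [Fintype K] {G : Type v} [Group G]

set_option linter.unusedSectionVars false in
/-- D2 [M] -/
theorem rd_commT (D : Tw F K) (φa : Matrix.SpecialLinearGroup (Fin 2) F →* G)
    (φb : Matrix.SpecialLinearGroup (Fin 2) K →* G) (C : Comm4T D φa φb) :
    (∀ a ∈ RG (rx φa), ∀ d ∈ RG (xdT φa φb), Commute a d) ∧
      (∀ b ∈ RG (rx φb), ∀ d ∈ RG (xdT φa φb), Commute b d) ∧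
      (∀ c ∈ RG (xcT φa φb), ∀ d ∈ RG (xdT φa φb), Commute c d) ∧
      (∀ b ∈ RG (rx φb), ∀ c ∈ RG (xcT φa φb), Commute b c) ∧
      (∀ a ∈ RG (rx φa), ∀ c ∈ RG (xcT φa φb), a * c * a⁻¹ * c⁻¹ ∈ RG (xdT φa φb)) ∧
      (∀ a ∈ RG (rx φa), ∀ b ∈ RG (rx φb), ∃ c ∈ RG (xcT φa φb), ∃ d ∈ RG (xdT φa φb),
        a * b * a⁻¹ * b⁻¹ = c * d) := by
  have ha := sp4d1_mem (rx φa) (sp4d1_rx_add φa)
  have hb := sp4d1_mem (rx φb) (sp4d1_rx_add φb)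
  have hc := sp4d1_mem (xcT φa φb) (xcd_addT φa φb).1
  have hd := sp4d1_mem (xdT φa φb) (xcd_addT φa φb).2.1
  refine ⟨?_, ?_, ?_, ?_, ?_, ?_⟩
  · intro a haa d hdd
    obtain ⟨s, rfl⟩ := (ha a).mp haa
    obtain ⟨t, rfl⟩ := (hd d).mp hdd
    exact C.ad s t
  · intro b hbb d hdd
    obtain ⟨s, rfl⟩ := (hb b).mp hbb
    obtain ⟨t, rfl⟩ := (hd d).mp hdd
    exact C.bd s t
  · intro c hcc d hdd
    obtain ⟨s, rfl⟩ := (hc c).mp hcc
    obtain ⟨t, rfl⟩ := (hd d).mp hdd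
    exact C.cd s t
  · intro b hbb c hcc
    obtain ⟨s, rfl⟩ := (hb b).mp hbb
    obtain ⟨t, rfl⟩ := (hc c).mp hcc
    exact C.bc s t
  · intro a haa c hcc
    obtain ⟨s, rfl⟩ := (ha a).mp haa
    obtain ⟨t, rfl⟩ := (hc c).mp hcc
    have h := C.ac s t
    unfold cm at h
    rw [h]
    exact (hd _).mpr ⟨_, rfl⟩
  · intro a haa b hbb
    obtain ⟨s, rfl⟩ := (ha a).mp haa
    obtain ⟨t, rfl⟩ := (hb b).mp hbb
    have h := C.ab s t
    unfold cm at h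
    exact ⟨_, (hc _).mpr ⟨_, rfl⟩, _, (hd _).mpr ⟨_, rfl⟩, h⟩

end D

end Cfsg.Agent.Lib.Helper22.SU4
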