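import Mathlib
import Cfsg.Agent.Lib.helper17.SLP.Defs
import Cfsg.Agent.Lib.helper3.SP4.Defs
import Cfsg.Agent.Lib.Helper22.SU4.Defs
import Cfsg.Prelude.Def_Classical
import Cfsg.Agent.Lib.Helper18.SP4T3
import Cfsg.Agent.Lib.Helper29.SP4C1
import Cfsg.Agent.Lib.Helper28.SP4R3
import Cfsg.Agent.Lib.Helper5.SU4T9
import Cfsg.Agent.Lib.helper4.SU4F0

/-!
# Project SU4 (helper22), row C3 (helper15): `comm_adT`, verbatim.  Model: `Helper21.SP4C3core`.
-/

set_option autoImplicit false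

namespace Cfsg.Agent.Lib.Helper22.SU4

open Cfsg.Agent.Lib.helper17.SLP Cfsg.Agent.Lib.helper3.SP4

universe u v

section C

variable {F : Type u} {K : Type u} [Field F] [Field K] [Fintype F] [Fintype K] {G : Type v} [Group G]

omit [Fintype F] [Fintype K] in
/-- conjugation by `h_a(s) h_b(r)` of a root element on which both act (any parameter field `A`). -/
theorem su4c3_conj {A : Type*} [Field A] (φa : Matrix.SpecialLinearGroup (Fin 2) F →* G)
    (φb : Matrix.SpecialLinearGroup (Fin 2) K →* G) (X : A → G) (s : Fˣ) (r : Kˣ) (ca cb : A)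
    (ha : Act (rh φa s) X ca) (hb : Act (rh φb r) X cb) (t : A) :
    (rh φa s * rh φb r) * X t * (rh φa s * rh φb r)⁻¹ = X (ca * (cb * t)) := by
  have e : (rh φa s * rh φb r) * X t * (rh φa s * rh φb r)⁻¹ =
      rh φa s * (rh φb r * X t * (rh φb r)⁻¹) * (rh φa s)⁻¹ := by group
  rw [e, hb t, ha]

omit [Fintype F] [Fintype K] in
theorem su4c3_commute_conj {a b : G} (g : G) (h : Commute a b) :
    Commute (g * a * g⁻¹) (g * b * g⁻¹) := by
  unfold Commute SemiconjBy at *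
  have e1 : g * a * g⁻¹ * (g * b * g⁻¹) = g * (a * b) * g⁻¹ := by group
  have e2 : g * b * g⁻¹ * (g * a * g⁻¹) = g * (b * a) * g⁻¹ := by group
  rw [e1, e2, h]

/-- the key step: `x_a(s₀²)` commutes with `x_d(nm s₀ * k²)`. -/
theorem su4c3_key (D : Tw F K) (ζ : Fˣ) (ζ₀ : Kˣ) (φa : Matrix.SpecialLinearGroup (Fin 2) F →* G)
    (φb : Matrix.SpecialLinearGroup (Fin 2) K →* G) (H : HypT D ζ ζ₀ φa φb) (R : Tor4T D φa φb)
    (s₀ : Fˣ) (k : Kˣ) :
    Commute (rx φa ((s₀ : F) ^ 2)) (xdT φa φb (D.nm (s₀ : F) * (k : K) ^ 2)) := by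
  obtain ⟨hnmι, -⟩ := tw_basicT D
  set s : Fˣ := s₀ * D.ιu k with hs
  set r : Kˣ := k ^ 2 with hr
  have h1 := su4c3_conj φa φb (rx φa) s r _ _ (R.aa s) (R.ab r) 1
  have h2 := su4c3_conj φa φb (xdT φa φb) s r _ _ (R.da s) (R.db r) 1
  have hc := su4c3_commute_conj (rh φa s * rh φb r) H.C11
  rw [h1, h2] at hc
  have hk : D.ι (k : K) ≠ 0 := by
    rw [Ne, map_eq_zero]
    exact k.ne_zero
  have e1 : (s : F) ^ 2 * (D.ι ((r⁻¹ : Kˣ) : K) * 1) = (s₀ : F) ^ 2 := by
    rw [hs, hr, Units.val_mul, D.ιu_coe, Units.val_inv_eq_inv_val, Units.val_pow_eq_pow_val,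
      map_inv₀, map_pow]
    field_simp
  have e2 : D.nm (s : F) * ((1 : K) * 1) = D.nm (s₀ : F) * (k : K) ^ 2 := by
    rw [hs, Units.val_mul, D.ιu_coe, D.nm_mul, hnmι]
    ring
  rw [e1, e2] at hc
  exact hc

/-- C3 [M] -/
theorem comm_adT (D : Tw F K) (ζ : Fˣ) (ζ₀ : Kˣ) (φa : Matrix.SpecialLinearGroup (Fin 2) F →* G)
    (φb : Matrix.SpecialLinearGroup (Fin 2) K →* G) (H : HypT D ζ ζ₀ φa φb) (R : Tor4T D φa φb) :
    ∀ t u, Commute (rx φa t) (xdT φa φb u) := by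
  have hxd := (xcd_addT φa φb).2.1
  have hxa := (r_basic φa).1
  -- first variable a square of a unit, second variable arbitrary
  have h1 : ∀ (s₀ : Fˣ) (u : K), Commute (rx φa ((s₀ : F) ^ 2)) (xdT φa φb u) := by
    intro s₀ u
    have hn : D.nm (s₀ : F) ≠ 0 := by
      intro h
      have := D.hnm (s₀ : F)
      rw [h, map_zero] at this
      have hσ : D.σ (s₀ : F) ≠ 0 := by
        intro h'
        apply s₀.ne_zero
        have := congrArg D.σ h'
        rwa [D.σσ, map_zero] at this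
      exact mul_ne_zero s₀.ne_zero hσ this.symm
    have h := comm_span (fun v : K => xdT φa φb (D.nm (s₀ : F) * v))
      (fun v w => by
        show xdT φa φb (D.nm (s₀ : F) * (v + w)) = _
        rw [mul_add, hxd])
      (rx φa ((s₀ : F) ^ 2)) _ (sq_span (F := K))
      (by
        rintro v ⟨k, rfl⟩
        exact su4c3_key D ζ ζ₀ φa φb H R s₀ k)
      ((D.nm (s₀ : F))⁻¹ * u)
    have e : D.nm (s₀ : F) * ((D.nm (s₀ : F))⁻¹ * u) = u := by
      rw [← mul_assoc, mul_inv_cancel₀ hn, one_mul]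
    simp only [e] at h
    exact h
  intro t u
  have h2 : ∀ t, Commute (xdT φa φb u) (rx φa t) := by
    apply comm_span (rx φa) hxa _ _ (sq_span (F := F))
    rintro t ⟨s₀, rfl⟩
    exact (h1 s₀ u).symm
  exact (h2 t).symm

end C

end Cfsg.Agent.Lib.Helper22.SU4
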