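import Mathlib
import Cfsg.Agent.Lib.helper17.SLP.Defs
import Cfsg.Agent.Lib.helper3.SP4.Defs
import Cfsg.Agent.Lib.Helper22.SU4.Defs
import Cfsg.Prelude.Def_Classical
import Cfsg.Agent.Lib.Helper28.SP4R1
import Cfsg.Agent.Lib.Helper28.SP4R3
import Cfsg.Agent.Lib.helper4.SU4F0

/-!
# Project SU4 (helper22), row T7 (helper15): `act_cdT`, verbatim.  Model: `Helper9.SP4T7core`.
-/

set_option autoImplicit false

namespace Cfsg.Agent.Lib.Helper22.SU4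

open Cfsg.Agent.Lib.helper17.SLP Cfsg.Agent.Lib.helper3.SP4

universe u v

section T

variable {F : Type u} {K : Type u} [Field F] [Field K] [Fintype F] [Fintype K] {G : Type v} [Group G]

omit [Fintype F] [Fintype K] in
theorem su4t7_act_congr {A : Type*} [Field A] (g : G) (X : A → G) (c c' : A) (hc : c = c') (h : Act g X c) :
    Act g X c' := hc ▸ h

set_option linter.unusedSectionVars false in
/-- T7 [M] -/
theorem act_cdT (D : Tw F K) (φa : Matrix.SpecialLinearGroup (Fin 2) F →* G)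
    (φb : Matrix.SpecialLinearGroup (Fin 2) K →* G)
    (hwa : ∀ r : Kˣ, rn φa * rh φb r * (rn φa)⁻¹ = rh φb r * rh φa (D.ιu r))
    (hwb : ∀ s : Fˣ, rn φb * rh φa s * (rn φb)⁻¹ = rh φa s * rh φb (D.nmu s))
    (hab : ∀ r : Kˣ, Act (rh φb r) (rx φa) (D.ι ((r⁻¹ : Kˣ) : K)))
    (hba : ∀ s : Fˣ, Act (rh φa s) (rx φb) (((D.nmu s)⁻¹ : Kˣ) : K)) :
    (∀ s : Fˣ, Act (rh φa s) (xcT φa φb) ((s : F) * D.σ ((s⁻¹ : Fˣ) : F))) ∧
      (∀ r : Kˣ, Act (rh φb r) (xcT φa φb) (D.ι (r : K))) ∧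
      (∀ s : Fˣ, Act (rh φa s) (xdT φa φb) (D.nm (s : F))) ∧ (∀ r : Kˣ, Act (rh φb r) (xdT φa φb) 1) := by
  obtain ⟨-, -, -, -, -, -, -, a8, a9, -⟩ := r_basic φa
  obtain ⟨-, -, -, -, -, -, -, b8, b9, -⟩ := r_basic φb
  obtain ⟨hnmι, -⟩ := tw_basicT D
  refine ⟨?_, ?_, ?_, ?_⟩
  · intro s
    have h1 : Act (rh φa s * rh φb (D.nmu s)) (rx φa)
        ((s : F) ^ 2 * D.ι ((((D.nmu s)⁻¹ : Kˣ)) : K)) :=
      act_mul _ _ _ _ _ (a8 s) (hab (D.nmu s))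
    have hs : (s : F) ≠ 0 := s.ne_zero
    have hσs : D.σ (s : F) ≠ 0 := by
      intro h
      apply hs
      have := congrArg D.σ h
      rwa [D.σσ, map_zero] at this
    have hc : (s : F) ^ 2 * D.ι ((((D.nmu s)⁻¹ : Kˣ)) : K) = (s : F) * D.σ ((s⁻¹ : Fˣ) : F) := by
      rw [Units.val_inv_eq_inv_val, Units.val_inv_eq_inv_val, D.nmu_coe, map_inv₀, map_inv₀, D.hnm]
      field_simp
    have h2 : Act (rn φb * rh φa s * (rn φb)⁻¹) (rx φa) ((s : F) * D.σ ((s⁻¹ : Fˣ) : F)) := by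
      rw [hwb s]
      exact su4t7_act_congr _ _ _ _ hc h1
    exact act_conj (rh φa s) (rn φb) (rx φa) _ h2
  · intro r
    have hne : D.ι ((r⁻¹ : Kˣ) : K) ≠ 0 := by
      rw [Ne, map_eq_zero]
      exact (r⁻¹).ne_zero
    have h1 : Act (rh φb r)⁻¹ (rx φa) (D.ι ((r⁻¹ : Kˣ) : K))⁻¹ := act_inv _ _ _ hne (hab r)
    have hc : (D.ι ((r⁻¹ : Kˣ) : K))⁻¹ = D.ι (r : K) := by
      rw [Units.val_inv_eq_inv_val, map_inv₀, inv_inv]
    have h2 : Act (rn φb * rh φb r * (rn φb)⁻¹) (rx φa) (D.ι (r : K)) := by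
      rw [b9 r]
      exact su4t7_act_congr _ _ _ _ hc h1
    exact act_conj (rh φb r) (rn φb) (rx φa) _ h2
  · intro s
    have hne : ((((D.nmu s)⁻¹ : Kˣ)) : K) ≠ 0 := ((D.nmu s)⁻¹).ne_zero
    have h1 : Act (rh φa s)⁻¹ (rx φb) ((((D.nmu s)⁻¹ : Kˣ)) : K)⁻¹ := act_inv _ _ _ hne (hba s)
    have hc : ((((D.nmu s)⁻¹ : Kˣ)) : K)⁻¹ = D.nm (s : F) := by
      rw [Units.val_inv_eq_inv_val, inv_inv, D.nmu_coe]
    have h2 : Act (rn φa * rh φa s * (rn φa)⁻¹) (rx φb) (D.nm (s : F)) := by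
      rw [a9 s]
      exact su4t7_act_congr _ _ _ _ hc h1
    exact act_conj (rh φa s) (rn φa) (rx φb) _ h2
  · intro r
    have h1 : Act (rh φb r * rh φa (D.ιu r)) (rx φb)
        ((r : K) ^ 2 * ((((D.nmu (D.ιu r))⁻¹ : Kˣ)) : K)) :=
      act_mul _ _ _ _ _ (b8 r) (hba (D.ιu r))
    have hc : (r : K) ^ 2 * ((((D.nmu (D.ιu r))⁻¹ : Kˣ)) : K) = 1 := by
      rw [Units.val_inv_eq_inv_val, D.nmu_coe, D.ιu_coe, hnmι]
      exact mul_inv_cancel₀ (pow_ne_zero _ r.ne_zero)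
    have h2 : Act (rn φa * rh φb r * (rn φa)⁻¹) (rx φb) 1 := by
      rw [hwa r]
      exact su4t7_act_congr _ _ _ _ hc h1
    exact act_conj (rh φb r) (rn φa) (rx φb) 1 h2

end T

end Cfsg.Agent.Lib.Helper22.SU4
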