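import Mathlib
import Cfsg.Agent.Lib.helper17.SLP.Defs
import Cfsg.Agent.Lib.helper3.SP4.Defs
import Cfsg.Agent.Lib.Helper22.SU4.Defs
import Cfsg.Prelude.Def_Classical
import Cfsg.Agent.Lib.helper8.SP4D1
import Cfsg.Agent.Lib.Helper5.SU4T9
import Cfsg.Agent.Lib.helper8.SU4T8
import Cfsg.Agent.Lib.helper8.SU4W2
import Cfsg.Agent.Lib.Helper5.SU4W3
import Cfsg.Agent.Lib.helper8.SU4C8
import Cfsg.Agent.Lib.helper15.SU4D2
import Cfsg.Agent.Lib.helper15.SU4D3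
import Cfsg.Agent.Lib.helper8.SU4D4
import Cfsg.Agent.Lib.Helper5.SU4D5

/-!
# Project SU4 (helper22), row D9 (helper15): `rd_of_hypT`, verbatim.  Model: `Helper22.SP4D9core`.
EXPRESS: W4 through its landed core `su4w4_core` + W2 `wact_acT`.
-/

set_option autoImplicit false

namespace Cfsg.Agent.Lib.Helper22.SU4

open Cfsg.Agent.Lib.helper17.SLP Cfsg.Agent.Lib.helper3.SP4

universe u v

section D

variable {F : Type u} {K : Type u} [Field F] [Field K] [Fintype F] [Fintype K] {G : Type v} [Group G]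

/-- D9 core: the root datum from the torus, Weyl and commutator structures and the statements of D4–D8. -/
theorem su4d9_core (D : Tw F K) (hFK : Fintype.card F = Fintype.card K ^ 2)
    (φa : Matrix.SpecialLinearGroup (Fin 2) F →* G) (φb : Matrix.SpecialLinearGroup (Fin 2) K →* G)
    (R : Tor4T D φa φb) (C : Comm4T D φa φb)
    (hD4 : (∀ τ ∈ TTT φa φb, rn φa * τ * (rn φa)⁻¹ ∈ TTT φa φb) ∧
      (∀ τ ∈ TTT φa φb, rn φb * τ * (rn φb)⁻¹ ∈ TTT φa φb) ∧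
      rn φa ^ 2 ∈ TTT φa φb ∧ rn φb ^ 2 ∈ TTT φa φb)
    (hD5 : (∀ g ∈ RG (rx φb), rn φa * g * (rn φa)⁻¹ ∈ RG (xdT φa φb)) ∧
      (∀ g ∈ RG (xdT φa φb), rn φa * g * (rn φa)⁻¹ ∈ RG (rx φb)) ∧
      (∀ g ∈ RG (xcT φa φb), rn φa * g * (rn φa)⁻¹ ∈ RG (xcT φa φb)) ∧
      (∀ g ∈ RG (rx φb), (rn φa)⁻¹ * g * rn φa ∈ RG (xdT φa φb)) ∧
      (∀ g ∈ RG (xdT φa φb), (rn φa)⁻¹ * g * rn φa ∈ RG (rx φb)) ∧
      (∀ g ∈ RG (xcT φa φb), (rn φa)⁻¹ * g * rn φa ∈ RG (xcT φa φb)) ∧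
      (∀ g ∈ RG (rx φa), rn φb * g * (rn φb)⁻¹ ∈ RG (xcT φa φb)) ∧
      (∀ g ∈ RG (xcT φa φb), rn φb * g * (rn φb)⁻¹ ∈ RG (rx φa)) ∧
      (∀ g ∈ RG (xdT φa φb), rn φb * g * (rn φb)⁻¹ ∈ RG (xdT φa φb)) ∧
      (∀ g ∈ RG (rx φa), (rn φb)⁻¹ * g * rn φb ∈ RG (xcT φa φb)) ∧
      (∀ g ∈ RG (xcT φa φb), (rn φb)⁻¹ * g * rn φb ∈ RG (rx φa)) ∧
      (∀ g ∈ RG (xdT φa φb), (rn φb)⁻¹ * g * rn φb ∈ RG (xdT φa φb)))
    (hD6 : (∀ g ∈ RG (rx φa), g = 1 ∨ ∃ a ∈ RG (rx φa), ∃ τ ∈ TTT φa φb, ∃ a' ∈ RG (rx φa),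
        rn φa * g * (rn φa)⁻¹ = a * τ * rn φa * a') ∧
      ∀ g ∈ RG (rx φb), g = 1 ∨ ∃ b ∈ RG (rx φb), ∃ τ ∈ TTT φa φb, ∃ b' ∈ RG (rx φb),
        rn φb * g * (rn φb)⁻¹ = b * τ * rn φb * b')
    (hD7 : (∃ τ ∈ TTT φa φb, rn φb * rn φa * rn φb * rn φa = τ * (rn φa * rn φb * rn φa * rn φb)) ∧
      Subgroup.closure (((TTT φa φb : Subgroup G) : Set G) ∪ (RG (rx φa) : Set G) ∪ (RG (rx φb) : Set G) ∪
        {rn φa, rn φb}) = ⊤)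
    (hD8 : Finite (TTT φa φb)) :
    RD4 (Fintype.card F) (TTT φa φb) (RG (rx φa)) (RG (rx φb)) (RG (xcT φa φb)) (RG (xdT φa φb))
        (rn φa) (rn φb) ∧
      Nat.card (RG (rx φb)) ≤ Fintype.card K ∧ Nat.card (RG (xdT φa φb)) ≤ Fintype.card K := by
  have hKF : Fintype.card K ≤ Fintype.card F := by
    rw [hFK]
    have h1 : 1 ≤ Fintype.card K := Fintype.card_pos
    nlinarith
  have hxa := sp4d1_rx_add φa
  have hxb := sp4d1_rx_add φb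
  have hxc := (xcd_addT φa φb).1
  have hxd := (xcd_addT φa φb).2.1
  have ga := rg_mem (rx φa) hxa
  have gb := rg_mem (rx φb) hxb
  have gc := rg_mem (xcT φa φb) hxc
  have gd := rg_mem (xdT φa φb) hxd
  obtain ⟨cad, cbd, ccd, cbc, cac, cab⟩ := rd_commT D φa φb C
  obtain ⟨ta, tb, tc, td⟩ := rd_torT D φa φb R
  obtain ⟨n1T, n2T, n1sq, n2sq⟩ := hD4
  obtain ⟨n1b, n1d, n1c, n1b', n1d', n1c', n2a, n2c, n2d, n2a', n2c', n2d'⟩ := hD5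
  obtain ⟨r1, r2⟩ := hD6
  obtain ⟨braid, gen⟩ := hD7
  refine ⟨?_, gb.2.2, gd.2.2⟩
  exact
    { finT := hD8
      fina := ga.2
      finb := ⟨gb.2.1, le_trans gb.2.2 hKF⟩
      finc := gc.2
      find := ⟨gd.2.1, le_trans gd.2.2 hKF⟩
      cad := cad, cbd := cbd, ccd := ccd, cbc := cbc, cac := cac, cab := cab
      ta := ta, tb := tb, tc := tc, td := td
      n1T := n1T, n1b := n1b, n1d := n1d, n1c := n1c, n1b' := n1b', n1d' := n1d', n1c' := n1c'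
      n1sq := n1sq
      n2T := n2T, n2a := n2a, n2c := n2c, n2d := n2d, n2a' := n2a', n2c' := n2c', n2d' := n2d'
      n2sq := n2sq
      r1 := r1, r2 := r2, braid := braid, gen := gen }

/-- D9 [M] -/
theorem rd_of_hypT (D : Tw F K) (hFK : Fintype.card F = Fintype.card K ^ 2) (ζ : Fˣ)
    (hζ : ∀ y : Fˣ, y ∈ Subgroup.zpowers ζ) (ζ₀ : Kˣ) (hζ₀ : ∀ y : Kˣ, y ∈ Subgroup.zpowers ζ₀)
    (hn : D.nmu ζ = ζ₀) (φa : Matrix.SpecialLinearGroup (Fin 2) F →* G)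
    (φb : Matrix.SpecialLinearGroup (Fin 2) K →* G) (H : HypT D ζ ζ₀ φa φb)
    (hgen : Subgroup.closure (Set.range φa ∪ Set.range φb) = ⊤) :
    RD4 (Fintype.card F) (TTT φa φb) (RG (rx φa)) (RG (rx φb)) (RG (xcT φa φb)) (RG (xdT φa φb))
        (rn φa) (rn φb) ∧
      Nat.card (RG (rx φb)) ≤ Fintype.card K ∧ Nat.card (RG (xdT φa φb)) ≤ Fintype.card K := by
  have R : Tor4T D φa φb := tor4T D ζ hζ ζ₀ hζ₀ hn φa φb H
  have W : Wact4T D φa φb := su4w4_core D ζ ζ₀ φa φb H R (wact_acT D ζ ζ₀ φa φb H R)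
  have C : Comm4T D φa φb := comm4T D hFK ζ hζ ζ₀ φa φb H R W
  exact su4d9_core D hFK φa φb R C (rd_weylTT D φa φb R) (rd_weylXT D φa φb W) (rd_rank1T φa φb)
    (rd_braid_genT D ζ hζ ζ₀ hζ₀ φa φb H hgen) (TTT_finite D φa φb R).1

end D

end Cfsg.Agent.Lib.Helper22.SU4
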