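import Mathlib
import Cfsg.Agent.Lib.Lead.BCS.Defs

set_option autoImplicit false

/-!
# Project BCS, row C1 (`bcs_sp_emb`): SECOND COPY by helper15 under the name `bcsc1_h15` (same statement as in `Lead/BCS/Skel.lean.txt`).
-/

namespace Cfsg.Agent.Lib.Lead.BCS

open Polynomial Module Matrix Cfsg.Agent.Lib.Helper13.S5955 Cfsg.Agent.Lib.helper15.S5972
  Cfsg.Agent.Lib.Helper18.ONE

/-- the reindexing `(Fin m ⊕ Fin m) ⊕ (Fin 1 ⊕ Fin 1) ≃ Fin (m+1) ⊕ Fin (m+1)` -/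
def bcsc1_h15_e (m : ℕ) : (Fin m ⊕ Fin m) ⊕ (Fin 1 ⊕ Fin 1) ≃ Fin (m + 1) ⊕ Fin (m + 1) :=
  (Equiv.sumSumSumComm (Fin m) (Fin m) (Fin 1) (Fin 1)).trans
    (Equiv.sumCongr finSumFinEquiv finSumFinEquiv)

/-- the block matrix `A ⊕ 1₂` reindexed -/
def bcsc1_h15_phi {F : Type*} [Field F] (m : ℕ) (A : Matrix (Fin m ⊕ Fin m) (Fin m ⊕ Fin m) F) :
    Matrix (Fin (m + 1) ⊕ Fin (m + 1)) (Fin (m + 1) ⊕ Fin (m + 1)) F :=
  (Matrix.fromBlocks A 0 0 (1 : Matrix (Fin 1 ⊕ Fin 1) (Fin 1 ⊕ Fin 1) F)).submatrix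
    (bcsc1_h15_e m).symm (bcsc1_h15_e m).symm

theorem bcsc1_h15_J {F : Type*} [Field F] (m : ℕ) :
    (Matrix.fromBlocks (Matrix.J (Fin m) F) 0 0 (Matrix.J (Fin 1) F)).submatrix
      (bcsc1_h15_e m).symm (bcsc1_h15_e m).symm = Matrix.J (Fin (m + 1)) F := by
  ext i j
  obtain ⟨i', rfl⟩ := (bcsc1_h15_e m).surjective i
  obtain ⟨j', rfl⟩ := (bcsc1_h15_e m).surjective j
  rw [Matrix.submatrix_apply, Equiv.symm_apply_apply, Equiv.symm_apply_apply]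
  rcases i' with (a | a) | (a | a) <;> rcases j' with (b | b) | (b | b) <;>
    simp [bcsc1_h15_e, Matrix.J, Matrix.one_apply, Fin.ext_iff] <;> omega

theorem bcsc1_h15_phi_one {F : Type*} [Field F] (m : ℕ) :
    bcsc1_h15_phi (F := F) m 1 = 1 := by
  unfold bcsc1_h15_phi
  rw [Matrix.fromBlocks_one, Matrix.submatrix_one_equiv]

theorem bcsc1_h15_phi_mul {F : Type*} [Field F] (m : ℕ)
    (A B : Matrix (Fin m ⊕ Fin m) (Fin m ⊕ Fin m) F) :
    bcsc1_h15_phi m (A * B) = bcsc1_h15_phi m A * bcsc1_h15_phi m B := by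
  unfold bcsc1_h15_phi
  rw [Matrix.submatrix_mul_equiv, Matrix.fromBlocks_multiply]
  simp

theorem bcsc1_h15_phi_mem {F : Type*} [Field F] (m : ℕ)
    (A : Matrix (Fin m ⊕ Fin m) (Fin m ⊕ Fin m) F) (hA : A ∈ Matrix.symplecticGroup (Fin m) F) :
    bcsc1_h15_phi m A ∈ Matrix.symplecticGroup (Fin (m + 1)) F := by
  rw [SymplecticGroup.mem_iff] at hA ⊢
  rw [← bcsc1_h15_J]
  unfold bcsc1_h15_phi
  rw [Matrix.transpose_submatrix, Matrix.submatrix_mul_equiv, Matrix.submatrix_mul_equiv,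
    Matrix.fromBlocks_transpose, Matrix.fromBlocks_multiply, Matrix.fromBlocks_multiply]
  simp [hA]

theorem bcsc1_h15_phi_inj {F : Type*} [Field F] (m : ℕ)
    (A B : Matrix (Fin m ⊕ Fin m) (Fin m ⊕ Fin m) F) (h : bcsc1_h15_phi m A = bcsc1_h15_phi m B) :
    A = B := by
  unfold bcsc1_h15_phi at h
  have h1 : Matrix.fromBlocks A 0 0 (1 : Matrix (Fin 1 ⊕ Fin 1) (Fin 1 ⊕ Fin 1) F) =
      Matrix.fromBlocks B 0 0 1 := by
    ext i j
    have := congrFun (congrFun h (bcsc1_h15_e m i)) (bcsc1_h15_e m j)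
    simpa using this
  exact (Matrix.fromBlocks_inj.mp h1).1

theorem bcsc1_h15_phi_fix {F : Type*} [Field F] (m : ℕ)
    (A : Matrix (Fin m ⊕ Fin m) (Fin m ⊕ Fin m) F) :
    bcsc1_h15_phi m A *ᵥ (Pi.single (Sum.inl (Fin.last m)) 1 : Fin (m + 1) ⊕ Fin (m + 1) → F) =
      Pi.single (Sum.inl (Fin.last m)) 1 := by
  have hu : (Pi.single (Sum.inl (Fin.last m)) 1 : Fin (m + 1) ⊕ Fin (m + 1) → F) ∘ (bcsc1_h15_e m) =
      Sum.elim (0 : Fin m ⊕ Fin m → F) (Pi.single (Sum.inl 0) 1 : Fin 1 ⊕ Fin 1 → F) := by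
    funext i
    rcases i with (a | a) | (a | a)
    · simp [bcsc1_h15_e, Pi.single_apply, Fin.ext_iff]
      omega
    · simp [bcsc1_h15_e, Pi.single_apply]
    · have : a = 0 := Subsingleton.elim _ _
      subst this
      simp [bcsc1_h15_e, Pi.single_apply, Fin.ext_iff]
    · simp [bcsc1_h15_e, Pi.single_apply]
  unfold bcsc1_h15_phi
  rw [Matrix.submatrix_mulVec_equiv, Equiv.symm_symm, hu, Matrix.fromBlocks_mulVec,
    Sum.elim_comp_inl, Sum.elim_comp_inr, Matrix.mulVec_zero, Matrix.mulVec_zero, Matrix.zero_mulVec,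
    Matrix.one_mulVec, add_zero, zero_add, ← hu]
  funext i
  simp

/-- C1 [M] (second copy, same statement as `bcs_sp_emb`). -/
theorem bcsc1_h15 {F : Type*} [Field F] (m : ℕ) :
    ∃ (φ : Matrix.symplecticGroup (Fin m) F →* Matrix.symplecticGroup (Fin (m + 1)) F)
      (u : Fin (m + 1) ⊕ Fin (m + 1) → F), Function.Injective φ ∧ u ≠ 0 ∧
      ∀ b : Matrix.symplecticGroup (Fin m) F,
        (φ b : Matrix (Fin (m + 1) ⊕ Fin (m + 1)) (Fin (m + 1) ⊕ Fin (m + 1)) F) *ᵥ u = u := by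
  refine ⟨{ toFun := fun A => ⟨bcsc1_h15_phi m A.1, bcsc1_h15_phi_mem m A.1 A.2⟩
            map_one' := Subtype.ext (bcsc1_h15_phi_one m)
            map_mul' := fun A B => Subtype.ext (bcsc1_h15_phi_mul m A.1 B.1) },
    Pi.single (Sum.inl (Fin.last m)) 1, ?_, ?_, ?_⟩
  · intro A B h
    apply Subtype.ext
    exact bcsc1_h15_phi_inj m A.1 B.1 (congrArg Subtype.val h)
  · intro h
    have := congrFun h (Sum.inl (Fin.last m))
    simp at this
  · intro b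
    exact bcsc1_h15_phi_fix m b.1

end Cfsg.Agent.Lib.Lead.BCS
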