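import Mathlib
import Cfsg.Agent.Lib.Helper20.GLO.Defs
import Cfsg.Agent.Lib.Helper20.GLO.DefsP
import Cfsg.Agent.Lib.Helper20.GLOP1

/-!
# Project GLO (designer helper20; odd case of PSU, S2291), block P, row P4 (`words_of_glue`), VERBATIM vs `Helper20/GLO/SkelP.lean.txt`.

Port of `Helper22/GLEP4.lean` (`l`, `nb` generic; no `ζ`).
-/

set_option autoImplicit false
set_option linter.unusedSectionVars false

namespace Cfsg.Agent.Lib.Helper20.GLO

open Cfsg.Agent.Lib.helper3.STC (ng ab)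
open Cfsg.Agent.Lib.helper3.SPM (Pts pe sgm sn sig2 ptsFin pe2 evN)
open Cfsg.Agent.Lib.Helper20.GLE (lamC lamP)
open Cfsg.Agent.Lib.Helper27.STU
open Cfsg.Agent.Lib.helper17.SLP (cm)

universe u v w x v' y

section P

variable {F : Type u} [Field F] [StarRing F] {L : Type x} [Group L] {ι : Type w} [Fintype ι] [DecidableEq ι] {k l : ℕ}
  (S₂ : SysU F True (Fin 2) L) (swL : L)

theorem glop4_cm_one {G : Type v} [Group G] (a b : G) (h : Commute a b) : cm a b = 1 :=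
  (Cfsg.Agent.Lib.helper17.SLP.cm_eq_one_iff a b).mpr h

theorem glop4_cm_one' {G : Type v} [Group G] (a b : G) (h : a * b * a⁻¹ = b) : cm a b = 1 := by
  unfold cm
  rw [h, mul_inv_cancel]

/-- P4 [M]  model GLE P4 (`Helper22/GLEP4.lean`): the converse: every word of `wordsGlue` evaluates to an instance of a field of `H` (`evG_Wc`, `evG_inN`, `evG_inL`, `map_mul`). -/
theorem words_of_glue (p : Pts ι) (wN : Equiv.Perm ι → FreeGroup (Fin k)) (wL : L → FreeGroup (Fin l))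
    (c d c' d' : Equiv.Perm ι) {nb : ℕ} (b : Fin nb → L)
    (hc : c p.o1 = p.o1) (hd : d p.o1 = p.o1) (hc' : c' p.o0 = p.o0 ∧ c' p.o1 = p.o1) (hd' : d' p.o0 = p.o0 ∧ d' p.o1 = p.o1)
    (hb : ∀ i, b i ∈ B1 S₂)
    {G : Type v} [Group G] (s : Fin k → G) (g : Fin l → G) (ν : Equiv.Perm ι →* G) (lam : L →* G)
    (hν : ∀ σ, ν σ = evN s (wN σ)) (hlam : ∀ m, lam m = evN g (wL m)) (H : Glue S₂ swL p ν lam) :
    ∀ r ∈ wordsGlue S₂ swL p wN wL c d c' d' b, evG s g r = 1 := by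
  have hW : ∀ σ m, evG s g (Wc wN wL σ m) = lamC ν lam σ m :=
    fun σ m => evG_Wc wN wL s g ν lam hν hlam σ m
  have hN : ∀ σ, evG s g (inN (wN σ)) = ν σ := fun σ => by
    rw [evG_inN, ← hν]
  have hL : ∀ m, evG s g (inL (wL m)) = lam m := fun m => by
    rw [evG_inL, ← hlam]
  have hst : ∀ σ, σ p.o1 = p.o1 → ∀ i, evG s g (cm (inN (wN σ)) (inL (wL (b i)))) = 1 := by
    intro σ hσ i
    rw [Cfsg.Agent.Lib.helper17.SLP.map_cm, hN, hL]
    exact glop4_cm_one' _ _ (H.stab1 σ hσ (b i) (hb i))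
  have hst' : ∀ σ, σ p.o0 = p.o0 → σ p.o1 = p.o1 →
      evG s g (cm (inN (wN σ)) (inL (wL (uA S₂ 1)))) = 1 := by
    intro σ h0 h1
    rw [Cfsg.Agent.Lib.helper17.SLP.map_cm, hN, hL]
    exact glop4_cm_one' _ _ (H.stab01 σ h0 h1)
  have hd3 : ∀ i,
      evG s g (cm (inL (wL (uA S₂ 1))) (Wc wN wL (Equiv.swap p.o1 p.o2) (b i))) = 1 := by
    intro i
    rw [Cfsg.Agent.Lib.helper17.SLP.map_cm, hL, hW]
    exact glop4_cm_one _ _ (H.d3 (b i) (hb i))
  have hc1 :
      evG s g (cm (inL (wL (uA S₂ 1))) (Wc wN wL (Equiv.swap p.o0 p.o1 * Equiv.swap p.o1 p.o2) (uA S₂ 1)) *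
        (Wc wN wL (Equiv.swap p.o1 p.o2) (uA S₂ 1))⁻¹) = 1 := by
    rw [map_mul, map_inv, Cfsg.Agent.Lib.helper17.SLP.map_cm, hL, hW, hW, mul_inv_eq_one]
    exact H.c1
  have hc2 :
      evG s g (cm (inL (wL (uA S₂ 1))) (Wc wN wL (Equiv.swap p.o1 p.o2) (uA S₂ 1))) = 1 := by
    rw [Cfsg.Agent.Lib.helper17.SLP.map_cm, hL, hW]
    exact glop4_cm_one _ _ H.c2
  intro r hr
  unfold wordsGlue at hr
  simp only [List.mem_append] at hr
  rcases hr with (((((hr | hr) | hr) | hr) | hr) | hr) | hr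
  · simp only [List.mem_cons, List.not_mem_nil, or_false] at hr
    subst hr
    rw [map_mul, map_inv, hN, hL, mul_inv_eq_one]
    exact H.sw
  · rw [List.mem_ofFn] at hr
    obtain ⟨i, rfl⟩ := hr
    exact hst c hc i
  · rw [List.mem_ofFn] at hr
    obtain ⟨i, rfl⟩ := hr
    exact hst d hd i
  · simp only [List.mem_cons, List.not_mem_nil, or_false] at hr
    rcases hr with rfl | rfl
    · exact hst' c' hc'.1 hc'.2
    · exact hst' d' hd'.1 hd'.2
  · rw [List.mem_ofFn] at hr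
    obtain ⟨i, rfl⟩ := hr
    exact hd3 i
  · rcases h3 : p.o3 with _ | x
    · rw [h3] at hr
      simp at hr
    · rw [h3] at hr
      have hx : x ∈ p.o3 := by rw [h3]; rfl
      simp only [List.mem_cons, List.not_mem_nil, or_false] at hr
      subst hr
      rw [Cfsg.Agent.Lib.helper17.SLP.map_cm, hL, hW]
      exact glop4_cm_one _ _ (H.d4 x hx)
  · simp only [List.mem_cons, List.not_mem_nil, or_false] at hr
    rcases hr with rfl | rfl
    · exact hc1
    · exact hc2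

end P

end Cfsg.Agent.Lib.Helper20.GLO
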