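import Mathlib
import Cfsg.Agent.Lib.Helper16.O9H.Defs

set_option autoImplicit false

/-! Project O9H (designer helper16), row KCOP `coprime_one` (helper15). -/

namespace Cfsg.Agent.Lib.Helper16.O9H

open Matrix Polynomial Module

variable {ι : Type} [Fintype ι] [DecidableEq ι] {F : Type*} [Field F]

/-- KCOP [S] -/
theorem coprime_one (a : ℕ) (R : F[X]) (hR : R.eval 1 ≠ 0) : IsCoprime ((X - 1 : F[X]) ^ a) R := by
  apply IsCoprime.pow_left
  have h1 : (X - 1 : F[X]) = X - C 1 := by rw [map_one]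
  rw [h1]
  have hirr : Irreducible (X - C (1 : F)) := irreducible_X_sub_C 1
  rw [hirr.coprime_iff_not_dvd, dvd_iff_isRoot]
  exact hR

end Cfsg.Agent.Lib.Helper16.O9H
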