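import Mathlib
import Cfsg.Agent.Lib.helper8.OME.Defs
import Cfsg.Agent.Lib.helper15.OTSSTDCTX
import Cfsg.Agent.Lib.Helper16.OHelp
import Cfsg.Agent.Lib.Helper16.OCnt2

set_option autoImplicit false

/-!
# Project OME, rows STDCTX (`ome_std_qctx`, `ome_std_realize`) and STDFACTS (`ome_std_facts`):
SECOND COPIES by helper15 under the names `omestdctx_h15_qctx`, `omestdctx_h15_realize`, `omestdfacts_h15`
(same statements as in `helper8/OME/Skel.lean.txt`).
-/

namespace Cfsg.Agent.Lib.helper8.OME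

open Polynomial Module Cfsg.Agent.Lib.Helper13.S5955 Cfsg.Agent.Lib.helper15.S5972
  Cfsg.Agent.Lib.Helper18.OPE
open scoped Matrix

/-- the OTS context gives the OPE context -/
theorem omestd_h15_of_ots {F : Type*} [Field F] {V : Type*} [AddCommGroup V] [Module F V] {r : ℕ}
    {Q : QuadraticForm F V} {x : Module.End F V} (h : Cfsg.Agent.Lib.Helper13.OTS.QCtx r Q x) :
    QCtx r Q x :=
  ⟨fun u hu => h.nd u (fun v => by rw [← QuadraticMap.polarBilin_apply_apply]; exact hu v), h.pres, h.pow⟩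

/-- the OPE context gives the OTS context -/
theorem omestd_h15_to_ots {F : Type*} [Field F] {V : Type*} [AddCommGroup V] [Module F V] {r : ℕ}
    {Q : QuadraticForm F V} {x : Module.End F V} (h : QCtx r Q x) :
    Cfsg.Agent.Lib.Helper13.OTS.QCtx r Q x :=
  ⟨fun u hu => h.nd u (fun v => by rw [QuadraticMap.polarBilin_apply_apply]; exact hu v), h.pres, h.pow⟩

/-- STDCTX (second copy, same statement as `ome_std_qctx`) -/
theorem omestdctx_h15_qctx {F : Type*} [Field F] [Fintype F] (d r : ℕ) (a b : F)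
    (hab : ∀ x y : F, x ^ 2 + a * x * y + b * y ^ 2 = 0 → x = 0 ∧ y = 0) (x : GL (MI d) F)
    (hx : x ∈ Cfsg.isometryGroup F (Cfsg.quadFormMinus (d - 1) F a b)) (hxr : x ^ r = 1) :
    QCtx r (Qm d F a b) (Matrix.toLin' (x : Matrix (MI d) (MI d) F)) :=
  omestd_h15_of_ots (Cfsg.Agent.Lib.Helper13.OTS.q_std_ctx (Qm d F a b)
    (Cfsg.Agent.Lib.Helper16.OSemi.qfMinus_nondeg (d - 1) a b hab) r x hx hxr)

/-- STDCTX (second copy, same statement as `ome_std_realize`) -/
theorem omestdctx_h15_realize {F : Type*} [Field F] (d r : ℕ) (a b : F) (y : Module.End F (MI d → F))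
    (h : QCtx r (Qm d F a b) y) :
    ∃ x : GL (MI d) F, x ∈ Cfsg.isometryGroup F (Cfsg.quadFormMinus (d - 1) F a b) ∧
      Matrix.toLin' (x : Matrix (MI d) (MI d) F) = y ∧ x ^ r = 1 :=
  Cfsg.Agent.Lib.Helper13.OTS.q_realize (Qm d F a b) r y (omestd_h15_to_ots h)

/-- STDFACTS (second copy, same statement as `ome_std_facts`) -/
theorem omestdfacts_h15 {F : Type*} [Field F] [Fintype F] (d : ℕ) (hd : 1 ≤ d) (a b : F)
    (hab : ∀ x y : F, x ^ 2 + a * x * y + b * y ^ 2 = 0 → x = 0 ∧ y = 0) :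
    finrank F (MI d → F) = 2 * d ∧
      QTy (Qm d F a b) (⊤ : Submodule F (MI d → F)) (-1) ∧
      (∀ u, (∀ v, stdM d F a b u v = 0) → u = 0) := by
  have hfr : finrank F (MI d → F) = 2 * d := by
    rw [Module.finrank_fintype_fun_eq_card]
    simp only [Fintype.card_sum, Fintype.card_fin]
    omega
  refine ⟨hfr, ?_, ?_⟩
  · unfold QTy
    have hd' : finrank F ↥(⊤ : Submodule F (MI d → F)) / 2 = d - 1 + 1 := by
      rw [finrank_top, hfr]
      omega
    rw [hd']
    refine (Cfsg.Agent.Lib.Helper16.OSemi.isType_congr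
      (Submodule.topEquiv (R := F) (M := MI d → F)).toEquiv
      (Cfsg.quadFormMinus (d - 1) F a b) _ ?_ (d - 1 + 1) (-1)).mp
      (Cfsg.Agent.Lib.Helper16.OSemi.isType_minus (d - 1) a b hab)
    intro w
    rfl
  · intro u hu
    exact (Cfsg.Agent.Lib.Helper16.OSemi.qfMinus_nondeg (d - 1) a b hab).1 u hu

end Cfsg.Agent.Lib.helper8.OME
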