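import Cfsg.Agent.Lib.Helper16.SPF11
import Cfsg.Agent.S0246
import Cfsg.Agent.Lib.Helper16.AP18

set_option autoImplicit false
set_option linter.unusedSectionVars false
set_option linter.unusedVariables false

namespace Cfsg.Agent.Lib.helper15.SpAut

open Matrix Cfsg.Agent.Lib.helper6 Cfsg.Agent.Lib.helper6.SB Cfsg.Agent.Lib.Helper26
  Cfsg.Agent.Lib.Helper16.SPA Cfsg.Agent.Lib.Helper16.SPF

universe u
variable {F : Type u} [Field F] {m : ℕ}

noncomputable def spToGSp (m : ℕ) (F : Type u) [Field F] :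
    ↥(Matrix.symplecticGroup (Fin m) F) →* ↥(Cfsg.GSp m F) where
  toFun s := ⟨spGL' s, spGL'_mem s⟩
  map_one' := by
    apply Subtype.ext
    apply Units.ext
    rfl
  map_mul' a b := by
    apply Subtype.ext
    apply Units.ext
    rfl

theorem spToGSp_injective : Function.Injective (spToGSp m F) := by
  intro a b h
  apply Subtype.ext
  have := congrArg (fun g : ↥(Cfsg.GSp m F) =>
    ((g.1 : GL (Fin m ⊕ Fin m) F) : Matrix (Fin m ⊕ Fin m) (Fin m ⊕ Fin m) F)) h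
  exact this

theorem spToGSp_range (hm : 1 ≤ m) : (spToGSp m F).range = (muS (F := F) (m := m) hm).ker := by
  ext g
  rw [MonoidHom.mem_ker]
  constructor
  · rintro ⟨s, rfl⟩
    exact muS_sp hm s
  · intro h
    have hmem : (g.1 : Matrix (Fin m ⊕ Fin m) (Fin m ⊕ Fin m) F) ∈ Matrix.symplecticGroup (Fin m) F := by
      rw [mem_symplecticGroup_iff_sympForm]
      intro u v
      rw [muS_spec hm, h, Units.val_one, one_mul]
    refine ⟨⟨_, hmem⟩, ?_⟩
    apply Subtype.ext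
    apply Units.ext
    rfl

variable [Fintype F]

theorem card_GSp (hm : 1 ≤ m) :
    Nat.card ↥(Cfsg.GSp m F) = Nat.card ↥(Matrix.symplecticGroup (Fin m) F) * Nat.card Fˣ := by
  have h1 := Subgroup.card_mul_index (muS (F := F) (m := m) hm).ker
  rw [Subgroup.index_ker, MonoidHom.range_eq_top.mpr (muS_surjective hm), Subgroup.card_top,
    ← spToGSp_range hm] at h1
  rw [← h1]
  congr 1
  exact (Nat.card_congr (Equiv.ofInjective _ spToGSp_injective)).symm

noncomputable def scalHom (m : ℕ) (F : Type u) [Field F] : Fˣ →* ↥(Cfsg.GSp m F) where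
  toFun c := ⟨scalG m c, scalG_mem c⟩
  map_one' := by
    apply Subtype.ext
    exact map_one (scalG m)
  map_mul' a b := by
    apply Subtype.ext
    exact map_mul (scalG m) a b

theorem scalHom_injective (hm : 1 ≤ m) : Function.Injective (scalHom m F) := by
  intro a b h
  exact scalG_injective hm (congrArg Subtype.val h)

theorem scalHom_range (hm : 2 ≤ m) : (scalHom m F).range = (PhiS m F).ker := by
  ext g
  rw [MonoidHom.mem_ker, PhiS_eq_one_iff hm]
  constructor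
  · rintro ⟨c, rfl⟩
    exact ⟨c, rfl⟩
  · rintro ⟨c, hc⟩
    exact ⟨c, Subtype.ext hc.symm⟩

theorem card_range_PhiS (hm : 2 ≤ m) :
    Nat.card ↥(PhiS m F).range = Nat.card ↥(Matrix.symplecticGroup (Fin m) F) := by
  have h1 := Subgroup.card_mul_index (PhiS m F).ker
  rw [Subgroup.index_ker, card_GSp (by omega), ← scalHom_range hm] at h1
  have h2 : Nat.card ↥(scalHom m F).range = Nat.card Fˣ :=
    (Nat.card_congr (Equiv.ofInjective _ (scalHom_injective (by omega)))).symm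
  rw [h2, mul_comm] at h1
  have hpos : 0 < Nat.card Fˣ := Nat.card_pos
  exact Nat.eq_of_mul_eq_mul_right hpos h1

theorem card_Sp_eq {q : ℕ} (hF : Fintype.card F = q) (hm : 1 ≤ m) :
    Nat.card ↥(Matrix.symplecticGroup (Fin m) F) = Nat.gcd 2 (q - 1) * Nat.card (Cfsg.PSp m F) := by
  rw [Subgroup.card_eq_card_quotient_mul_card_subgroup
    (Subgroup.center ↥(Matrix.symplecticGroup (Fin m) F)), Cfsg.Agent.S0246.result hF m hm, mul_comm]

theorem permX_mul (α β : MulAut (Cfsg.PSp m F)) (hα : PermX α) (hβ : PermX β) : PermX (α * β) := by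
  intro p hp
  obtain ⟨q, hq, hq'⟩ := hβ p hp
  obtain ⟨r, hr, hr'⟩ := hα q hq
  refine ⟨r, hr, ?_⟩
  have : (Xb p).map (α * β).toMonoidHom = ((Xb p).map β.toMonoidHom).map α.toMonoidHom := by
    rw [Subgroup.map_map]
    rfl
  rw [this, hq', hr']

theorem permX_conj (g : ↥(Matrix.symplecticGroup (Fin m) F)) : PermX (MulAut.conj (mkP m F g)) := by
  intro p hp
  exact ⟨g.1 *ᵥ p, sp_mulVec_ne_zero' g hp, Xb_conj g p⟩

theorem permX_liftP_iota (g : GL (Fin m ⊕ Fin m) F) (hg : g ∈ Cfsg.GSp m F) (σ : F ≃+* F) :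
    PermX (liftP (iotaSp g hg σ)) := by
  intro p hp
  exact ⟨_, gl_mulVec_ne_zero g (comp_ne_zero σ hp), Xb_map_liftP g hg σ p⟩

theorem aut_eq_iota_of_permX (hm : 2 ≤ m) (α : MulAut (Cfsg.PSp m F)) (hα : PermX α) :
    ∃ (g : GL (Fin m ⊕ Fin m) F) (hg : g ∈ Cfsg.GSp m F) (σ : F ≃+* F),
      α = liftP (iotaSp g hg σ) := by
  classical
  obtain ⟨g₀, hg₀⟩ := exists_frame_sp hm α hα
  obtain ⟨α₁, hα₁def⟩ : ∃ α₁ : MulAut (Cfsg.PSp m F), α₁ = (MulAut.conj (mkP m F g₀))⁻¹ * α := ⟨_, rfl⟩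
  have hinv : (MulAut.conj (mkP m F g₀))⁻¹ = MulAut.conj (mkP m F g₀⁻¹) := by
    rw [← map_inv, ← map_inv]
  have hα₁ : PermX α₁ := by
    rw [hα₁def, hinv]
    exact permX_mul _ _ (permX_conj _) hα
  have hframe : ∀ k : Fin m ⊕ Fin m,
      (Xb (bV k : Fin m ⊕ Fin m → F)).map α₁.toMonoidHom = Xb (bV k) := by
    intro k
    have : (Xb (bV k : Fin m ⊕ Fin m → F)).map α₁.toMonoidHom =
        ((Xb (bV k : Fin m ⊕ Fin m → F)).map α.toMonoidHom).map
          (MulAut.conj (mkP m F g₀⁻¹)).toMonoidHom := by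
      rw [Subgroup.map_map, hα₁def, hinv]
      rfl
    rw [this, hg₀ k, Xb_conj, sp_inv_mulVec]
  let φ : (Fin m ⊕ Fin m → F) → (Fin m ⊕ Fin m → F) := fun x =>
    if hx : x = 0 then 0 else Classical.choose (hα₁ x hx)
  have hφ_spec : ∀ x, x ≠ 0 → φ x ≠ 0 ∧ (Xb x).map α₁.toMonoidHom = Xb (φ x) := by
    intro x hx
    have := Classical.choose_spec (hα₁ x hx)
    simp only [φ, dif_neg hx]
    exact this
  have hpm : PolarMap φ := by
    refine ⟨fun x hx => (hφ_spec x hx).1, fun x y hx hy => ?_, fun k => ?_⟩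
    · exact perp_iff_of_map (by omega) α₁ (hφ_spec x hx).2 (hφ_spec y hy).2
    · apply par_of_Xb_eq hm (bV_ne_zero k) (hφ_spec _ (bV_ne_zero k)).1
      rw [← (hφ_spec _ (bV_ne_zero k)).2, hframe k]
  obtain ⟨σ, lam, μ, hμ0, hlam, hμ, hdesc⟩ := hpm.exists_semilinear hm
  have hg₁ := diagGL_mem lam hlam μ hμ0 hμ
  have hι : ∀ x : Fin m ⊕ Fin m → F, x ≠ 0 →
      (Xb x).map (liftP (iotaSp (diagGL lam hlam) hg₁ σ)).toMonoidHom = (Xb x).map α₁.toMonoidHom := by
    intro x hx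
    rw [Xb_map_liftP, diagGL_mulVec, (hφ_spec x hx).2]
    exact Xb_eq_of_par (hdesc x hx)
  have hβ : (liftP (iotaSp (diagGL lam hlam) hg₁ σ))⁻¹ * α₁ = 1 := by
    apply eq_one_of_fix_Xb hm
    intro x hx
    have : (Xb x).map ((liftP (iotaSp (diagGL lam hlam) hg₁ σ))⁻¹ * α₁).toMonoidHom =
        ((Xb x).map α₁.toMonoidHom).map ((liftP (iotaSp (diagGL lam hlam) hg₁ σ))⁻¹).toMonoidHom := by
      rw [Subgroup.map_map]
      rfl
    rw [this, ← hι x hx, Subgroup.map_map]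
    have h2 : ((liftP (iotaSp (diagGL lam hlam) hg₁ σ))⁻¹).toMonoidHom.comp
        (liftP (iotaSp (diagGL lam hlam) hg₁ σ)).toMonoidHom = MonoidHom.id _ := by
      apply MonoidHom.ext
      intro z
      show (liftP (iotaSp (diagGL lam hlam) hg₁ σ))⁻¹ ((liftP (iotaSp (diagGL lam hlam) hg₁ σ)) z) = z
      exact MulEquiv.symm_apply_apply _ z
    rw [h2, Subgroup.map_id]
  have h5 : α₁ = liftP (iotaSp (diagGL lam hlam) hg₁ σ) := by
    have := congrArg (fun x => liftP (iotaSp (diagGL lam hlam) hg₁ σ) * x) hβ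
    simpa using this
  refine ⟨spGL' g₀ * diagGL lam hlam, mul_mem (spGL'_mem g₀) hg₁, σ, ?_⟩
  rw [← conj_mul_liftP g₀ (diagGL lam hlam) hg₁ σ, ← h5, hα₁def]
  group

theorem permX_iff (hm : 2 ≤ m) (α : MulAut (Cfsg.PSp m F)) :
    PermX α ↔ ∃ (g : ↥(Cfsg.GSp m F)) (σ : RingAut F), α = PhiS m F g * fieldSHom m F σ := by
  constructor
  · intro h
    obtain ⟨g, hg, σ, rfl⟩ := aut_eq_iota_of_permX hm α h
    exact ⟨⟨g, hg⟩, σ, liftP_iota_eq g hg σ⟩
  · rintro ⟨g, σ, rfl⟩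
    rw [← liftP_iota_eq g.1 g.2 σ]
    exact permX_liftP_iota g.1 g.2 σ

section quot

variable (N : Subgroup (MulAut (Cfsg.PSp m F))) [N.Normal]

noncomputable def psiN : RingAut F →* MulAut (Cfsg.PSp m F) ⧸ N :=
  (QuotientGroup.mk' N).comp (fieldSHom m F)

theorem psiN_apply (σ : RingAut F) :
    psiN N σ = (QuotientGroup.mk (fieldSHom m F σ) : MulAut (Cfsg.PSp m F) ⧸ N) := rfl

theorem psiN_injective (hm : 2 ≤ m) (hN : N = (PhiS m F).range) :
    Function.Injective (psiN N) := by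
  rw [injective_iff_map_eq_one]
  intro σ hσ
  have h1 : fieldSHom m F σ ∈ N := (QuotientGroup.eq_one_iff _).mp hσ
  rw [hN] at h1
  obtain ⟨g, hg⟩ := h1
  have h2 : PhiS m F g⁻¹ * fieldSHom m F σ = 1 := by rw [map_inv, hg, inv_mul_cancel]
  exact (PhiS_fieldS_eq_one hm g⁻¹ σ h2).1

theorem permX_fieldS (hm : 2 ≤ m) (σ : RingAut F) : PermX (fieldSHom m F σ) :=
  (permX_iff hm _).mpr ⟨1, σ, by rw [map_one, one_mul]⟩

theorem permX_PhiS (hm : 2 ≤ m) (g : ↥(Cfsg.GSp m F)) : PermX (PhiS m F g) :=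
  (permX_iff hm _).mpr ⟨g, 1, by rw [map_one, mul_one]⟩

theorem mk_mem_range_psiN_iff (hm : 2 ≤ m) (hN : N = (PhiS m F).range)
    (β : MulAut (Cfsg.PSp m F)) :
    (QuotientGroup.mk β : MulAut (Cfsg.PSp m F) ⧸ N) ∈ (psiN N).range ↔ PermX β := by
  constructor
  · rintro ⟨σ, hσ⟩
    rw [psiN_apply, QuotientGroup.eq, hN] at hσ
    obtain ⟨g, hg⟩ := hσ
    have hβ : β = fieldSHom m F σ * PhiS m F g := by rw [hg]; group
    rw [hβ]
    exact permX_mul _ _ (permX_fieldS hm σ) (permX_PhiS hm g)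
  · intro h
    obtain ⟨g, σ, rfl⟩ := (permX_iff hm β).mp h
    refine ⟨σ, ?_⟩
    rw [psiN_apply, QuotientGroup.mk_mul]
    have : ((PhiS m F g : MulAut (Cfsg.PSp m F)) : MulAut (Cfsg.PSp m F) ⧸ N) = 1 :=
      (QuotientGroup.eq_one_iff _).mpr (by rw [hN]; exact ⟨g, rfl⟩)
    rw [this, one_mul]

theorem card_range_psiN (hm : 2 ≤ m) (hN : N = (PhiS m F).range) {p f : ℕ} [Fact p.Prime]
    (hF : Fintype.card F = p ^ f) : Nat.card ↥(psiN N).range = f := by
  rw [← (Cfsg.Agent.Lib.Helper16.AP.galF_cyclic_card hF).2]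
  exact (Nat.card_congr (Equiv.ofInjective _ (psiN_injective N hm hN))).symm

theorem card_quot_of_all_permX (hm : 2 ≤ m) (hN : N = (PhiS m F).range) {p f : ℕ} [Fact p.Prime]
    (hF : Fintype.card F = p ^ f) (hall : ∀ β : MulAut (Cfsg.PSp m F), PermX β) :
    Nat.card (MulAut (Cfsg.PSp m F) ⧸ N) = f := by
  have htop : (psiN N).range = ⊤ := by
    rw [eq_top_iff]
    intro y _
    induction y using QuotientGroup.induction_on with
    | H β => exact (mk_mem_range_psiN_iff N hm hN β).mpr (hall β)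
  rw [← card_range_psiN N hm hN hF, htop, Subgroup.card_top]

theorem card_aut_eq_mul : Nat.card (MulAut (Cfsg.PSp m F)) =
    Nat.card (MulAut (Cfsg.PSp m F) ⧸ N) * Nat.card ↥N :=
  Subgroup.card_eq_card_quotient_mul_card_subgroup N

end quot

theorem card_aut_generic (p f : ℕ) [Fact p.Prime] (hF : Fintype.card F = p ^ f) (hm : 2 ≤ m)
    (h4 : m = 2 → p ≠ 2) :
    Nat.card (MulAut (Cfsg.PSp m F)) = Nat.gcd 2 (p ^ f - 1) * f * Nat.card (Cfsg.PSp m F) := by
  have : CharP F p := charP_of_card_eq_prime_pow hF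
  have hN : ((PhiS m F).range).Normal := PhiS_range_normal hm
  rw [card_aut_eq_mul (PhiS m F).range, card_quot_of_all_permX _ hm rfl hF (permX_all p hm h4),
    card_range_PhiS hm, card_Sp_eq hF (by omega)]
  ring

end Cfsg.Agent.Lib.helper15.SpAut
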