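import Cfsg.Agent.Lib.helper15.Sp4G3
import Cfsg.Agent.Lib.helper15.SpAutCard

set_option autoImplicit false
set_option linter.unusedSectionVars false
set_option linter.unusedVariables false

namespace Cfsg.Agent.Lib.helper15.Sp4G

open Matrix Cfsg.Agent.Lib.helper6 Cfsg.Agent.Lib.helper6.SB Cfsg.Agent.Lib.Helper26
  Cfsg.Agent.Lib.Helper16.SPA Cfsg.Agent.Lib.Helper16.SPF Cfsg.Agent.Lib.helper15.SpAut

universe u
variable {F : Type u} [Field F] [Fintype F]

theorem permX_inv {m : ℕ} (hm : 2 ≤ m) (β : MulAut (Cfsg.PSp m F)) (h : PermX β) : PermX β⁻¹ := by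
  obtain ⟨g, σ, rfl⟩ := (permX_iff hm β).mp h
  rw [_root_.mul_inv_rev, ← map_inv, ← map_inv]
  exact permX_mul _ _ (permX_fieldS hm _) (permX_PhiS hm _)

theorem spT_injective {m : ℕ} {q : Fin m ⊕ Fin m → F} (hq : q ≠ 0) (c d : F)
    (h : spT m q c = spT m q d) : c = d := by
  have h2 : spT m q (c - d) = 1 := by
    rw [sub_eq_add_neg, ← spT_mul, h, ← spT_inv, mul_inv_cancel]
  exact sub_eq_zero.mp ((spT_eq_one_iff hq).mp h2)

theorem tauBar_sq (h2 : (2 : F) = 0) (p : ℕ) [Fact p.Prime] [CharP F p] :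
    ∃ (g : ↥(Cfsg.GSp 2 F)) (σ : RingAut F),
      tauBar h2 * tauBar h2 = PhiS 2 F g * fieldSHom 2 F σ ∧ ∀ c : F, σ c = c ^ 2 := by
  have hP : PermX (tauBar h2 * tauBar h2) := by
    rcases permX_or h2 p (tauBar h2) with h | h
    · exact absurd h (tauBar_not_permX h2)
    · exact h
  obtain ⟨g, σ, hgσ⟩ := (permX_iff (le_refl 2) _).mp hP
  refine ⟨g, σ, hgσ, ?_⟩
  obtain ⟨c0, hc0⟩ := id g.2
  have hμ0 : (c0 : F) ≠ 0 := c0.ne_zero
  have key : ∀ c : F, spT 2 (bV e1 : I4 → F) (c ^ 2) =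
      spT 2 ((g.1 : Matrix I4 I4 F) *ᵥ (bV e1 : I4 → F)) (σ c / (c0 : F)) := by
    intro c
    have h1 : (tauBar h2 * tauBar h2) (mkP 2 F (spT 2 (bV e1 : I4 → F) c)) =
        mkP 2 F (spT 2 (bV e1 : I4 → F) (c ^ 2)) := by
      rw [MulAut.mul_apply, tauBar_mk, tau_spT_e1, tauBar_mk, tau_sR_e12]
    rw [hgσ, ← liftP_iota_eq g.1 g.2 σ, liftP_mk, iotaSp_spT g.1 g.2 σ c0 hμ0 hc0, comp_bV] at h1
    exact (mkP_injective_char2 h2 (by omega) h1).symm
  have k1 := key 1
  rw [one_pow, map_one] at k1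
  have hpar : par (bV e1 : I4 → F) ((g.1 : Matrix I4 I4 F) *ᵥ (bV e1 : I4 → F)) :=
    par_of_spT_eq (bV_ne_zero _) _ k1.symm
  obtain ⟨l, hl0, hl⟩ := hpar
  rw [hl, spT_smul] at k1
  have k1' := spT_injective (bV_ne_zero _) _ _ k1
  intro c
  have kc := key c
  rw [hl, spT_smul] at kc
  have kc' := spT_injective (bV_ne_zero _) _ _ kc
  have h3 : σ c = σ c * (l ^ 2 * (1 / (c0 : F))) := by rw [← k1', mul_one]
  rw [h3, kc']
  field_simp

theorem frob_pow_apply (σ : RingAut F) (hσ : ∀ c : F, σ c = c ^ 2) (k : ℕ) (c : F) :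
    (σ ^ k) c = c ^ (2 ^ k) := by
  induction k generalizing c with
  | zero => simp
  | succ k ih =>
    rw [pow_succ, RingAut.mul_apply, hσ, ih, ← pow_mul, pow_succ, mul_comm]

theorem orderOf_frob {f : ℕ} (hf : 1 ≤ f) (hF : Fintype.card F = 2 ^ f) (σ : RingAut F)
    (hσ : ∀ c : F, σ c = c ^ 2) : orderOf σ = f := by
  classical
  rw [orderOf_eq_iff (by omega)]
  constructor
  · apply RingEquiv.ext
    intro c
    rw [frob_pow_apply σ hσ, ← hF, FiniteField.pow_card]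
    rfl
  · intro k hk hk0 hone
    obtain ⟨g, hg⟩ := IsCyclic.exists_generator (α := Fˣ)
    have hord : orderOf g = Nat.card Fˣ := orderOf_eq_card_of_forall_mem_zpowers hg
    rw [Nat.card_eq_fintype_card, Fintype.card_units, hF] at hord
    have h1 : ((g : Fˣ) : F) ^ (2 ^ k) = (g : F) := by
      have := frob_pow_apply σ hσ k (g : F)
      rw [hone] at this
      exact this.symm
    have h2 : g ^ (2 ^ k - 1) = 1 := by
      apply Units.ext
      rw [Units.val_pow_eq_pow_val, Units.val_one]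
      have hg0 : (g : F) ≠ 0 := g.ne_zero
      have h3 : (g : F) ^ (2 ^ k - 1) * (g : F) = 1 * (g : F) := by
        rw [← pow_succ, Nat.sub_add_cancel Nat.one_le_two_pow, h1, one_mul]
      exact mul_right_cancel₀ hg0 h3
    have h4 := orderOf_dvd_of_pow_eq_one h2
    rw [hord] at h4
    have h5 : 2 ^ k < 2 ^ f := Nat.pow_lt_pow_right (by norm_num) hk
    have h6 : 2 ^ 1 ≤ 2 ^ k := Nat.pow_le_pow_right (by norm_num) hk0
    have h7 := Nat.le_of_dvd (by omega) h4
    omega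

section quot22

variable (N : Subgroup (MulAut (Cfsg.PSp 2 F))) [N.Normal]

theorem index_range_psiN (h2 : (2 : F) = 0) (p : ℕ) [Fact p.Prime] [CharP F p]
    (hN : N = (PhiS 2 F).range) : (psiN N).range.index = 2 := by
  rw [Subgroup.index_eq_two_iff']
  refine ⟨(QuotientGroup.mk (tauBar h2) : MulAut (Cfsg.PSp 2 F) ⧸ N), fun b => ?_⟩
  induction b using QuotientGroup.induction_on with
  | H β =>
    rw [← QuotientGroup.mk_mul, mk_mem_range_psiN_iff N (le_refl 2) hN,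
      mk_mem_range_psiN_iff N (le_refl 2) hN]
    have hnot : ¬ (PermX (tauBar h2 * β) ∧ PermX β) := by
      rintro ⟨h1, h3⟩
      apply tauBar_not_permX h2
      have := permX_mul _ _ h1 (permX_inv (le_refl 2) β h3)
      rwa [mul_inv_cancel_right] at this
    rcases permX_or h2 p β with h | h
    · exact Or.inr ⟨h, fun h' => hnot ⟨h', h⟩⟩
    · exact Or.inl ⟨h, fun h' => hnot ⟨h, h'⟩⟩

theorem card_quot22 (h2 : (2 : F) = 0) {f : ℕ} (hF : Fintype.card F = 2 ^ f)
    (hN : N = (PhiS 2 F).range) : Nat.card (MulAut (Cfsg.PSp 2 F) ⧸ N) = 2 * f := by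
  have : Fact (Nat.Prime 2) := ⟨Nat.prime_two⟩
  have : CharP F 2 := charP_of_card_eq_prime_pow hF
  have h1 := Subgroup.card_mul_index (psiN N).range
  rw [index_range_psiN N h2 2 hN, card_range_psiN N (le_refl 2) hN hF] at h1
  rw [← h1, mul_comm]

theorem isCyclic_quot22 (h2 : (2 : F) = 0) {f : ℕ} (hf : 1 ≤ f) (hF : Fintype.card F = 2 ^ f)
    (hN : N = (PhiS 2 F).range) : IsCyclic (MulAut (Cfsg.PSp 2 F) ⧸ N) := by
  have : Fact (Nat.Prime 2) := ⟨Nat.prime_two⟩
  have : CharP F 2 := charP_of_card_eq_prime_pow hF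
  obtain ⟨g, σ, hsq, hσ⟩ := tauBar_sq h2 2
  have hcard := card_quot22 N h2 hF hN
  set x : MulAut (Cfsg.PSp 2 F) ⧸ N := QuotientGroup.mk (tauBar h2) with hx
  have hxsq : x ^ 2 = psiN N σ := by
    rw [pow_two, hx, ← QuotientGroup.mk_mul, hsq, QuotientGroup.mk_mul, psiN_apply]
    have : ((PhiS 2 F g : MulAut (Cfsg.PSp 2 F)) : MulAut (Cfsg.PSp 2 F) ⧸ N) = 1 :=
      (QuotientGroup.eq_one_iff _).mpr (by rw [hN]; exact ⟨g, rfl⟩)
    rw [this, one_mul]
  have hordy : orderOf (psiN N σ) = f := by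
    rw [orderOf_injective (psiN N) (psiN_injective N (le_refl 2) hN) σ]
    exact orderOf_frob hf hF σ hσ
  have hxnot : x ∉ (psiN N).range := by
    rw [hx, mk_mem_range_psiN_iff N (le_refl 2) hN]
    exact tauBar_not_permX h2
  have hfin : Finite (MulAut (Cfsg.PSp 2 F) ⧸ N) := Nat.finite_of_card_ne_zero (by omega)
  have hn0 : 0 < orderOf x := orderOf_pos x
  have hdiv : orderOf x ∣ 2 * f := by
    rw [← hcard]
    exact orderOf_dvd_natCard x
  have hpw : orderOf (x ^ 2) = orderOf x / Nat.gcd (orderOf x) 2 := orderOf_pow x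
  rw [hxsq, hordy] at hpw
  have hord : orderOf x = 2 * f := by
    rcases Nat.even_or_odd (orderOf x) with he | ho
    · obtain ⟨k, hk⟩ := he
      have hg : Nat.gcd (orderOf x) 2 = 2 := Nat.gcd_eq_right ⟨k, by rw [hk]; ring⟩
      rw [hg, hk, ← two_mul, Nat.mul_div_cancel_left k (by norm_num)] at hpw
      rw [hk, hpw]
      ring
    · exfalso
      have hg : Nat.gcd (orderOf x) 2 = 1 := ho.coprime_two_right
      rw [hg, Nat.div_one] at hpw
      apply hxnot
      obtain ⟨k, hk⟩ := ho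
      have h3 : x = (x ^ 2) ^ (k + 1) := by
        rw [← pow_mul]
        have : 2 * (k + 1) = orderOf x + 1 := by omega
        rw [this, pow_succ, pow_orderOf_eq_one, one_mul]
      rw [h3, hxsq]
      exact Subgroup.pow_mem _ (MonoidHom.mem_range.mpr ⟨σ, rfl⟩) _
  exact isCyclic_of_orderOf_eq_card x (by rw [hord, hcard])

end quot22

end Cfsg.Agent.Lib.helper15.Sp4G
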