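import Mathlib
import Cfsg.Prelude.Def_GeometricClasses

set_option autoImplicit false

namespace Cfsg.Agent.Lib.helper15.SN

open Matrix Polynomial

variable {F : Type*} [Field F] {n : ℕ}

lemma mulVec_eq_zero_of_mem {K : Subalgebra F (Matrix (Fin n) (Fin n) F)}
    (hK : Cfsg.Geo.IsFieldSubalgebra n K) {κ : Matrix (Fin n) (Fin n) F} (hκ : κ ∈ K)
    {v : Fin n → F} (hv : v ≠ 0) (h : κ *ᵥ v = 0) : κ = 0 := by
  by_contra hκ0
  obtain ⟨y, hy, hκy⟩ := hK.inv κ hκ hκ0
  have hyκ : y * κ = 1 := by rw [← hK.comm κ hκ y hy, hκy]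
  apply hv
  calc v = (y * κ) *ᵥ v := by rw [hyκ, Matrix.one_mulVec]
    _ = y *ᵥ (κ *ᵥ v) := by rw [Matrix.mulVec_mulVec]
    _ = 0 := by rw [h, Matrix.mulVec_zero]

def evalL (K : Subalgebra F (Matrix (Fin n) (Fin n) F)) (v : Fin n → F) :
    K →ₗ[F] (Fin n → F) where
  toFun κ := (κ : Matrix (Fin n) (Fin n) F) *ᵥ v
  map_add' a b := by simp [Matrix.add_mulVec]
  map_smul' c a := by simp [Matrix.smul_mulVec]

lemma evalL_apply (K : Subalgebra F (Matrix (Fin n) (Fin n) F)) (v : Fin n → F) (κ : K) :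
    evalL K v κ = (κ : Matrix (Fin n) (Fin n) F) *ᵥ v := rfl

lemma evalL_injective {K : Subalgebra F (Matrix (Fin n) (Fin n) F)}
    (hK : Cfsg.Geo.IsFieldSubalgebra n K) {v : Fin n → F} (hv : v ≠ 0) :
    Function.Injective (evalL K v) := by
  rw [← LinearMap.ker_eq_bot, LinearMap.ker_eq_bot']
  intro κ h
  exact Subtype.ext (mulVec_eq_zero_of_mem hK κ.2 hv h)

lemma evalL_bijective {K : Subalgebra F (Matrix (Fin n) (Fin n) F)}
    (hK : Cfsg.Geo.IsFieldSubalgebra n K) {v : Fin n → F} (hv : v ≠ 0) :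
    Function.Bijective (evalL K v) := by
  have hinj := evalL_injective hK hv
  refine ⟨hinj, ?_⟩
  have hfr : Module.finrank F K = Module.finrank F (Fin n → F) := by
    rw [hK.finrank_eq, Module.finrank_fin_fun]
  exact (LinearMap.injective_iff_surjective_of_finrank_eq_finrank hfr).mp hinj

lemma exists_mem_mulVec {K : Subalgebra F (Matrix (Fin n) (Fin n) F)}
    (hK : Cfsg.Geo.IsFieldSubalgebra n K) {v : Fin n → F} (hv : v ≠ 0) (w : Fin n → F) :
    ∃ κ ∈ K, κ *ᵥ v = w := by
  obtain ⟨κ, hκ⟩ := (evalL_bijective hK hv).2 w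
  exact ⟨κ.1, κ.2, hκ⟩

lemma mat_ext_mulVec (A B : Matrix (Fin n) (Fin n) F) (h : ∀ w : Fin n → F, A *ᵥ w = B *ᵥ w) :
    A = B := by
  apply Matrix.toLin'.injective
  apply LinearMap.ext
  intro w
  simpa using h w

lemma mem_of_commute {K : Subalgebra F (Matrix (Fin n) (Fin n) F)}
    (hK : Cfsg.Geo.IsFieldSubalgebra n K) (hn : 0 < n) (a : Matrix (Fin n) (Fin n) F)
    (ha : ∀ κ ∈ K, a * κ = κ * a) : a ∈ K := by
  have hv : (Pi.single (⟨0, hn⟩ : Fin n) (1 : F) : Fin n → F) ≠ 0 := by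
    intro h
    have := congrFun h ⟨0, hn⟩
    simp at this
  obtain ⟨κ₀, hκ₀, h0⟩ := exists_mem_mulVec hK hv (a *ᵥ Pi.single (⟨0, hn⟩ : Fin n) (1 : F))
  have : a = κ₀ := by
    apply mat_ext_mulVec
    intro w
    obtain ⟨κ, hκ, rfl⟩ := exists_mem_mulVec hK hv w
    rw [Matrix.mulVec_mulVec, ha κ hκ, ← Matrix.mulVec_mulVec, ← h0, Matrix.mulVec_mulVec,
      Matrix.mulVec_mulVec, hK.comm κ hκ κ₀ hκ₀]
  rw [this]; exact hκ₀

lemma isField_of {K : Subalgebra F (Matrix (Fin n) (Fin n) F)}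
    (hK : Cfsg.Geo.IsFieldSubalgebra n K) (hn : 0 < n) : IsField K := by
  haveI : Nonempty (Fin n) := ⟨⟨0, hn⟩⟩
  refine ⟨⟨0, 1, ?_⟩, ?_, ?_⟩
  · intro h
    have h1 : (0 : Matrix (Fin n) (Fin n) F) = 1 := congrArg Subtype.val h
    exact zero_ne_one h1
  · intro a b
    exact Subtype.ext (hK.comm a.1 a.2 b.1 b.2)
  · intro a ha
    have ha' : (a : Matrix (Fin n) (Fin n) F) ≠ 0 := fun h => ha (Subtype.ext h)
    obtain ⟨y, hy, hay⟩ := hK.inv a.1 a.2 ha'
    exact ⟨⟨y, hy⟩, Subtype.ext hay⟩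

lemma mem_range_of_pow_card {F L : Type*} [Field F] [Fintype F] [Field L] [Algebra F L] (a : L)
    (h : a ^ Fintype.card F = a) : ∃ c : F, algebraMap F L c = a := by
  classical
  by_contra hne
  have hne' : ∀ c : F, algebraMap F L c ≠ a := fun c hc => hne ⟨c, hc⟩
  set P : L[X] := X ^ Fintype.card F - X with hP
  have hP0 : P ≠ 0 := FiniteField.X_pow_card_sub_X_ne_zero L Fintype.one_lt_card
  have hdeg : P.natDegree = Fintype.card F :=
    FiniteField.X_pow_card_sub_X_natDegree_eq L Fintype.one_lt_card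
  have hroot : ∀ b : L, b ^ Fintype.card F = b → b ∈ P.roots.toFinset := by
    intro b hb
    rw [Multiset.mem_toFinset, mem_roots hP0, IsRoot, hP, eval_sub, eval_pow, eval_X, hb, sub_self]
  have hsub : insert a (Finset.univ.image (algebraMap F L)) ⊆ P.roots.toFinset := by
    intro b hb
    rw [Finset.mem_insert] at hb
    rcases hb with rfl | hb
    · exact hroot _ h
    · obtain ⟨c, _, rfl⟩ := Finset.mem_image.mp hb
      apply hroot
      rw [← map_pow, FiniteField.pow_card]
  have h1 := Finset.card_le_card hsub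
  have h2 : (insert a (Finset.univ.image (algebraMap F L))).card = Fintype.card F + 1 := by
    rw [Finset.card_insert_of_notMem, Finset.card_image_of_injective _ (algebraMap F L).injective,
      Finset.card_univ]
    intro hmem
    obtain ⟨c, _, hc⟩ := Finset.mem_image.mp hmem
    exact hne' c hc
  have h3 : P.roots.toFinset.card ≤ Fintype.card F := by
    calc P.roots.toFinset.card ≤ Multiset.card P.roots := Multiset.toFinset_card_le _
      _ ≤ P.natDegree := card_roots' P
      _ = Fintype.card F := hdeg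
  omega

lemma frob_fixed {F L : Type*} [Field F] [Fintype F] [Field L] [Finite L] [Algebra F L]
    {j : ℕ} (hcop : Nat.Coprime j (Module.finrank F L)) (a : L)
    (h : a ^ (Fintype.card F ^ j) = a) : ∃ c : F, algebraMap F L c = a := by
  apply mem_range_of_pow_card
  set φ := FiniteField.frobeniusAlgHom F L with hφ
  have hn : φ ^ Module.finrank F L = 1 := by
    rw [← FiniteField.orderOf_frobeniusAlgHom F L]; exact pow_orderOf_eq_one φ
  have hpow : ∀ m : ℕ, (φ ^ m) a = a ^ (Fintype.card F ^ m) := by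
    intro m
    rw [AlgHom.coe_pow, FiniteField.coe_frobeniusAlgHom, pow_iterate]
  have hj : (φ ^ j) a = a := by rw [hpow, h]
  have hmul : ∀ u : ℕ, (φ ^ (j * u)) a = a := by
    intro u
    induction u with
    | zero => simp
    | succ u ih =>
      rw [Nat.mul_succ, pow_add, AlgHom.mul_apply, hj, ih]
  have hnmul : ∀ t : ℕ, (φ ^ (Module.finrank F L * t)) a = a := by
    intro t
    rw [pow_mul, hn, one_pow, AlgHom.one_apply]
  have hpos : 0 < Module.finrank F L := Module.finrank_pos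
  by_cases h1 : Module.finrank F L = 1
  · have : φ = 1 := by rw [← pow_one φ, ← h1, hn]
    have h2 : φ a = a := by rw [this, AlgHom.one_apply]
    rwa [FiniteField.coe_frobeniusAlgHom] at h2
  · have hn1 : 1 < Module.finrank F L := by omega
    obtain ⟨u, -, hu⟩ := Nat.exists_mul_mod_eq_one_of_coprime hcop hn1
    have e : j * u = 1 + Module.finrank F L * (j * u / Module.finrank F L) := by
      have := Nat.div_add_mod (j * u) (Module.finrank F L)
      omega
    have h2 := hmul u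
    rw [e, pow_add, AlgHom.mul_apply, hnmul, pow_one] at h2
    rwa [FiniteField.coe_frobeniusAlgHom] at h2

end Cfsg.Agent.Lib.helper15.SN
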