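import Mathlib
import Cfsg.Agent.Lib.helper15.SN1

set_option autoImplicit false

namespace Cfsg.Agent.Lib.helper15.SN

open Matrix Polynomial

variable {F : Type*} [Field F] [Fintype F] {n : ℕ}

lemma pow_card_pow_eq {K : Subalgebra F (Matrix (Fin n) (Fin n) F)}
    (hK : Cfsg.Geo.IsFieldSubalgebra n K) (hn : 0 < n) {κ : Matrix (Fin n) (Fin n) F}
    (hκ : κ ∈ K) : κ ^ (Fintype.card F ^ n) = κ := by
  let _ : Field K := (isField_of hK hn).toField
  have : Finite K := Module.finite_of_finite F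
  have : Fintype K := Fintype.ofFinite K
  have hc : Fintype.card K = Fintype.card F ^ n := by
    rw [Module.card_eq_pow_finrank (K := F) (V := K), hK.finrank_eq]
  have h1 : (⟨κ, hκ⟩ : K) ^ Fintype.card K = ⟨κ, hκ⟩ := FiniteField.pow_card _
  rw [hc] at h1
  have h2 := congrArg Subtype.val h1
  simpa using h2

lemma fixed_of_pow {K : Subalgebra F (Matrix (Fin n) (Fin n) F)}
    (hK : Cfsg.Geo.IsFieldSubalgebra n K) (hn : 0 < n) {j : ℕ} (hj : Nat.Coprime j n)
    {κ : Matrix (Fin n) (Fin n) F} (hκ : κ ∈ K) (h : κ ^ (Fintype.card F ^ j) = κ) :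
    ∃ c : F, κ = c • (1 : Matrix (Fin n) (Fin n) F) := by
  let _ : Field K := (isField_of hK hn).toField
  have : Finite K := Module.finite_of_finite F
  have h1 : (⟨κ, hκ⟩ : K) ^ (Fintype.card F ^ j) = ⟨κ, hκ⟩ := by
    apply Subtype.ext
    simpa using h
  have hfr : Module.finrank F K = n := hK.finrank_eq
  obtain ⟨c, hc⟩ := frob_fixed (F := F) (L := K) (by rw [hfr]; exact hj) _ h1
  refine ⟨c, ?_⟩
  have h2 := congrArg Subtype.val hc
  rw [Algebra.algebraMap_eq_smul_one] at h2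
  simpa using h2.symm

lemma exists_frob_pow {K : Subalgebra F (Matrix (Fin n) (Fin n) F)}
    (hK : Cfsg.Geo.IsFieldSubalgebra n K) (hn : 0 < n) (g : GL (Fin n) F)
    (hg : g ∈ Cfsg.Geo.subalgebraNormalizer K) :
    ∃ j : ℕ, j < n ∧ ∀ κ ∈ K, (g : Matrix (Fin n) (Fin n) F) * κ *
      ((g⁻¹ : GL (Fin n) F) : Matrix (Fin n) (Fin n) F) = κ ^ (Fintype.card F ^ j) := by
  let _ : Field K := (isField_of hK hn).toField
  have : Finite K := Module.finite_of_finite F
  have hg' : ∀ k : Matrix (Fin n) (Fin n) F, k ∈ K ↔ (g : Matrix (Fin n) (Fin n) F) * k *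
      ((g⁻¹ : GL (Fin n) F) : Matrix (Fin n) (Fin n) F) ∈ K := hg
  have hgi : ((g⁻¹ : GL (Fin n) F) : Matrix (Fin n) (Fin n) F) * (g : Matrix (Fin n) (Fin n) F) = 1 := by
    rw [← Units.val_mul, inv_mul_cancel, Units.val_one]
  let θ : K →ₐ[F] K :=
    { toFun := fun κ => ⟨(g : Matrix (Fin n) (Fin n) F) * κ.1 *
        ((g⁻¹ : GL (Fin n) F) : Matrix (Fin n) (Fin n) F), (hg' κ.1).mp κ.2⟩
      map_one' := by
        apply Subtype.ext
        show (g : Matrix (Fin n) (Fin n) F) * 1 * ((g⁻¹ : GL (Fin n) F) : Matrix (Fin n) (Fin n) F) = 1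
        rw [mul_one, ← Units.val_mul, mul_inv_cancel, Units.val_one]
      map_mul' := by
        intro a b
        apply Subtype.ext
        show (g : Matrix (Fin n) (Fin n) F) * (a.1 * b.1) * ((g⁻¹ : GL (Fin n) F) : Matrix (Fin n) (Fin n) F) =
          ((g : Matrix (Fin n) (Fin n) F) * a.1 * ((g⁻¹ : GL (Fin n) F) : Matrix (Fin n) (Fin n) F)) *
          ((g : Matrix (Fin n) (Fin n) F) * b.1 * ((g⁻¹ : GL (Fin n) F) : Matrix (Fin n) (Fin n) F))
        rw [show ((g : Matrix (Fin n) (Fin n) F) * a.1 * ((g⁻¹ : GL (Fin n) F) : Matrix (Fin n) (Fin n) F)) *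
          ((g : Matrix (Fin n) (Fin n) F) * b.1 * ((g⁻¹ : GL (Fin n) F) : Matrix (Fin n) (Fin n) F)) =
          (g : Matrix (Fin n) (Fin n) F) * a.1 * (((g⁻¹ : GL (Fin n) F) : Matrix (Fin n) (Fin n) F) *
          (g : Matrix (Fin n) (Fin n) F)) * b.1 * ((g⁻¹ : GL (Fin n) F) : Matrix (Fin n) (Fin n) F) by
            simp only [mul_assoc], hgi, mul_one]
        simp only [mul_assoc]
      map_zero' := by
        apply Subtype.ext
        show (g : Matrix (Fin n) (Fin n) F) * 0 * ((g⁻¹ : GL (Fin n) F) : Matrix (Fin n) (Fin n) F) = 0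
        rw [mul_zero, zero_mul]
      map_add' := by
        intro a b
        apply Subtype.ext
        show (g : Matrix (Fin n) (Fin n) F) * (a.1 + b.1) * ((g⁻¹ : GL (Fin n) F) : Matrix (Fin n) (Fin n) F) =
          ((g : Matrix (Fin n) (Fin n) F) * a.1 * ((g⁻¹ : GL (Fin n) F) : Matrix (Fin n) (Fin n) F)) +
          ((g : Matrix (Fin n) (Fin n) F) * b.1 * ((g⁻¹ : GL (Fin n) F) : Matrix (Fin n) (Fin n) F))
        rw [mul_add, add_mul]
      commutes' := by
        intro c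
        apply Subtype.ext
        show (g : Matrix (Fin n) (Fin n) F) * ((algebraMap F K c : K) : Matrix (Fin n) (Fin n) F) *
          ((g⁻¹ : GL (Fin n) F) : Matrix (Fin n) (Fin n) F) = ((algebraMap F K c : K) : Matrix (Fin n) (Fin n) F)
        have e : ((algebraMap F K c : K) : Matrix (Fin n) (Fin n) F) = c • (1 : Matrix (Fin n) (Fin n) F) := by
          rw [Algebra.algebraMap_eq_smul_one]; simp
        rw [e, Matrix.mul_smul, mul_one, Matrix.smul_mul, ← Units.val_mul, mul_inv_cancel, Units.val_one] }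
  obtain ⟨j, hj⟩ := (FiniteField.bijective_frobeniusAlgHom_pow F K).2 θ
  refine ⟨j.1, ?_, ?_⟩
  · exact lt_of_lt_of_eq j.2 hK.finrank_eq
  · intro κ hκ
    have h1 := congrArg (fun f : K →ₐ[F] K => ((f ⟨κ, hκ⟩ : K) : Matrix (Fin n) (Fin n) F)) hj
    simp only [AlgHom.coe_pow, FiniteField.coe_frobeniusAlgHom, pow_iterate] at h1
    have h2 : ((θ ⟨κ, hκ⟩ : K) : Matrix (Fin n) (Fin n) F) = (g : Matrix (Fin n) (Fin n) F) * κ *
      ((g⁻¹ : GL (Fin n) F) : Matrix (Fin n) (Fin n) F) := rfl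
    rw [← h2, ← h1]
    simp

variable {F : Type*} [Field F] [Fintype F] {n : ℕ}

theorem eigen_le_one {K : Subalgebra F (Matrix (Fin n) (Fin n) F)}
    (hK : Cfsg.Geo.IsFieldSubalgebra n K) (hnp : n.Prime) (g : GL (Fin n) F)
    (hg : g ∈ Cfsg.Geo.subalgebraNormalizer K) (lam : F) (v v' : Fin n → F) (hv : v ≠ 0)
    (h1 : (g : Matrix (Fin n) (Fin n) F) *ᵥ v = lam • v)
    (h2 : (g : Matrix (Fin n) (Fin n) F) *ᵥ v' = lam • v') :
    (g : Matrix (Fin n) (Fin n) F) = lam • (1 : Matrix (Fin n) (Fin n) F) ∨ ∃ a : F, v' = a • v := by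
  have hn : 0 < n := hnp.pos
  obtain ⟨j, hjn, hj⟩ := exists_frob_pow hK hn g hg
  have hgi : ((g⁻¹ : GL (Fin n) F) : Matrix (Fin n) (Fin n) F) * (g : Matrix (Fin n) (Fin n) F) = 1 := by
    rw [← Units.val_mul, inv_mul_cancel, Units.val_one]
  have hcomm : ∀ κ ∈ K, (g : Matrix (Fin n) (Fin n) F) * κ =
      κ ^ (Fintype.card F ^ j) * (g : Matrix (Fin n) (Fin n) F) := by
    intro κ hκ
    rw [← hj κ hκ, mul_assoc, hgi, mul_one]
  have hact : ∀ κ ∈ K, (g : Matrix (Fin n) (Fin n) F) *ᵥ (κ *ᵥ v) =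
      lam • ((κ ^ (Fintype.card F ^ j)) *ᵥ v) := by
    intro κ hκ
    rw [Matrix.mulVec_mulVec, hcomm κ hκ, ← Matrix.mulVec_mulVec, h1, Matrix.mulVec_smul]
  have hlam : lam ≠ 0 := by
    intro h0
    rw [h0, zero_smul] at h1
    apply hv
    calc v = (((g⁻¹ : GL (Fin n) F) : Matrix (Fin n) (Fin n) F) * (g : Matrix (Fin n) (Fin n) F)) *ᵥ v := by
          rw [hgi, Matrix.one_mulVec]
      _ = 0 := by rw [← Matrix.mulVec_mulVec, h1, Matrix.mulVec_zero]
  rcases Nat.eq_zero_or_pos j with hj0 | hjpos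
  · left
    subst hj0
    apply mat_ext_mulVec
    intro w
    obtain ⟨κ, hκ, rfl⟩ := exists_mem_mulVec hK hv w
    rw [hact κ hκ, pow_zero, pow_one, Matrix.smul_mulVec, Matrix.one_mulVec]
  · right
    obtain ⟨κ', hκ', rfl⟩ := exists_mem_mulVec hK hv v'
    rw [hact κ' hκ'] at h2
    have h3 : (κ' ^ (Fintype.card F ^ j) - κ') *ᵥ v = 0 := by
      have := smul_right_injective (Fin n → F) hlam h2
      rw [Matrix.sub_mulVec, this, sub_self]
    have hmem : κ' ^ (Fintype.card F ^ j) - κ' ∈ K := K.sub_mem (K.pow_mem hκ' _) hκ'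
    have h4 := mulVec_eq_zero_of_mem hK hmem hv h3
    have hcop : Nat.Coprime j n := by
      rw [Nat.coprime_comm]
      exact (Nat.Prime.coprime_iff_not_dvd hnp).mpr (Nat.not_dvd_of_pos_of_lt hjpos hjn)
    obtain ⟨c, hc⟩ := fixed_of_pow hK hn hcop hκ' (sub_eq_zero.mp h4)
    refine ⟨c, ?_⟩
    rw [hc, Matrix.smul_mulVec, Matrix.one_mulVec]

variable {F : Type*} [Field F] [Fintype F] {n : ℕ}

omit [Fintype F] in
lemma mem_normalizer_of_forall (K : Subalgebra F (Matrix (Fin n) (Fin n) F)) (g : GL (Fin n) F)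
    (h : ∀ κ ∈ K, (g : Matrix (Fin n) (Fin n) F) * κ *
      ((g⁻¹ : GL (Fin n) F) : Matrix (Fin n) (Fin n) F) ∈ K) :
    g ∈ Cfsg.Geo.subalgebraNormalizer K := by
  have hgi : ((g⁻¹ : GL (Fin n) F) : Matrix (Fin n) (Fin n) F) * (g : Matrix (Fin n) (Fin n) F) = 1 := by
    rw [← Units.val_mul, inv_mul_cancel, Units.val_one]
  have hgi' : (g : Matrix (Fin n) (Fin n) F) * ((g⁻¹ : GL (Fin n) F) : Matrix (Fin n) (Fin n) F) = 1 := by
    rw [← Units.val_mul, mul_inv_cancel, Units.val_one]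
  let T : K →ₗ[F] K :=
    { toFun := fun κ => ⟨_, h κ.1 κ.2⟩
      map_add' := by
        intro a b
        apply Subtype.ext
        show (g : Matrix (Fin n) (Fin n) F) * (a.1 + b.1) * ((g⁻¹ : GL (Fin n) F) : Matrix (Fin n) (Fin n) F) =
          (g : Matrix (Fin n) (Fin n) F) * a.1 * ((g⁻¹ : GL (Fin n) F) : Matrix (Fin n) (Fin n) F) +
          (g : Matrix (Fin n) (Fin n) F) * b.1 * ((g⁻¹ : GL (Fin n) F) : Matrix (Fin n) (Fin n) F)
        rw [mul_add, add_mul]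
      map_smul' := by
        intro c a
        apply Subtype.ext
        show (g : Matrix (Fin n) (Fin n) F) * (c • a.1) * ((g⁻¹ : GL (Fin n) F) : Matrix (Fin n) (Fin n) F) =
          c • ((g : Matrix (Fin n) (Fin n) F) * a.1 * ((g⁻¹ : GL (Fin n) F) : Matrix (Fin n) (Fin n) F))
        rw [Matrix.mul_smul, Matrix.smul_mul] }
  have hTinj : Function.Injective T := by
    intro a b hab
    have h1 : (g : Matrix (Fin n) (Fin n) F) * a.1 * ((g⁻¹ : GL (Fin n) F) : Matrix (Fin n) (Fin n) F) =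
        (g : Matrix (Fin n) (Fin n) F) * b.1 * ((g⁻¹ : GL (Fin n) F) : Matrix (Fin n) (Fin n) F) :=
      congrArg Subtype.val hab
    apply Subtype.ext
    calc a.1 = ((g⁻¹ : GL (Fin n) F) : Matrix (Fin n) (Fin n) F) * ((g : Matrix (Fin n) (Fin n) F) * a.1 *
          ((g⁻¹ : GL (Fin n) F) : Matrix (Fin n) (Fin n) F)) * (g : Matrix (Fin n) (Fin n) F) := by
            simp only [mul_assoc, hgi, mul_one]
            rw [← mul_assoc, hgi, one_mul]
      _ = b.1 := by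
            rw [h1]
            simp only [mul_assoc, hgi, mul_one]
            rw [← mul_assoc, hgi, one_mul]
  have hTsurj : Function.Surjective T := LinearMap.injective_iff_surjective.mp hTinj
  intro k
  constructor
  · exact h k
  · intro hk
    obtain ⟨κ, hκ⟩ := hTsurj ⟨_, hk⟩
    have h1 : (g : Matrix (Fin n) (Fin n) F) * κ.1 * ((g⁻¹ : GL (Fin n) F) : Matrix (Fin n) (Fin n) F) =
        (g : Matrix (Fin n) (Fin n) F) * k * ((g⁻¹ : GL (Fin n) F) : Matrix (Fin n) (Fin n) F) :=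
      congrArg Subtype.val hκ
    have h2 : κ.1 = k := by
      calc κ.1 = ((g⁻¹ : GL (Fin n) F) : Matrix (Fin n) (Fin n) F) * ((g : Matrix (Fin n) (Fin n) F) * κ.1 *
          ((g⁻¹ : GL (Fin n) F) : Matrix (Fin n) (Fin n) F)) * (g : Matrix (Fin n) (Fin n) F) := by
            simp only [mul_assoc, hgi, mul_one]
            rw [← mul_assoc, hgi, one_mul]
        _ = k := by
            rw [h1]
            simp only [mul_assoc, hgi, mul_one]
            rw [← mul_assoc, hgi, one_mul]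
    rw [← h2]; exact κ.2

theorem exists_frob_matrix_strong {K : Subalgebra F (Matrix (Fin n) (Fin n) F)}
    (hK : Cfsg.Geo.IsFieldSubalgebra n K) (hn2 : 2 ≤ n) :
    ∃ s : GL (Fin n) F, s ∈ Cfsg.Geo.subalgebraNormalizer K ∧ s ^ n = 1 ∧
      ∀ c : F, (s : Matrix (Fin n) (Fin n) F) ≠ c • (1 : Matrix (Fin n) (Fin n) F) := by
  have hn : 0 < n := by omega
  let _ : Field K := (isField_of hK hn).toField
  have : Finite K := Module.finite_of_finite F
  set v₀ : Fin n → F := Pi.single (⟨0, hn⟩ : Fin n) (1 : F) with hv₀def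
  have hv₀ : v₀ ≠ 0 := by
    intro h
    have := congrFun h ⟨0, hn⟩
    simp [hv₀def] at this
  let e : K ≃ₗ[F] (Fin n → F) := LinearEquiv.ofBijective (evalL K v₀) (evalL_bijective hK hv₀)
  let S : (Fin n → F) →ₗ[F] (Fin n → F) :=
    e.toLinearMap ∘ₗ (FiniteField.frobeniusAlgHom F K).toLinearMap ∘ₗ e.symm.toLinearMap
  set sM : Matrix (Fin n) (Fin n) F := LinearMap.toMatrix' S with hsM
  have hkey : ∀ κ ∈ K, sM *ᵥ (κ *ᵥ v₀) = (κ ^ Fintype.card F) *ᵥ v₀ := by
    intro κ hκ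
    rw [hsM, LinearMap.toMatrix'_mulVec]
    have h1 : κ *ᵥ v₀ = e ⟨κ, hκ⟩ := rfl
    rw [h1]
    show e ((FiniteField.frobeniusAlgHom F K) (e.symm (e ⟨κ, hκ⟩))) = _
    rw [LinearEquiv.symm_apply_apply, FiniteField.coe_frobeniusAlgHom]
    show ((⟨κ, hκ⟩ ^ Fintype.card F : K) : Matrix (Fin n) (Fin n) F) *ᵥ v₀ = _
    simp
  have hpow : ∀ i : ℕ, ∀ κ ∈ K, (sM ^ i) *ᵥ (κ *ᵥ v₀) = (κ ^ (Fintype.card F ^ i)) *ᵥ v₀ := by
    intro i
    induction i with
    | zero => intro κ hκ; simp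
    | succ i ih =>
      intro κ hκ
      rw [pow_succ', ← Matrix.mulVec_mulVec, ih κ hκ, hkey _ (K.pow_mem hκ _), ← pow_mul, ← pow_succ]
  have hsn : sM ^ n = 1 := by
    apply mat_ext_mulVec
    intro w
    obtain ⟨κ, hκ, rfl⟩ := exists_mem_mulVec hK hv₀ w
    rw [hpow n κ hκ, pow_card_pow_eq hK hn hκ, Matrix.one_mulVec]
  have hn1 : n - 1 + 1 = n := by omega
  have hs1 : sM * sM ^ (n - 1) = 1 := by rw [← pow_succ', hn1, hsn]
  have hs2 : sM ^ (n - 1) * sM = 1 := by rw [← pow_succ, hn1, hsn]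
  let s : GL (Fin n) F := ⟨sM, sM ^ (n - 1), hs1, hs2⟩
  have hsval : (s : Matrix (Fin n) (Fin n) F) = sM := rfl
  have hsinv : ((s⁻¹ : GL (Fin n) F) : Matrix (Fin n) (Fin n) F) = sM ^ (n - 1) := rfl
  have hconj : ∀ κ ∈ K, sM * κ = κ ^ Fintype.card F * sM := by
    intro κ hκ
    apply mat_ext_mulVec
    intro w
    obtain ⟨κ', hκ', rfl⟩ := exists_mem_mulVec hK hv₀ w
    calc (sM * κ) *ᵥ (κ' *ᵥ v₀) = sM *ᵥ ((κ * κ') *ᵥ v₀) := by
          rw [← Matrix.mulVec_mulVec, Matrix.mulVec_mulVec v₀ κ κ']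
      _ = ((κ * κ') ^ Fintype.card F) *ᵥ v₀ := hkey _ (K.mul_mem hκ hκ')
      _ = (κ ^ Fintype.card F * κ' ^ Fintype.card F) *ᵥ v₀ := by
          rw [(show Commute κ κ' from hK.comm κ hκ κ' hκ').mul_pow]
      _ = (κ ^ Fintype.card F) *ᵥ (sM *ᵥ (κ' *ᵥ v₀)) := by
          rw [hkey κ' hκ', Matrix.mulVec_mulVec]
      _ = (κ ^ Fintype.card F * sM) *ᵥ (κ' *ᵥ v₀) := by
          rw [Matrix.mulVec_mulVec]
  refine ⟨s, ?_, ?_, ?_⟩
  · apply mem_normalizer_of_forall
    intro κ hκ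
    rw [hsval, hsinv, hconj κ hκ, mul_assoc, hs1, mul_one]
    exact K.pow_mem hκ _
  · apply Units.ext
    rw [Units.val_pow_eq_pow_val, hsval, hsn, Units.val_one]
  · intro c hc
    have h2 : sM = c • (1 : Matrix (Fin n) (Fin n) F) := by rw [← hsval, hc]
    have hc0 : c ≠ 0 := by
      intro h0
      rw [h0, zero_smul] at h2
      rw [h2, zero_mul] at hs1
      have : Nonempty (Fin n) := ⟨⟨0, hn⟩⟩
      exact zero_ne_one hs1
    have h3 : ∀ κ ∈ K, κ ^ Fintype.card F = κ := by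
      intro κ hκ
      have := hkey κ hκ
      rw [h2, Matrix.smul_mulVec, Matrix.one_mulVec] at this
      have h4 : (κ ^ Fintype.card F - c • κ) *ᵥ v₀ = 0 := by
        rw [Matrix.sub_mulVec, ← this, Matrix.smul_mulVec, sub_self]
      have h5 := sub_eq_zero.mp (mulVec_eq_zero_of_mem hK
        (K.sub_mem (K.pow_mem hκ _) (K.smul_mem hκ c)) hv₀ h4)
      have h6 := h5
      have h7 : (1 : Matrix (Fin n) (Fin n) F) ^ Fintype.card F = c • (1 : Matrix (Fin n) (Fin n) F) := by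
        have := hkey 1 K.one_mem
        rw [h2, Matrix.smul_mulVec, Matrix.one_mulVec] at this
        have h8 : ((1 : Matrix (Fin n) (Fin n) F) ^ Fintype.card F - c • 1) *ᵥ v₀ = 0 := by
          rw [Matrix.sub_mulVec, ← this, Matrix.smul_mulVec, sub_self]
        exact sub_eq_zero.mp (mulVec_eq_zero_of_mem hK
          (K.sub_mem (K.pow_mem K.one_mem _) (K.smul_mem K.one_mem c)) hv₀ h8)
      rw [one_pow] at h7
      have hc1 : c = 1 := by
        have : Nonempty (Fin n) := ⟨⟨0, hn⟩⟩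
        have h9 := congrFun (congrFun h7 ⟨0, hn⟩) ⟨0, hn⟩
        simpa using h9.symm
      rw [h6, hc1, one_smul]
    have h5 : FiniteField.frobeniusAlgHom F K = 1 := by
      apply AlgHom.ext
      intro κ
      rw [FiniteField.coe_frobeniusAlgHom, AlgHom.one_apply]
      apply Subtype.ext
      have := h3 κ.1 κ.2
      simpa using this
    have h6 := FiniteField.orderOf_frobeniusAlgHom F K
    rw [h5, orderOf_one, hK.finrank_eq] at h6
    omega

theorem exists_frob_matrix {K : Subalgebra F (Matrix (Fin n) (Fin n) F)}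
    (hK : Cfsg.Geo.IsFieldSubalgebra n K) (hn2 : 2 ≤ n) :
    ∃ s : GL (Fin n) F, s ∈ Cfsg.Geo.subalgebraNormalizer K ∧ s ^ n = 1 ∧ s ≠ 1 := by
  obtain ⟨s, h1, h2, h3⟩ := exists_frob_matrix_strong hK hn2
  refine ⟨s, h1, h2, ?_⟩
  intro h
  apply h3 1
  rw [h, Units.val_one, one_smul]

end Cfsg.Agent.Lib.helper15.SN
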