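import Mathlib
import Cfsg.Agent.Lib.Helper11.UNS.Defs

/-!
# Project UNS (S2316, designer helper11), row W6 (`isRev_inv`), verbatim.
-/

set_option autoImplicit false

namespace Cfsg.Agent.Lib.Helper11.UNS

open Matrix Cfsg.Agent.Lib.helper14.SpBN

universe u

variable {F : Type u} [Field F] {m : ℕ}

/-- W6 [S-M]  the inverse of a block reversal is a block reversal. -/
theorem isRev_inv (J : Finset ℕ) {π : Equiv.Perm (Fin m ⊕ Fin m)} (h : IsRev J π) :
    IsRev J π⁻¹ := by
  obtain ⟨h1, h2, h3⟩ := h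
  refine ⟨SwC_inv h1, BP_inv J h2, ?_⟩
  intro x y hb hxy
  by_contra hnot
  have hle : rk (π⁻¹ x) ≤ rk (π⁻¹ y) := not_lt.mp hnot
  have hb' : bfJ J (π⁻¹ x) = bfJ J (π⁻¹ y) := by
    rw [BP_inv J h2 x, BP_inv J h2 y, hb]
  have hx : π (π⁻¹ x) = x := by simp
  have hy : π (π⁻¹ y) = y := by simp
  rcases lt_or_eq_of_le hle with hlt | heq
  · have := h3 (π⁻¹ x) (π⁻¹ y) hb' hlt
    rw [hx, hy] at this
    exact absurd this (not_lt.mpr hxy.le)
  · have he : π⁻¹ x = π⁻¹ y := rk_injective heq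
    have : x = y := by
      have := congrArg π he
      rwa [hx, hy] at this
    rw [this] at hxy
    exact lt_irrefl _ hxy

end Cfsg.Agent.Lib.Helper11.UNS
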