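import Mathlib
import Cfsg.Agent.Lib.helper8.RSM.Defs
import Cfsg.Agent.Lib.Helper5.StemQ

/-! Project RSM (designer helper8), row D1 `bet_uu` (helper15): core on the statements of A4, B1, C1, C8. -/

set_option autoImplicit false

namespace Cfsg.Agent.Lib.helper8.RSM

open Cfsg.Agent.Lib.Helper5.Stem
open scoped commutatorElement

universe u v w

variable {G : Type u} [Group G] {K : Type v} [Field K] [Fintype K] {m : ℕ}
variable {Γ : Type w} [Group Γ] {σ : Γ →* G}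

/-- generic form of D1 / D3: commutators of lifts of two commuting additive one-parameter families that
are scaled by squares under conjugation vanish (given the conclusion of B1 `conic_kill`) -/
theorem rsmd1_gen (hs : Function.Surjective σ) (hcen : σ.ker ≤ Subgroup.center Γ)
    (hB1 : ∀ (B : K → K → Γ), (∀ u u' w, B (u + u') w = B u w * B u' w) →
      (∀ u w w', B u (w + w') = B u w * B u w') →
      (∀ s : K, s ≠ 0 → ∀ u w, B (s ^ 2 * u) (s ^ 2 * w) = B u w) → ∀ u w, B u w = 1)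
    (f g : K → G) (hf : ∀ a b, f (a + b) = f a * f b) (hg : ∀ a b, g (a + b) = g a * g b)
    (hfg : ∀ a b, f a * g b = g b * f a)
    (hsc : ∀ s : K, s ≠ 0 → ∃ k : G, (∀ a, k * f a * k⁻¹ = f (s ^ 2 * a)) ∧
      ∀ a, k * g a * k⁻¹ = g (s ^ 2 * a))
    (a b : K) : bet hs (f a) (g b) = 1 := by
  refine hB1 (fun a b => bet hs (f a) (g b)) ?_ ?_ ?_ a b
  · intro u u' w
    show bet hs (f (u + u')) (g w) = bet hs (f u) (g w) * bet hs (f u') (g w)
    rw [hf]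
    exact bet_mul_left hs hcen (hfg u w) (hfg u' w)
  · intro u w w'
    show bet hs (f u) (g (w + w')) = bet hs (f u) (g w) * bet hs (f u) (g w')
    rw [hg]
    exact bet_mul_right hs hcen (hfg u w) (hfg u w')
  · intro s hs0 u w
    show bet hs (f (s ^ 2 * u)) (g (s ^ 2 * w)) = bet hs (f u) (g w)
    obtain ⟨k, hk1, hk2⟩ := hsc s hs0
    rw [← hk1, ← hk2]
    exact bet_conj hs hcen k (hfg u w)

/-- D1, core on the statements of A4 `nrm_sq`, B1 `conic_kill`, C1 `x_basic` (clauses 2, 6), C8 `torus_act` -/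
theorem rsmd1_core (RU : ReeU G K m) (hs : Function.Surjective σ)
    (hcen : σ.ker ≤ Subgroup.center Γ)
    (hA4 : ∀ s : K, s ≠ 0 → nrm m (s ^ (3 ^ (m + 1) - 1)) = s ^ 2)
    (hB1 : ∀ (B : K → K → Γ), (∀ u u' w, B (u + u') w = B u w * B u' w) →
      (∀ u w w', B u (w + w') = B u w * B u w') →
      (∀ s : K, s ≠ 0 → ∀ u w, B (s ^ 2 * u) (s ^ 2 * w) = B u w) → ∀ u w, B u w = 1)
    (hC1a : ∀ t a b u v : K, RU.x t a b * RU.x 0 u v = RU.x t (a + u) (b + v))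
    (hC1b : ∀ u v u' v' : K, RU.x 0 u v * RU.x 0 u' v' = RU.x 0 u' v' * RU.x 0 u v)
    (hC8 : ∀ a : K, a ≠ 0 → ∃ i : ℕ, a = RU.a0 ^ i ∧ ∀ t u v : K,
      RU.h0 ^ i * RU.x t u v * (RU.h0 ^ i)⁻¹ = RU.x (a * t) (nrm m a * u) (a * nrm m a * v))
    (u u' : K) : bet hs (RU.x 0 u 0) (RU.x 0 u' 0) = 1 := by
  have hadd : ∀ a b : K, RU.x 0 (a + b) 0 = RU.x 0 a 0 * RU.x 0 b 0 := by
    intro a b
    rw [hC1a, add_zero]
  refine rsmd1_gen hs hcen hB1 (fun a => RU.x 0 a 0) (fun a => RU.x 0 a 0) hadd hadd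
    (fun a b => hC1b a 0 b 0) ?_ u u'
  intro s hs0
  have ha : s ^ (3 ^ (m + 1) - 1) ≠ 0 := pow_ne_zero _ hs0
  obtain ⟨i, -, hi⟩ := hC8 _ ha
  refine ⟨RU.h0 ^ i, ?_, ?_⟩ <;>
  · intro a
    show RU.h0 ^ i * RU.x 0 a 0 * (RU.h0 ^ i)⁻¹ = RU.x 0 (s ^ 2 * a) 0
    rw [hi, hA4 s hs0, mul_zero, mul_zero]

end Cfsg.Agent.Lib.helper8.RSM
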