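import Mathlib
import Cfsg.Agent.Lib.Helper18.SDM.Defs
import Cfsg.Agent.Lib.Helper18.SDM.Defs2

/-!
# Project SDM (designer helper18), row E4 (`diag_col_of_BQ`), verbatim from `Helper18/SDM/Skel.lean.txt` (helper15).
-/

set_option autoImplicit false
set_option linter.unusedSectionVars false
set_option linter.unusedVariables false

namespace Cfsg.Agent.Lib.Helper18.QBN

open Cfsg.Agent.Lib.helper14.UBN QuadraticMap

universe u v

variable {F : Type u} [Field F] {W : Type v} [AddCommGroup W] [Module F W] {n : ℕ}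

/-- an isometry does not kill a frame vector -/
theorem sdme4_coeff_ne_zero {Q₀ : QuadraticForm F W} (b : GQ n Q₀) (i : Fin n) (c : F)
    (hc : le b (xv W i) = c • xv W i) : c ≠ 0 := by
  intro h0
  rw [h0, zero_smul] at hc
  have h1 : xv W i = (0 : QV F n W) := by
    have h2 := congrArg (le b⁻¹) hc
    rw [le_inv_apply', map_zero] at h2
    exact h2
  have h3 := congrArg (fun v : QV F n W => v.1 i) h1
  simp only [xv_fst, if_pos rfl] at h3
  exact one_ne_zero h3

/-- [ROW E4] for `b ∈ B` the next column is automatically diagonal -/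
theorem diag_col_of_BQ (hn : Even n) (Q₀ : QuadraticForm F W)
    (j : ℕ) (hj : j < n / 2) (a : Fin n) (ha : rk a = j) (b : GQ n Q₀) (hb : b ∈ BQ n Q₀)
    (hg : DiagOut j b) : ∃ c : F, le b (xv W a) = c • xv W a := by
  have hup : IsUpQ b := hb.1
  have hxa : xv W a ∈ Vfl F n W (j + 1) := by
    rw [mem_Vfl]
    refine ⟨rfl, fun i hi => ?_⟩
    rw [xv_fst, if_neg]
    intro e
    rw [e, ha] at hi
    omega
  have hba := hup (j + 1) (by omega) _ hxa
  rw [mem_Vfl] at hba
  obtain ⟨hb2, hbhi⟩ := hba
  have hblo : ∀ i : Fin n, rk i < j → (le b (xv W a)).1 i = 0 := by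
    intro i hi
    obtain ⟨c, hc⟩ := hg (rv i) (Or.inr (by rw [rv_rv]; exact hi))
    have hc0 : c ≠ 0 := sdme4_coeff_ne_zero b (rv i) c hc
    have hia : i ≠ a := by
      intro e
      rw [e, ha] at hi
      omega
    have h1 : polar (frQ n Q₀) (le b (xv W a)) (le b (xv W (rv i))) =
        polar (frQ n Q₀) (xv W a) (xv W (rv i)) := le_polar b _ _
    rw [hc, polar_smul_right, polar_xv hn, polar_xv hn, rv_rv, xv_fst, if_neg hia, smul_eq_mul]
      at h1
    rcases mul_eq_zero.mp h1 with h | h
    · exact absurd h hc0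
    · exact h
  refine ⟨(le b (xv W a)).1 a, ?_⟩
  apply Prod.ext
  · funext i
    rw [Prod.smul_fst, Pi.smul_apply, xv_fst, smul_eq_mul]
    by_cases hia : i = a
    · rw [if_pos hia, mul_one, hia]
    · rw [if_neg hia, mul_zero]
      have hne : rk i ≠ j := fun e => hia (rk_injective (e.trans ha.symm))
      rcases Nat.lt_or_gt_of_ne hne with h | h
      · exact hblo i h
      · exact hbhi i (by omega)
  · rw [hb2, Prod.smul_snd, xv_snd, smul_zero]

end Cfsg.Agent.Lib.Helper18.QBN
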