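import Mathlib
import Cfsg.Agent.Lib.Helper18.SDM.Defs
import Cfsg.Agent.Lib.Helper18.SDM.Defs2
import Cfsg.Agent.Lib.helper15.SDME4

/-!
# Project SDM (designer helper18), rows E5 / E6, cores (helper15): `sdme5_core` / `sdme6_core` have the conclusions of
`BQ_sup_NQ` / `BQ_eq_Sg_mul_T` of `Helper18/SDM/Skel.lean.txt`, with the statements of the rows E1 E2 E3 and `mem_TQ_iff` (B3)
as hypotheses.
-/

set_option autoImplicit false
set_option linter.unusedSectionVars false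
set_option linter.unusedVariables false

namespace Cfsg.Agent.Lib.Helper18.QBN

open Cfsg.Agent.Lib.helper14.UBN QuadraticMap

universe u v

variable {F : Type u} [Field F] {W : Type v} [AddCommGroup W] [Module F W] {n : ℕ}

/-- `DiagOut (n / 2)` means diagonal on the whole frame -/
theorem sdme6_isPermOf_one (hn : Even n) {Q₀ : QuadraticForm F W} (g : GQ n Q₀)
    (hg : DiagOut (n / 2) g) : IsPermOf g 1 := by
  intro i
  rw [Equiv.Perm.one_apply]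
  apply hg i
  have h1 := rk_add_rv i
  have h2 := rk_lt i
  obtain ⟨m, hm⟩ := hn
  omega

/-- `DiagOut 0` is empty -/
theorem sdme6_diagOut_zero {Q₀ : QuadraticForm F W} (g : GQ n Q₀) : DiagOut 0 g := by
  intro i hi
  omega

/-- core of E6 -/
theorem sdme6_core (hn : Even n) (Q₀ : QuadraticForm F W)
    (hE3a : ∀ (j : ℕ) (hj : j < n / 2) (a : Fin n) (ha : rk a = j) (g : GQ n Q₀) (hg : DiagOut j g)
      (hc : ∃ c : F, le g (xv W a) = c • xv W a), ∃ h ∈ SgSet hn Q₀, DiagOut (j + 1) (h * g))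
    (hE3b : ∀ h : GQ n Q₀, h ∈ SgSet hn Q₀ → h ∈ BQ n Q₀)
    (hTQ : ∀ g : GQ n Q₀, g ∈ TQ n Q₀ ↔ IsPermOf g 1)
    (b : GQ n Q₀) (hb : b ∈ BQ n Q₀) :
    ∃ u ∈ Subgroup.closure (SgSet hn Q₀), ∃ t ∈ TQ n Q₀, b = u * t := by
  have key : ∀ k : ℕ, k ≤ n / 2 → ∀ b : GQ n Q₀, b ∈ BQ n Q₀ → DiagOut (n / 2 - k) b →
      ∃ u ∈ Subgroup.closure (SgSet hn Q₀), ∃ t ∈ TQ n Q₀, b = u * t := by
    intro k
    induction k with
    | zero =>
      intro _ b hb hd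
      rw [Nat.sub_zero] at hd
      exact ⟨1, Subgroup.one_mem _, b, (hTQ b).mpr (sdme6_isPermOf_one hn b hd), (one_mul b).symm⟩
    | succ k ih =>
      intro hk b hb hd
      obtain ⟨a, ha⟩ := exists_rk (n := n) (n / 2 - (k + 1)) (by omega)
      have hj : n / 2 - (k + 1) < n / 2 := by omega
      have hc := diag_col_of_BQ hn Q₀ (n / 2 - (k + 1)) hj a ha b hb hd
      obtain ⟨h, hh, hd'⟩ := hE3a (n / 2 - (k + 1)) hj a ha b hd hc
      have hjk : n / 2 - (k + 1) + 1 = n / 2 - k := by omega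
      rw [hjk] at hd'
      obtain ⟨u, hu, t, ht, e⟩ := ih (by omega) (h * b) ((BQ n Q₀).mul_mem (hE3b h hh) hb) hd'
      refine ⟨h⁻¹ * u, Subgroup.mul_mem _ (Subgroup.inv_mem _ (Subgroup.subset_closure hh)) hu, t, ht, ?_⟩
      rw [mul_assoc, ← e, inv_mul_cancel_left]
  have := key (n / 2) le_rfl b hb (by rw [Nat.sub_self]; exact sdme6_diagOut_zero b)
  exact this

/-- core of E5 -/
theorem sdme5_core (hn : Even n) (Q₀ : QuadraticForm F W)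
    (hE1 : ∀ (j : ℕ) (hj : j < n / 2) (a : Fin n) (ha : rk a = j) (g : GQ n Q₀) (hg : DiagOut j g),
      ∃ h ∈ NQ n Q₀, DiagOut j (h * g) ∧ (le (h * g) (xv W a)).1 (rv a) ≠ 0)
    (hE2 : ∀ (j : ℕ) (hj : j < n / 2) (a : Fin n) (ha : rk a = j) (g : GQ n Q₀) (hg : DiagOut j g)
      (hne : (le g (xv W a)).1 (rv a) ≠ 0),
      ∃ h ∈ BQ n Q₀ ⊔ NQ n Q₀, DiagOut j (h * g) ∧ ∃ c : F, le (h * g) (xv W a) = c • xv W a)
    (hE3a : ∀ (j : ℕ) (hj : j < n / 2) (a : Fin n) (ha : rk a = j) (g : GQ n Q₀) (hg : DiagOut j g)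
      (hc : ∃ c : F, le g (xv W a) = c • xv W a), ∃ h ∈ SgSet hn Q₀, DiagOut (j + 1) (h * g))
    (hE3b : ∀ h : GQ n Q₀, h ∈ SgSet hn Q₀ → h ∈ BQ n Q₀)
    (hTQ : ∀ g : GQ n Q₀, g ∈ TQ n Q₀ ↔ IsPermOf g 1) :
    BQ n Q₀ ⊔ NQ n Q₀ = ⊤ := by
  have key : ∀ k : ℕ, k ≤ n / 2 → ∀ g : GQ n Q₀, DiagOut (n / 2 - k) g →
      g ∈ BQ n Q₀ ⊔ NQ n Q₀ := by
    intro k
    induction k with
    | zero =>
      intro _ g hd
      rw [Nat.sub_zero] at hd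
      have h1 : g ∈ TQ n Q₀ := (hTQ g).mpr (sdme6_isPermOf_one hn g hd)
      exact (le_sup_left : BQ n Q₀ ≤ BQ n Q₀ ⊔ NQ n Q₀) h1.1
    | succ k ih =>
      intro hk g hd
      obtain ⟨a, ha⟩ := exists_rk (n := n) (n / 2 - (k + 1)) (by omega)
      have hj : n / 2 - (k + 1) < n / 2 := by omega
      obtain ⟨h1, hh1, hd1, hne⟩ := hE1 _ hj a ha g hd
      obtain ⟨h2, hh2, hd2, hc⟩ := hE2 _ hj a ha (h1 * g) hd1 hne
      obtain ⟨h3, hh3, hd3⟩ := hE3a _ hj a ha (h2 * (h1 * g)) hd2 hc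
      have hjk : n / 2 - (k + 1) + 1 = n / 2 - k := by omega
      rw [hjk] at hd3
      have h4 := ih (by omega) _ hd3
      have m1 : h1 ∈ BQ n Q₀ ⊔ NQ n Q₀ := (le_sup_right : NQ n Q₀ ≤ BQ n Q₀ ⊔ NQ n Q₀) hh1
      have m3 : h3 ∈ BQ n Q₀ ⊔ NQ n Q₀ :=
        (le_sup_left : BQ n Q₀ ≤ BQ n Q₀ ⊔ NQ n Q₀) (hE3b h3 hh3)
      have e : g = h1⁻¹ * (h2⁻¹ * (h3⁻¹ * (h3 * (h2 * (h1 * g))))) := by group
      rw [e]
      exact Subgroup.mul_mem _ (Subgroup.inv_mem _ m1)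
        (Subgroup.mul_mem _ (Subgroup.inv_mem _ hh2) (Subgroup.mul_mem _ (Subgroup.inv_mem _ m3) h4))
  rw [eq_top_iff]
  intro g _
  exact key (n / 2) le_rfl g (by rw [Nat.sub_self]; exact sdme6_diagOut_zero g)

end Cfsg.Agent.Lib.Helper18.QBN
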