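import Mathlib
import Cfsg.Agent.Lib.Helper18.SDM.Defs
import Cfsg.Agent.Lib.Helper18.SDM.Defs2

/-!
# Project SDM (designer helper18), row INJ (`sQ_injective_mod`), verbatim from `Helper18/SDM/Skel.lean.txt` (helper15).
-/

set_option autoImplicit false
set_option linter.unusedSectionVars false
set_option linter.unusedVariables false

namespace Cfsg.Agent.Lib.Helper18.QBN

open Cfsg.Agent.Lib.helper14.UBN QuadraticMap

universe u v

variable {F : Type u} [Field F] {W : Type v} [AddCommGroup W] [Module F W] {n : ℕ}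

/-- a permutation commuting with `rv` which does not increase the rank on the lower half is trivial -/
theorem sdminj_perm_eq_one (hn : Even n) (π : Equiv.Perm (Fin n)) (hπ : RvC π)
    (h : ∀ i : Fin n, rk i < n / 2 → rk (π i) ≤ rk i) : π = 1 := by
  have hlow : ∀ r : ℕ, ∀ i : Fin n, rk i = r → rk i < n / 2 → π i = i := by
    intro r
    induction r using Nat.strong_induction_on with
    | _ r ih =>
      intro i hir hi
      have h1 := h i hi
      rcases Nat.lt_or_ge (rk (π i)) (rk i) with h2 | h2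
      · exfalso
        have h3 : π (π i) = π i := ih (rk (π i)) (by omega) (π i) rfl (by omega)
        have h4 : π i = i := π.injective h3
        rw [h4] at h2
        omega
      · exact rk_injective (by omega)
  apply Equiv.ext
  intro i
  rw [Equiv.Perm.one_apply]
  rcases Nat.lt_or_ge (rk i) (n / 2) with hi | hi
  · exact hlow _ i rfl hi
  · have h1 := rk_add_rv i
    have h2 := rk_lt i
    obtain ⟨m, hm⟩ := hn
    have h3 : rk (rv i) < n / 2 := by omega
    have h4 := hlow _ (rv i) rfl h3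
    have h5 := hπ (rv i)
    rw [rv_rv, h4, rv_rv] at h5
    exact h5

theorem sdminj_permG_congr (hn : Even n) (Q₀ : QuadraticForm F W) {π ρ : Equiv.Perm (Fin n)}
    (hπ : RvC π) (hρ : RvC ρ) (h : π = ρ) : permG hn Q₀ π hπ = permG hn Q₀ ρ hρ := by
  subst h
  rfl

theorem sdminj_sQ_mul_self (hn : Even n) (Q₀ : QuadraticForm F W) (k : Fin (n / 2)) :
    sQ hn Q₀ k * sQ hn Q₀ k = 1 := by
  apply GQ_ext
  intro v
  rw [le_mul, le_one]
  apply Prod.ext
  · funext i
    unfold sQ
    rw [permG_fst, permG_fst, tauS_symm, tauS_tauS]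
  · rfl

theorem sdminj_sQ_inv (hn : Even n) (Q₀ : QuadraticForm F W) (k : Fin (n / 2)) :
    (sQ hn Q₀ k)⁻¹ = sQ hn Q₀ k :=
  inv_eq_of_mul_eq_one_left (sdminj_sQ_mul_self hn Q₀ k)

/-- [ROW INJ] -/
theorem sQ_injective_mod (hn : Even n) (Q₀ : QuadraticForm F W) (k k' : Fin (n / 2))
    (h : (sQ hn Q₀ k)⁻¹ * sQ hn Q₀ k' ∈ BQ n Q₀) : sQ hn Q₀ k = sQ hn Q₀ k' := by
  rw [sdminj_sQ_inv] at h
  have hup : IsUpQ (sQ hn Q₀ k * sQ hn Q₀ k') := h.1
  have hact : ∀ i : Fin n, le (sQ hn Q₀ k * sQ hn Q₀ k') (xv W i) = xv W ((tauS k * tauS k') i) := by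
    intro i
    rw [le_mul]
    unfold sQ
    rw [permG_xv, permG_xv, Equiv.Perm.mul_apply]
  have hle : ∀ i : Fin n, rk i < n / 2 → rk ((tauS k * tauS k') i) ≤ rk i := by
    intro i hi
    have hxi : xv W i ∈ Vfl F n W (rk i + 1) := by
      rw [mem_Vfl]
      refine ⟨rfl, fun i' hi' => ?_⟩
      rw [xv_fst, if_neg]
      intro e
      rw [e] at hi'
      omega
    have h1 := hup (rk i + 1) (by omega) _ hxi
    rw [hact, mem_Vfl] at h1
    by_contra hcon
    have h2 := h1.2 ((tauS k * tauS k') i) (by omega)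
    rw [xv_fst, if_pos rfl] at h2
    exact one_ne_zero h2
  have h1 := sdminj_perm_eq_one hn (tauS k * tauS k') (RvC_mul (RvC_tauS k) (RvC_tauS k')) hle
  have h2 : tauS k' = tauS k := by
    have : tauS k * (tauS k * tauS k') = tauS k * 1 := by rw [h1]
    rw [← mul_assoc, tauS_mul_self, one_mul, mul_one] at this
    exact this
  unfold sQ
  exact sdminj_permG_congr hn Q₀ _ _ h2.symm

end Cfsg.Agent.Lib.Helper18.QBN
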