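import Mathlib
import Cfsg.Prelude.Def_Classical
import Cfsg.Agent.Lib.Helper18.SDM.Defs3

/-!
# Project SDM (designer helper18), row X1 (`xfer_iso`), verbatim from `Helper18/SDM/Skel2.lean.txt` (helper15).
The matrix isometry group `Cfsg.isometryGroup F Q` is isomorphic to the abstract isometry group `OQ Q'` along a linear
equivalence `E` with `Q' ∘ E = Q`.
-/

set_option autoImplicit false
set_option linter.unusedSectionVars false
set_option linter.unusedVariables false

namespace Cfsg.Agent.Lib.Helper18.QBN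

open Cfsg.Agent.Lib.helper14.UBN QuadraticMap

universe u v

variable {F : Type u} [Field F] {W : Type v} [AddCommGroup W] [Module F W] {n : ℕ}

/-- conjugation by a linear equivalence, on automorphism groups -/
def sdmx1_conj {V₁ : Type*} {V₂ : Type*} [AddCommGroup V₁] [Module F V₁] [AddCommGroup V₂]
    [Module F V₂] (E : V₁ ≃ₗ[F] V₂) : (V₁ ≃ₗ[F] V₁) ≃* (V₂ ≃ₗ[F] V₂) where
  toFun f := E.symm.trans (f.trans E)
  invFun h := E.trans (h.trans E.symm)
  left_inv f := by
    apply LinearEquiv.ext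
    intro x
    simp
  right_inv h := by
    apply LinearEquiv.ext
    intro x
    simp
  map_mul' f g := by
    apply LinearEquiv.ext
    intro x
    simp [LinearEquiv.mul_apply]

theorem sdmx1_conj_apply {V₁ : Type*} {V₂ : Type*} [AddCommGroup V₁] [Module F V₁]
    [AddCommGroup V₂] [Module F V₂] (E : V₁ ≃ₗ[F] V₂) (f : V₁ ≃ₗ[F] V₁) (x : V₁) :
    sdmx1_conj E f (E x) = E (f x) := by
  show (E.symm.trans (f.trans E)) (E x) = E (f x)
  simp

/-- restriction of a group isomorphism to corresponding subgroups -/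
def sdmx1_restrict {G G' : Type*} [Group G] [Group G'] (Ψ : G ≃* G') (H : Subgroup G)
    (K : Subgroup G') (h : ∀ g, g ∈ H ↔ Ψ g ∈ K) : ↥H ≃* ↥K where
  toFun g := ⟨Ψ (g : G), (h (g : G)).mp g.2⟩
  invFun k := ⟨Ψ.symm (k : G'), (h _).mpr (by rw [Ψ.apply_symm_apply]; exact k.2)⟩
  left_inv g := Subtype.ext (Ψ.symm_apply_apply (g : G))
  right_inv k := Subtype.ext (Ψ.apply_symm_apply (k : G'))
  map_mul' a b := Subtype.ext (map_mul Ψ (a : G) (b : G))

/-- the matrix group as linear automorphisms -/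
noncomputable def sdmx1_lin (ι : Type) [Fintype ι] [DecidableEq ι] :
    Matrix.GeneralLinearGroup ι F ≃* ((ι → F) ≃ₗ[F] (ι → F)) :=
  (Matrix.GeneralLinearGroup.toLin).trans (LinearMap.GeneralLinearGroup.generalLinearEquiv F (ι → F))

theorem sdmx1_lin_apply {ι : Type} [Fintype ι] [DecidableEq ι] (g : Matrix.GeneralLinearGroup ι F)
    (x : ι → F) : sdmx1_lin ι g x = Matrix.mulVec (g : Matrix ι ι F) x := by
  unfold sdmx1_lin
  rw [MulEquiv.trans_apply, LinearMap.GeneralLinearGroup.coeFn_generalLinearEquiv]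
  show ((Matrix.GeneralLinearGroup.toLin g : (ι → F) →ₗ[F] (ι → F))) x = _
  rw [Matrix.GeneralLinearGroup.coe_toLin]
  rfl

/-- [ROW X1] -/
theorem xfer_iso {ι : Type} [Fintype ι] [DecidableEq ι] {V : Type v} [AddCommGroup V] [Module F V]
    (Q : (ι → F) → F) (Q' : QuadraticForm F V) (E : (ι → F) ≃ₗ[F] V) (hE : ∀ x, Q' (E x) = Q x) :
    ∃ Φ : ↥(Cfsg.isometryGroup F Q) ≃* ↥(OQ Q'), ∀ (g : ↥(Cfsg.isometryGroup F Q)) (x : ι → F),
      ((Φ g : ↥(OQ Q')) : V ≃ₗ[F] V) (E x) =
        E (Matrix.mulVec ((g : Matrix.GeneralLinearGroup ι F) : Matrix ι ι F) x) := by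
  have hΨ : ∀ (g : Matrix.GeneralLinearGroup ι F) (x : ι → F),
      ((sdmx1_lin ι).trans (sdmx1_conj E)) g (E x) = E (Matrix.mulVec (g : Matrix ι ι F) x) := by
    intro g x
    rw [MulEquiv.trans_apply, sdmx1_conj_apply, sdmx1_lin_apply]
  have hmem : ∀ g : Matrix.GeneralLinearGroup ι F,
      g ∈ Cfsg.isometryGroup F Q ↔ ((sdmx1_lin ι).trans (sdmx1_conj E)) g ∈ OQ Q' := by
    intro g
    constructor
    · intro hg v
      obtain ⟨x, rfl⟩ := E.surjective v
      rw [hΨ, hE, hE]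
      exact hg x x
    · intro hg u _
      have h1 := hg (E u)
      rw [hΨ, hE, hE] at h1
      exact h1
  refine ⟨sdmx1_restrict ((sdmx1_lin ι).trans (sdmx1_conj E)) _ _ hmem, ?_⟩
  intro g x
  exact hΨ (g : Matrix.GeneralLinearGroup ι F) x

end Cfsg.Agent.Lib.Helper18.QBN
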