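import Mathlib
import Cfsg.Prelude.Def_Classical
import Cfsg.Agent.Lib.Helper18.SDM.Defs3

/-!
# Project SDM (designer helper18), row X3 (`minus_equiv`), verbatim from `Helper18/SDM/Skel2.lean.txt` (helper15).
Coordinates of `quadFormMinus m F a b` on `QV F (2 m) (Fin 2 → F)`.
-/

set_option autoImplicit false
set_option linter.unusedSectionVars false
set_option linter.unusedVariables false

namespace Cfsg.Agent.Lib.Helper18.QBN

open Cfsg.Agent.Lib.helper14.UBN QuadraticMap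

universe u v

variable {F : Type u} [Field F] {W : Type v} [AddCommGroup W] [Module F W] {n : ℕ}

/-- the index bijection: `inl i ↦ i`, `inr i ↦ 2 m - 1 - i` -/
def sdmx3_e (m : ℕ) : Fin m ⊕ Fin m ≃ Fin (2 * m) :=
  (Equiv.sumCongr (Equiv.refl (Fin m)) (Fin.revPerm : Equiv.Perm (Fin m))).trans
    (finSumFinEquiv.trans (finCongr (two_mul m).symm))

theorem sdmx3_e_inl (m : ℕ) (i : Fin m) : ((sdmx3_e m (Sum.inl i) : Fin (2 * m)) : ℕ) = i.val := by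
  simp [sdmx3_e]

theorem sdmx3_e_inr (m : ℕ) (i : Fin m) :
    ((sdmx3_e m (Sum.inr i) : Fin (2 * m)) : ℕ) = 2 * m - 1 - i.val := by
  have := i.2
  simp [sdmx3_e, Fin.val_rev]
  omega

theorem sdmx3_rv_inl (m : ℕ) (i : Fin m) : rv (sdmx3_e m (Sum.inl i)) = sdmx3_e m (Sum.inr i) := by
  apply Fin.ext
  have := i.2
  show ((Fin.rev (sdmx3_e m (Sum.inl i)) : Fin (2 * m)) : ℕ) = _
  rw [Fin.val_rev, sdmx3_e_inl, sdmx3_e_inr]
  omega

theorem sdmx3_mem_half_inl (m : ℕ) (i : Fin m) : sdmx3_e m (Sum.inl i) ∈ half (2 * m) := by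
  rw [mem_half, sdmx3_rv_inl]
  show ((sdmx3_e m (Sum.inl i) : Fin (2 * m)) : ℕ) < ((sdmx3_e m (Sum.inr i) : Fin (2 * m)) : ℕ)
  rw [sdmx3_e_inl, sdmx3_e_inr]
  have := i.2
  omega

theorem sdmx3_not_mem_half_inr (m : ℕ) (i : Fin m) : sdmx3_e m (Sum.inr i) ∉ half (2 * m) := by
  rw [mem_half, ← sdmx3_rv_inl, rv_rv, sdmx3_rv_inl]
  show ¬ ((sdmx3_e m (Sum.inr i) : Fin (2 * m)) : ℕ) < ((sdmx3_e m (Sum.inl i) : Fin (2 * m)) : ℕ)
  rw [sdmx3_e_inl, sdmx3_e_inr]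
  have := i.2
  omega

/-- a sum over the first half, in the coordinates `sdmx3_e` -/
theorem sdmx3_sum_half (m : ℕ) (f : Fin (2 * m) → F) :
    ∑ j ∈ half (2 * m), f j = ∑ i : Fin m, f (sdmx3_e m (Sum.inl i)) := by
  classical
  have h1 : ∑ j ∈ half (2 * m), f j = ∑ j, if j ∈ half (2 * m) then f j else 0 := by
    rw [Finset.sum_ite_mem, Finset.univ_inter]
  rw [h1, ← Equiv.sum_comp (sdmx3_e m) (fun j => if j ∈ half (2 * m) then f j else 0),
    Fintype.sum_sum_type]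
  have h2 : ∀ i : Fin m, (if sdmx3_e m (Sum.inl i) ∈ half (2 * m) then f (sdmx3_e m (Sum.inl i))
      else 0) = f (sdmx3_e m (Sum.inl i)) := fun i => if_pos (sdmx3_mem_half_inl m i)
  have h3 : ∀ i : Fin m, (if sdmx3_e m (Sum.inr i) ∈ half (2 * m) then f (sdmx3_e m (Sum.inr i))
      else 0) = 0 := fun i => if_neg (sdmx3_not_mem_half_inr m i)
  rw [Finset.sum_congr rfl (fun i _ => h2 i), Finset.sum_congr rfl (fun i _ => h3 i),
    Finset.sum_const_zero, add_zero]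

/-- the coordinate map -/
noncomputable def sdmx3_E (F : Type u) [Field F] (m : ℕ) :
    (((Fin m ⊕ Fin m) ⊕ Fin 2) → F) ≃ₗ[F] QV F (2 * m) (Fin 2 → F) :=
  (LinearEquiv.sumArrowLequivProdArrow (Fin m ⊕ Fin m) (Fin 2) F F).trans
    (LinearEquiv.prodCongr (LinearEquiv.funCongrLeft F F (sdmx3_e m).symm)
      (LinearEquiv.refl F (Fin 2 → F)))

theorem sdmx3_E_fst (m : ℕ) (x : ((Fin m ⊕ Fin m) ⊕ Fin 2) → F) (j : Fin (2 * m)) :
    (sdmx3_E F m x).1 j = x (Sum.inl ((sdmx3_e m).symm j)) := rfl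

theorem sdmx3_E_snd (m : ℕ) (x : ((Fin m ⊕ Fin m) ⊕ Fin 2) → F) (t : Fin 2) :
    (sdmx3_E F m x).2 t = x (Sum.inr t) := rfl

/-- [ROW X3] the coordinates of the minus type form: `E x = (c, w)`, `c (pa-side i) = x (inl (inl i))`,
`c (rv i) = x (inl (inr i))`, `w = x ∘ inr` -/
theorem minus_equiv (m : ℕ) (a b : F) :
    ∃ E : (((Fin m ⊕ Fin m) ⊕ Fin 2) → F) ≃ₗ[F] QV F (2 * m) (Fin 2 → F),
      ∀ x, frQ (2 * m) (binQ a b) (E x) = Cfsg.quadFormMinus m F a b x := by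
  refine ⟨sdmx3_E F m, ?_⟩
  intro x
  rw [frQ_apply, binQ_apply, sdmx3_sum_half]
  unfold Cfsg.quadFormMinus
  congr 1
  apply Finset.sum_congr rfl
  intro i _
  rw [sdmx3_rv_inl, sdmx3_E_fst, sdmx3_E_fst, Equiv.symm_apply_apply, Equiv.symm_apply_apply]

end Cfsg.Agent.Lib.Helper18.QBN
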