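import Mathlib
import Cfsg.Agent.Lib.Helper18.SDM.Defs3
import Cfsg.Agent.Lib.Helper16.OHelp

/-!
# Project SDM (designer helper18), row X4 (`binQ_aniso`, `binQ_nd`, `minus_qf`), verbatim from
`Helper18/SDM/Skel2.lean.txt` (helper15).
-/

set_option autoImplicit false
set_option linter.unusedSectionVars false
set_option linter.unusedVariables false

namespace Cfsg.Agent.Lib.Helper18.QBN

open Cfsg.Agent.Lib.helper14.UBN QuadraticMap

universe u v

variable {F : Type u} [Field F] {W : Type v} [AddCommGroup W] [Module F W] {n : ℕ}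

/-- [ROW X4] -/
theorem binQ_aniso (a b : F)
    (hab : ∀ z₁ z₂ : F, z₁ ^ 2 + a * z₁ * z₂ + b * z₂ ^ 2 = 0 → z₁ = 0 ∧ z₂ = 0) :
    ∀ w : Fin 2 → F, binQ a b w = 0 → w = 0 := by
  intro w hw
  rw [binQ_apply] at hw
  obtain ⟨h0, h1⟩ := hab (w 0) (w 1) hw
  funext i
  fin_cases i
  · exact h0
  · exact h1

/-- the polar form of `binQ` -/
theorem sdmx4_polar (a b : F) (w w' : Fin 2 → F) :
    polar (binQ a b) w w' =
      2 * w 0 * w' 0 + a * (w 0 * w' 1 + w 1 * w' 0) + 2 * b * w 1 * w' 1 := by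
  unfold polar
  rw [binQ_apply, binQ_apply, binQ_apply]
  simp only [Pi.add_apply]
  ring

/-- [ROW X4] (`a² - 4b ≠ 0`: `Helper16.disc_ne_zero_of_aniso` in Helper16/MinusForm) -/
theorem binQ_nd [Fintype F] (a b : F)
    (hab : ∀ z₁ z₂ : F, z₁ ^ 2 + a * z₁ * z₂ + b * z₂ ^ 2 = 0 → z₁ = 0 ∧ z₂ = 0) :
    ∀ w : Fin 2 → F, (∀ w' : Fin 2 → F, polar (binQ a b) w w' = 0) → w = 0 := by
  intro w hw
  have hdisc := Cfsg.Agent.Lib.Helper16.disc_ne_zero_of_aniso a b hab
  have h0 : 2 * w 0 + a * w 1 = 0 := by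
    have := hw ![1, 0]
    rw [sdmx4_polar] at this
    simp only [Matrix.cons_val_zero, Matrix.cons_val_one] at this
    linear_combination this
  have h1 : a * w 0 + 2 * b * w 1 = 0 := by
    have := hw ![0, 1]
    rw [sdmx4_polar] at this
    simp only [Matrix.cons_val_zero, Matrix.cons_val_one] at this
    linear_combination this
  have hx0 : w 0 = 0 := by
    have : (a ^ 2 - 4 * b) * w 0 = 0 := by linear_combination a * h1 - 2 * b * h0
    exact (mul_eq_zero.mp this).resolve_left hdisc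
  have hx1 : w 1 = 0 := by
    have : (a ^ 2 - 4 * b) * w 1 = 0 := by linear_combination a * h0 - 2 * h1
    exact (mul_eq_zero.mp this).resolve_left hdisc
  funext i
  fin_cases i
  · exact hx0
  · exact hx1

/-- [ROW X4] a `QuadraticForm` with the values of `quadFormMinus` and nondegenerate polar form
(`Helper16.qfMinus`, `qfMinus_coe`, `OSemi.qfMinus_nondeg` in Helper16/SpinG2, OHelp) -/
theorem minus_qf [Fintype F] (m : ℕ) (a b : F)
    (hab : ∀ z₁ z₂ : F, z₁ ^ 2 + a * z₁ * z₂ + b * z₂ ^ 2 = 0 → z₁ = 0 ∧ z₂ = 0) :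
    ∃ Q : QuadraticForm F (((Fin m ⊕ Fin m) ⊕ Fin 2) → F),
      (⇑Q : (((Fin m ⊕ Fin m) ⊕ Fin 2) → F) → F) = Cfsg.quadFormMinus m F a b ∧
      (QuadraticMap.polarBilin Q).Nondegenerate :=
  ⟨Cfsg.Agent.Lib.Helper16.qfMinus m F a b, Cfsg.Agent.Lib.Helper16.qfMinus_coe m F a b,
    Cfsg.Agent.Lib.Helper16.OSemi.qfMinus_nondeg m a b hab⟩

end Cfsg.Agent.Lib.Helper18.QBN
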