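import Cfsg.Agent.Lib.Helper9.UT.Defs

/-! Project UT (S5655, toral case), row HYPC. -/

set_option autoImplicit false

open Cfsg

namespace Cfsg.Agent.Lib.Helper9.UT

open Matrix Cfsg.Agent.Lib.Helper29.ExtrL Cfsg.Agent.Lib.Helper28.UMax

variable {n q : ℕ} {F : Type*} [Field F] [Fintype F] {σ : F ≃+* F}
  {M : Subgroup (Matrix.GeneralLinearGroup (Fin n) F)}

/-- HYPC (hyperbolic closure). -/
theorem hyp_closure (S : UTS n q σ M) {y z : Fin n → F} (hy : y ∈ XS (Cfsg.hermForm n F q) σ M)
    (hz : z ∈ XS (Cfsg.hermForm n F q) σ M) (hyz : Cfsg.hermForm n F q y z ≠ 0) (α β : F)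
    (hiso : Cfsg.hermForm n F q (α • y + β • z) (α • y + β • z) = 0) :
    α • y + β • z ∈ XS (Cfsg.hermForm n F q) σ M := by
  have hf := S.hU
  by_cases hα : α = 0
  · subst hα
    rw [zero_smul, zero_add]
    exact XS_smul hf M β hz
  by_cases hβ : β = 0
  · subst hβ
    rw [zero_smul, add_zero]
    exact XS_smul hf M α hy
  have hzy : Cfsg.hermForm n F q z y = σ (Cfsg.hermForm n F q y z) := hf.herm z y
  have hzy0 : Cfsg.hermForm n F q z y ≠ 0 := by
    rw [hzy]
    intro h
    exact hyz ((map_eq_zero σ).1 h)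
  have hσα : σ α ≠ 0 := fun h => hα ((map_eq_zero σ).1 h)
  have h1 : α * σ β * Cfsg.hermForm n F q y z + β * σ α * Cfsg.hermForm n F q z y = 0 := by
    have h := hiso
    simp only [hf.add_left, Cfsg.Agent.Lib.Helper28.UForm.f_add_right hf, hf.smul_left,
      Cfsg.Agent.Lib.Helper28.UForm.f_smul_right hf, hy.1, hz.1] at h
    linear_combination h
  have hc : σ (σ (β / α) / Cfsg.hermForm n F q z y) = -(σ (β / α) / Cfsg.hermForm n F q z y) := by
    rw [map_div₀, hf.involutive, hzy, hf.involutive, map_div₀]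
    rw [hzy] at h1
    have hσyz : σ (Cfsg.hermForm n F q y z) ≠ 0 := fun h => hyz ((map_eq_zero σ).1 h)
    field_simp
    linear_combination h1
  have h2 := XS_tv hf M hy hz hc
  have h3 : Cfsg.hermForm n F q y ((σ (β / α) / Cfsg.hermForm n F q z y) • z) = β / α := by
    rw [Cfsg.Agent.Lib.Helper28.UForm.f_smul_right hf, map_div₀, hf.involutive, hzy,
      hf.involutive]
    field_simp
  rw [h3] at h2
  have h4 := XS_smul hf M α h2
  have h5 : α • (y + (β / α) • z) = α • y + β • z := by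
    rw [smul_add, smul_smul, mul_div_cancel₀ β hα]
  rw [h5] at h4
  exact h4

end Cfsg.Agent.Lib.Helper9.UT
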