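import Cfsg.Agent.Lib.Helper9.UT.Defs
import Cfsg.Agent.Lib.helper8.UTCARD

/-! Project UT (S5655, toral case), row PIG2. -/

set_option autoImplicit false

open Cfsg

namespace Cfsg.Agent.Lib.Helper9.UT

open Matrix Cfsg.Agent.Lib.Helper29.ExtrL Cfsg.Agent.Lib.Helper28.UMax

variable {n q : ℕ} {F : Type*} [Field F] [Fintype F] {σ : F ≃+* F}
  {M : Subgroup (Matrix.GeneralLinearGroup (Fin n) F)}

/-- the norm-one elements different from one -/
noncomputable def utpig2_Us (σ : F ≃+* F) : Finset F := by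
  classical
  exact Finset.univ.filter (fun l => l * σ l = 1 ∧ l ≠ 1)

/-- the non-zero fixed elements -/
noncomputable def utpig2_K (σ : F ≃+* F) : Finset F := by
  classical
  exact Finset.univ.filter (fun x => σ x = x ∧ x ≠ 0)

theorem utpig2_mem_Us (l : F) : l ∈ utpig2_Us σ ↔ l * σ l = 1 ∧ l ≠ 1 := by
  classical
  unfold utpig2_Us
  simp

theorem utpig2_mem_K (x : F) : x ∈ utpig2_K σ ↔ σ x = x ∧ x ≠ 0 := by
  classical
  unfold utpig2_K
  simp

theorem utpig2_card_Us (S : UF n q σ) : (utpig2_Us σ).card = q := by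
  classical
  have h1 := card_norm_one S
  rw [Nat.card_eq_fintype_card, Fintype.card_subtype] at h1
  have h2 : utpig2_Us σ = (Finset.univ.filter (fun l : F => l * σ l = 1)).erase 1 := by
    ext l
    rw [utpig2_mem_Us]
    simp [and_comm]
  rw [h2, Finset.card_erase_of_mem (by simp), h1]
  rfl

theorem utpig2_card_K (S : UF n q σ) : (utpig2_K σ).card = q - 1 := by
  classical
  have h1 := card_fixed S
  rw [Nat.card_eq_fintype_card, Fintype.card_subtype] at h1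
  have h2 : utpig2_K σ = (Finset.univ.filter (fun x : F => σ x = x)).erase 0 := by
    ext l
    rw [utpig2_mem_K]
    simp [and_comm]
  rw [h2, Finset.card_erase_of_mem (by simp), h1]

theorem utpig2_inv {l : F} (h : l * σ l = 1) : σ l = l⁻¹ := by
  have hl : l ≠ 0 := by
    intro h0
    rw [h0, zero_mul] at h
    exact zero_ne_one h
  field_simp
  rw [mul_comm]
  exact h

theorem utpig2_ne_zero {l : F} (h : l * σ l = 1) : l ≠ 0 := by
  intro h0
  rw [h0, zero_mul] at h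
  exact zero_ne_one h

/-- `φ l = 2 - (l + l⁻¹)` is fixed and non-zero on `Us` -/
theorem utpig2_phi_fixed {l : F} (h : l * σ l = 1) :
    σ (2 - (l + l⁻¹)) = 2 - (l + l⁻¹) := by
  have h1 := utpig2_inv h
  have h2 : σ l⁻¹ = l := by
    rw [map_inv₀, h1, inv_inv]
  rw [map_sub, map_add, h1, h2, map_ofNat]
  ring

theorem utpig2_phi_ne {l : F} (h : l * σ l = 1) (hl1 : l ≠ 1) : 2 - (l + l⁻¹) ≠ 0 := by
  have hl := utpig2_ne_zero h
  have : 2 - (l + l⁻¹) = -((l - 1) ^ 2) / l := by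
    field_simp
    ring
  rw [this]
  apply div_ne_zero _ hl
  exact neg_ne_zero.mpr (pow_ne_zero 2 (sub_ne_zero.mpr hl1))

theorem utpig2_fiber {l l' : F} (h : l * σ l = 1) (h' : l' * σ l' = 1)
    (he : 2 - (l + l⁻¹) = 2 - (l' + l'⁻¹)) : l' = l ∨ l' = l⁻¹ := by
  have hl := utpig2_ne_zero h
  have hl' := utpig2_ne_zero h'
  have h1 : (l' - l) * (l' * l - 1) = 0 := by
    have h2 : l + l⁻¹ = l' + l'⁻¹ := by linear_combination -he
    field_simp at h2
    linear_combination -h2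
  rcases mul_eq_zero.mp h1 with h3 | h3
  · left
    exact sub_eq_zero.mp h3
  · right
    have h4 : l' * l = 1 := sub_eq_zero.mp h3
    exact eq_inv_of_mul_eq_one_left h4

open Classical in
/-- a scaled copy of `φ` on `Us` has at least `q / 2` values -/
theorem utpig2_image_card (S : UF n q σ) (a : F) (ha : a ≠ 0) :
    q ≤ 2 * ((utpig2_Us σ).image (fun l => (2 - (l + l⁻¹)) * a)).card := by
  classical
  rw [← utpig2_card_Us S]
  apply Finset.card_le_mul_card_image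
  intro b hb
  obtain ⟨l, hl, rfl⟩ := Finset.mem_image.mp hb
  rw [utpig2_mem_Us] at hl
  have hsub : (utpig2_Us σ).filter (fun l' => (2 - (l' + l'⁻¹)) * a = (2 - (l + l⁻¹)) * a) ⊆
      {l, l⁻¹} := by
    intro l' hl'
    rw [Finset.mem_filter, utpig2_mem_Us] at hl'
    have he := mul_right_cancel₀ ha hl'.2
    rcases utpig2_fiber hl.1 hl'.1.1 he.symm with h | h
    · rw [h]
      simp
    · rw [h]
      simp
  calc _ ≤ ({l, l⁻¹} : Finset F).card := Finset.card_le_card hsub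
    _ ≤ 2 := Finset.card_le_two

/-- the pigeonhole step -/
theorem utpig2_pigeon (S : UF n q σ) (ν ν' : F) (hν : σ ν = ν) (hν' : σ ν' = ν') (hν0 : ν ≠ 0)
    (hν'0 : ν' ≠ 0) :
    ∃ l m : F, l * σ l = 1 ∧ m * σ m = 1 ∧ l ≠ 1 ∧ m ≠ 1 ∧
      (2 - (l + l⁻¹)) * ν + (2 - (m + m⁻¹)) * ν' = 0 := by
  classical
  set A := (utpig2_Us σ).image (fun l => (2 - (l + l⁻¹)) * ν) with hA
  set B := (utpig2_Us σ).image (fun m => (2 - (m + m⁻¹)) * (-ν')) with hB
  have hAK : A ⊆ utpig2_K σ := by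
    intro x hx
    obtain ⟨l, hl, rfl⟩ := Finset.mem_image.mp hx
    rw [utpig2_mem_Us] at hl
    rw [utpig2_mem_K]
    exact ⟨by rw [map_mul, utpig2_phi_fixed hl.1, hν], mul_ne_zero (utpig2_phi_ne hl.1 hl.2) hν0⟩
  have hBK : B ⊆ utpig2_K σ := by
    intro x hx
    obtain ⟨l, hl, rfl⟩ := Finset.mem_image.mp hx
    rw [utpig2_mem_Us] at hl
    rw [utpig2_mem_K]
    exact ⟨by rw [map_mul, utpig2_phi_fixed hl.1, map_neg, hν'],
      mul_ne_zero (utpig2_phi_ne hl.1 hl.2) (neg_ne_zero.mpr hν'0)⟩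
  have h1 : q ≤ 2 * A.card := utpig2_image_card S ν hν0
  have h2 : q ≤ 2 * B.card := utpig2_image_card S (-ν') (neg_ne_zero.mpr hν'0)
  have hq := utcard_two_le S
  have hnd : ¬ Disjoint A B := by
    intro hd
    have h3 : (A ∪ B).card ≤ (utpig2_K σ).card := Finset.card_le_card (Finset.union_subset hAK hBK)
    rw [Finset.card_union_of_disjoint hd, utpig2_card_K S] at h3
    omega
  rw [Finset.not_disjoint_iff] at hnd
  obtain ⟨x, hxA, hxB⟩ := hnd
  obtain ⟨l, hl, rfl⟩ := Finset.mem_image.mp hxA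
  obtain ⟨m, hm, hmx⟩ := Finset.mem_image.mp hxB
  rw [utpig2_mem_Us] at hl hm
  refine ⟨l, m, hl.1, hm.1, hl.2, hm.2, ?_⟩
  have hmx' : (2 - (m + m⁻¹)) * (-ν') = (2 - (l + l⁻¹)) * ν := hmx
  linear_combination -hmx'

/-- PIG2. -/
theorem pig2 (S : UF n q σ) (hq : 3 ≤ q) (ν ν' : F) (hν : σ ν = ν) (hν' : σ ν' = ν') (hν0 : ν ≠ 0)
    (hν'0 : ν' ≠ 0) :
    ∃ l m : F, l * σ l = 1 ∧ m * σ m = 1 ∧ l ≠ 1 ∧ m ≠ 1 ∧
      (2 - (l + l⁻¹)) * ν + (2 - (m + m⁻¹)) * ν' = 0 ∧ (l - 1) * ν + (m⁻¹ - 1) * ν' ≠ 0 := by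
  classical
  obtain ⟨l, m, hl, hm, hl1, hm1, he⟩ := utpig2_pigeon S ν ν' hν hν' hν0 hν'0
  have hl0 := utpig2_ne_zero hl
  have hm0 := utpig2_ne_zero hm
  have hlinv : l⁻¹ * σ l⁻¹ = 1 := by
    rw [map_inv₀, ← mul_inv, hl, inv_one]
  have hminv : m⁻¹ * σ m⁻¹ = 1 := by
    rw [map_inv₀, ← mul_inv, hm, inv_one]
  have hlinv1 : l⁻¹ ≠ 1 := fun h => hl1 (inv_eq_one.mp h)
  have hminv1 : m⁻¹ ≠ 1 := fun h => hm1 (inv_eq_one.mp h)
  by_cases h1 : (l - 1) * ν + (m⁻¹ - 1) * ν' ≠ 0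
  · exact ⟨l, m, hl, hm, hl1, hm1, he, h1⟩
  push Not at h1
  by_cases h2 : (l - 1) * ν + (m - 1) * ν' ≠ 0
  · refine ⟨l, m⁻¹, hl, hminv, hl1, hminv1, ?_, ?_⟩
    · rw [inv_inv, add_comm m⁻¹ m]
      exact he
    · rw [inv_inv]
      exact h2
  push Not at h2
  by_cases h3 : (l⁻¹ - 1) * ν + (m⁻¹ - 1) * ν' ≠ 0
  · refine ⟨l⁻¹, m, hlinv, hm, hlinv1, hm1, ?_, h3⟩
    rw [inv_inv, add_comm l⁻¹ l]
    exact he
  push Not at h3
  -- now `m = m⁻¹` and `l = l⁻¹`
  have hmm : m⁻¹ = m := by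
    have : (m⁻¹ - m) * ν' = 0 := by linear_combination h1 - h2
    rcases mul_eq_zero.mp this with h | h
    · exact sub_eq_zero.mp h
    · exact absurd h hν'0
  have hll : l⁻¹ = l := by
    have : (l⁻¹ - l) * ν = 0 := by linear_combination h3 - h1
    rcases mul_eq_zero.mp this with h | h
    · exact sub_eq_zero.mp h
    · exact absurd h hν0
  have hl2 : l = -1 := by
    have h4 : l * l = 1 := by
      nth_rewrite 1 [← hll]
      exact inv_mul_cancel₀ hl0
    have h5 : (l - 1) * (l + 1) = 0 := by linear_combination h4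
    rcases mul_eq_zero.mp h5 with h | h
    · exact absurd (sub_eq_zero.mp h) hl1
    · exact eq_neg_of_add_eq_zero_left h
  have hm2 : m = -1 := by
    have h4 : m * m = 1 := by
      nth_rewrite 1 [← hmm]
      exact inv_mul_cancel₀ hm0
    have h5 : (m - 1) * (m + 1) = 0 := by linear_combination h4
    rcases mul_eq_zero.mp h5 with h | h
    · exact absurd (sub_eq_zero.mp h) hm1
    · exact eq_neg_of_add_eq_zero_left h
  have h2ne : (2 : F) ≠ 0 := by
    intro h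
    apply hl1
    rw [hl2]
    linear_combination -h
  have hνν' : ν + ν' = 0 := by
    rw [hl2, hm2] at h2
    have : (2 : F) * (ν + ν') = 0 := by linear_combination -h2
    rcases mul_eq_zero.mp this with h | h
    · exact absurd h h2ne
    · exact h
  -- an element of `Us` different from `-1`
  have hcard : 1 < (utpig2_Us σ).card := by
    rw [utpig2_card_Us S]
    omega
  have hmem : (-1 : F) ∈ utpig2_Us σ := by
    rw [utpig2_mem_Us]
    rw [← hl2]
    exact ⟨hl, hl1⟩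
  obtain ⟨l₀, hl₀, hl₀ne⟩ := Finset.exists_mem_ne hcard (-1 : F)
  rw [utpig2_mem_Us] at hl₀
  have hl₀0 := utpig2_ne_zero hl₀.1
  have hsq : l₀ - l₀⁻¹ ≠ 0 := by
    intro h
    have h4 : l₀ * l₀ = 1 := by
      have : l₀ = l₀⁻¹ := sub_eq_zero.mp h
      nth_rewrite 2 [this]
      exact mul_inv_cancel₀ hl₀0
    have h5 : (l₀ - 1) * (l₀ + 1) = 0 := by linear_combination h4
    rcases mul_eq_zero.mp h5 with h | h
    · exact hl₀.2 (sub_eq_zero.mp h)
    · exact hl₀ne (eq_neg_of_add_eq_zero_left h)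
  have hν' : ν' = -ν := eq_neg_of_add_eq_zero_right hνν'
  refine ⟨l₀, l₀, hl₀.1, hl₀.1, hl₀.2, hl₀.2, ?_, ?_⟩
  · rw [hν']
    ring
  · rw [hν']
    have : (l₀ - 1) * ν + (l₀⁻¹ - 1) * -ν = (l₀ - l₀⁻¹) * ν := by ring
    rw [this]
    exact mul_ne_zero hsq hν0

end Cfsg.Agent.Lib.Helper9.UT
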