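import Cfsg.Agent.Lib.Helper9.UT.Defs
import Cfsg.Agent.Lib.Helper13.UTMONO
import Cfsg.Agent.Lib.helper15.UTHYPC
import Cfsg.Agent.Lib.helper15.UTPIG2

/-! Project UT (S5655, toral case), row CL1. -/

set_option autoImplicit false

open Cfsg

namespace Cfsg.Agent.Lib.Helper9.UT

open Matrix Cfsg.Agent.Lib.Helper29.ExtrL Cfsg.Agent.Lib.Helper28.UMax

variable {n q : ℕ} {F : Type*} [Field F] [Fintype F] {σ : F ≃+* F}
  {M : Subgroup (Matrix.GeneralLinearGroup (Fin n) F)}

/-- `Tij i j u` lies in `M` -/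
theorem utcl1_tij_mem (S : UTS n q σ M) {i j : Fin n} (hij : i ≠ j) (u : Fˣ)
    (hu : (u : F) * σ (u : F) = 1) : Tij i j u ∈ M :=
  S.hN _ (tij_mem S.toUF hij u hu) (isMono_dg _)

/-- the image of `y` (with `y j = 0`) under `Tij i j u` -/
theorem utcl1_tij_apply {i j : Fin n} (hij : i ≠ j) (u : Fˣ) (y : Fin n → F) (hj : y j = 0) :
    ((Tij i j u : Matrix.GeneralLinearGroup (Fin n) F) : Matrix (Fin n) (Fin n) F) *ᵥ y =
      y + (((u : F) - 1) * y i) • Pi.single i (1 : F) := by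
  rw [tij_mulVec]
  funext l
  by_cases hli : l = i
  · subst hli
    simp
    ring
  · by_cases hlj : l = j
    · subst hlj
      simp [hli, hj]
    · simp [hli, hlj]

/-- CL1. -/
theorem cl1 (S : UTS n q σ M) (hq : 3 ≤ q) {y : Fin n → F}
    (hy : y ∈ XS (Cfsg.hermForm n F q) σ M) (hy0 : y ≠ 0) {j : Fin n} (hj : y j = 0) :
    ∃ v ∈ XS (Cfsg.hermForm n F q) σ M, ∃ i i' : Fin n, i ≠ i' ∧ v i ≠ 0 ∧ v i' ≠ 0 ∧
      ∀ m, m ≠ i → m ≠ i' → v m = 0 := by
  classical
  have hf := S.hU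
  have SU := S.toUF
  -- two non-zero coordinates
  obtain ⟨i, hi⟩ : ∃ i, y i ≠ 0 := by
    by_contra hcon
    push Not at hcon
    exact hy0 (funext hcon)
  have hN : Cfsg.hermForm n F q y y = 0 := hy.1
  obtain ⟨i', hii', hi'⟩ : ∃ i', i' ≠ i ∧ y i' ≠ 0 := by
    by_contra hcon
    push Not at hcon
    have h1 : Cfsg.hermForm n F q y y = y i * σ (y i) := by
      rw [herm_apply SU, Finset.sum_eq_single i]
      · intro l _ hl
        rw [hcon l hl, zero_mul]
      · intro h
        exact absurd (Finset.mem_univ i) h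
    rw [h1] at hN
    rcases mul_eq_zero.mp hN with h | h
    · exact hi h
    · exact hi ((map_eq_zero σ).1 h)
  have hij : i ≠ j := fun h => hi (h ▸ hj)
  have hi'j : i' ≠ j := fun h => hi' (h ▸ hj)
  set ν := y i * σ (y i) with hν
  set ν' := y i' * σ (y i') with hν'
  have hνf : σ ν = ν := by rw [hν, map_mul, hf.involutive, mul_comm]
  have hν'f : σ ν' = ν' := by rw [hν', map_mul, hf.involutive, mul_comm]
  have hν0 : ν ≠ 0 := mul_ne_zero hi (fun h => hi ((map_eq_zero σ).1 h))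
  have hν'0 : ν' ≠ 0 := mul_ne_zero hi' (fun h => hi' ((map_eq_zero σ).1 h))
  obtain ⟨l, m, hl, hm, hl1, hm1, heq, hne⟩ := pig2 SU hq ν ν' hνf hν'f hν0 hν'0
  have hl0 : l ≠ 0 := utpig2_ne_zero hl
  have hm0 : m ≠ 0 := utpig2_ne_zero hm
  have hσl : σ l = l⁻¹ := utpig2_inv hl
  have hσm : σ m = m⁻¹ := utpig2_inv hm
  -- the two torus conjugates
  have hT1 := utcl1_tij_mem S hij (Units.mk0 l hl0) (by simpa using hl)
  have hT2 := utcl1_tij_mem S hi'j (Units.mk0 m hm0) (by simpa using hm)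
  have hz1 := XS_conj M hT1 (iso_of_mem S hT1) hy
  have hz2 := XS_conj M hT2 (iso_of_mem S hT2) hy
  rw [utcl1_tij_apply hij _ y hj] at hz1
  rw [utcl1_tij_apply hi'j _ y hj] at hz2
  simp only [Units.val_mk0] at hz1 hz2
  set z1 := y + ((l - 1) * y i) • Pi.single i (1 : F) with hz1d
  set z2 := y + ((m - 1) * y i') • Pi.single i' (1 : F) with hz2d
  -- the product of z1 and z2
  have hyi : Cfsg.hermForm n F q y (Pi.single i (1 : F)) = y i := by
    rw [herm_single_right SU, map_one, mul_one]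
  have hyi' : Cfsg.hermForm n F q y (Pi.single i' (1 : F)) = y i' := by
    rw [herm_single_right SU, map_one, mul_one]
  have hiy : Cfsg.hermForm n F q (Pi.single i (1 : F)) y = σ (y i) := by
    rw [herm_single_left SU, one_mul]
  have hi'y : Cfsg.hermForm n F q (Pi.single i' (1 : F)) y = σ (y i') := by
    rw [herm_single_left SU, one_mul]
  have hii : Cfsg.hermForm n F q (Pi.single i (1 : F)) (Pi.single i' (1 : F)) = 0 := by
    rw [herm_single_left SU, Pi.single_eq_of_ne (fun h => hii' h.symm), map_zero, mul_zero]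
  have hi'i : Cfsg.hermForm n F q (Pi.single i' (1 : F)) (Pi.single i (1 : F)) = 0 := by
    rw [herm_single_left SU, Pi.single_eq_of_ne hii', map_zero, mul_zero]
  have hiin : Cfsg.hermForm n F q (Pi.single i (1 : F)) (Pi.single i (1 : F)) = 1 := by
    rw [herm_single_left SU, Pi.single_eq_same, map_one, mul_one]
  have hi'i'n : Cfsg.hermForm n F q (Pi.single i' (1 : F)) (Pi.single i' (1 : F)) = 1 := by
    rw [herm_single_left SU, Pi.single_eq_same, map_one, mul_one]
  have hprod : Cfsg.hermForm n F q z1 z2 = (l - 1) * ν + (m⁻¹ - 1) * ν' := by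
    rw [hz1d, hz2d]
    simp only [hf.add_left, Cfsg.Agent.Lib.Helper28.UForm.f_add_right hf, hf.smul_left,
      Cfsg.Agent.Lib.Helper28.UForm.f_smul_right hf, hN, hyi, hyi', hiy, hi'y, hii, map_mul,
      map_sub, map_one, hσm, hf.involutive]
    rw [hν, hν']
    ring
  have hv : (1 : F) • z1 + (-1 : F) • z2 =
      ((l - 1) * y i) • Pi.single i (1 : F) + (-((m - 1) * y i')) • Pi.single i' (1 : F) := by
    rw [hz1d, hz2d]
    simp only [one_smul, neg_smul]
    abel
  have hviso : Cfsg.hermForm n F q ((1 : F) • z1 + (-1 : F) • z2)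
      ((1 : F) • z1 + (-1 : F) • z2) = 0 := by
    rw [hv]
    simp only [hf.add_left, Cfsg.Agent.Lib.Helper28.UForm.f_add_right hf, hf.smul_left,
      Cfsg.Agent.Lib.Helper28.UForm.f_smul_right hf, hii, hi'i, hiin, hi'i'n, map_mul, map_sub,
      map_neg, map_one, hσl, hσm]
    have h1 : (2 - (l + l⁻¹)) * ν + (2 - (m + m⁻¹)) * ν' = 0 := heq
    rw [hν, hν'] at h1
    have e1 : (l - 1) * (l⁻¹ - 1) = 2 - (l + l⁻¹) := by
      field_simp
      ring
    have e2 : (m - 1) * (m⁻¹ - 1) = 2 - (m + m⁻¹) := by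
      field_simp
      ring
    rw [← e1, ← e2] at h1
    linear_combination h1
  have hvX := hyp_closure S hz1 hz2 (by rw [hprod]; exact hne) 1 (-1) hviso
  rw [hv] at hvX
  refine ⟨_, hvX, i, i', fun h => hii' h.symm, ?_, ?_, ?_⟩
  · simp only [Pi.add_apply, Pi.smul_apply, Pi.single_eq_same, smul_eq_mul, mul_one,
      Pi.single_eq_of_ne (fun h : i = i' => hii' h.symm), mul_zero, add_zero]
    exact mul_ne_zero (sub_ne_zero.mpr hl1) hi
  · simp only [Pi.add_apply, Pi.smul_apply, Pi.single_eq_same, smul_eq_mul, mul_one,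
      Pi.single_eq_of_ne hii', mul_zero, zero_add]
    exact neg_ne_zero.mpr (mul_ne_zero (sub_ne_zero.mpr hm1) hi')
  · intro k hk hk'
    simp only [Pi.add_apply, Pi.smul_apply, Pi.single_eq_of_ne hk, Pi.single_eq_of_ne hk',
      smul_eq_mul, mul_zero, add_zero]

end Cfsg.Agent.Lib.Helper9.UT
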