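import Mathlib
import Cfsg.Agent.Lib.Helper19.SU5.Defs
import Cfsg.Agent.Lib.Helper19.SU5.Defs2
import Cfsg.Agent.Lib.helper3.SU5.Defs
import Cfsg.Agent.Lib.Helper27.STU.Defs2
import Cfsg.Agent.Lib.Helper27.STU.Defs3
import Cfsg.Agent.Lib.Helper16.STUR1
import Cfsg.Agent.Lib.Helper18.STUR5
import Cfsg.Agent.Lib.Helper24.STUB1
import Cfsg.Agent.Lib.Helper16.STDX2

/-!
# SU5 Z7 (`monV_wsU`): the short Weyl element `ws a b u` acts monomially on the frame of a representation.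
-/

set_option autoImplicit false

namespace Cfsg.Agent.Lib.Helper19.SU5

open Cfsg.Agent.Lib.helper17.SLP Cfsg.Agent.Lib.helper3.SP4 Cfsg.Agent.Lib.Helper22.SU4
open Cfsg.Agent.Lib.Helper27.STU (Lam XpM XmM XpS XmS SUm XpU XmU SysU)
open Cfsg.Agent.Lib.helper3.STC (ng sws)
open Cfsg.Agent.Lib.helper3.SU5 (Dat Tab5 Pre)

universe u v w

section ZV

variable {F : Type u} [Field F] [StarRing F] {od : Prop} {ι : Type v} [DecidableEq ι] {G₀ : Type w} [Group G₀]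
  {S : SysU F od ι G₀} {V : Type*} [AddCommGroup V] [Module F V]

/-- Z7 [M]  the short Weyl element on the frame (any index type). -/
theorem monV_wsU (R : S.Rep V) {a b : ι ⊕ ι} (hab : a ≠ b) (hab' : a ≠ ng b) (u : F) (hu : u ≠ 0) :
    MonV R (S.ws a b u) (sws a b) (Cfsg.Agent.Lib.Helper27.STU.dws a b u) 1 := by
  have hba' : b ≠ ng a := fun e => hab' (by rw [e, Cfsg.Agent.Lib.helper3.STC.ng_ng])
  have hnba : ng b ≠ ng a := fun e => hab (Cfsg.Agent.Lib.helper3.STC.ng_inj.1 e).symm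
  have hnbna' : ng b ≠ ng (ng a) := by
    rw [Cfsg.Agent.Lib.helper3.STC.ng_ng]; exact fun e => hab' e.symm
  have hsu : -(star u) ≠ 0 := neg_ne_zero.2 (star_ne_zero.2 hu)
  have hna : ng a ≠ a := (Cfsg.Agent.Lib.helper3.STC.ne_ng a).symm
  have hnb : ng b ≠ b := (Cfsg.Agent.Lib.helper3.STC.ne_ng b).symm
  constructor
  · intro k
    by_cases hka : k = a
    · subst hka
      rw [Cfsg.Agent.Lib.Helper27.STU.SysU.Rep.phi_ws_fst R hab hab' u hu,
        Cfsg.Agent.Lib.Lead.STD.SysD.sws_left hab hab']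
      simp [Cfsg.Agent.Lib.Helper27.STU.dws]
    by_cases hkb : k = b
    · subst hkb
      rw [Cfsg.Agent.Lib.Helper27.STU.SysU.Rep.phi_ws_snd R hab hab' u hu,
        Cfsg.Agent.Lib.Lead.STD.SysD.sws_right hab hab']
      simp [Cfsg.Agent.Lib.Helper27.STU.dws, hka]
    by_cases hknb : k = ng b
    · subst hknb
      rw [Cfsg.Agent.Lib.Helper27.STU.SysU.ws_sym S hab hab' u,
        Cfsg.Agent.Lib.Helper27.STU.SysU.Rep.phi_ws_fst R hnba hnbna' (-(star u)) hsu,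
        Cfsg.Agent.Lib.Lead.STD.SysD.stdx2_sws_nright hab']
      have e : (-(-(star u))⁻¹) = (star u)⁻¹ := by rw [inv_neg, neg_neg]
      rw [e]
      simp [Cfsg.Agent.Lib.Helper27.STU.dws, hka, hkb]
    by_cases hkna : k = ng a
    · subst hkna
      rw [Cfsg.Agent.Lib.Helper27.STU.SysU.ws_sym S hab hab' u,
        Cfsg.Agent.Lib.Helper27.STU.SysU.Rep.phi_ws_snd R hnba hnbna' (-(star u)) hsu,
        Cfsg.Agent.Lib.Lead.STD.SysD.stdx2_sws_nleft hab']
      simp [Cfsg.Agent.Lib.Helper27.STU.dws, hka, hkb, hknb]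
    · rw [Cfsg.Agent.Lib.Lead.STD.SysD.sws_of_ne hka hkb hkna hknb]
      have hd : Cfsg.Agent.Lib.Helper27.STU.dws a b u k = 1 := by
        simp [Cfsg.Agent.Lib.Helper27.STU.dws, hka, hkb, hknb, hkna]
      rw [hd, one_smul]
      unfold SysU.ws
      rw [Cfsg.Agent.Lib.Helper27.STU.SysU.Rep.phi_mul_apply, Cfsg.Agent.Lib.Helper27.STU.SysU.Rep.phi_mul_apply,
        Cfsg.Agent.Lib.Helper27.STU.SysU.Rep.phi_xs_fr R hab hab' u hkb hkna,
        Cfsg.Agent.Lib.Helper27.STU.SysU.Rep.phi_xs_fr R hab.symm hba' _ hka hknb,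
        Cfsg.Agent.Lib.Helper27.STU.SysU.Rep.phi_xs_fr R hab hab' u hkb hkna]
  · rw [one_smul]
    unfold SysU.ws
    rw [Cfsg.Agent.Lib.Helper27.STU.SysU.Rep.phi_mul_apply, Cfsg.Agent.Lib.Helper27.STU.SysU.Rep.phi_mul_apply,
      Cfsg.Agent.Lib.Helper27.STU.SysU.Rep.phi_xs_dv R hab hab',
      Cfsg.Agent.Lib.Helper27.STU.SysU.Rep.phi_xs_dv R hab.symm hba',
      Cfsg.Agent.Lib.Helper27.STU.SysU.Rep.phi_xs_dv R hab hab']

end ZV

end Cfsg.Agent.Lib.Helper19.SU5
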