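import Mathlib

set_option autoImplicit false

namespace Cfsg.Agent.Lib.helper15

def chi (x : ZMod 2) : ℤ := if x = 0 then 1 else -1

theorem chi_zero : chi 0 = 1 := rfl

theorem chi_one : chi 1 = -1 := rfl

theorem chi_add (x y : ZMod 2) : chi (x + y) = chi x * chi y := by
  revert x y; decide

theorem chi_mul_self (x : ZMod 2) : chi x * chi x = 1 := by
  revert x; decide

theorem chi_eq_one_iff (x : ZMod 2) : chi x = 1 ↔ x = 0 := by
  revert x; decide

theorem zmod2_add_self (x : ZMod 2) : x + x = 0 := by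
  revert x; decide

theorem zmod2_neg (x : ZMod 2) : -x = x := by
  revert x; decide

theorem zmod2_sub (x y : ZMod 2) : x - y = x + y := by
  revert x y; decide

theorem zmod2_mul_self (x : ZMod 2) : x * x = x := by
  revert x; decide

theorem zmod2_eq_one_of_ne_zero {x : ZMod 2} (h : x ≠ 0) : x = 1 := by
  revert x; decide

section Gauss

variable {V : Type*} [AddCommGroup V] [Fintype V]

theorem sum_chi_additive_eq_zero (φ : V → ZMod 2) (hadd : ∀ u v, φ (u + v) = φ u + φ v)
    (a : V) (ha : φ a = 1) : ∑ v, chi (φ v) = 0 := by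
  have h1 : ∑ v, chi (φ v) = ∑ v, chi (φ (v + a)) :=
    (Equiv.sum_comp (Equiv.addRight a) (fun v => chi (φ v))).symm
  have h2 : ∑ v, chi (φ (v + a)) = - ∑ v, chi (φ v) := by
    rw [← Finset.sum_neg_distrib]
    apply Finset.sum_congr rfl
    intro v _
    rw [hadd, ha, chi_add, chi_one]
    ring
  omega

def gsum (q : V → ZMod 2) : ℤ := ∑ v, chi (q v)

structure IsQuadPair (q : V → ZMod 2) (B : V → V → ZMod 2) : Prop where
  polar : ∀ u v, q (u + v) = q u + q v + B u v
  add_right : ∀ u v v', B u (v + v') = B u v + B u v'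
  add_left : ∀ u u' v, B (u + u') v = B u v + B u' v
  alt : ∀ u, B u u = 0
  nondeg : ∀ t, t ≠ 0 → ∃ u, B u t = 1

theorem IsQuadPair.map_zero {q : V → ZMod 2} {B : V → V → ZMod 2} (h : IsQuadPair q B) : q 0 = 0 := by
  have h1 := h.polar 0 0
  have h2 := h.alt 0
  rw [add_zero, h2, add_zero] at h1
  have h3 := zmod2_add_self (q 0)
  rw [← h1] at h3
  exact h3

theorem IsQuadPair.B_zero_right {q : V → ZMod 2} {B : V → V → ZMod 2} (h : IsQuadPair q B) (u : V) :
    B u 0 = 0 := by
  have h1 := h.add_right u 0 0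
  rw [add_zero] at h1
  have := zmod2_add_self (B u 0)
  rw [← h1] at this
  exact this

theorem IsQuadPair.B_neg_right {q : V → ZMod 2} {B : V → V → ZMod 2} (h : IsQuadPair q B) (u v : V) :
    B u (-v) = B u v := by
  have h1 := h.add_right u v (-v)
  rw [add_neg_cancel, h.B_zero_right] at h1
  have h2 : B u (-v) = B u v + (B u v + B u (-v)) := by
    rw [← add_assoc, zmod2_add_self, zero_add]
  rw [h2, ← h1, add_zero]

theorem gsum_sq {q : V → ZMod 2} {B : V → V → ZMod 2} (h : IsQuadPair q B) :
    gsum q ^ 2 = Fintype.card V := by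
  classical
  unfold gsum
  rw [pow_two, Finset.sum_mul_sum]
  have step1 : ∀ u : V, ∑ v, chi (q u) * chi (q v) = ∑ t, chi (q t) * chi (B u t) := by
    intro u
    rw [← Equiv.sum_comp (Equiv.addLeft u) (fun t => chi (q t) * chi (B u t))]
    apply Finset.sum_congr rfl
    intro v _
    simp only [Equiv.coe_addLeft]
    rw [h.polar u v, h.add_right, h.alt, zero_add, ← chi_add, ← chi_add]
    congr 1
    have := zmod2_add_self (B u v)
    calc q u + q v = q u + q v + 0 := by rw [add_zero]
      _ = q u + q v + (B u v + B u v) := by rw [this]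
      _ = q u + q v + B u v + B u v := by ring
  rw [Finset.sum_congr rfl (fun u _ => step1 u), Finset.sum_comm]
  have step2 : ∀ t : V, ∑ u, chi (q t) * chi (B u t) = if t = 0 then (Fintype.card V : ℤ) else 0 := by
    intro t
    rw [← Finset.mul_sum]
    by_cases ht : t = 0
    · subst ht
      rw [if_pos rfl, h.map_zero, chi_zero, one_mul]
      simp [h.B_zero_right, chi_zero]
    · rw [if_neg ht]
      obtain ⟨a, ha⟩ := h.nondeg t ht
      rw [sum_chi_additive_eq_zero (fun u => B u t) (fun u v => h.add_left u v t) a ha, mul_zero]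
  rw [Finset.sum_congr rfl (fun t _ => step2 t)]
  simp

theorem gsum_ne_zero {q : V → ZMod 2} {B : V → V → ZMod 2} (h : IsQuadPair q B) [Nonempty V] :
    gsum q ≠ 0 := by
  intro h0
  have := gsum_sq h
  rw [h0] at this
  have hc : 0 < Fintype.card V := Fintype.card_pos
  simp at this
  omega

theorem gsum_comp_equiv (q : V → ZMod 2) {W : Type*} [AddCommGroup W] [Fintype W] (e : W ≃ V) :
    gsum (fun w => q (e w)) = gsum q := by
  unfold gsum
  exact Equiv.sum_comp e (fun v => chi (q v))

theorem gsum_add_const (q : V → ZMod 2) (a : V) : gsum (fun v => q (v + a) + 1) = - gsum q := by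
  unfold gsum
  rw [← Equiv.sum_comp (Equiv.addRight a) (fun v => chi (q v)), ← Finset.sum_neg_distrib]
  apply Finset.sum_congr rfl
  intro v _
  rw [chi_add, chi_one]
  simp

theorem card_zeros (q : V → ZMod 2) :
    2 * (Fintype.card {v : V // q v = 0} : ℤ) = Fintype.card V + gsum q := by
  classical
  unfold gsum
  have h1 : ∀ v : V, chi (q v) = 2 * (if q v = 0 then (1 : ℤ) else 0) - 1 := by
    intro v
    unfold chi
    split_ifs <;> ring
  rw [Finset.sum_congr rfl (fun v _ => h1 v), Finset.sum_sub_distrib, ← Finset.mul_sum,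
    Finset.sum_boole]
  simp only [Finset.sum_const, Finset.card_univ, nsmul_eq_mul, mul_one]
  rw [Fintype.card_subtype]
  ring

end Gauss

end Cfsg.Agent.Lib.helper15
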