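import Mathlib
import Cfsg.Prelude.Def_Classical
import Cfsg.Agent.Lib.helper15.QuadF2

set_option autoImplicit false

namespace Cfsg.Agent.Lib.helper15

abbrev VP (m : ℕ) : Type := Fin m ⊕ Fin m → ZMod 2

abbrev QP (m : ℕ) : VP m → ZMod 2 := Cfsg.quadFormPlus m (ZMod 2)

def BP (m : ℕ) (u v : VP m) : ZMod 2 := QP m (u + v) - QP m u - QP m v

theorem BP_eq (m : ℕ) (u v : VP m) :
    BP m u v = ∑ i : Fin m, (u (.inl i) * v (.inr i) + v (.inl i) * u (.inr i)) := by
  unfold BP QP Cfsg.quadFormPlus
  rw [← Finset.sum_sub_distrib, ← Finset.sum_sub_distrib]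
  apply Finset.sum_congr rfl
  intro i _
  simp only [Pi.add_apply]
  ring

theorem BP_add_right (m : ℕ) (u v v' : VP m) : BP m u (v + v') = BP m u v + BP m u v' := by
  rw [BP_eq, BP_eq, BP_eq, ← Finset.sum_add_distrib]
  apply Finset.sum_congr rfl
  intro i _
  simp only [Pi.add_apply]
  ring

theorem BP_add_left (m : ℕ) (u u' v : VP m) : BP m (u + u') v = BP m u v + BP m u' v := by
  rw [BP_eq, BP_eq, BP_eq, ← Finset.sum_add_distrib]
  apply Finset.sum_congr rfl
  intro i _
  simp only [Pi.add_apply]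
  ring

theorem BP_symm (m : ℕ) (u v : VP m) : BP m u v = BP m v u := by
  rw [BP_eq, BP_eq]
  apply Finset.sum_congr rfl
  intro i _
  ring

theorem BP_alt (m : ℕ) (u : VP m) : BP m u u = 0 := by
  rw [BP_eq]
  apply Finset.sum_eq_zero
  intro i _
  exact zmod2_add_self _

theorem BP_single_inr (m : ℕ) (i : Fin m) (t : VP m) :
    BP m (Pi.single (Sum.inr i) 1) t = t (.inl i) := by
  rw [BP_eq]
  rw [Finset.sum_eq_single i]
  · simp
  · intro j _ hj
    simp [hj]
  · intro h; exact absurd (Finset.mem_univ _) h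

theorem BP_single_inl (m : ℕ) (i : Fin m) (t : VP m) :
    BP m (Pi.single (Sum.inl i) 1) t = t (.inr i) := by
  rw [BP_eq]
  rw [Finset.sum_eq_single i]
  · simp
  · intro j _ hj
    simp [hj]
  · intro h; exact absurd (Finset.mem_univ _) h

theorem BP_nondeg (m : ℕ) (t : VP m) (ht : t ≠ 0) : ∃ u, BP m u t = 1 := by
  obtain ⟨j, hj⟩ : ∃ j, t j ≠ 0 := by
    by_contra hcon
    push Not at hcon
    exact ht (funext hcon)
  rcases j with i | i
  · exact ⟨Pi.single (Sum.inr i) 1, by rw [BP_single_inr]; exact zmod2_eq_one_of_ne_zero hj⟩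
  · exact ⟨Pi.single (Sum.inl i) 1, by rw [BP_single_inl]; exact zmod2_eq_one_of_ne_zero hj⟩

theorem isQuadPair_of_polar (m : ℕ) (q : VP m → ZMod 2)
    (hq : ∀ u v : VP m, q (u + v) = q u + q v + BP m u v) : IsQuadPair q (BP m) where
  polar := hq
  add_right := BP_add_right m
  add_left := BP_add_left m
  alt := BP_alt m
  nondeg := BP_nondeg m

theorem QP_polar (m : ℕ) (u v : VP m) : QP m (u + v) = QP m u + QP m v + BP m u v := by
  unfold BP
  ring

theorem isQuadPair_QP (m : ℕ) : IsQuadPair (QP m) (BP m) := isQuadPair_of_polar m _ (QP_polar m)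

def transvAdd (m : ℕ) (w : VP m) : VP m →+ VP m where
  toFun v := v + BP m v w • w
  map_zero' := by
    have : BP m 0 w = 0 := by
      rw [BP_symm]; exact (isQuadPair_QP m).B_zero_right w
    simp [this]
  map_add' u v := by
    rw [BP_add_left, add_smul]
    abel

def transvLin (m : ℕ) (w : VP m) : VP m →ₗ[ZMod 2] VP m := (transvAdd m w).toZModLinearMap 2

theorem transvLin_apply (m : ℕ) (w v : VP m) : transvLin m w v = v + BP m v w • w := rfl

theorem transvLin_involutive (m : ℕ) (w : VP m) : Function.Involutive (transvLin m w) := by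
  intro v
  rw [transvLin_apply, transvLin_apply, BP_add_left]
  have h1 : BP m (BP m v w • w) w = 0 := by
    rcases (show BP m v w = 0 ∨ BP m v w = 1 by generalize BP m v w = c; revert c; decide) with h | h
    · rw [h, zero_smul, BP_symm]; exact (isQuadPair_QP m).B_zero_right w
    · rw [h, one_smul]; exact BP_alt m w
  rw [h1, add_zero, add_assoc, ← add_smul, zmod2_add_self, zero_smul, add_zero]

def transvEquiv (m : ℕ) (w : VP m) : VP m ≃ₗ[ZMod 2] VP m :=
  LinearEquiv.ofInvolutive (transvLin m w) (transvLin_involutive m w)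

theorem transvEquiv_apply (m : ℕ) (w v : VP m) : transvEquiv m w v = v + BP m v w • w := rfl

theorem q_transv (m : ℕ) (q : VP m → ZMod 2)
    (hq : ∀ u v : VP m, q (u + v) = q u + q v + BP m u v) (w : VP m) (hw : q w = 0) (v : VP m) :
    q (transvEquiv m w v) = q v + BP m v w := by
  rw [transvEquiv_apply]
  rcases (show BP m v w = 0 ∨ BP m v w = 1 by generalize BP m v w = c; revert c; decide) with h | h
  · rw [h, zero_smul, add_zero, add_zero]
  · rw [h, one_smul, hq, hw, h, add_zero]

theorem gsum_eq_neg_of_equiv (m : ℕ) (q : VP m → ZMod 2)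
    (hq : ∀ u v : VP m, q (u + v) = q u + q v + BP m u v) (w : VP m) (hw : q w = 1) :
    gsum (fun v => q v + BP m v w) = - gsum q := by
  rw [← gsum_add_const q w]
  congr 1
  funext v
  rw [hq, hw]
  have := zmod2_add_self (1 : ZMod 2)
  calc q v + BP m v w = q v + BP m v w + 0 := by rw [add_zero]
    _ = q v + BP m v w + (1 + 1) := by rw [this]
    _ = q v + 1 + BP m v w + 1 := by ring

theorem same_type_iff (m : ℕ) (q : VP m → ZMod 2)
    (hq : ∀ u v : VP m, q (u + v) = q u + q v + BP m u v) (w : VP m) :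
    (∃ g : VP m ≃ₗ[ZMod 2] VP m, ∀ v, q v + BP m v w = q (g v)) ↔ q w = 0 := by
  constructor
  · rintro ⟨g, hg⟩
    by_contra hne
    have hw : q w = 1 := zmod2_eq_one_of_ne_zero hne
    have h1 := gsum_eq_neg_of_equiv m q hq w hw
    have h2 : gsum (fun v => q v + BP m v w) = gsum q := by
      have : (fun v => q v + BP m v w) = fun v => q (g v) := funext hg
      rw [this]
      exact gsum_comp_equiv q g.toEquiv
    have hne0 : gsum q ≠ 0 := by
      have : Nonempty (VP m) := ⟨0⟩
      exact gsum_ne_zero (isQuadPair_of_polar m q hq)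
    omega
  · intro hw
    exact ⟨transvEquiv m w, fun v => (q_transv m q hq w hw v).symm⟩

end Cfsg.Agent.Lib.helper15
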