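import Mathlib

set_option autoImplicit false

namespace Cfsg.Agent.Lib.helper15

def maxProd : ℕ → ℕ
  | 0 => 1
  | 1 => 1
  | 2 => 2
  | 3 => 3
  | 4 => 4
  | (n + 5) => 3 * maxProd (n + 2)

theorem maxProd_add5 (n : ℕ) : maxProd (n + 5) = 3 * maxProd (n + 2) := by
  rw [maxProd]

theorem maxProd_three_mul (k : ℕ) : maxProd (3 * k) = 3 ^ k := by
  induction k using Nat.strong_induction_on with
  | _ k ih =>
    match k, ih with
    | 0, _ => rfl
    | 1, _ => rfl
    | (j + 2), ih =>
      have e : 3 * (j + 2) = (3 * j + 1) + 5 := by ring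
      have e2 : 3 * j + 1 + 2 = 3 * (j + 1) := by ring
      rw [e, maxProd_add5, e2, ih (j + 1) (by omega), pow_succ]
      ring

theorem maxProd_three_mul_add_two (k : ℕ) : maxProd (3 * k + 2) = 2 * 3 ^ k := by
  induction k with
  | zero => rfl
  | succ j ih =>
    have e : 3 * (j + 1) + 2 = (3 * j) + 5 := by ring
    rw [e, maxProd_add5, ih, pow_succ]
    ring

theorem maxProd_three_mul_add_one (k : ℕ) (hk : 1 ≤ k) : maxProd (3 * k + 1) = 4 * 3 ^ (k - 1) := by
  induction k with
  | zero => omega
  | succ j ih =>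
    rcases Nat.eq_zero_or_pos j with rfl | hj
    · rfl
    · have e : 3 * (j + 1) + 1 = (3 * j - 1) + 5 := by omega
      have e2 : 3 * j - 1 + 2 = 3 * j + 1 := by omega
      rw [e, maxProd_add5, e2, ih hj]
      have e3 : j + 1 - 1 = (j - 1) + 1 := by omega
      rw [e3, pow_succ]
      ring

theorem maxProd_steps (n : ℕ) : maxProd n ≤ maxProd (n + 1) ∧ 2 * maxProd n ≤ maxProd (n + 2) ∧
    3 * maxProd n ≤ maxProd (n + 3) := by
  induction n using Nat.strong_induction_on with
  | _ n ih =>
    match n, ih with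
    | 0, _ => decide
    | 1, _ => decide
    | 2, _ => decide
    | 3, _ => decide
    | 4, _ => decide
    | (m + 5), ih =>
      obtain ⟨h1, h2, h3⟩ := ih (m + 2) (by omega)
      have e1 : m + 5 + 1 = (m + 1) + 5 := by ring
      have e2 : m + 5 + 2 = (m + 2) + 5 := by ring
      have e3 : m + 5 + 3 = (m + 3) + 5 := by ring
      rw [e1, e2, e3, maxProd_add5 m, maxProd_add5 (m + 1), maxProd_add5 (m + 2), maxProd_add5 (m + 3)]
      have f1 : m + 1 + 2 = m + 2 + 1 := by ring
      have f2 : m + 2 + 2 = m + 2 + 2 := rfl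
      have f3 : m + 3 + 2 = m + 5 := by ring
      rw [f1, f3, maxProd_add5 m]
      refine ⟨by omega, by omega, le_refl _⟩

theorem mul_maxProd_le (a b : ℕ) (ha : 1 ≤ a) : a * maxProd b ≤ maxProd (a + b) := by
  induction a using Nat.strong_induction_on generalizing b with
  | _ a ih =>
    match a, ha, ih with
    | 1, _, _ =>
      rw [one_mul, add_comm]
      exact (maxProd_steps b).1
    | 2, _, _ =>
      rw [add_comm]
      exact (maxProd_steps b).2.1
    | 3, _, _ =>
      rw [add_comm]
      exact (maxProd_steps b).2.2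
    | 4, _, _ =>
      have h1 := (maxProd_steps b).2.1
      have h2 := (maxProd_steps (b + 2)).2.1
      have e : 4 + b = b + 2 + 2 := by ring
      rw [e]
      omega
    | (c + 5), _, ih =>
      have h1 := ih (c + 2) (by omega) b (by omega)
      have h2 := (maxProd_steps (c + 2 + b)).2.2
      have e : c + 5 + b = c + 2 + b + 3 := by ring
      rw [e]
      have h3 : (c + 5) * maxProd b ≤ 3 * ((c + 2) * maxProd b) := by
        have : c + 5 ≤ 3 * (c + 2) := by omega
        calc (c + 5) * maxProd b ≤ (3 * (c + 2)) * maxProd b := Nat.mul_le_mul_right _ this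
          _ = 3 * ((c + 2) * maxProd b) := by ring
      omega


theorem abelian_perm_card_le (n : ℕ) : ∀ (X : Type) [Finite X], Nat.card X = n →
    ∀ A : Subgroup (Equiv.Perm X), IsMulCommutative A → Nat.card A ≤ maxProd n := by
  induction n using Nat.strong_induction_on with
  | _ n ih =>
    intro X _ hX A hA
    rcases isEmpty_or_nonempty X with hemp | ⟨⟨x⟩⟩
    · have h1 : Nat.card A = 1 := by
        have : Subsingleton (Equiv.Perm X) := inferInstance
        have : Subsingleton ↥A := inferInstance
        have : Nonempty ↥A := ⟨1⟩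
        exact Nat.card_of_subsingleton (1 : ↥A)
      rw [h1]
      have : n = 0 := by rw [← hX]; exact Nat.card_of_isEmpty
      rw [this]
      exact le_refl _
    · classical
      let O : Set X := MulAction.orbit ↥A x
      let S : Subgroup ↥A := MulAction.stabilizer ↥A x
      have hxO : x ∈ O := MulAction.mem_orbit_self x
      have hpres : ∀ (a : ↥A) (y : X), (a : Equiv.Perm X) y ∈ O ↔ y ∈ O := by
        intro a y
        show a • y ∈ MulAction.orbit ↥A x ↔ y ∈ MulAction.orbit ↥A x
        rw [← MulAction.orbit_eq_iff, ← MulAction.orbit_eq_iff, MulAction.orbit_smul]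
      have hfix : ∀ a ∈ S, ∀ y ∈ O, (a : Equiv.Perm X) y = y := by
        rintro a ha y ⟨b, rfl⟩
        have ha' : a • x = x := ha
        show a • (b • x) = b • x
        rw [← mul_smul, IsMulCommutative.is_comm.comm a b, mul_smul, ha']
      let ρ : ↥S →* Equiv.Perm {y // y ∉ O} :=
        { toFun := fun a => Equiv.Perm.subtypePerm ((a : ↥A) : Equiv.Perm X)
            (fun y => not_congr (hpres a.1 y))
          map_one' := by ext y; rfl
          map_mul' := by intro a b; ext y; rfl }
      have hρinj : Function.Injective ρ := by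
        rw [injective_iff_map_eq_one]
        intro a ha
        apply Subtype.ext
        apply Subtype.ext
        apply Equiv.ext
        intro y
        by_cases hy : y ∈ O
        · exact hfix a.1 a.2 y hy
        · have := congrArg (fun f => ((f ⟨y, hy⟩ : {y // y ∉ O}) : X)) ha
          exact this
      have hcomm : IsMulCommutative ρ.range := by
        refine ⟨⟨?_⟩⟩
        rintro ⟨_, a, rfl⟩ ⟨_, b, rfl⟩
        apply Subtype.ext
        show ρ a * ρ b = ρ b * ρ a
        rw [← map_mul, ← map_mul]
        congr 1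
        apply Subtype.ext
        exact IsMulCommutative.is_comm.comm a.1 b.1
      have hcardS : Nat.card S = Nat.card ρ.range :=
        Nat.card_congr (MonoidHom.ofInjective hρinj).toEquiv
      have hsum : Nat.card O + Nat.card {y // y ∉ O} = n := by
        rw [← hX, ← Nat.card_sum]
        exact Nat.card_congr (Equiv.Set.sumCompl O)
      have hOpos : 1 ≤ Nat.card O := by
        have : Nonempty O := ⟨⟨x, hxO⟩⟩
        exact Nat.card_pos
      have hlt : Nat.card {y // y ∉ O} < n := by omega
      have hIH := ih _ hlt {y // y ∉ O} rfl ρ.range hcomm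
      have hos : Nat.card O * Nat.card S = Nat.card A := by
        rw [← Nat.card_prod]
        exact Nat.card_congr (MulAction.orbitProdStabilizerEquivGroup ↥A x)
      rw [← hos, hcardS]
      calc Nat.card O * Nat.card ρ.range ≤ Nat.card O * maxProd (Nat.card {y // y ∉ O}) :=
            Nat.mul_le_mul_left _ hIH
        _ ≤ maxProd (Nat.card O + Nat.card {y // y ∉ O}) := mul_maxProd_le _ _ hOpos
        _ = maxProd n := by rw [hsum]


def HasAbelian (X : Type) (c : ℕ) : Prop :=
  ∃ A : Subgroup (Equiv.Perm X), IsMulCommutative A ∧ Nat.card A = c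

theorem HasAbelian.congr {X Y : Type} (e : X ≃ Y) {c : ℕ} (h : HasAbelian X c) : HasAbelian Y c := by
  obtain ⟨A, hA, hc⟩ := h
  refine ⟨A.map e.permCongrHom.toMonoidHom, Subgroup.map_isMulCommutative A _, ?_⟩
  rw [Subgroup.card_map_of_injective e.permCongrHom.injective, hc]

theorem HasAbelian.sum {X Y : Type} {c d : ℕ} (hX : HasAbelian X c) (hY : HasAbelian Y d) :
    HasAbelian (X ⊕ Y) (c * d) := by
  obtain ⟨A, hA, hc⟩ := hX
  obtain ⟨B, hB, hd⟩ := hY
  have hcomm : IsMulCommutative (A.prod B) := by
    refine ⟨⟨?_⟩⟩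
    rintro ⟨⟨a, b⟩, ha, hb⟩ ⟨⟨a', b'⟩, ha', hb'⟩
    apply Subtype.ext
    show (a * a', b * b') = (a' * a, b' * b)
    have h1 : a * a' = a' * a :=
      congrArg Subtype.val (hA.is_comm.comm ⟨a, ha⟩ ⟨a', ha'⟩)
    have h2 : b * b' = b' * b :=
      congrArg Subtype.val (hB.is_comm.comm ⟨b, hb⟩ ⟨b', hb'⟩)
    rw [h1, h2]
  refine ⟨(A.prod B).map (Equiv.Perm.sumCongrHom X Y), Subgroup.map_isMulCommutative _ _, ?_⟩
  rw [Subgroup.card_map_of_injective Equiv.Perm.sumCongrHom_injective,
    Nat.card_congr (Subgroup.prodEquiv A B).toEquiv, Nat.card_prod, hc, hd]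

theorem hasAbelian_finRotate (n : ℕ) (hn : 2 ≤ n) : HasAbelian (Fin n) n := by
  refine ⟨Subgroup.zpowers (finRotate n), inferInstance, ?_⟩
  rw [Nat.card_zpowers, (isCycle_finRotate_of_le hn).orderOf, support_finRotate_of_le hn,
    Finset.card_univ, Fintype.card_fin]

theorem hasAbelian_bot (X : Type) : HasAbelian X 1 := by
  refine ⟨⊥, inferInstance, ?_⟩
  exact Subgroup.card_bot

theorem HasAbelian.toFin {X : Type} [Fintype X] {c n : ℕ} (h : HasAbelian X c)
    (hn : Fintype.card X = n) : HasAbelian (Fin n) c :=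
  h.congr (Fintype.equivFinOfCardEq hn)

theorem hasAbelian_three_mul (k : ℕ) : HasAbelian (Fin (3 * k)) (3 ^ k) := by
  induction k with
  | zero => exact hasAbelian_bot _
  | succ k ih =>
    have h := ih.sum (hasAbelian_finRotate 3 (by norm_num))
    rw [← pow_succ] at h
    exact h.toFin (by simp; ring)

theorem hasAbelian_three_mul_add_one (k : ℕ) (hk : 1 ≤ k) :
    HasAbelian (Fin (3 * k + 1)) (4 * 3 ^ (k - 1)) := by
  have h := (hasAbelian_finRotate 4 (by norm_num)).sum (hasAbelian_three_mul (k - 1))
  exact h.toFin (by simp; omega)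

theorem hasAbelian_three_mul_add_two (k : ℕ) : HasAbelian (Fin (3 * k + 2)) (2 * 3 ^ k) := by
  have h := (hasAbelian_finRotate 2 (by norm_num)).sum (hasAbelian_three_mul k)
  exact h.toFin (by simp; omega)

end Cfsg.Agent.Lib.helper15
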