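import Mathlib
import Cfsg.Agent.Lib.Lead.BCG.Defs
import Cfsg.Agent.Lib.Helper11.BCGX3
import Cfsg.Agent.Lib.helper8.S5955X1
import Cfsg.Agent.Lib.helper6.Symp

set_option autoImplicit false

/-!
# Project BCG: SECOND COPY by helper15 of X1 (`sp_ctx`) under the name `bcgx1_h15` (same statement as in `Lead/BCG/Skel.lean.txt`).
-/

namespace Cfsg.Agent.Lib.Lead.BCG

open Polynomial Module Matrix Cfsg.Agent.Lib.Helper13.S5955 Cfsg.Agent.Lib.helper15.S5972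
  Cfsg.Agent.Lib.Helper18.ONE Cfsg.Agent.Lib.Lead.BCS

/-- X1 (second copy, same statement as `sp_ctx`) -/
theorem bcgx1_h15 {F : Type*} [Field F] (d : ℕ) (x : Matrix.symplecticGroup (Fin d) F) (N : ℕ)
    (hx : x ^ N = 1) :
    SCtx N (stdB d F) (Matrix.toLin' (x : Matrix (Fin d ⊕ Fin d) (Fin d ⊕ Fin d) F)) := by
  obtain ⟨halt, hnd⟩ := stdB_alt_nd (F := F) d
  refine ⟨halt, hnd, ?_, (sp_same d x N).mp hx⟩
  intro u v
  rw [stdB_apply, stdB_apply, Matrix.toLin'_apply, Matrix.toLin'_apply]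
  exact (Cfsg.Agent.Lib.helper6.mem_symplecticGroup_iff_sympForm (m := d)
    (x : Matrix (Fin d ⊕ Fin d) (Fin d ⊕ Fin d) F)).mp x.2 u v

end Cfsg.Agent.Lib.Lead.BCG
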