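import Mathlib
import Cfsg.Agent.Lib.Helper18.OCT.Defs

/-!
# Project OCG (S4632, designer helper18), row D0 (`delta_props`), verbatim.
-/

set_option autoImplicit false

namespace Cfsg.Agent.Lib.Helper18.OCT

open Cfsg.Lie Matrix
open scoped MatrixGroups

section D

variable {F : Type*} [Field F]

theorem ocgd0_pos (h : IsSquare (-1 : F)) : delta F = 1 := by
  classical
  unfold delta
  rw [if_pos h]

theorem ocgd0_neg (h : ¬ IsSquare (-1 : F)) : delta F = -1 := by
  classical
  unfold delta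
  rw [if_neg h]

/-- D0 [S-M]. -/
theorem delta_props : (delta F = 1 ∨ delta F = -1) ∧ (∃ y₀ : F, delta F * y₀ ^ 2 = -1) ∧
    (¬ IsSquare (-1 : F) → delta F = -1 ∧ ∀ x y : F, x ^ 2 - delta F * y ^ 2 = 0 → x = 0 ∧ y = 0) ∧
    (IsSquare (-1 : F) → delta F = 1) := by
  classical
  refine ⟨?_, ?_, ?_, ocgd0_pos⟩
  · by_cases h : IsSquare (-1 : F)
    · exact Or.inl (ocgd0_pos h)
    · exact Or.inr (ocgd0_neg h)
  · by_cases h : IsSquare (-1 : F)
    · obtain ⟨r, hr⟩ := h
      refine ⟨r, ?_⟩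
      rw [ocgd0_pos ⟨r, hr⟩, one_mul, sq, ← hr]
    · exact ⟨1, by rw [ocgd0_neg h]; ring⟩
  · intro h
    refine ⟨ocgd0_neg h, ?_⟩
    intro x y hxy
    rw [ocgd0_neg h] at hxy
    have hy : y = 0 := by
      by_contra hy
      apply h
      refine ⟨x / y, ?_⟩
      field_simp
      linear_combination -hxy
    subst hy
    refine ⟨?_, rfl⟩
    have : x ^ 2 = 0 := by linear_combination hxy
    exact pow_eq_zero_iff (two_ne_zero) |>.mp this

end D

end Cfsg.Agent.Lib.Helper18.OCT
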