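import Mathlib
import Cfsg.Agent.Lib.Helper18.OCT.Defs

/-!
# Project OCG (S4632, designer helper18), row D11 (`card_RD`): the core, with the statements of
D1, D6, D7, D8, D9, D10 and N2 as hypotheses.
-/

set_option autoImplicit false

namespace Cfsg.Agent.Lib.Helper18.OCT

open Cfsg.Lie Matrix
open scoped MatrixGroups

section D

variable {F : Type*} [Field F]

/-- `2 ≠ 0` in a finite field of odd order. -/
theorem ocgd11_two_ne [Fintype F] (hodd : Odd (Fintype.card F)) : (2 : F) ≠ 0 := by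
  intro h2
  have h1 : addOrderOf (1 : F) ∣ 2 := by
    apply addOrderOf_dvd_of_nsmul_eq_zero
    rw [nsmul_eq_mul, mul_one]
    exact_mod_cast h2
  have h3 : addOrderOf (1 : F) ∣ Fintype.card F := addOrderOf_dvd_card
  have h4 : addOrderOf (1 : F) ≠ 1 := by
    intro h
    rw [AddMonoid.addOrderOf_eq_one_iff] at h
    exact one_ne_zero h
  have h5 : addOrderOf (1 : F) = 2 := by
    rcases (Nat.dvd_prime Nat.prime_two).mp h1 with h | h
    · exact absurd h h4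
    · exact h
  rw [h5] at h3
  rcases hodd with ⟨k, hk⟩
  omega

/-- the torus as a subgroup, from the closure properties D1. -/
def ocgd11_tor (δ : F)
    (hD1 : ∀ g h : GL (Fin 2) F, g ∈ TorSet δ → h ∈ TorSet δ →
      g * h ∈ TorSet δ ∧ g⁻¹ ∈ TorSet δ ∧ (1 : GL (Fin 2) F) ∈ TorSet δ ∧ g * h = h * g)
    (h1 : (1 : GL (Fin 2) F) ∈ TorSet δ) : Subgroup (GL (Fin 2) F) where
  carrier := TorSet δ
  mul_mem' := fun {a b} ha hb => (hD1 a b ha hb).1
  one_mem' := h1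
  inv_mem' := fun {a} ha => (hD1 a a ha ha).2.1

/-- `1 ∈ TorSet δ`. -/
theorem ocgd11_one_mem (δ : F) : (1 : GL (Fin 2) F) ∈ TorSet δ := by
  refine ⟨1, 0, ?_⟩
  ext i j
  fin_cases i <;> fin_cases j <;> simp [kmat]

/-- `|ASet δ| = 2 ^ v₂ |TorSet δ|` from D1 + D7. -/
theorem ocgd11_card_ASet [Finite F] (δ : F)
    (hD1 : ∀ g h : GL (Fin 2) F, g ∈ TorSet δ → h ∈ TorSet δ →
      g * h ∈ TorSet δ ∧ g⁻¹ ∈ TorSet δ ∧ (1 : GL (Fin 2) F) ∈ TorSet δ ∧ g * h = h * g)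
    (hD7 : ∀ (T : Subgroup (GL (Fin 2) F)) [Finite T], (∀ g ∈ T, ∀ h ∈ T, g * h = h * g) →
      Nat.card {g : GL (Fin 2) F // g ∈ T ∧ ∃ k : ℕ, g ^ (2 ^ k) = 1} =
        2 ^ (Nat.card T).factorization 2) :
    Nat.card (ASet δ) = 2 ^ (Nat.card (TorSet δ)).factorization 2 := by
  have := hD7 (ocgd11_tor δ hD1 (ocgd11_one_mem δ)) (fun g hg h hh => (hD1 g h hg hh).2.2.2)
  exact this

/-- D11 core. -/
theorem ocgd11_core [Fintype F] {q : ℕ} (hq : Fintype.card F = q) (hodd : Odd q)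
    (hD1 : ∀ δ : F, ∀ g h : GL (Fin 2) F, g ∈ TorSet δ → h ∈ TorSet δ →
      g * h ∈ TorSet δ ∧ g⁻¹ ∈ TorSet δ ∧ (1 : GL (Fin 2) F) ∈ TorSet δ ∧ g * h = h * g)
    (hD6 : (IsSquare (-1 : F) → Nat.card (TorSet (1 : F)) = (q - 1) ^ 2) ∧
      (¬ IsSquare (-1 : F) → Nat.card (TorSet (-1 : F)) = q ^ 2 - 1))
    (hD7 : ∀ (T : Subgroup (GL (Fin 2) F)) [Finite T], (∀ g ∈ T, ∀ h ∈ T, g * h = h * g) →
      Nat.card {g : GL (Fin 2) F // g ∈ T ∧ ∃ k : ℕ, g ^ (2 ^ k) = 1} =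
        2 ^ (Nat.card T).factorization 2)
    (hD8 : ∀ δ : F, Nat.card (DGrp δ) = 2 * Nat.card (ASet δ))
    (hD9 : Nat.card (RGrp (delta F)) * 2 ^ (q - 1).factorization 2 = Nat.card (DGrp (delta F)))
    (hD10 : ∀ δ : F, Nat.card (DGrp δ ⊓ ZGrp F : Subgroup (GL (Fin 2) F)) =
      2 ^ (q - 1).factorization 2)
    (hN2 : (q % 4 = 1 → (q ^ 2 - 1).factorization 2 = (q - 1).factorization 2 + 1) ∧
      (q % 4 = 3 → (q - 1).factorization 2 = 1)) :
    Nat.card (RGrp (delta F)) * Nat.card (DGrp (delta F)) =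
      2 ^ (2 * (q ^ 2 - 1).factorization 2) *
        Nat.card (DGrp (delta F) ⊓ ZGrp F : Subgroup (GL (Fin 2) F)) := by
  classical
  rw [hD10]
  have hq4 : q % 4 = 1 ∨ q % 4 = 3 := by
    rcases hodd with ⟨k, hk⟩
    omega
  by_cases hs : IsSquare (-1 : F)
  · -- `δ = 1`, `q ≡ 1 mod 4`
    have hq1 : q % 4 = 1 := by
      have := (FiniteField.isSquare_neg_one_iff (F := F)).mp hs
      rw [hq] at this
      omega
    have hdel : delta F = 1 := by unfold delta; rw [if_pos hs]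
    rw [hdel] at hD9 ⊢
    set a := (q - 1).factorization 2 with ha
    have hA : Nat.card (ASet (1 : F)) = 2 ^ (2 * a) := by
      rw [ocgd11_card_ASet 1 (hD1 1) hD7, hD6.1 hs, Nat.factorization_pow]
      rfl
    have hD : Nat.card (DGrp (1 : F)) = 2 ^ (2 * a + 1) := by
      rw [hD8, hA, pow_succ]; ring
    have hR : Nat.card (RGrp (1 : F)) = 2 ^ (a + 1) := by
      rw [hD] at hD9
      have h2a : (2 : ℕ) ^ (2 * a + 1) = 2 ^ (a + 1) * 2 ^ a := by rw [← pow_add]; congr 1; omega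
      rw [h2a] at hD9
      exact Nat.eq_of_mul_eq_mul_right (by positivity) hD9
    rw [hR, hD, hN2.1 hq1, ← pow_add, ← pow_add]
    congr 1
    omega
  · -- `δ = -1`, `q ≡ 3 mod 4`
    have hq3 : q % 4 = 3 := by
      rcases hq4 with h | h
      · exfalso
        apply hs
        apply (FiniteField.isSquare_neg_one_iff (F := F)).mpr
        rw [hq]; omega
      · exact h
    have hdel : delta F = -1 := by unfold delta; rw [if_neg hs]
    rw [hdel] at hD9 ⊢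
    have ha : (q - 1).factorization 2 = 1 := hN2.2 hq3
    rw [ha] at hD9 ⊢
    set n := (q ^ 2 - 1).factorization 2 with hn
    have hA : Nat.card (ASet (-1 : F)) = 2 ^ n := by
      rw [ocgd11_card_ASet (-1) (hD1 (-1)) hD7, hD6.2 hs]
    have hD : Nat.card (DGrp (-1 : F)) = 2 ^ (n + 1) := by
      rw [hD8, hA, pow_succ]; ring
    have hR : Nat.card (RGrp (-1 : F)) = 2 ^ n := by
      rw [hD] at hD9
      have e : (2 : ℕ) ^ (n + 1) = 2 ^ n * 2 ^ 1 := pow_add 2 n 1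
      rw [e] at hD9
      exact Nat.eq_of_mul_eq_mul_right (by norm_num) hD9
    rw [hR, hD, ← pow_add, pow_one, ← pow_succ]
    congr 1
    omega

end D

end Cfsg.Agent.Lib.Helper18.OCT
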