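import Mathlib
import Cfsg.Agent.Lib.Helper18.OCT.Defs
import Cfsg.Agent.Lib.Helper29.OCGD1
import Cfsg.Agent.Lib.helper8.OCGD6
import Cfsg.Agent.Lib.helper7.OCGD7
import Cfsg.Agent.Lib.Helper25.OCGD8
import Cfsg.Agent.Lib.Helper9.OCGD9
import Cfsg.Agent.Lib.helper7.OCGN2
import Cfsg.Agent.Lib.helper15.OCGD11core

/-!
# Project OCG (S4632, designer helper18), row D11 (`card_RD`), verbatim: `ocgd11_core` on the landed
rows D1, D6, D7, D8, D9, D10, N2.
-/

set_option autoImplicit false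

namespace Cfsg.Agent.Lib.Helper18.OCT

open Cfsg.Lie Matrix
open scoped MatrixGroups

section D

variable {F : Type*} [Field F]

/-- D11 [M]. -/
theorem card_RD [Fintype F] {q : ℕ} (hq : Fintype.card F = q) (hodd : Odd q) :
    Nat.card (RGrp (delta F)) * Nat.card (DGrp (delta F)) =
      2 ^ (2 * (q ^ 2 - 1).factorization 2) *
        Nat.card (DGrp (delta F) ⊓ ZGrp F : Subgroup (GL (Fin 2) F)) := by
  have h2 : (2 : F) ≠ 0 := ocgd11_two_ne (by rw [hq]; exact hodd)
  have hq2 : 2 ≤ q := by rw [← hq]; exact Fintype.one_lt_card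
  exact ocgd11_core hq hodd (fun δ g h hg hh => TorSet_props δ g h hg hh) (card_TorSet hq h2)
    (fun T _ hT => card_two_part T hT) (fun δ => card_DGrp δ h2) (card_RGrp hq h2)
    (fun δ => card_DZ hq h2 δ) (two_part_sq q hq2)

end D

end Cfsg.Agent.Lib.Helper18.OCT
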