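import Mathlib
import Cfsg.Agent.Lib.Helper21.BSQ.Defs
import Cfsg.Agent.Lib.Helper1.TwoGroupUnique

/-!
# Project BSQ (S3912, designer helper21), row S5 (`sylow_of_quat`): the core, with the conclusion of
S1 (`order_p_mem`, at `p = 2`) as a hypothesis; the content of S2 is proved inline.
-/

set_option autoImplicit false

namespace Cfsg.Agent.Lib.Helper21.BSQ

universe u

variable {G : Type u} [Group G]

/-- a subgroup of `↥P` of order `2` maps onto `N`, when `N` (of order `2`) contains all involutions. -/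
theorem bsqs5_map_eq [Finite G] (N P : Subgroup G) (hN : Nat.card ↥N = 2)
    (hS1 : ∀ x : G, orderOf x = 2 → x ∈ N) (H : Subgroup ↥P) (hH : Nat.card ↥H = 2) :
    H.map P.subtype = N := by
  apply Subgroup.eq_of_le_of_card_ge
  · rintro _ ⟨h, hh, rfl⟩
    by_cases h1 : h = 1
    · rw [h1]; exact N.one_mem
    · apply hS1
      have hd : orderOf (⟨h, hh⟩ : H) ∣ 2 := by
        rw [← hH]; exact orderOf_dvd_natCard _
      have hne : orderOf (⟨h, hh⟩ : H) ≠ 1 := by
        intro h0
        apply h1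
        have := orderOf_eq_one_iff.mp h0
        exact congrArg Subtype.val this
      have h2 : orderOf (⟨h, hh⟩ : H) = 2 := by
        rcases (Nat.dvd_prime Nat.prime_two).mp hd with h0 | h0
        · exact absurd h0 hne
        · exact h0
      have e1 : orderOf ((⟨h, hh⟩ : H) : ↥P) = 2 := by rw [Subgroup.orderOf_coe]; exact h2
      have e2 : orderOf ((h : ↥P) : G) = orderOf h := Subgroup.orderOf_coe h
      show orderOf ((h : ↥P) : G) = 2
      rw [e2]
      exact e1
  · rw [hN, Subgroup.card_map_of_injective P.subtype_injective, hH]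

/-- S5 core. -/
theorem bsqs5_core [Finite G] (N : Subgroup G) (hN : Nat.card ↥N = 2)
    (hS1 : ∀ x : G, orderOf x = 2 → x ∈ N)
    (hex : ∀ (P : Sylow 2 G) (k : ℕ), 2 ≤ k →
      Nonempty (↥(P : Subgroup G) ≃* QuaternionGroup (2 ^ k)) → False)
    (S : Subgroup G) (hS : Nonempty (↥S ≃* QuaternionGroup 2)) :
    Nat.card ↥S = 2 ^ (Nat.card G).factorization 2 := by
  haveI : Fact (Nat.Prime 2) := ⟨Nat.prime_two⟩
  obtain ⟨e⟩ := hS
  have hcS : Nat.card ↥S = 8 := by
    rw [Nat.card_congr e.toEquiv, Nat.card_eq_fintype_card, QuaternionGroup.card]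
  have hS2 : IsPGroup 2 ↥S := IsPGroup.of_card (n := 3) (by rw [hcS]; norm_num)
  obtain ⟨P, hSP⟩ := hS2.exists_le_sylow
  have huniq : ∀ H K : Subgroup ↥(P : Subgroup G), Nat.card ↥H = 2 → Nat.card ↥K = 2 → H = K := by
    intro H K hH hK
    apply Subgroup.map_injective (P : Subgroup G).subtype_injective
    rw [bsqs5_map_eq N P hN hS1 H hH, bsqs5_map_eq N P hN hS1 K hK]
  rcases Cfsg.Agent.Lib.Helper1.cyclic_or_quaternion_of_unique P.isPGroup' huniq with hcyc | ⟨n, ⟨eP⟩⟩
  · exfalso
    have hcomm : ∀ a b : ↥S, a * b = b * a := by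
      intro a b
      let _ := (IsCyclic.commGroup (α := ↥(P : Subgroup G)))
      have h := mul_comm (⟨a.1, hSP a.2⟩ : ↥(P : Subgroup G)) ⟨b.1, hSP b.2⟩
      apply Subtype.ext
      exact congrArg (fun w : ↥(P : Subgroup G) => (w : G)) h
    have h := hcomm (e.symm (QuaternionGroup.a 1)) (e.symm (QuaternionGroup.xa 0))
    have h' := congrArg e h
    rw [map_mul, map_mul, MulEquiv.apply_symm_apply, MulEquiv.apply_symm_apply] at h'
    revert h'
    decide
  · have hn : n ≤ 1 := by
      by_contra h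
      exact hex P n (by omega) ⟨eP⟩
    have hcP : Nat.card ↥(P : Subgroup G) = 4 * 2 ^ n := by
      haveI : NeZero (2 ^ n) := ⟨by positivity⟩
      rw [Nat.card_congr eP.toEquiv, Nat.card_eq_fintype_card, QuaternionGroup.card]
    have hle : Nat.card ↥S ≤ Nat.card ↥(P : Subgroup G) := Subgroup.card_le_of_le hSP
    have h8 : Nat.card ↥(P : Subgroup G) = 8 := by
      interval_cases n
      · rw [hcS, hcP] at hle; omega
      · rw [hcP]; norm_num
    rw [hcS, ← h8, P.card_eq_multiplicity]

end Cfsg.Agent.Lib.Helper21.BSQ
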