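import Mathlib
import Cfsg.Agent.Lib.Helper21.BSQ.Defs
import Cfsg.Agent.S3909
import Cfsg.Agent.Lib.helper15.BSQS5core

/-!
# Project BSQ (S3912, designer helper21), row S5 (`sylow_of_quat`), verbatim: `bsqs5_core` with the
S1 content taken directly from the landed `Cfsg.Agent.S3909.result` (so this file does not wait for S1).
-/

set_option autoImplicit false

namespace Cfsg.Agent.Lib.Helper21.BSQ

universe u

variable {G : Type u} [Group G]

/-- the content of S1 at `p = 2` (own name): involutions lie in a normal subgroup of order `2`. -/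
theorem bsqs5_inv_mem [Finite G] (hB : IsBStar G) (N : Subgroup G) [N.Normal]
    (hN : Nat.card ↥N = 2) (x : G) (hx : orderOf x = 2) : x ∈ N := by
  haveI : Fact (Nat.Prime 2) := ⟨Nat.prime_two⟩
  obtain ⟨m, hm⟩ := exists_prime_orderOf_dvd_card' (G := ↥N) 2 (by rw [hN])
  refine (Cfsg.Agent.S3909.result hB N).1 x ⟨(m : G), m.2, ?_⟩
  rw [Subgroup.orderOf_coe, hm, hx]

/-- S5 [M] (cites S1 S2). -/
theorem sylow_of_quat [Finite G] (hB : IsBStar G) (N : Subgroup G) [N.Normal]
    (hN : Nat.card ↥N = 2)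
    (hex : ∀ (P : Sylow 2 G) (k : ℕ), 2 ≤ k →
      Nonempty (↥(P : Subgroup G) ≃* QuaternionGroup (2 ^ k)) → False)
    (S : Subgroup G) (hS : Nonempty (↥S ≃* QuaternionGroup 2)) :
    Nat.card ↥S = 2 ^ (Nat.card G).factorization 2 :=
  bsqs5_core N hN (fun x hx => bsqs5_inv_mem hB N hN x hx) hex S hS

end Cfsg.Agent.Lib.Helper21.BSQ
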