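import Mathlib
import Cfsg.Agent.Lib.Helper16.SympTrans
import Cfsg.Agent.Lib.Lead.SympCount

set_option autoImplicit false

namespace Cfsg.Agent.Lib.helper15.SpProd

open Module
open Cfsg.Agent.Lib.Lead Cfsg.Agent.Lib.Helper16

variable {F : Type*} [Field F]

noncomputable def prodForm (a b : ℕ) :
    LinearMap.BilinForm F ((Fin a ⊕ Fin a → F) × (Fin b ⊕ Fin b → F)) :=
  (sympB F a).comp (LinearMap.fst F _ _) (LinearMap.fst F _ _) +
    (sympB F b).comp (LinearMap.snd F _ _) (LinearMap.snd F _ _)

theorem prodForm_apply (a b : ℕ) (v w : (Fin a ⊕ Fin a → F) × (Fin b ⊕ Fin b → F)) :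
    prodForm a b v w = sympB F a v.1 w.1 + sympB F b v.2 w.2 := by
  simp [prodForm, LinearMap.BilinForm.comp_apply]

theorem prodForm_isAlt (a b : ℕ) : (prodForm (F := F) a b).IsAlt := by
  intro v
  rw [prodForm_apply, sympB_self, sympB_self, add_zero]

theorem prodForm_nondeg (a b : ℕ) : (prodForm (F := F) a b).Nondegenerate := by
  refine ((prodForm_isAlt (F := F) a b).isRefl.nondegenerate_iff_separatingLeft).2 ?_
  intro v hv
  obtain ⟨x, y⟩ := v
  have hx : x = 0 := by
    by_contra hx
    obtain ⟨z, hz⟩ := sympB_nondeg x hx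
    have h1 := hv (z, 0)
    rw [prodForm_apply] at h1
    simp only [map_zero, add_zero] at h1
    exact hz h1
  have hy : y = 0 := by
    by_contra hy
    obtain ⟨z, hz⟩ := sympB_nondeg y hy
    have h1 := hv (0, z)
    rw [prodForm_apply] at h1
    simp only [map_zero, zero_add] at h1
    exact hz h1
  rw [hx, hy]
  rfl

noncomputable def prodAct (a b : ℕ) :
    Matrix.symplecticGroup (Fin a) F × Matrix.symplecticGroup (Fin b) F →*
      Module.End F ((Fin a ⊕ Fin a → F) × (Fin b ⊕ Fin b → F)) where
  toFun g := (spEnd F a g.1).prodMap (spEnd F b g.2)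
  map_one' := by
    rw [Prod.fst_one, Prod.snd_one, map_one, map_one]
    exact LinearMap.prodMap_one
  map_mul' := by
    intro g h
    rw [Prod.fst_mul, Prod.snd_mul, map_mul, map_mul]
    exact (LinearMap.prodMap_mul _ _ _ _).symm

theorem prodAct_apply (a b : ℕ) (g : Matrix.symplecticGroup (Fin a) F × Matrix.symplecticGroup (Fin b) F)
    (v : (Fin a ⊕ Fin a → F) × (Fin b ⊕ Fin b → F)) :
    prodAct a b g v = ((g.1 : Matrix (Fin a ⊕ Fin a) (Fin a ⊕ Fin a) F).mulVec v.1,
      (g.2 : Matrix (Fin b ⊕ Fin b) (Fin b ⊕ Fin b) F).mulVec v.2) := rfl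

theorem exists_prod_emb (a b : ℕ) :
    ∃ φ : Matrix.symplecticGroup (Fin a) F × Matrix.symplecticGroup (Fin b) F →*
      Matrix.symplecticGroup (Fin (a + b)) F, Function.Injective φ := by
  have hV : finrank F ((Fin a ⊕ Fin a → F) × (Fin b ⊕ Fin b → F)) = 2 * (a + b) := by
    rw [Module.finrank_prod, Module.finrank_fintype_fun_eq_card, Module.finrank_fintype_fun_eq_card,
      Fintype.card_sum, Fintype.card_sum, Fintype.card_fin, Fintype.card_fin]
    ring
  obtain ⟨bas, hbas⟩ := symplectic_basis hV (prodForm a b) (prodForm_isAlt a b) (prodForm_nondeg a b)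
  refine embed_of_invariant bas (prodForm a b) hbas (prodAct a b) ?_ ?_
  · intro g u v
    rw [prodForm_apply, prodForm_apply, prodAct_apply, prodAct_apply]
    rw [sympB_pres, sympB_pres]
  · intro g h hgh
    have h1 : ∀ v, prodAct a b g v = prodAct a b h v := fun v => by rw [hgh]
    apply Prod.ext
    · apply Subtype.ext
      rw [Matrix.ext_iff_mulVec]
      intro x
      have h2 := h1 (x, 0)
      rw [prodAct_apply, prodAct_apply] at h2
      exact congrArg Prod.fst h2
    · apply Subtype.ext
      rw [Matrix.ext_iff_mulVec]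
      intro x
      have h2 := h1 (0, x)
      rw [prodAct_apply, prodAct_apply] at h2
      exact congrArg Prod.snd h2

end Cfsg.Agent.Lib.helper15.SpProd
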