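import Mathlib
import Cfsg.Agent.Lib.Helper18.SDM.Defs
import Cfsg.Agent.Lib.Helper18.SDM.Defs2
import Cfsg.Agent.Lib.helper15.SDME6core
import Cfsg.Agent.Lib.Helper5.SDME1
import Cfsg.Agent.Lib.Helper21.SDME2
import Cfsg.Agent.Lib.Helper22.SDME3
import Cfsg.Agent.Lib.Helper10.SDMB3

/-!
# Project SDM (designer helper18), rows E5 (`BQ_sup_NQ`) and E6 (`BQ_eq_Sg_mul_T`), verbatim from
`Helper18/SDM/Skel.lean.txt` (helper15): the cores of `SDME6core.lean` on the landed rows E1 E2 E3 B3.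
-/

set_option autoImplicit false
set_option linter.unusedSectionVars false
set_option linter.unusedVariables false

namespace Cfsg.Agent.Lib.Helper18.QBN

open Cfsg.Agent.Lib.helper14.UBN QuadraticMap

universe u v

variable {F : Type u} [Field F] {W : Type v} [AddCommGroup W] [Module F W] {n : ℕ}

/-- [ROW E5] -/
theorem BQ_sup_NQ (hn : Even n) (Q₀ : QuadraticForm F W) (hQ₀ : ∀ w : W, Q₀ w = 0 → w = 0) :
    BQ n Q₀ ⊔ NQ n Q₀ = ⊤ :=
  sdme5_core hn Q₀ (fun j hj a ha g hg => diag_step_perm hn Q₀ hQ₀ j hj a ha g hg)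
    (fun j hj a ha g hg hne => diag_step_col hn Q₀ j hj a ha g hg hne)
    (fun j hj a ha g hg hc => diag_step_row hn Q₀ j hj a ha g hg hc)
    (fun h hh => SgSet_subset_BQ hn Q₀ h hh) (fun g => mem_TQ_iff hn g)

/-- [ROW E6] `B = ⟨positive Siegel elements⟩ T` -/
theorem BQ_eq_Sg_mul_T (hn : Even n) (Q₀ : QuadraticForm F W) (b : GQ n Q₀) (hb : b ∈ BQ n Q₀) :
    ∃ u ∈ Subgroup.closure (SgSet hn Q₀), ∃ t ∈ TQ n Q₀, b = u * t :=
  sdme6_core hn Q₀ (fun j hj a ha g hg hc => diag_step_row hn Q₀ j hj a ha g hg hc)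
    (fun h hh => SgSet_subset_BQ hn Q₀ h hh) (fun g => mem_TQ_iff hn g) b hb

end Cfsg.Agent.Lib.Helper18.QBN
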