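import Mathlib
import Cfsg.Agent.Lib.helper17.SLP.Defs
import Cfsg.Agent.Lib.helper3.SP4.Defs
import Cfsg.Agent.Lib.Helper22.SU4.Defs
import Cfsg.Prelude.Def_Classical
import Cfsg.Agent.Lib.Helper9.SP4P2

/-!
# Project SU4 (helper22), row P3 (helper15): `ev6_wordsT6`, verbatim.  Model: `Helper9.SP4P2`.
-/

set_option autoImplicit false

namespace Cfsg.Agent.Lib.Helper22.SU4

open Cfsg.Agent.Lib.helper17.SLP Cfsg.Agent.Lib.helper3.SP4

universe u v

section aux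

variable {G : Type*} {H : Type*} [Group G] [Group H]

theorem su4p3_map_relT2 (φ : G →* H) (ua hb za : G) :
    φ (relT2 ua hb za) = relT2 (φ ua) (φ hb) (φ za) := by
  simp only [relT2, map_mul, map_inv]

theorem su4p3_map_relT3 (φ : G →* H) (ha ub zb : G) :
    φ (relT3 ha ub zb) = relT3 (φ ha) (φ ub) (φ zb) := by
  simp only [relT3, map_mul, map_inv]

theorem su4p3_map_relT4 (φ : G →* H) (ha wa hb : G) (e : ℕ) :
    φ (relT4 ha wa hb e) = relT4 (φ ha) (φ wa) (φ hb) e := by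
  simp only [relT4, map_mul, map_inv, map_pow]

theorem su4p3_map_relT5 (φ : G →* H) (ha hb wb : G) :
    φ (relT5 ha hb wb) = relT5 (φ ha) (φ hb) (φ wb) := by
  simp only [relT5, map_mul, map_inv]

theorem su4p3_map_relT10b (φ : G →* H) (ua wa wb z z' : G) :
    φ (relT10b ua wa wb z z') = relT10b (φ ua) (φ wa) (φ wb) (φ z) (φ z') := by
  simp only [relT10b, map_cm, map_mul, map_inv]

end aux

/-- P3 [S-M] -/
theorem ev6_wordsT6 {G : Type*} [Group G] (ua ha wa ub hb wb : G) (za zc zb zd : FreeGroup (Fin 6)) (e : ℕ) :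
    (∀ r ∈ wordsT6 za zc zb zd e, ev6 ua ha wa ub hb wb r = 1) ↔
      (relS1 ha hb = 1 ∧ relT2 ua hb (ev6 ua ha wa ub hb wb za) = 1 ∧
        relT3 ha ub (ev6 ua ha wa ub hb wb zb) = 1 ∧ relT4 ha wa hb e = 1 ∧ relT5 ha hb wb = 1 ∧
        relS6 wa wb = 1 ∧ relS7 ua wa wb = 1 ∧ relS8 wa ub wb = 1 ∧ relS9 ua wa ub wb = 1 ∧
        relS10 ua wa ub wb = 1 ∧
        relT10b ua wa wb (ev6 ua ha wa ub hb wb zc) (ev6 ua ha wa ub hb wb zd) = 1 ∧
        relS11 ua wa ub = 1 ∧ relS12 wa ub = 1) := by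
  simp only [wordsT6, List.forall_mem_cons, List.not_mem_nil, IsEmpty.forall_iff, implies_true,
    and_true, sp4p3_map_relS1, su4p3_map_relT2, su4p3_map_relT3, su4p3_map_relT4,
    su4p3_map_relT5, sp4p3_map_relS6, sp4p3_map_relS7, sp4p3_map_relS8, sp4p3_map_relS9,
    sp4p3_map_relS10, su4p3_map_relT10b, sp4p3_map_relS11, sp4p3_map_relS12, sp4p3_ev6_pUa, sp4p3_ev6_pHa,
    sp4p3_ev6_pWa, sp4p3_ev6_pUb, sp4p3_ev6_pHb, sp4p3_ev6_pWb]

end Cfsg.Agent.Lib.Helper22.SU4
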