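import Mathlib
import Cfsg.Agent.Lib.helper17.SLP.Defs
import Cfsg.Agent.Lib.helper3.SP4.Defs
import Cfsg.Agent.Lib.Helper22.SU4.Defs
import Cfsg.Prelude.Def_Classical
import Cfsg.Agent.Lib.Helper9.SP4H1
import Cfsg.Agent.Lib.Helper9.SP4P2
import Cfsg.Agent.Lib.helper6.SLPM4
import Cfsg.Agent.Lib.Helper22.SP4FIN4core
import Cfsg.Agent.Lib.helper15.SU4P3

/-!
# Project SU4 (helper22), row FIN4 (helper15), core: `wordsT_M` with the statements of M4 (`hypT_M`), M5 (`closure_SUJ`)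
and P4 (`hypT_iff_rel`, at `rhoAT D`, `rhoBT D`) as hypotheses.  Model: `Helper22.SP4FIN4core`.
-/

set_option autoImplicit false

namespace Cfsg.Agent.Lib.Helper22.SU4

open Cfsg.Agent.Lib.helper17.SLP Cfsg.Agent.Lib.helper3.SP4

universe u v

section FIN

variable {F : Type u} {K : Type u} [Field F] [Field K] [Fintype F] [Fintype K]

/-- FIN4 core.  `hM4` = `hypT_M D ζ ζ₀ hn`; `hM5` = `closure_SUJ D hFK`; `hP4` = `hypT_iff_rel D ζ ζ₀ e he (rhoAT D) (rhoBT D)`. -/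
theorem su4fin4_core (D : Tw F K) (ζ : Fˣ)
    (hζ : ∀ y : Fˣ, y ∈ Subgroup.zpowers ζ) (ζ₀ : Kˣ) (hζ₀ : ∀ y : Kˣ, y ∈ Subgroup.zpowers ζ₀)
    (e : ℕ)
    (hM4 : HypT D ζ ζ₀ (rhoAT D) (rhoBT D))
    (hM5 : Subgroup.closure (Set.range (rhoAT D) ∪ Set.range (rhoBT D)) = ⊤)
    (hP4 : HypT D ζ ζ₀ (rhoAT D) (rhoBT D) ↔
      (relS1 (rh (rhoAT D) ζ) (rh (rhoBT D) ζ₀) = 1 ∧
        relT2 (rx (rhoAT D) 1) (rh (rhoBT D) ζ₀) (rx (rhoAT D) (D.ι (ζ₀ : K))) = 1 ∧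
        relT3 (rh (rhoAT D) ζ) (rx (rhoBT D) 1) (rx (rhoBT D) (ζ₀ : K)) = 1 ∧
        relT4 (rh (rhoAT D) ζ) (rn (rhoAT D)) (rh (rhoBT D) ζ₀) e = 1 ∧
        relT5 (rh (rhoAT D) ζ) (rh (rhoBT D) ζ₀) (rn (rhoBT D)) = 1 ∧ relS6 (rn (rhoAT D)) (rn (rhoBT D)) = 1 ∧
        relS7 (rx (rhoAT D) 1) (rn (rhoAT D)) (rn (rhoBT D)) = 1 ∧
        relS8 (rn (rhoAT D)) (rx (rhoBT D) 1) (rn (rhoBT D)) = 1 ∧
        relS9 (rx (rhoAT D) 1) (rn (rhoAT D)) (rx (rhoBT D) 1) (rn (rhoBT D)) = 1 ∧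
        relS10 (rx (rhoAT D) 1) (rn (rhoAT D)) (rx (rhoBT D) 1) (rn (rhoBT D)) = 1 ∧
        relT10b (rx (rhoAT D) 1) (rn (rhoAT D)) (rn (rhoBT D)) (rx (rhoAT D) (ζ : F))
          (rx (rhoBT D) (D.tr (ζ : F))) = 1 ∧
        relS11 (rx (rhoAT D) 1) (rn (rhoAT D)) (rx (rhoBT D) 1) = 1 ∧
        relS12 (rn (rhoAT D)) (rx (rhoBT D) 1) = 1))
    (LA LB : List (FreeGroup (Fin 3))) (za zc zb zd : FreeGroup (Fin 3))
    (hLArel : ∀ r ∈ LA, ev (xM (1 : F)) (hM ζ) wM r = 1) (hLBrel : ∀ r ∈ LB, ev (xM (1 : K)) (hM ζ₀) wM r = 1)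
    (hza : ev (xM (1 : F)) (hM ζ) wM za = xM (D.ι (ζ₀ : K))) (hzc : ev (xM (1 : F)) (hM ζ) wM zc = xM (ζ : F))
    (hzb : ev (xM (1 : K)) (hM ζ₀) wM zb = xM (ζ₀ : K))
    (hzd : ev (xM (1 : K)) (hM ζ₀) wM zd = xM (D.tr (ζ : F))) :
    (∀ r ∈ LA.map inA ++ LB.map inB ++ wordsT6 (inA za) (inA zc) (inB zb) (inB zd) e,
        ev6 (rhoAT D (xM (1 : F))) (rhoAT D (hM ζ)) (rhoAT D wM) (rhoBT D (xM (1 : K))) (rhoBT D (hM ζ₀))
          (rhoBT D wM) r = 1) ∧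
      Subgroup.closure {rhoAT D (xM (1 : F)), rhoAT D (hM ζ), rhoAT D wM, rhoBT D (xM (1 : K)),
        rhoBT D (hM ζ₀), rhoBT D wM} = ⊤ := by
  refine ⟨?_, ?_⟩
  · intro r hr
    rw [List.mem_append, List.mem_append] at hr
    rcases hr with (hr | hr) | hr
    · obtain ⟨r0, hr0, rfl⟩ := List.mem_map.1 hr
      rw [ev6_inA, ← ev_map, hLArel r0 hr0, map_one]
    · obtain ⟨r0, hr0, rfl⟩ := List.mem_map.1 hr
      rw [ev6_inB, ← ev_map, hLBrel r0 hr0, map_one]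
    · have h1 : ev6 (rhoAT D (xM (1 : F))) (rhoAT D (hM ζ)) (rhoAT D wM) (rhoBT D (xM (1 : K)))
          (rhoBT D (hM ζ₀)) (rhoBT D wM) (inA za) = rx (rhoAT D) (D.ι (ζ₀ : K)) := by
        rw [ev6_inA, ← ev_map, hza]
        rfl
      have h2 : ev6 (rhoAT D (xM (1 : F))) (rhoAT D (hM ζ)) (rhoAT D wM) (rhoBT D (xM (1 : K)))
          (rhoBT D (hM ζ₀)) (rhoBT D wM) (inA zc) = rx (rhoAT D) (ζ : F) := by
        rw [ev6_inA, ← ev_map, hzc]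
        rfl
      have h3 : ev6 (rhoAT D (xM (1 : F))) (rhoAT D (hM ζ)) (rhoAT D wM) (rhoBT D (xM (1 : K)))
          (rhoBT D (hM ζ₀)) (rhoBT D wM) (inB zb) = rx (rhoBT D) (ζ₀ : K) := by
        rw [ev6_inB, ← ev_map, hzb]
        rfl
      have h4 : ev6 (rhoAT D (xM (1 : F))) (rhoAT D (hM ζ)) (rhoAT D wM) (rhoBT D (xM (1 : K)))
          (rhoBT D (hM ζ₀)) (rhoBT D wM) (inB zd) = rx (rhoBT D) (D.tr (ζ : F)) := by
        rw [ev6_inB, ← ev_map, hzd]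
        rfl
      refine (ev6_wordsT6 _ _ _ _ _ _ (inA za) (inA zc) (inB zb) (inB zd) e).2 ?_ r hr
      rw [h1, h2, h3, h4]
      exact hP4.1 hM4
  · rw [eq_top_iff, ← hM5, Subgroup.closure_le]
    apply Set.union_subset
    · apply sp4fin4_range_le ζ hζ
      · exact Subgroup.subset_closure (by simp)
      · exact Subgroup.subset_closure (by simp)
      · exact Subgroup.subset_closure (by simp)
    · apply sp4fin4_range_le ζ₀ hζ₀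
      · exact Subgroup.subset_closure (by simp)
      · exact Subgroup.subset_closure (by simp)
      · exact Subgroup.subset_closure (by simp)

end FIN

end Cfsg.Agent.Lib.Helper22.SU4
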