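import Mathlib
import Cfsg.Agent.Lib.helper15.SU4FIN4core
import Cfsg.Agent.Lib.Helper13.SU4M4
import Cfsg.Agent.Lib.Helper21.SU4.M5
import Cfsg.Agent.Lib.helper8.SU4P4

/-!
# Project SU4 (designer helper22), row FIN4 (`wordsT_M`), VERBATIM vs `Helper22/SU4/Skel.lean.txt`
(= `su4fin4_core` fed with M4 `hypT_M`, M5 `closure_SUJ`, P4 `hypT_iff_rel`).
-/

set_option autoImplicit false

namespace Cfsg.Agent.Lib.Helper22.SU4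

open Cfsg.Agent.Lib.helper17.SLP Cfsg.Agent.Lib.helper3.SP4

universe u v

section FIN

variable {F : Type u} {K : Type u} [Field F] [Field K] [Fintype F] [Fintype K]

/-- FIN4 [M]  deps M4 M5 P3 P4 + SP4 `ev_map ev6_inA ev6_inB` + `closure_M`.  Model SP4 FIN4 `words_M` (`Helper22.SP4FIN4core`). -/
theorem wordsT_M (D : Tw F K) (hFK : Fintype.card F = Fintype.card K ^ 2) (ζ : Fˣ)
    (hζ : ∀ y : Fˣ, y ∈ Subgroup.zpowers ζ) (ζ₀ : Kˣ) (hζ₀ : ∀ y : Kˣ, y ∈ Subgroup.zpowers ζ₀)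
    (hn : D.nmu ζ = ζ₀) (e : ℕ) (he : D.ιu ζ₀ = ζ ^ e)
    (LA LB : List (FreeGroup (Fin 3))) (za zc zb zd : FreeGroup (Fin 3))
    (hLArel : ∀ r ∈ LA, ev (xM (1 : F)) (hM ζ) wM r = 1) (hLBrel : ∀ r ∈ LB, ev (xM (1 : K)) (hM ζ₀) wM r = 1)
    (hza : ev (xM (1 : F)) (hM ζ) wM za = xM (D.ι (ζ₀ : K))) (hzc : ev (xM (1 : F)) (hM ζ) wM zc = xM (ζ : F))
    (hzb : ev (xM (1 : K)) (hM ζ₀) wM zb = xM (ζ₀ : K))
    (hzd : ev (xM (1 : K)) (hM ζ₀) wM zd = xM (D.tr (ζ : F))) :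
    (∀ r ∈ LA.map inA ++ LB.map inB ++ wordsT6 (inA za) (inA zc) (inB zb) (inB zd) e,
        ev6 (rhoAT D (xM (1 : F))) (rhoAT D (hM ζ)) (rhoAT D wM) (rhoBT D (xM (1 : K))) (rhoBT D (hM ζ₀))
          (rhoBT D wM) r = 1) ∧
      Subgroup.closure {rhoAT D (xM (1 : F)), rhoAT D (hM ζ), rhoAT D wM, rhoBT D (xM (1 : K)),
        rhoBT D (hM ζ₀), rhoBT D wM} = ⊤ :=
  su4fin4_core D ζ hζ ζ₀ hζ₀ e (hypT_M D ζ ζ₀ hn) (closure_SUJ D hFK)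
    (hypT_iff_rel D ζ ζ₀ e he (rhoAT D) (rhoBT D)) LA LB za zc zb zd hLArel hLBrel hza hzc hzb hzd

end FIN

end Cfsg.Agent.Lib.Helper22.SU4
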