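import Mathlib
import Cfsg.Agent.Lib.helper3.BSZ.Defs

set_option autoImplicit false

/-!
# Project BSZ (S5737, designer helper3), row W11 (`twogroup_case`): the core, on the statements of the cited rows
A03 (`binary_conj`), B01 (`sylCen_iff`), C07 (`f20_case`), W09 (`lemW_case`), W10 (`invol_le_zs`).
-/

namespace Cfsg.Agent.Lib.helper3.BSZ

open Cfsg Cfsg.Agent.Lib.helper3

variable {F : Type*} [Field F] [Fintype F] {m : ℕ}

theorem bszw11_core (hF : Fintype.card F = 2 ^ (2 * m + 1)) (hm : 1 ≤ m) (H : Subgroup (Sz F m))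
    (h2 : IsPGroup 2 H) (hB : BinH H)
    (h_A03 : ∀ (K : Subgroup (Sz F m)) (g : Sz F m), BinH K ↔ BinH (cj K g))
    (h_B01 : ∀ K : Subgroup (Sz F m), IsSylCen K ↔ ∃ x : Sz F m, K = cj (Zs hF) x)
    (h_C07 : ∀ (P : Sylow 2 (Sz F m)) (K : Subgroup (Sz F m)), K ≤ (P : Subgroup (Sz F m)) →
      ∀ f : Sz F m, f ∈ K → f * f ≠ 1 → ¬ BinH K)
    (h_W09 : ∀ K : Subgroup (Sz F m), K ≤ Zs hF → K ≠ ⊥ → K ≠ Zs hF → ¬ BinH K)
    (h_W10 : ∀ (P : Sylow 2 (Sz F m)) (K : Subgroup (Sz F m)), K ≤ (P : Subgroup (Sz F m)) →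
      (∀ f ∈ K, f * f = 1) → ∃ x : Sz F m, K ≤ cj (Zs hF) x) :
    H = ⊥ ∨ IsSylCen H := by
  obtain ⟨P, hP⟩ := h2.exists_le_sylow
  by_cases hsq : ∀ f ∈ H, f * f = 1
  · obtain ⟨x, hx⟩ := h_W10 P H hP hsq
    have hback : cj (cj H x⁻¹) x = H := by
      show ((H.map (MulAut.conj x⁻¹).toMonoidHom).map (MulAut.conj x).toMonoidHom) = H
      rw [map_conj_map_conj, mul_inv_cancel]
      ext g
      simp
    have hle : cj H x⁻¹ ≤ Zs hF := by
      intro g hg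
      have h1 : x⁻¹⁻¹ * g * x⁻¹ ∈ H := (mem_map_conj_iff H x⁻¹ g).mp hg
      have h3 := (mem_map_conj_iff (Zs hF) x _).mp (hx h1)
      have e : x⁻¹ * (x⁻¹⁻¹ * g * x⁻¹) * x = g := by group
      rwa [e] at h3
    have hB' : BinH (cj H x⁻¹) := (h_A03 H x⁻¹).mp hB
    by_cases h0 : cj H x⁻¹ = ⊥
    · left
      rw [← hback, h0]
      exact Subgroup.map_bot _
    · by_cases h1 : cj H x⁻¹ = Zs hF
      · right
        rw [h_B01]
        exact ⟨x, by rw [← h1, hback]⟩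
      · exact absurd hB' (h_W09 _ hle h0 h1)
  · push Not at hsq
    obtain ⟨f, hf, hff⟩ := hsq
    exact absurd hB (h_C07 P H hP f hf hff)

end Cfsg.Agent.Lib.helper3.BSZ
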