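import Mathlib
import Cfsg.Agent.Lib.helper3.BSZ.Defs
import Cfsg.Agent.Lib.helper15.BSZW11core
import Cfsg.Agent.Lib.helper17.BSZA03
import Cfsg.Agent.Lib.Helper5.BSZB01
import Cfsg.Agent.Lib.helper6.BSZC07core
import Cfsg.Agent.Lib.helper4.BSZC04
import Cfsg.Agent.Lib.helper8.BSZC06
import Cfsg.Agent.Lib.helper6.BSZW09
import Cfsg.Agent.Lib.helper17.BSZW10

set_option autoImplicit false

/-!
# Project BSZ (S5737, designer helper3), row W11 (`twogroup_case`), verbatim (wrapper of `bszw11_core`;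
C07 enters through helper6's `bszc07_core` fed with the landed C04 `f20_all` and C06 `sylow_ti_fpf`, so this
file does not wait for the verbatim `f20_case`).
-/

namespace Cfsg.Agent.Lib.helper3.BSZ

open Cfsg Cfsg.Agent.Lib.helper3

variable {F : Type*} [Field F] [Fintype F] {m : ℕ}

/-- W11 [M] (cites A03, B01, C07, W09, W10): `H ≤ P` for a Sylow `P` (`IsPGroup.exists_le_sylow`).  If some `f ∈ H` has `f * f ≠ 1`: C07.  Else W10: `H ≤ cj Zs x`; `H' := cj H x⁻¹ ≤ Zs` is binary (A03);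
`H' = ⊥` gives `H = ⊥`; `H' = Zs` gives `H = cj Zs x` (B01); else W09. -/
theorem twogroup_case (hF : Fintype.card F = 2 ^ (2 * m + 1)) (hm : 1 ≤ m) (H : Subgroup (Sz F m))
    (h2 : IsPGroup 2 H) (hB : BinH H) : H = ⊥ ∨ IsSylCen H :=
  bszw11_core hF hm H h2 hB (fun K g => binary_conj K g) (fun K => sylCen_iff hF hm K)
    (fun P K hK f hf hff => bszc07_core hF hm (fun h2 h4 => f20_all hF hm h2 h4)
      (fun P _ _ hy hk hk' => sylow_ti_fpf hF hm P hy hk hk') P K hK hf hff)
    (fun K hK h0 h1 => lemW_case hF hm K hK h0 h1)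
    (fun P K hK hsq => invol_le_zs hF hm P K hK hsq)

end Cfsg.Agent.Lib.helper3.BSZ
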