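import Cfsg.Agent.Lib.helper7.TO.Basic
import Cfsg.Agent.Lib.helper4.TPNS

/-!
# Project TO (S5704), piece STABB, part (a): helper lemmas

General-vector formulas for `1 ⊗ s_m` (`s_m y = y + f₂(y,m) w + f₂(y,w) m`), for the elements of the shape
`IsHB h 1 1 (c • 1) w n`, contractions after `α ⊗ 1`, and a hyperbolic pair inside `w^⊥`.
-/

set_option autoImplicit false
set_option linter.unusedVariables false
set_option linter.unusedSectionVars false

namespace Cfsg.Agent.Lib.helper7.TO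

open Matrix Cfsg.Agent.Lib.helper7.TP Cfsg.Agent.Lib.Helper28.SympAbs
open scoped Kronecker

variable {a b : ℕ} {F : Type*} [Field F]

/-- contraction after `α ⊗ 1`. -/
theorem tostabb_ctr_kronA (α : Matrix (Fin a) (Fin a) F) (ψ : Fin b → F) (v : Fin a × Fin b → F) :
    ctr ψ ((α ⊗ₖ (1 : Matrix (Fin b) (Fin b) F)) *ᵥ v) = α *ᵥ ctr ψ v := by
  have key : (tpns_ctrL (a := a) ψ).comp (Matrix.toLin' (α ⊗ₖ (1 : Matrix (Fin b) (Fin b) F))) =
      (Matrix.toLin' α).comp (tpns_ctrL (a := a) ψ) := by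
    apply lin_ext_ten
    intro u w
    show ctr ψ ((α ⊗ₖ (1 : Matrix (Fin b) (Fin b) F)) *ᵥ ten u w) = α *ᵥ ctr ψ (ten u w)
    rw [kron_mulVec_ten, Matrix.one_mulVec, ctr_ten, ctr_ten, Matrix.mulVec_smul]
  exact LinearMap.congr_fun key v

namespace Ctx

variable (C : Ctx a b F)

theorem tostabb_fl₂_add (w m : Fin b → F) : C.fl₂ (w + m) = C.fl₂ w + C.fl₂ m := by
  funext i
  simp only [fl₂, rho, Pi.add_apply]
  exact C.hf₂.bilinear.add_right _ _ _

/-- the element `s_m` of `Sp(B)`: `y ↦ y + f₂(y,m) w + f₂(y,w) m` (for `m ⊥ w`). -/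
noncomputable def tostabb_sm (w m : Fin b → F) : Matrix.GeneralLinearGroup (Fin b) F :=
  tvg C.hf₂ (w + m) 1 * tvg C.hf₂ w (-1) * tvg C.hf₂ m (-1)

theorem tostabb_sm_mem (w m : Fin b → F) : C.tostabb_sm w m ∈ TT C.f₂ :=
  Subgroup.mul_mem _ (Subgroup.mul_mem _ (tvg_mem_TT C.hf₂ _ _) (tvg_mem_TT C.hf₂ _ _))
    (tvg_mem_TT C.hf₂ _ _)

theorem tostabb_sm_mulVec (w m : Fin b → F) (hm : C.f₂ m w = 0) (y : Fin b → F) :
    ((C.tostabb_sm w m : Matrix.GeneralLinearGroup (Fin b) F) : Matrix (Fin b) (Fin b) F) *ᵥ y =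
      y + C.f₂ y m • w + C.f₂ y w • m := by
  have hwm : C.f₂ w m = 0 := by rw [C.hf₂.skew, hm, neg_zero]
  rw [tostabb_sm, Units.val_mul, Units.val_mul, tvg_coe, tvg_coe, tvg_coe, ← Matrix.mulVec_mulVec,
    ← Matrix.mulVec_mulVec, tvm_mulVec C.hf₂, tvm_mulVec C.hf₂, tvm_mulVec C.hf₂]
  have e1 : C.f₂ (y + (-1 * C.f₂ y m) • m) w = C.f₂ y w := by
    rw [C.hf₂.bilinear.add_left, C.hf₂.bilinear.smul_left, hm, mul_zero, add_zero]
  have e2 : C.f₂ (y + (-1 * C.f₂ y m) • m) m = C.f₂ y m := by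
    rw [C.hf₂.bilinear.add_left, C.hf₂.bilinear.smul_left, C.hf₂.alternating, mul_zero, add_zero]
  have e3 : C.f₂ (y + (-1 * C.f₂ y m) • m + (-1 * C.f₂ y w) • w) (w + m) = C.f₂ y w + C.f₂ y m := by
    rw [C.hf₂.bilinear.add_right, C.hf₂.bilinear.add_left, C.hf₂.bilinear.add_left (y + _),
      C.hf₂.bilinear.smul_left, C.hf₂.bilinear.smul_left, e1, e2, C.hf₂.alternating, hwm, mul_zero,
      add_zero, add_zero]
  rw [e1, e3]
  module

/-- `1 ⊗ s_m` on a general vector. -/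
theorem tostabb_kB_sm_mulVec (w m : Fin b → F) (hm : C.f₂ m w = 0) (v : Fin a × Fin b → F) :
    ((kB a b F (C.tostabb_sm w m) : Matrix.GeneralLinearGroup (Fin a × Fin b) F) :
      Matrix (Fin a × Fin b) (Fin a × Fin b) F) *ᵥ v =
      v + ten (ctr (C.fl₂ m) v) w + ten (ctr (C.fl₂ w) v) m := by
  have key : ((kB a b F (C.tostabb_sm w m) : Matrix.GeneralLinearGroup (Fin a × Fin b) F) :
      Matrix (Fin a × Fin b) (Fin a × Fin b) F) =
      ELm (1 : Matrix (Fin a) (Fin a) F) w (C.fl₂ m) + ELm (1 : Matrix (Fin a) (Fin a) F) m (C.fl₂ w)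
        - 1 := by
    apply mat_ext_ten
    intro x y
    rw [kB_mulVec_ten, C.tostabb_sm_mulVec w m hm, Matrix.sub_mulVec, Matrix.add_mulVec, ELm_mulVec,
      ELm_mulVec, Matrix.one_mulVec, Matrix.one_mulVec, Matrix.one_mulVec, C.ctr_fl₂_ten,
      C.ctr_fl₂_ten, ten_add_right, ten_add_right, ten_smul_right, ten_smul_right, ten_smul_left,
      ten_smul_left]
    abel
  rw [key, Matrix.sub_mulVec, Matrix.add_mulVec, ELm_mulVec, ELm_mulVec, Matrix.one_mulVec,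
    Matrix.one_mulVec, Matrix.one_mulVec]
  abel

/-- an element of the shape `IsHB h 1 1 (c • 1) w n` on a general vector. -/
theorem tostabb_HB_mulVec (h : Matrix.GeneralLinearGroup (Fin a × Fin b) F) (w n : Fin b → F) (c : F)
    (hh : C.IsHB h 1 1 (c • (1 : Matrix (Fin a) (Fin a) F)) w n) (v : Fin a × Fin b → F) :
    (h : Matrix (Fin a × Fin b) (Fin a × Fin b) F) *ᵥ v =
      v + ten (ctr (C.fl₂ n) v) w + ten (ctr (C.fl₂ w) v) n + c • ten (ctr (C.fl₂ w) v) w := by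
  have key : (h : Matrix (Fin a × Fin b) (Fin a × Fin b) F) =
      ELm (1 : Matrix (Fin a) (Fin a) F) w (C.fl₂ n) + ELm (1 : Matrix (Fin a) (Fin a) F) n (C.fl₂ w)
        + ELm (c • (1 : Matrix (Fin a) (Fin a) F)) w (C.fl₂ w) - 1 - 1 := by
    apply mat_ext_ten
    intro x y
    rw [hh x y]
    simp only [Matrix.sub_mulVec, Matrix.add_mulVec, ELm_mulVec, Matrix.one_mulVec,
      Matrix.smul_mulVec, C.ctr_fl₂_ten, ten_smul_left]
    module
  rw [key]
  simp only [Matrix.sub_mulVec, Matrix.add_mulVec, ELm_mulVec, Matrix.one_mulVec,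
    Matrix.smul_mulVec, ten_smul_left]
  module

/-- `τ_u(c) ⊗ 1` on a pure tensor, in the form `(τ x) ⊗ y`. -/
theorem tostabb_tvA_ten (u : Fin a → F) (c : F) (x : Fin a → F) (y : Fin b → F) :
    ((C.tvA u c : Matrix.GeneralLinearGroup (Fin a × Fin b) F) :
      Matrix (Fin a × Fin b) (Fin a × Fin b) F) *ᵥ ten x y = ten (tvm C.f₁ u c *ᵥ x) y := by
  rw [tvA_eq_kA, kA_mulVec_ten, tvg_coe]

/-- contraction after `τ_u(c) ⊗ 1`. -/
theorem tostabb_ctr_tvA (u : Fin a → F) (c : F) (ψ : Fin b → F) (v : Fin a × Fin b → F) :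
    ctr ψ (((C.tvA u c : Matrix.GeneralLinearGroup (Fin a × Fin b) F) :
      Matrix (Fin a × Fin b) (Fin a × Fin b) F) *ᵥ v) = tvm C.f₁ u c *ᵥ ctr ψ v := by
  rw [tvA_eq_kA, kA_coe, tvg_coe, tostabb_ctr_kronA]

end Ctx

end Cfsg.Agent.Lib.helper7.TO
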