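import Cfsg.Agent.Lib.helper15.TOSTABBb

/-!
# Project TO (S5704), piece STABB, part (c): the twist by `τ_u(c) ⊗ 1`, the use of ALGC, and the core theorem

`tostabb_core` = `stabB_of_ntsB` with the statement of ALGC (`alg_central` for `f₁`) as a hypothesis.
-/

set_option autoImplicit false
set_option linter.unusedVariables false
set_option linter.unusedSectionVars false

namespace Cfsg.Agent.Lib.helper7.TO

open Matrix Cfsg.Agent.Lib.helper7.TP Cfsg.Agent.Lib.Helper28.SympAbs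
open scoped Kronecker

variable {a b : ℕ} {F : Type*} [Field F]

/-- `y ↦ ten u y` as a linear map -/
def tostabb_tenR (u : Fin a → F) : (Fin b → F) →ₗ[F] (Fin a × Fin b → F) where
  toFun y := ten u y
  map_add' y y' := ten_add_right u y y'
  map_smul' c y := ten_smul_right c u y

/-- the row `i₀` of a vector of `A ⊗ B` -/
def tostabb_rowL (i₀ : Fin a) : (Fin a × Fin b → F) →ₗ[F] (Fin b → F) where
  toFun v := fun k => v (i₀, k)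
  map_add' v v' := rfl
  map_smul' c v := rfl

namespace tostabb_S

variable {C : Ctx a b F} {M : Subgroup (Matrix.GeneralLinearGroup (Fin a × Fin b) F)}
  {g : Matrix.GeneralLinearGroup (Fin a × Fin b) F} {w : Fin b → F}
  {μ : Matrix (Fin a) (Fin a) F}

/-- `μ τ_u(c) = τ_{μ u}(c κ) μ`. -/
theorem comm (S : tostabb_S C M g w μ) (κ : F)
    (hsim : ∀ x' x : Fin a → F, κ * C.f₁ (μ *ᵥ x') (μ *ᵥ x) = C.f₁ x' x) (u : Fin a → F) (c : F)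
    (x : Fin a → F) :
    μ *ᵥ (tvm C.f₁ u c *ᵥ x) = tvm C.f₁ (μ *ᵥ u) (c * κ) *ᵥ (μ *ᵥ x) := by
  rw [tvm_mulVec C.hf₁, tvm_mulVec C.hf₁, Matrix.mulVec_add, Matrix.mulVec_smul, ← hsim x u]
  congr 2
  ring

/-- Step 4: conjugating `τ_u(c) ⊗ 1` by `g`. -/
theorem twist (S : tostabb_S C M g w μ) (ws : Fin b → F) (hws : C.f₂ ws w = 1) (κ : F) (hκ : κ ≠ 0)
    (hP : ∀ x : Fin a → F,
      ctr (C.fl₂ w) ((g : Matrix (Fin a × Fin b) (Fin a × Fin b) F) *ᵥ ten x ws) = κ • (μ *ᵥ x))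
    (hsim : ∀ x' x : Fin a → F, κ * C.f₁ (μ *ᵥ x') (μ *ᵥ x) = C.f₁ x' x) (u : Fin a → F) (c : F) :
    ∃ (n_t : Fin b → F) (c_t : F), C.f₂ n_t w = 0 ∧
      ∀ (ψ : Fin b → F) (x : Fin a → F) (y : Fin b → F),
        ctr ψ ((g : Matrix (Fin a × Fin b) (Fin a × Fin b) F) *ᵥ ten (tvm C.f₁ u c *ᵥ x) y) =
          tvm C.f₁ (μ *ᵥ u) (c * κ) *ᵥ
            ctr ψ ((g : Matrix (Fin a × Fin b) (Fin a × Fin b) F) *ᵥ ten x y) +
          (ψ ⬝ᵥ w) • (tvm C.f₁ (μ *ᵥ u) (c * κ) *ᵥ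
            ctr (C.fl₂ n_t) ((g : Matrix (Fin a × Fin b) (Fin a × Fin b) F) *ᵥ ten x y) +
            c_t • (tvm C.f₁ (μ *ᵥ u) (c * κ) *ᵥ
              ctr (C.fl₂ w) ((g : Matrix (Fin a × Fin b) (Fin a × Fin b) F) *ᵥ ten x y))) +
          (ψ ⬝ᵥ n_t) • (tvm C.f₁ (μ *ᵥ u) (c * κ) *ᵥ
            ctr (C.fl₂ w) ((g : Matrix (Fin a × Fin b) (Fin a × Fin b) F) *ᵥ ten x y)) := by
  have hcomm := S.comm κ hsim u c
  have hτi : ∀ z : Fin a → F,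
      tvm C.f₁ (μ *ᵥ u) (c * κ) *ᵥ (tvm C.f₁ (μ *ᵥ u) (-(c * κ)) *ᵥ z) = z := by
    intro z
    rw [Matrix.mulVec_mulVec, tvm_mul_tvm C.hf₁, add_neg_cancel, tvm_zero, Matrix.one_mulVec]
  obtain ⟨t, ht⟩ : ∃ t : Matrix.GeneralLinearGroup (Fin a × Fin b) F, t = C.tvA u c := ⟨_, rfl⟩
  obtain ⟨t', ht'⟩ : ∃ t' : Matrix.GeneralLinearGroup (Fin a × Fin b) F,
      t' = C.tvA (μ *ᵥ u) (c * κ) := ⟨_, rfl⟩
  have htM : t ∈ M := by rw [ht]; exact S.hT (C.tvA_mem_T1 u c)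
  have ht'M : t' ∈ M := by rw [ht']; exact S.hT (C.tvA_mem_T1 _ _)
  obtain ⟨e, he⟩ : ∃ e : Matrix.GeneralLinearGroup (Fin a × Fin b) F, e = g * t * g⁻¹ * t'⁻¹ :=
    ⟨_, rfl⟩
  have heM : e ∈ M := by
    rw [he]
    exact M.mul_mem (M.mul_mem (M.mul_mem S.hg htM) (M.inv_mem S.hg)) (M.inv_mem ht'M)
  have hrel : e * (t' * g) = g * t := by rw [he]; group
  have hrelv : ∀ X : Fin a × Fin b → F,
      (e : Matrix (Fin a × Fin b) (Fin a × Fin b) F) *ᵥ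
        ((t' : Matrix (Fin a × Fin b) (Fin a × Fin b) F) *ᵥ
          ((g : Matrix (Fin a × Fin b) (Fin a × Fin b) F) *ᵥ X)) =
      (g : Matrix (Fin a × Fin b) (Fin a × Fin b) F) *ᵥ
        ((t : Matrix (Fin a × Fin b) (Fin a × Fin b) F) *ᵥ X) := by
    intro X
    have := congrArg (fun z : Matrix.GeneralLinearGroup (Fin a × Fin b) F =>
      (z : Matrix (Fin a × Fin b) (Fin a × Fin b) F) *ᵥ X) hrel
    simp only [Units.val_mul, ← Matrix.mulVec_mulVec] at this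
    exact this
  have htv : ∀ (x : Fin a → F) (y : Fin b → F),
      (t : Matrix (Fin a × Fin b) (Fin a × Fin b) F) *ᵥ ten x y = ten (tvm C.f₁ u c *ᵥ x) y := by
    intro x y
    rw [ht, C.tostabb_tvA_ten]
  have ht'v : ∀ (x : Fin a → F) (y : Fin b → F),
      (t' : Matrix (Fin a × Fin b) (Fin a × Fin b) F) *ᵥ ten x y =
        ten (tvm C.f₁ (μ *ᵥ u) (c * κ) *ᵥ x) y := by
    intro x y
    rw [ht', C.tostabb_tvA_ten]
  -- (i)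
  have h1 : ∀ x : Fin a → F,
      (e : Matrix (Fin a × Fin b) (Fin a × Fin b) F) *ᵥ ten x w = ten x w := by
    intro x
    have e1 := hrelv (ten (μ⁻¹ *ᵥ (tvm C.f₁ (μ *ᵥ u) (-(c * κ)) *ᵥ x)) w)
    rw [S.hμ, S.μ_μi, ht'v, hτi, htv, S.hμ, hcomm, S.μ_μi, hτi] at e1
    exact e1
  -- (ii)
  have h2 : ∀ n : Fin b → F, C.f₂ n w = 0 → ∀ x : Fin a → F, ∃ x' : Fin a → F,
      (e : Matrix (Fin a × Fin b) (Fin a × Fin b) F) *ᵥ ten x n = ten x n + ten x' w := by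
    intro n hn x
    obtain ⟨n₀, Z, hn₀, hS7, -⟩ := S.L1 ws hws n hn
    obtain ⟨x₁, hx₁⟩ : ∃ x₁ : Fin a → F,
        x₁ = κ⁻¹ • (μ⁻¹ *ᵥ (tvm C.f₁ (μ *ᵥ u) (-(c * κ)) *ᵥ x)) := ⟨_, rfl⟩
    have hPx₁ : κ • (μ *ᵥ x₁) = tvm C.f₁ (μ *ᵥ u) (-(c * κ)) *ᵥ x := by
      rw [hx₁, Matrix.mulVec_smul, S.μ_μi, smul_smul, mul_inv_cancel₀ hκ, one_smul]
    have hPτ : κ • (μ *ᵥ (tvm C.f₁ u c *ᵥ x₁)) = x := by
      rw [hcomm, ← Matrix.mulVec_smul, hPx₁, hτi]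
    have e1 := hrelv (ten x₁ n₀)
    rw [hS7 x₁, hP, hPx₁, Matrix.mulVec_add, ht'v, ht'v, hτi, Matrix.mulVec_add, h1, htv, hS7, hP,
      hPτ] at e1
    refine ⟨Z (tvm C.f₁ u c *ᵥ x₁) - tvm C.f₁ (μ *ᵥ u) (c * κ) *ᵥ Z x₁, ?_⟩
    rw [tpns_ten_sub_left]
    rw [← eq_sub_iff_add_eq] at e1
    rw [e1]
    abel
  obtain ⟨n_t, c_t, hnt, hHB⟩ := S.hN e heM w S.hw h1 h2
  refine ⟨n_t, c_t, hnt, ?_⟩
  intro ψ x y
  have e1 := hrelv (ten x y)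
  rw [htv] at e1
  rw [← e1, C.tostabb_HB_mulVec e w n_t c_t hHB]
  simp only [ctr_add, ctr_smul, ctr_ten]
  rw [ht', C.tostabb_ctr_tvA, C.tostabb_ctr_tvA, C.tostabb_ctr_tvA]
  module

end tostabb_S

/-- the use of ALGC. -/
theorem tostabb_algc (C : Ctx a b F)
    (hALG : ∀ Z : Matrix (Fin a) (Fin a) F,
      (∀ (u : Fin a → F) (c : F), ∃ s : F,
        Z - tvm C.f₁ u c * Z * tvm C.f₁ u (-c) = s • (1 : Matrix (Fin a) (Fin a) F)) →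
      ∃ s : F, Z = s • (1 : Matrix (Fin a) (Fin a) F))
    (μ : Matrix (Fin a) (Fin a) F) (hμd : IsUnit μ.det) (κ : F)
    (hcomm : ∀ (u : Fin a → F) (c : F) (x : Fin a → F),
      μ *ᵥ (tvm C.f₁ u c *ᵥ x) = tvm C.f₁ (μ *ᵥ u) (c * κ) *ᵥ (μ *ᵥ x))
    (E : Matrix (Fin a) (Fin a) F)
    (hE : ∀ (u : Fin a → F) (c : F), ∃ s : F, ∀ x : Fin a → F,
      E *ᵥ (tvm C.f₁ u c *ᵥ x) =
        tvm C.f₁ (μ *ᵥ u) (c * κ) *ᵥ (E *ᵥ x) + s • (μ *ᵥ (tvm C.f₁ u c *ᵥ x))) :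
    ∃ ε : F, ∀ x : Fin a → F, E *ᵥ x = ε • (μ *ᵥ x) := by
  have hμiμ : ∀ z : Fin a → F, μ⁻¹ *ᵥ (μ *ᵥ z) = z := by
    intro z
    rw [Matrix.mulVec_mulVec, Matrix.nonsing_inv_mul μ hμd, Matrix.one_mulVec]
  have hμμi : ∀ z : Fin a → F, μ *ᵥ (μ⁻¹ *ᵥ z) = z := by
    intro z
    rw [Matrix.mulVec_mulVec, Matrix.mul_nonsing_inv μ hμd, Matrix.one_mulVec]
  have hcomm' : ∀ (u : Fin a → F) (c : F) (z : Fin a → F),
      μ⁻¹ *ᵥ (tvm C.f₁ (μ *ᵥ u) (c * κ) *ᵥ z) = tvm C.f₁ u c *ᵥ (μ⁻¹ *ᵥ z) := by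
    intro u c z
    have h := hcomm u c (μ⁻¹ *ᵥ z)
    rw [hμμi] at h
    rw [← h, hμiμ]
  have hZ : ∀ (u : Fin a → F) (c : F), ∃ s : F,
      μ⁻¹ * E - tvm C.f₁ u c * (μ⁻¹ * E) * tvm C.f₁ u (-c) =
        s • (1 : Matrix (Fin a) (Fin a) F) := by
    intro u c
    obtain ⟨s, hs⟩ := hE u c
    refine ⟨s, ?_⟩
    have h1 : μ⁻¹ * E * tvm C.f₁ u c = tvm C.f₁ u c * (μ⁻¹ * E) + s • tvm C.f₁ u c := by
      rw [Matrix.ext_iff_mulVec]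
      intro x
      rw [← Matrix.mulVec_mulVec, ← Matrix.mulVec_mulVec, hs, Matrix.mulVec_add, Matrix.mulVec_smul,
        hμiμ, hcomm', Matrix.add_mulVec, ← Matrix.mulVec_mulVec, ← Matrix.mulVec_mulVec,
        Matrix.smul_mulVec]
    have h2 : tvm C.f₁ u c * tvm C.f₁ u (-c) = 1 := by
      rw [tvm_mul_tvm C.hf₁, add_neg_cancel, tvm_zero]
    have h3 : μ⁻¹ * E = (μ⁻¹ * E * tvm C.f₁ u c) * tvm C.f₁ u (-c) := by
      rw [Matrix.mul_assoc (μ⁻¹ * E), h2, Matrix.mul_one]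
    rw [h1, Matrix.add_mul, Matrix.smul_mul, h2] at h3
    rw [sub_eq_iff_eq_add']
    exact h3
  obtain ⟨ε, hε⟩ := hALG _ hZ
  refine ⟨ε, fun x => ?_⟩
  have h := congrArg (fun Z : Matrix (Fin a) (Fin a) F => μ *ᵥ (Z *ᵥ x)) hε
  simp only [← Matrix.mulVec_mulVec, hμμi, Matrix.smul_mulVec, Matrix.one_mulVec,
    Matrix.mulVec_smul] at h
  exact h

end Cfsg.Agent.Lib.helper7.TO
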