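import Mathlib
import Cfsg.Agent.Lib.Helper24.MNP.Defs
import Cfsg.Agent.Lib.Helper12.MNPT2

/-!
# Project MNP (S4395, designer helper24), row T5 (`schAct_UT`): the core, with the statements of
T3 (`card_UT`), F3 (`inv_addSubgroup`) and F7 (`half_structure`, last two parts) as hypotheses.
-/

set_option autoImplicit false

namespace Cfsg.Agent.Lib.Helper24.MNP

open scoped commutatorElement
open Cfsg.Agent.Lib.Helper24.SCH (SchAct)

universe u

section T

variable {K : Type u} [Field K] {σ : InvHom K}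

/-- powers of `alphaU`. -/
theorem mnpt5_pow (ζ : K) (hζσ : σ.s ζ * ζ = 1) (k : ℕ) (t : UT K σ) :
    ((alphaU σ ζ hζσ ^ k) t).x = ζ ^ k * t.x ∧ ((alphaU σ ζ hζσ ^ k) t).z = t.z := by
  induction k generalizing t with
  | zero => simp
  | succ k ih =>
    rw [pow_succ, MulAut.mul_apply]
    obtain ⟨h1, h2⟩ := ih (alphaU σ ζ hζσ t)
    rw [h1, h2, alphaU_x, alphaU_z]
    exact ⟨by ring, rfl⟩

/-- the image of a subgroup of `UT K σ` under `(x, z) ↦ x`, as an additive subgroup of `K`. -/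
def mnpt5_img (S : Subgroup (UT K σ)) : AddSubgroup K where
  carrier := {x | ∃ s ∈ S, s.x = x}
  zero_mem' := ⟨1, S.one_mem, rfl⟩
  add_mem' := by
    rintro _ _ ⟨s, hs, rfl⟩ ⟨s', hs', rfl⟩
    exact ⟨s * s', S.mul_mem hs hs', rfl⟩
  neg_mem' := by
    rintro _ ⟨s, hs, rfl⟩
    exact ⟨s⁻¹, S.inv_mem hs, rfl⟩

theorem mnpt5_mem_img (S : Subgroup (UT K σ)) (x : K) :
    x ∈ mnpt5_img S ↔ ∃ s ∈ S, s.x = x := Iff.rfl

/-- fixed points of `alphaU` (one direction of T4). -/
theorem mnpt5_fix (ζ : K) (hζσ : σ.s ζ * ζ = 1) (t : UT K σ) (ht : t.x = 0) :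
    alphaU σ ζ hζσ t = t := by
  ext
  · rw [alphaU_x, ht, mul_zero]
  · rfl

/-- T5 core. -/
theorem mnpt5_core [Finite K] {p q : ℕ} [Fact q.Prime] (hpq : p ≠ q) {m : ℕ}
    (ζ : K) (hζ : orderOf ζ = q) (hζσ : σ.s ζ * ζ = 1)
    (hT3 : Nat.card (UT K σ) = p ^ (3 * m))
    (hF3 : ∀ S : AddSubgroup K, (∀ x ∈ S, ζ * x ∈ S) → S = ⊥ ∨ S = ⊤)
    (hF7a : ∀ t, σ.s t = t → ∃ w, t = w + σ.s w)
    (hF7b : ∀ t, σ.s t = -t → ∃ w, t = σ.s w - w) :
    SchAct p q (UT K σ) (alphaU σ ζ hζσ) := by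
  have hq : q.Prime := Fact.out
  have hζ1 : ζ ≠ 1 := by
    intro h
    rw [h, orderOf_one] at hζ
    exact hq.one_lt.ne hζ
  refine ⟨IsPGroup.of_card hT3, hq, hpq.symm, ?_, ?_, ?_⟩
  · -- powq
    ext t
    · rw [(mnpt5_pow ζ hζσ q t).1, ← hζ, pow_orderOf_eq_one, one_mul]; rfl
    · rw [(mnpt5_pow ζ hζσ q t).2]; rfl
  · -- ne_one
    intro h1
    obtain ⟨w, hw⟩ := hF7a 1 (map_one σ.s)
    have ht : w + σ.s w = (1 : K) * σ.s 1 := by rw [map_one, mul_one]; exact hw.symm
    have := congrArg (fun a : MulAut (UT K σ) => (a (⟨1, w, ht⟩ : UT K σ)).x) h1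
    simp only [alphaU_x, MulAut.one_apply, mul_one] at this
    exact hζ1 this
  · -- min
    intro S hS hne s hs
    have hinv : ∀ x ∈ mnpt5_img S, ζ * x ∈ mnpt5_img S := by
      rintro _ ⟨s, hs, rfl⟩
      exact ⟨alphaU σ ζ hζσ s, hS s hs, rfl⟩
    rcases hF3 (mnpt5_img S) hinv with hbot | htop
    · apply mnpt5_fix
      have : s.x ∈ mnpt5_img S := ⟨s, hs, rfl⟩
      rw [hbot] at this
      exact (AddSubgroup.mem_bot).mp this
    · exfalso
      apply hne
      rw [eq_top_iff]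
      intro t _
      have hall : ∀ x : K, ∃ s ∈ S, s.x = x := by
        intro x
        have : x ∈ mnpt5_img S := by rw [htop]; exact AddSubgroup.mem_top x
        exact this
      -- elements with `x = 0` are commutators of elements of `S`
      have hker : ∀ u : UT K σ, u.x = 0 → u ∈ S := by
        intro u hu
        have huz : σ.s u.z = -u.z := by
          have := u.h
          rw [hu, zero_mul] at this
          linear_combination this
        obtain ⟨w, hw⟩ := hF7b u.z huz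
        obtain ⟨a, ha, hax⟩ := hall w
        obtain ⟨b, hb, hbx⟩ := hall 1
        have hc := comm_UT a b
        have hu' : u = ⁅a, b⁆ := by
          ext
          · rw [hc.1, hu]
          · rw [hc.2, hax, hbx, map_one, mul_one, one_mul, hw]
        rw [hu', commutatorElement_def]
        exact S.mul_mem (S.mul_mem (S.mul_mem ha hb) (S.inv_mem ha)) (S.inv_mem hb)
      obtain ⟨s', hs', hsx⟩ := hall t.x
      have h0 : (s'⁻¹ * t).x = 0 := by
        rw [UT.mul_x, UT.inv_x, hsx]; ring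
      have : t = s' * (s'⁻¹ * t) := by group
      rw [this]
      exact S.mul_mem hs' (hker _ h0)

end T

end Cfsg.Agent.Lib.Helper24.MNP
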