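import Mathlib
import Cfsg.Agent.Lib.helper23.P4S.DefsC

set_option autoImplicit false

/-! Project P4C (designer helper23), row GEOP `gsum_char` (helper15). -/

namespace Cfsg.Agent.Lib.helper23.P4S

open Matrix
open scoped Kronecker

/-- the polynomial identity `Σ_{i<p} X^i = (X - 1)^(p-1)` in characteristic `p` -/
theorem p4cgeop_poly (E : Type) [Field E] (p : ℕ) [Fact p.Prime] [CharP E p] :
    (∑ i ∈ Finset.range p, (Polynomial.X : Polynomial E) ^ i) = (Polynomial.X - 1) ^ (p - 1) := by
  have hp : p = (p - 1) + 1 := by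
    have := (Fact.out : p.Prime).one_lt
    omega
  have h1 : (∑ i ∈ Finset.range p, (Polynomial.X : Polynomial E) ^ i) * (Polynomial.X - 1) =
      Polynomial.X ^ p - 1 := geom_sum_mul _ _
  have h2 : (Polynomial.X - 1 : Polynomial E) ^ p = Polynomial.X ^ p - 1 := by
    rw [sub_pow_char, one_pow]
  have h3 : (Polynomial.X - 1 : Polynomial E) ^ p =
      (Polynomial.X - 1) ^ (p - 1) * (Polynomial.X - 1) := by
    conv_lhs => rw [hp, pow_succ]
  have hne : (Polynomial.X - 1 : Polynomial E) ≠ 0 := by
    have : (Polynomial.X - 1 : Polynomial E) = Polynomial.X - Polynomial.C 1 := by rw [map_one]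
    rw [this]
    exact Polynomial.X_sub_C_ne_zero 1
  apply mul_right_cancel₀ hne
  rw [h1, ← h2, h3]

/-- GEOP [M] -/
theorem gsum_char {E : Type} [Field E] {ι : Type} [Fintype ι] [DecidableEq ι] (p : ℕ) [Fact p.Prime] [CharP E p]
    (M : Matrix ι ι E) : gsum M p = (M - 1) ^ (p - 1) := by
  have h := congrArg (Polynomial.aeval M) (p4cgeop_poly E p)
  simp only [map_sum, map_pow, map_sub, map_one, Polynomial.aeval_X] at h
  unfold gsum
  exact h

end Cfsg.Agent.Lib.helper23.P4S
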