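import Mathlib
import Cfsg.Agent.Lib.helper23.P4S.DefsC
import Cfsg.Agent.Lib.helper15.P4CGEOP

set_option autoImplicit false

/-! Project P4C (designer helper23), row NILP `nil_order` (helper15). -/

namespace Cfsg.Agent.Lib.helper23.P4S

open Matrix
open scoped Kronecker

/-- `(M - 1)^p = M^p - 1` in characteristic `p` -/
theorem p4cnilp_sub_pow {E : Type} [Field E] {ι : Type} [Fintype ι] [DecidableEq ι] (p : ℕ) [Fact p.Prime] [CharP E p]
    (M : Matrix ι ι E) : (M - 1) ^ p = M ^ p - 1 := by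
  have h2 : (Polynomial.X - 1 : Polynomial E) ^ p = Polynomial.X ^ p - 1 := by
    rw [sub_pow_char, one_pow]
  have h := congrArg (Polynomial.aeval M) h2
  simpa only [map_pow, map_sub, map_one, Polynomial.aeval_X] using h

/-- NILP [S-M] -/
theorem nil_order {E : Type} [Field E] {ι : Type} [Fintype ι] [DecidableEq ι] [Nonempty ι] (p : ℕ) [Fact p.Prime] [CharP E p]
    (hp : 5 ≤ p) (M : Matrix ι ι E) (hM : (M - 1) ^ 3 = 0) : M ^ p = 1 ∧ gsum M p = 0 := by
  have hpow : ∀ k : ℕ, 3 ≤ k → (M - 1) ^ k = 0 := by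
    intro k hk
    obtain ⟨j, rfl⟩ : ∃ j, k = 3 + j := ⟨k - 3, by omega⟩
    rw [pow_add, hM, zero_mul]
  constructor
  · have h1 := p4cnilp_sub_pow p M
    rw [hpow p (by omega)] at h1
    exact (sub_eq_zero.mp h1.symm)
  · rw [gsum_char p M]
    exact hpow (p - 1) (by omega)

end Cfsg.Agent.Lib.helper23.P4S
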