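import Mathlib
import Cfsg.Agent.Lib.helper7.CEU.Defs
import Cfsg.Agent.Lib.Helper27.STU.Defs3
import Cfsg.Agent.Lib.Helper24.STCI1
import Cfsg.Agent.Lib.helper8.STULA1
import Cfsg.Agent.Lib.helper4.CEUG2
import Cfsg.Prelude.Def_Classical
import Cfsg.Prelude.Def_KGroupFacts

/-!
# CEU (designer helper7), row T5b `t5_torus` (helper15), VERBATIM vs `helper7/CEU/Skel1.lean.txt`: the long / half root element `xl a ξ`
and the short root element `xs a d u` have commuting lifts, by the torus trick G3 `CL_tor_s` (`helper4.CEUG2`) with the long torus element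
`hl d ξ₁ ξ₂` whose ratio `r = ξ₁.c / ξ₂.c ≠ 1` is fixed by `star`.
-/

set_option autoImplicit false

namespace Cfsg.Agent.Lib.helper7.CEU

open Cfsg.Agent.Lib.helper15.St2 Cfsg.Agent.Lib.helper7.Ce Cfsg.Agent.Lib.helper3.STC Cfsg.Agent.Lib.Helper27.STU

open Cfsg.Agent.Lib.helper7.CEC (I2 I3 I4 U2 U3)

section T

variable {F : Type*} [Field F] [StarRing F] {od : Prop} {ι : Type*} {Γ G : Type*} [Group Γ] [Group G] {S : SysU F od ι G} {σ : Γ →* G}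

/-- T5 [S-M]  `g := S.hl d ξ₁ ξ₂` scales `xs a d` by `r⁻¹` and fixes `xl a ξ`: the coefficient is `1 * (d0h r)⁻¹ = 1` by `hr0` (`Lam.act_one`); `CL_tor_s` with `w := xl a ξ`. -/
theorem t5_torus [DecidableEq ι] (h : IsCE σ) (hH : S.HH) {ξ₁ ξ₂ : Lam F od} (h1 : ξ₁.c ≠ 0) (h2 : ξ₂.c ≠ 0) (hr : ξ₁.c ≠ ξ₂.c)
    (hr0 : star (ξ₁.c / ξ₂.c) = ξ₁.c / ξ₂.c) :
    ∀ a d : ι ⊕ ι, ab a ≠ ab d → ∀ (ξ : Lam F od) (u : F), CL σ (S.xl a ξ) (S.xs a d u) := by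
  intro a d had ξ u
  have had1 : a ≠ d := fun e => had (by rw [e])
  have had2 : a ≠ ng d := fun e => had (by rw [e, ab_ng])
  have hr1 : ξ₁.c / ξ₂.c ≠ 0 := div_ne_zero h1 h2
  have hr2 : ξ₁.c / ξ₂.c ≠ 1 := fun e => hr ((div_eq_one_iff_eq h2).1 e)
  have hg := hH.2 d ξ₁ ξ₂ h1 h2
  have hda : Helper27.STU.dhl d (ξ₁.c / ξ₂.c) a = 1 := by
    unfold Helper27.STU.dhl
    rw [if_neg had1, if_neg had2]
  have hdd : Helper27.STU.dhl d (ξ₁.c / ξ₂.c) d = ξ₁.c / ξ₂.c := by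
    unfold Helper27.STU.dhl
    rw [if_pos rfl]
  have hd0 : d0h (ξ₁.c / ξ₂.c) = 1 := by
    unfold d0h
    rw [hr0]
    exact div_self hr1
  apply CL.symm
  refine CL_tor_s h had hg ?_ ?_ ?_ u
  · rw [hda, hdd, one_mul]
    intro e
    exact hr2 (inv_eq_one.1 e)
  · have := hg.2.2 a ξ
    rw [hda, hd0, inv_one, one_mul, Lam.act_one, Equiv.Perm.one_apply] at this
    exact this
  · intro u'
    exact (S.comm_ls a a d had1 had2 (ne_ng a) had1.symm ξ u').symm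

end T

end Cfsg.Agent.Lib.helper7.CEU
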