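import Mathlib
import Cfsg.Prelude.Def_AxialAlgebras
import Cfsg.Agent.Lib.Helper24.SAK.Defs
import Cfsg.Agent.Lib.Helper24.SAKE2
import Cfsg.Agent.Lib.Helper11.SAKA3
import Cfsg.Agent.Lib.helper2.SAKA1

set_option autoImplicit false

namespace Cfsg.Agent.Lib.Helper24.SAK

open Cfsg.Axial

variable {V : Type*} [AddCommGroup V] [Module ℝ V]

/-- A Majorana involution squares to the identity (as an element of the group `V ≃ₗ[ℝ] V`). -/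
theorem sake4_sq {mul : V →ₗ[ℝ] V →ₗ[ℝ] V} {B : LinearMap.BilinForm ℝ V} {μ : V ≃ₗ[ℝ] V} {a : V}
    (h : IsMajoranaPair mul B μ a) : μ * μ = 1 := by
  ext v
  simp only [LinearEquiv.mul_apply, LinearEquiv.coe_one, id_eq]
  exact mu_invol h v

theorem fin1 {mul : V →ₗ[ℝ] V →ₗ[ℝ] V} {B : LinearMap.BilinForm ℝ V} {μ₀ μ₁ : V ≃ₗ[ℝ] V} {a0 a1 : V}
    (h : Cfg mul B μ₀ μ₁ a0 a1) (hl : B a0 a1 = 1) : μ₀ * μ₁ = 1 := by
  obtain ⟨hV, h0, h1, hn0, hn1⟩ := h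
  have hEq : a0 = a1 := eq_of_form hV a0 a1 hn0 hn1 hl
  subst hEq
  have hμ : μ₀ = μ₁ := pair_unique h0 h1
  subst hμ
  exact sake4_sq h0

end Cfsg.Agent.Lib.Helper24.SAK
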