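import Mathlib
import Cfsg.Agent.Lib.helper7.SPC.Defs
import Cfsg.Agent.Lib.helper6.Symp

set_option autoImplicit false

/-!
# Project SPC, row R3 (`stdTrip_good`), helper15.
-/

namespace Cfsg.Agent.Lib.helper7.SPC

universe u

open Module

variable {F : Type u} [Field F]

/-- `toLin'` commutes with powers (local copy, avoids importing the BCG tree). -/
theorem spcr3_toLin_pow {ι : Type} [Fintype ι] [DecidableEq ι]
    (M : Matrix ι ι F) (k : ℕ) : (Matrix.toLin' M) ^ k = Matrix.toLin' (M ^ k) := by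
  induction k with
  | zero => simp [Matrix.toLin'_one]; rfl
  | succ k ih => rw [pow_succ, pow_succ, ih, Matrix.toLin'_mul]; rfl

/-- R3. -/
theorem stdTrip_good (m : ℕ) (N : Matrix (Fin m ⊕ Fin m) (Fin m ⊕ Fin m) F) (hN : SkewM m N)
    (hnil : ∃ k : ℕ, N ^ k = 0) : (stdTrip m N).Good := by
  refine ⟨?_, ?_, ?_, ?_⟩
  · show ∀ x : Fin m ⊕ Fin m → F, Cfsg.Agent.Lib.Helper13.S5955.stdB m F x x = 0
    intro x
    rw [Cfsg.Agent.Lib.Helper13.S5955.stdB_apply]
    exact Cfsg.Agent.Lib.helper6.sympForm_self m x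
  · show ∀ x : Fin m ⊕ Fin m → F,
      (∀ y : Fin m ⊕ Fin m → F, Cfsg.Agent.Lib.Helper13.S5955.stdB m F x y = 0) → x = 0
    intro x hx
    by_contra hne
    obtain ⟨y, hy⟩ := Cfsg.Agent.Lib.helper6.sympForm_nondeg m x hne
    exact hy (hx y)
  · show ∀ x y : Fin m ⊕ Fin m → F,
      Cfsg.Agent.Lib.Helper13.S5955.stdB m F (Matrix.toLin' N x) y
        = - Cfsg.Agent.Lib.Helper13.S5955.stdB m F x (Matrix.toLin' N y)
    intro x y
    rw [Cfsg.Agent.Lib.Helper13.S5955.stdB_apply, Cfsg.Agent.Lib.Helper13.S5955.stdB_apply,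
      Matrix.toLin'_apply, Matrix.toLin'_apply]
    exact hN x y
  · obtain ⟨k, hk⟩ := hnil
    refine ⟨k, ?_⟩
    show (Matrix.toLin' N) ^ k = 0
    rw [spcr3_toLin_pow, hk, map_zero]

end Cfsg.Agent.Lib.helper7.SPC
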