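import Mathlib
import Cfsg.Agent.Lib.helper7.SPC.Defs
import Cfsg.Agent.Lib.helper7.BCGTORUS
import Cfsg.Agent.Lib.helper15.SPCR3

set_option autoImplicit false

/-!
# Project SPC, row R1 (`std_realize`), helper15.
-/

namespace Cfsg.Agent.Lib.helper7.SPC

universe u

open Module

variable {F : Type u} [Field F]

/-- powers of a conjugate by a linear equivalence -/
theorem spcr1_conj_pow {V W : Type u} [AddCommGroup V] [Module F V]
    [AddCommGroup W] [Module F W] (ψ : V ≃ₗ[F] W) (T : Module.End F W) (k : ℕ) :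
    (ψ.symm.toLinearMap ∘ₗ T ∘ₗ ψ.toLinearMap : Module.End F V) ^ k =
      ψ.symm.toLinearMap ∘ₗ (T ^ k) ∘ₗ ψ.toLinearMap := by
  induction k with
  | zero =>
    apply LinearMap.ext
    intro v
    simp
  | succ k ih =>
    rw [pow_succ, ih, pow_succ]
    apply LinearMap.ext
    intro v
    simp [Module.End.mul_apply]

/-- R1. -/
theorem std_realize (T : Trip F) (hT : T.Good) (m : ℕ) (hdim : finrank F T.V = 2 * m) :
    ∃ N : Matrix (Fin m ⊕ Fin m) (Fin m ⊕ Fin m) F, SkewM m N ∧ TIso T (stdTrip m N) ∧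
      ∀ e : ℕ, T.N ^ e = 0 → N ^ e = 0 := by
  obtain ⟨e, he⟩ := Cfsg.Agent.Lib.helper7.BCGTorus.bcg7_std_basis' T.B hT.alt hT.nd m hdim
  let L : Module.End F (Fin m ⊕ Fin m → F) := e.symm.toLinearMap ∘ₗ T.N ∘ₗ e.toLinearMap
  have hL : ∀ x, L x = e.symm (T.N (e x)) := fun _ => rfl
  have hmv : ∀ x : Fin m ⊕ Fin m → F, (LinearMap.toMatrix' L).mulVec x = e.symm (T.N (e x)) := by
    intro x
    rw [← Matrix.toLin'_apply, Matrix.toLin'_toMatrix', hL]
  refine ⟨LinearMap.toMatrix' L, ?_, ?_, ?_⟩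
  · intro u v
    rw [hmv, hmv, ← he, ← he, LinearEquiv.apply_symm_apply, LinearEquiv.apply_symm_apply]
    exact hT.skew (e u) (e v)
  · refine ⟨(show T.V ≃ₗ[F] (Fin m ⊕ Fin m → F) from e.symm), ?_, ?_⟩
    · intro x y
      show Cfsg.Agent.Lib.Helper13.S5955.stdB m F (e.symm x) (e.symm y) = T.B x y
      rw [Cfsg.Agent.Lib.Helper13.S5955.stdB_apply, ← he, LinearEquiv.apply_symm_apply,
        LinearEquiv.apply_symm_apply]
    · intro x
      show e.symm (T.N x) = Matrix.toLin' (LinearMap.toMatrix' L) (e.symm x)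
      rw [Matrix.toLin'_toMatrix', hL, LinearEquiv.apply_symm_apply]
  · intro k hk
    apply Matrix.toLin'.injective
    rw [← spcr3_toLin_pow, Matrix.toLin'_toMatrix', map_zero]
    show (e.symm.toLinearMap ∘ₗ T.N ∘ₗ e.toLinearMap : Module.End F (Fin m ⊕ Fin m → F)) ^ k = 0
    rw [spcr1_conj_pow, hk]
    apply LinearMap.ext
    intro v
    simp

end Cfsg.Agent.Lib.helper7.SPC
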