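import Cfsg.Agent.Lib.helper15.SQM.Defs

set_option autoImplicit false
set_option linter.unusedSectionVars false

/-!
# Project SQM, row B3 (`sqm_fix1`), verbatim from `helper15/SQM/Skel.lean.txt`.
-/

namespace Cfsg.Agent.Lib.helper15.SQM

open Matrix Module

variable {ι : Type} [Fintype ι] [DecidableEq ι] {F : Type*} [Field F]

/-- a family of vectors paired to the Kronecker delta with another family is linearly independent -/
theorem sqmb3_li (Q : QuadraticForm F (ι → F)) {m : ℕ} (e f : Fin m → (ι → F))
    (hef : ∀ i j, QuadraticMap.polar (⇑Q) (e i) (f j) = if i = j then 1 else 0) :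
    LinearIndependent F e := by
  rw [Fintype.linearIndependent_iff]
  intro g hg j
  have h1 : QuadraticMap.polarBilin Q (∑ i, g i • e i) (f j) = 0 := by rw [hg]; simp
  rw [map_sum, LinearMap.sum_apply] at h1
  simp only [map_smul, LinearMap.smul_apply, QuadraticMap.polarBilin_apply_apply, hef, smul_eq_mul,
    mul_ite, mul_one, mul_zero, Finset.sum_ite_eq', Finset.mem_univ, if_true] at h1
  exact h1

/-- `Q` vanishes on the span of pairwise orthogonal singular vectors -/
theorem sqmb3_ts (Q : QuadraticForm F (ι → F)) {m : ℕ} (e : Fin m → (ι → F))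
    (hq : ∀ i, Q (e i) = 0) (hee : ∀ i j, QuadraticMap.polar (⇑Q) (e i) (e j) = 0) :
    ∀ w ∈ Submodule.span F (Set.range e), Q w = 0 := by
  have h1 : ∀ w ∈ Submodule.span F (Set.range e), ∀ j, QuadraticMap.polar (⇑Q) w (e j) = 0 := by
    intro w hw j
    induction hw using Submodule.span_induction with
    | mem u hu => obtain ⟨i, rfl⟩ := hu; exact hee i j
    | zero => simp
    | add u v _ _ hu hv => rw [QuadraticMap.polar_add_left, hu, hv, add_zero]
    | smul a u _ hu => rw [QuadraticMap.polar_smul_left, hu, smul_zero]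
  have h2 : ∀ w ∈ Submodule.span F (Set.range e), ∀ u ∈ Submodule.span F (Set.range e),
      QuadraticMap.polar (⇑Q) w u = 0 := by
    intro w hw u hu
    induction hu using Submodule.span_induction with
    | mem u hu => obtain ⟨i, rfl⟩ := hu; exact h1 w hw i
    | zero => simp
    | add u v _ _ hu hv => rw [QuadraticMap.polar_add_right, hu, hv, add_zero]
    | smul a u _ hu => rw [QuadraticMap.polar_smul_right, hu, smul_zero]
  intro w hw
  induction hw using Submodule.span_induction with
  | mem u hu => obtain ⟨i, rfl⟩ := hu; exact hq i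
  | zero => simp
  | add u v hu hv hu' hv' =>
    have h3 : Q (u + v) = Q u + Q v + QuadraticMap.polar (⇑Q) u v := by
      unfold QuadraticMap.polar; ring
    rw [h3, hu', hv', h2 u hu v hv]; simp
  | smul a u _ hu => rw [QuadraticMap.map_smul, hu, smul_zero]

/-- B3 [S-M]: in case 1 every `m ≤ d` is the dimension of an invariant totally singular subspace (`span (e i, i < m)`; independent by the pairing with `f`). -/
theorem sqm_fix1 (Q : QuadraticForm F (ι → F)) (x : Matrix ι ι F) (i0 : F) (d : ℕ)
    (e f : Fin d → (ι → F)) (hfr : Frame1 Q x i0 d e f) (m : ℕ) (hm : m ≤ d) :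
    ∃ W : Submodule F (ι → F), finrank F ↥W = m ∧ (∀ w ∈ W, Q w = 0) ∧
      W.map (Matrix.toLin' x) ≤ W := by
  set e' : Fin m → (ι → F) := fun i => e (Fin.castLE hm i) with he'
  set f' : Fin m → (ι → F) := fun i => f (Fin.castLE hm i) with hf'
  have hli : LinearIndependent F e' := by
    apply sqmb3_li Q e' f'
    intro i j
    simp only [he', hf', hfr.ef]
    by_cases hij : i = j
    · simp [hij]
    · have : Fin.castLE hm i ≠ Fin.castLE hm j := fun h => hij (Fin.castLE_injective hm h)
      simp [hij, this]
  refine ⟨Submodule.span F (Set.range e'), ?_, ?_, ?_⟩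
  · rw [finrank_span_eq_card hli, Fintype.card_fin]
  · exact sqmb3_ts Q e' (fun i => hfr.qe _) (fun i j => hfr.ee _ _)
  · rw [Submodule.map_span_le]
    rintro _ ⟨i, rfl⟩
    rw [Matrix.toLin'_apply, he']
    simp only
    rw [hfr.xe]
    exact Submodule.smul_mem _ _ (Submodule.subset_span ⟨i, rfl⟩)

end Cfsg.Agent.Lib.helper15.SQM
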