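import Mathlib
import Cfsg.Agent.Lib.helper15.S983Tools

/-!
# Project S983 (S0983): more generic tools (helper15)

* `s983_card_fixedBy_modEq` : `|X| ≡ fix(g) (mod q)` for a `q`-element `g`.
* `s983_mem_of_fixedBy_one` : if `z ∈ N` has exactly one fixed point on `G ⧸ N`, then `h⁻¹ z h ∈ N → h ∈ N`.
* `s983_commute_of_normalize` : `x` normalizes `S`, `s` normalizes `P`, `P ⊓ S = ⊥` → `x s = s x`.
-/

set_option autoImplicit false

namespace Cfsg.Agent.Lib.helper15.S983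

open Subgroup Cfsg.Agent.Lib.helper8 Cfsg.Agent.Lib.helper23

theorem s983_card_fixedBy_modEq {G α : Type*} [Group G] [MulAction G α] [Finite α] {q : ℕ}
    [Fact q.Prime] (g : G) (hg : IsPGroup q (zpowers g)) :
    Nat.card α ≡ Nat.card (MulAction.fixedBy α g) [MOD q] := by
  have h := hg.card_modEq_card_fixedPoints α
  have e : MulAction.fixedPoints (zpowers g) α = MulAction.fixedBy α g := by
    ext a
    constructor
    · intro ha
      exact ha ⟨g, mem_zpowers g⟩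
    · intro ha x
      obtain ⟨x, hx⟩ := x
      obtain ⟨j, rfl⟩ := mem_zpowers_iff.mp hx
      exact MulAction.mem_fixedBy_zpow ha j
  rw [e] at h
  exact h

theorem s983_mem_of_fixedBy_one {G : Type*} [Group G] (N : Subgroup G) (z : G) (hz : z ∈ N)
    (hfix : Nat.card (MulAction.fixedBy (G ⧸ N) z) = 1) (h : G) (hh : h⁻¹ * z * h ∈ N) :
    h ∈ N := by
  have h1 : ((1 : G) : G ⧸ N) ∈ MulAction.fixedBy (G ⧸ N) z := og2_base_fixed N z hz
  have h2 : ((h : G) : G ⧸ N) ∈ MulAction.fixedBy (G ⧸ N) z := by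
    rw [MulAction.mem_fixedBy, MulAction.Quotient.smul_mk, QuotientGroup.eq, smul_eq_mul]
    have : (z * h)⁻¹ * h = (h⁻¹ * z * h)⁻¹ := by group
    rw [this]; exact inv_mem hh
  have hsub : Subsingleton (MulAction.fixedBy (G ⧸ N) z) :=
    (Nat.card_eq_one_iff_unique.mp hfix).1
  have h3 : (⟨_, h1⟩ : MulAction.fixedBy (G ⧸ N) z) = ⟨_, h2⟩ := Subsingleton.elim _ _
  have h4 : ((1 : G) : G ⧸ N) = ((h : G) : G ⧸ N) := congrArg Subtype.val h3
  rw [QuotientGroup.eq] at h4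
  simpa using h4

theorem s983_commute_of_normalize {G : Type*} [Group G] (P S : Subgroup G) (hPS : P ⊓ S = ⊥)
    (x s : G) (hx : x ∈ P) (hs : s ∈ S) (hxS : x ∈ normalizer (S : Set G))
    (hsP : s ∈ normalizer (P : Set G)) : x * s = s * x := by
  have h1 : x * s * x⁻¹ ∈ S := (mem_normalizer_iff.mp hxS s).mp hs
  have h2 : s * x⁻¹ * s⁻¹ ∈ P := (mem_normalizer_iff.mp hsP x⁻¹).mp (inv_mem hx)
  have hc : x * s * x⁻¹ * s⁻¹ ∈ P ⊓ S := by
    refine Subgroup.mem_inf.mpr ⟨?_, S.mul_mem h1 (S.inv_mem hs)⟩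
    have : x * s * x⁻¹ * s⁻¹ = x * (s * x⁻¹ * s⁻¹) := by group
    rw [this]; exact P.mul_mem hx h2
  rw [hPS, mem_bot] at hc
  have : x * s = (x * s * x⁻¹ * s⁻¹) * (s * x) := by group
  rw [this, hc, one_mul]

theorem s983_inf_eq_bot_of_coprime {G : Type*} [Group G] [Finite G] (P S : Subgroup G)
    (h : Nat.Coprime (Nat.card P) (Nat.card S)) : P ⊓ S = ⊥ := by
  have h1 : Nat.card (P ⊓ S : Subgroup G) ∣ Nat.card P := card_dvd_of_le inf_le_left
  have h2 : Nat.card (P ⊓ S : Subgroup G) ∣ Nat.card S := card_dvd_of_le inf_le_right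
  have h3 : Nat.card (P ⊓ S : Subgroup G) = 1 := Nat.eq_one_of_dvd_coprimes h h1 h2
  exact Subgroup.card_eq_one.mp h3

end Cfsg.Agent.Lib.helper15.S983
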