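import Mathlib
import Cfsg.Agent.Lib.helper15.S983Tools2

/-!
# Project S983 (S0983), order row 4680 = 2^3 * 3^2 * 5 * 13 (helper15)

`n_13 = 40`, `|N(P13)| = 117`, `|C(P13)| = 39`, `z ∈ C(P13)` of order 3.  On the 40 cosets of `N = N(P13)`,
`fix(z) ≡ 1 (mod 13)`, `≡ 40 (mod 3)`, `≠ 40`: `fix(z) = 1`, so `h⁻¹ z h ∈ N → h ∈ N`.  A Sylow 3-subgroup
`S ∋ z` is abelian, so `S ≤ N` and `N_G(S) ≤ N`; `|N_G(S)| ∈ {9, 117}`: `9` is Burnside's transfer,
`117` makes `S` and `P13` normalize each other, so `S ≤ C(P13)`, `9 ∣ 39`.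
-/

set_option autoImplicit false
set_option linter.style.haveILetI false

namespace Cfsg.Agent.Lib.helper15.S983

open Subgroup Cfsg.Agent.Lib.helper8 Cfsg.Agent.Lib.helper23

theorem no_simple_4680 {G : Type*} [Group G] [Finite G] [IsSimpleGroup G]
    (hG : Nat.card G = 4680) : False := by
  haveI : Fact (Nat.Prime 13) := ⟨by norm_num⟩
  haveI : Fact (Nat.Prime 3) := ⟨by norm_num⟩
  obtain ⟨P⟩ : Nonempty (Sylow 13 G) := inferInstance
  have hG13 : Nat.card G = 13 ^ 1 * 360 := by rw [hG]; norm_num
  obtain ⟨hP, hN, hquot, r, hr, hr1, hC⟩ :=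
    og3_sylow_data 13 360 hG13 (by norm_num) (by norm_num) P
  -- `n_13 = 40`
  have hmem := h8_nsylow_mem 13 1 360 hG13 (by norm_num)
  have hn1 := h8_simple_nsylow_ne_one 13 1 360 hG13 (by norm_num) (by norm_num) (by norm_num)
  have hset : (Nat.divisors 360).filter (fun d => d % 13 = 1) = {1, 40} := by decide
  rw [hset] at hmem
  simp only [Finset.mem_insert, Finset.mem_singleton] at hmem
  have hn40 : Nat.card (Sylow 13 G) = 40 := by
    rcases hmem with h | h
    · exact absurd h hn1
    · exact h
  have hNc : Nat.card (normalizer ((P : Subgroup G) : Set G)) = 117 := by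
    rw [hn40, hG] at hN; omega
  have hCc : Nat.card (centralizer ((P : Subgroup G) : Set G)) = 39 := by
    rw [hNc] at hC
    have hr12 : r ∈ Nat.divisors 12 := Nat.mem_divisors.mpr ⟨hr, by norm_num⟩
    have hd : Nat.divisors 12 = {1, 2, 3, 4, 6, 12} := by decide
    rw [hd] at hr12
    simp only [Finset.mem_insert, Finset.mem_singleton] at hr12
    rcases hr12 with h | h | h | h | h | h <;> subst h <;> omega
  have hNtop : normalizer ((P : Subgroup G) : Set G) ≠ ⊤ := by
    intro ht
    rw [ht, Subgroup.card_top, hG] at hNc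
    omega
  -- `z` of order 3 in `C(P13)`
  obtain ⟨z', hz'⟩ := exists_prime_orderOf_dvd_card' (G := centralizer ((P : Subgroup G) : Set G)) 3
    (by rw [hCc]; norm_num)
  have hzC : (z' : G) ∈ centralizer ((P : Subgroup G) : Set G) := z'.2
  have hz3 : orderOf (z' : G) = 3 := by rw [Subgroup.orderOf_coe]; exact hz'
  set z : G := (z' : G) with hzdef
  have hzN : z ∈ normalizer ((P : Subgroup G) : Set G) := centralizer_le_normalizer _ hzC
  have hpz : IsPGroup 3 (zpowers z) :=
    IsPGroup.of_card (n := 1) (by rw [Nat.card_zpowers, hz3, pow_one])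
  -- `fix(z) = 1`
  have h13 := og2_card_fixedBy_modEq_one 13 P hP z hzC
  have h3 := s983_card_fixedBy_modEq
    (α := G ⧸ normalizer ((P : Subgroup G) : Set G)) z hpz
  rw [hquot, hn40] at h3
  have hle : Nat.card (MulAction.fixedBy (G ⧸ normalizer ((P : Subgroup G) : Set G)) z) ≤
      Nat.card (G ⧸ normalizer ((P : Subgroup G) : Set G)) :=
    Nat.card_le_card_of_injective _ Subtype.val_injective
  rw [hquot, hn40] at hle
  have hne : Nat.card (MulAction.fixedBy (G ⧸ normalizer ((P : Subgroup G) : Set G)) z) ≠ 40 := by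
    intro h40
    have := og2_eq_one_of_card_fixedBy _ hNtop z (by rw [h40, hquot, hn40])
    rw [this, orderOf_one] at hz3
    omega
  have hfix : Nat.card (MulAction.fixedBy (G ⧸ normalizer ((P : Subgroup G) : Set G)) z) = 1 := by
    unfold Nat.ModEq at h13 h3
    omega
  have key := s983_mem_of_fixedBy_one _ z hzN hfix
  -- a Sylow 3-subgroup through `z`
  obtain ⟨S, hS⟩ := hpz.exists_le_sylow
  have hG3 : Nat.card G = 3 ^ 2 * 520 := by rw [hG]; norm_num
  have hSc : Nat.card (S : Subgroup G) = 3 ^ 2 := h8_sylow_card 3 2 520 hG3 (by norm_num) S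
  have hzS : z ∈ (S : Subgroup G) := hS (mem_zpowers z)
  have hScomm := h8_comm_of_card_prime_sq 3 (S : Subgroup G) hSc
  have hSN : (S : Subgroup G) ≤ normalizer ((P : Subgroup G) : Set G) := by
    intro s hs
    apply key
    have : s⁻¹ * z * s = z := by
      rw [mul_assoc, hScomm z hzS s hs]; group
    rw [this]; exact hzN
  have hNSN : normalizer ((S : Subgroup G) : Set G) ≤ normalizer ((P : Subgroup G) : Set G) := by
    intro g hg
    apply key
    exact hSN ((mem_normalizer_iff''.mp hg z).mp hzS)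
  -- `|N_G(S)| ∈ {9, 117}`
  have hd1 : Nat.card (normalizer ((S : Subgroup G) : Set G)) ∣ 117 := by
    rw [← hNc]; exact card_dvd_of_le hNSN
  have hd2 : 9 ∣ Nat.card (normalizer ((S : Subgroup G) : Set G)) := by
    have := card_dvd_of_le (le_normalizer (H := (S : Subgroup G)))
    rw [hSc] at this
    simpa using this
  have hcases : Nat.card (normalizer ((S : Subgroup G) : Set G)) = 9 ∨
      Nat.card (normalizer ((S : Subgroup G) : Set G)) = 117 := by
    have hm : Nat.card (normalizer ((S : Subgroup G) : Set G)) ∈ Nat.divisors 117 :=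
      Nat.mem_divisors.mpr ⟨hd1, by norm_num⟩
    have hd : Nat.divisors 117 = {1, 3, 9, 13, 39, 117} := by decide
    rw [hd] at hm
    simp only [Finset.mem_insert, Finset.mem_singleton] at hm
    rcases hm with h | h | h | h | h | h <;> rw [h] at hd2 <;> first | omega | (left; exact h) | (right; exact h)
  rcases hcases with h9 | h117
  · -- `N_G(S) = S ≤ C_G(S)`
    have hEq : (S : Subgroup G) = normalizer ((S : Subgroup G) : Set G) :=
      Subgroup.eq_of_le_of_card_ge le_normalizer (by rw [h9, hSc]; norm_num)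
    apply h8_simple_not_normalizer_le_centralizer 3 2 520 hG3 (by norm_num) (by norm_num)
      (by norm_num) S
    intro g hg
    rw [← hEq] at hg
    rw [mem_centralizer_iff]
    intro s hs
    exact hScomm s hs g hg
  · -- `N_G(S) = N(P13)`
    have hEq : normalizer ((S : Subgroup G) : Set G) = normalizer ((P : Subgroup G) : Set G) :=
      Subgroup.eq_of_le_of_card_ge hNSN (by rw [h117, hNc])
    have hPS : (P : Subgroup G) ⊓ (S : Subgroup G) = ⊥ :=
      s983_inf_eq_bot_of_coprime _ _ (by rw [hP, hSc]; norm_num)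
    have hSC : (S : Subgroup G) ≤ centralizer ((P : Subgroup G) : Set G) := by
      intro s hs
      rw [mem_centralizer_iff]
      intro x hx
      have hxS : x ∈ normalizer ((S : Subgroup G) : Set G) := by
        rw [hEq]; exact le_normalizer hx
      exact s983_commute_of_normalize _ _ hPS x s hx hs hxS (hSN hs)
    have := card_dvd_of_le hSC
    rw [hSc, hCc] at this
    omega

end Cfsg.Agent.Lib.helper15.S983
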