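import Mathlib
import Cfsg.Agent.Lib.Helper19.SPD.Defs

/-!
# Project SPD (S5961), row ODNE (helper15): an orthogonal decomposition into nondegenerate `a`-spaces exists
(`Cfsg.Agent.S5960.peel` with `X = 1`, `z = 1`).
-/

set_option autoImplicit false
set_option linter.unusedVariables false
set_option linter.unusedSectionVars false

namespace Cfsg.Agent.Lib.Helper19.SPD

open Polynomial
open Cfsg.Agent.Lib.helper6 Cfsg.Agent.Lib.helper6.SB Cfsg.Agent.S5960

variable {F : Type*} [Field F] {d : ℕ}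

/-- ODNE [M]: an `IsOD` family exists. -/
theorem od_nonempty (a t : ℕ) (hat : 2 * d = a * t) (ha : 2 ≤ a) (hae : Even a) (ht : 2 ≤ t) :
    ∃ D : Fin t → Submodule F (Fin d ⊕ Fin d → F), IsOD a D := by
  obtain ⟨a', ha'⟩ := hae
  have ha'1 : 1 ≤ a' := by omega
  have htop_nd : Cfsg.Agent.S5960.ND d (⊤ : Submodule F (Fin d ⊕ Fin d → F)) := by
    intro u _ hu
    by_contra hne
    obtain ⟨v, hv⟩ := sympForm_nondeg d u hne
    exact hv (hu v trivial)
  have hdimtop : Module.finrank F (⊤ : Submodule F (Fin d ⊕ Fin d → F)) = 2 * a' * t := by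
    rw [finrank_top, Module.finrank_fintype_fun_eq_card, Fintype.card_sum, Fintype.card_fin]
    have : a * t = 2 * a' * t := by rw [ha']; ring
    omega
  obtain ⟨D, e1, e2, e3, e4, e5, e6⟩ := peel d
    (LinearMap.id : (Fin d ⊕ Fin d → F) →ₗ[F] (Fin d ⊕ Fin d → F)) (1 : F) one_ne_zero
    (fun v => by simp) (fun u v => by simp) a' ha'1 t ⊤
    (fun _ _ => trivial) htop_nd hdimtop
  have e1' : ∀ j, Module.finrank F (D j) = a := fun j => by rw [e1 j, ha']; ring
  refine ⟨D, ⟨ht, by omega, e1', e4, e5⟩, ?_, e3⟩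
  intro j u hu hu0
  by_contra hcon
  push Not at hcon
  exact hu0 (e2 j u hu hcon)

end Cfsg.Agent.Lib.Helper19.SPD
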