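import Mathlib
import Cfsg.Agent.Lib.helper17.T3.DefsC

/-!
# T3C row L3 (helper15): `Zl_cj` — conjugating the commutator lift `Zl` by an element that maps two rank one pairs
-/

set_option autoImplicit false

namespace Cfsg.Agent.Lib.helper17.T3

open Cfsg.Agent.Lib.helper15.St2 Cfsg.Agent.Lib.helper7.Ce Matrix

variable {F K : Type*} [Field F] [Field K] [Algebra F K]

variable {C : Cub F K} {G Γ : Type*} [Group G] [Group Γ]

section L

variable {S : SysT C G} {σ : Γ →* G}

/-- [L3] [S] `cj_cm` and `L.eqv` twice. -/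
theorem Zl_cj (L : ShortLift S σ) (e : Γ) (k k' : ZMod 6) {a b : K} (ha : a ≠ 0) (hb : b ≠ 0) (hk : S.MapsPair (σ e) k k' a) (hk1 : S.MapsPair (σ e) (k + 1) (k' + 1) b) (s t : K) :
    cj e (Zl L k s t) = Zl L k' (a * s) (b * t) := by
  unfold Zl
  rw [cj_cm, L.eqv e k k' a ha hk s, L.eqv e (k + 1) (k' + 1) b hb hk1 t]

end L

end Cfsg.Agent.Lib.helper17.T3
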