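import Mathlib
import Cfsg.Agent.Lib.helper17.T3.DefsC
import Cfsg.Agent.Lib.helper15.T3CL3
import Cfsg.Agent.Lib.Helper20.T3CL1
import Cfsg.Agent.Lib.Helper25.T3CT9

/-!
# T3C row L4 (helper15), core: `Zl` is `K`-balanced, on the STATEMENTS of rows A3 (`Cub.exists_nm_div_sq`) and H5 (`SysT.hs_mapsPair`) as hypotheses
-/

set_option autoImplicit false

namespace Cfsg.Agent.Lib.helper17.T3

open Cfsg.Agent.Lib.helper15.St2 Cfsg.Agent.Lib.helper7.Ce Matrix

variable {F K : Type*} [Field F] [Field K] [Algebra F K]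

variable {C : Cub F K} {G Γ : Type*} [Group G] [Group Γ]

section L

variable {S : SysT C G} {σ : Γ →* G}

/-- the lift of `xs k 0` is trivial -/
theorem t3cl4h15_X_zero (L : ShortLift S σ) (k : ZMod 6) : L.X k 0 = 1 := by
  have h0 := L.add k 0 0
  rw [add_zero] at h0
  exact mul_left_cancel (a := L.X k 0) (by rw [h0, mul_one])

/-- [L4] core: `Zl` is `K`-balanced, given the statements of rows A3 and H5. -/
theorem t3cl4h15_Zl_bal_core
    (hA3 : ∀ l : K, l ≠ 0 → ∃ u : K, u ≠ 0 ∧ algebraMap F K (C.nm u) * u⁻¹ ^ 2 = l)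
    (hH5 : ∀ (j i : ZMod 6) (u : K), u ≠ 0 → S.MapsPair (S.hs j u) (j + i) (j + i) (C.chs i u))
    (h : IsCE σ) (hT : CLT S σ) (L : ShortLift S σ) (k : ZMod 6) (l s t : K) :
    Zl L k (l * s) t = Zl L k s (l * t) := by
  by_cases hl : l = 0
  · subst hl
    rw [zero_mul, zero_mul]
    unfold Zl
    rw [t3cl4h15_X_zero, t3cl4h15_X_zero]
    unfold cm
    group
  · obtain ⟨u, hu, hul⟩ := hA3 l⁻¹ (inv_ne_zero hl)
    have e4 : k + 2 + 4 = k := by
      have : (2 : ZMod 6) + 4 = 0 := by decide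
      rw [add_assoc, this, add_zero]
    have e5 : k + 2 + 5 = k + 1 := by
      have : (2 : ZMod 6) + 5 = 1 := by decide
      rw [add_assoc, this]
    have c4 : C.chs 4 u = l := by
      have : C.chs 4 u = u ^ 2 * (algebraMap F K (C.nm u))⁻¹ := rfl
      rw [this, ← inv_inv l, ← hul, mul_inv, inv_pow, inv_inv, mul_comm]
    have c5 : C.chs 5 u = l⁻¹ := by
      have : C.chs 5 u = algebraMap F K (C.nm u) * u⁻¹ ^ 2 := rfl
      rw [this, hul]
    have hk := hH5 (k + 2) 4 u hu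
    have hk1 := hH5 (k + 2) 5 u hu
    rw [e4, c4] at hk
    rw [e5, c5] at hk1
    have key : ∀ s' t' : K, Zl L k s' t' = Zl L k (l * s') (l⁻¹ * t') := by
      intro s' t'
      have hcj := Zl_cj L (lf h (S.hs (k + 2) u)) k k hl (inv_ne_zero hl)
        (by rw [map_lf]; exact hk) (by rw [map_lf]; exact hk1) s' t'
      rw [← hcj]
      have hc := (CL_hs_xl S h hT (k + 2) u (-(C.tr (s' * t')))).2
      rw [e4] at hc
      have hcomm := hc _ _ (map_lf h (S.hs (k + 2) u)) (Zl_map L k s' t')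
      unfold cj
      rw [hcomm, mul_assoc, mul_inv_cancel, mul_one]
    rw [key s (l * t), ← mul_assoc, inv_mul_cancel₀ hl, one_mul]

end L

end Cfsg.Agent.Lib.helper17.T3
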