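import Mathlib
import Cfsg.Agent.Lib.helper17.T3.DefsC
import Cfsg.Agent.Lib.helper15.T3CL4core
import Cfsg.Agent.Lib.Helper13.T3CA3
import Cfsg.Agent.Lib.helper4.T3CH5

/-!
# T3C row L4 (helper15), VERBATIM: `Zl_bal` — `Zl` is `K`-balanced (from the core `t3cl4h15_Zl_bal_core`, rows A3 and H5)
-/

set_option autoImplicit false

namespace Cfsg.Agent.Lib.helper17.T3

open Cfsg.Agent.Lib.helper15.St2 Cfsg.Agent.Lib.helper7.Ce Matrix

variable {F K : Type*} [Field F] [Field K] [Algebra F K]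

variable {C : Cub F K} {G Γ : Type*} [Group G] [Group Γ]

section L

variable {S : SysT C G} {σ : Γ →* G}

/-- [L4] [M] `Zl` is `K`-balanced. -/
theorem Zl_bal [Finite K] (h : IsCE σ) (hT : CLT S σ) (L : ShortLift S σ) (k : ZMod 6) (l s t : K) : Zl L k (l * s) t = Zl L k s (l * t) :=
  t3cl4h15_Zl_bal_core (fun l hl => C.exists_nm_div_sq l hl) (fun j i u hu => S.hs_mapsPair j i u hu) h hT L k l s t

end L

end Cfsg.Agent.Lib.helper17.T3
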