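import Mathlib
import Cfsg.Agent.Lib.helper8.T3M.Defs
import Cfsg.Agent.Lib.helper8.ChevTwU6

/-!
# T3M row F1 (helper15), VERBATIM: `t3m_card_Fx` — the fixed field of `x ↦ x ^ q` in a field of `q ^ 3` elements has `q` elements
-/

set_option autoImplicit false

namespace Cfsg.Agent.Lib.helper8.T3M

open Cfsg.Lie Cfsg.Lie.ChevalleyDatum Matrix
open Cfsg.Agent.Lib.helper8
open Cfsg.Agent.Lib.helper23.TD4V
open Cfsg.Agent.Lib.helper17.T3
open Cfsg.Agent.Lib.helper15.St2 Cfsg.Agent.Lib.helper7.Ce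

universe u

variable {K : Type u} [Field K] {q : ℕ}

/-- the Frobenius of the datum as a ring automorphism -/
def t3mf1h15_equiv (D : Dat K q) : K ≃+* K where
  toFun := D.f
  invFun := fun x => D.f (D.f x)
  left_inv := D.h3
  right_inv := D.h3
  map_mul' := map_mul D.f
  map_add' := map_add D.f

theorem t3mf1h15_equiv_apply (D : Dat K q) (x : K) : t3mf1h15_equiv D x = D.f x := rfl

/-- **F1** [S-M]. -/
theorem t3m_card_Fx [Fintype K] (D : Dat K q) (hq : IsPrimePow q) (hK : Fintype.card K = q ^ 3) :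
    Nat.card D.Fx = q := by
  have h := h8frob_fix_card (F := K) (q := q) (m := 3) hq.one_lt (by norm_num) hK (t3mf1h15_equiv D)
    (fun t => D.hf t) (fun t => D.h3 t)
  have e : Nat.card D.Fx = Nat.card {c : K // t3mf1h15_equiv D c = c} :=
    Nat.card_congr (Equiv.subtypeEquivRight (fun c => Iff.rfl))
  rw [e, h]

end Cfsg.Agent.Lib.helper8.T3M
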