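import Mathlib
import Cfsg.Prelude.Def_GeometricClasses

set_option autoImplicit false
set_option linter.unusedVariables false
set_option linter.unusedSectionVars false

/-!
# Block TX2S (helper15), common first step: hyperbolic bases of the blocks and the action of the stabiliser on them
-/

namespace Cfsg.Agent.Lib.Helper15.TX2S

open Cfsg Cfsg.Geo
open scoped MatrixGroups Matrix

variable {n : ℕ} {F : Type*} [Field F]

/-- basic identities for the polar form of a quadratic form -/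
theorem tx2scommon_polar_add_left (Q : QuadraticForm F (Fin n → F)) (a b c : Fin n → F) :
    QuadraticMap.polar (⇑Q) (a + b) c = QuadraticMap.polar (⇑Q) a c + QuadraticMap.polar (⇑Q) b c :=
  QuadraticMap.polar_add_left Q a b c

theorem tx2scommon_polar_add_right (Q : QuadraticForm F (Fin n → F)) (a b c : Fin n → F) :
    QuadraticMap.polar (⇑Q) a (b + c) = QuadraticMap.polar (⇑Q) a b + QuadraticMap.polar (⇑Q) a c :=
  QuadraticMap.polar_add_right Q a b c

theorem tx2scommon_polar_smul_left (Q : QuadraticForm F (Fin n → F)) (s : F) (a b : Fin n → F) :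
    QuadraticMap.polar (⇑Q) (s • a) b = s * QuadraticMap.polar (⇑Q) a b := by
  rw [QuadraticMap.polar_smul_left, smul_eq_mul]

theorem tx2scommon_polar_smul_right (Q : QuadraticForm F (Fin n → F)) (s : F) (a b : Fin n → F) :
    QuadraticMap.polar (⇑Q) a (s • b) = s * QuadraticMap.polar (⇑Q) a b := by
  rw [QuadraticMap.polar_smul_right, smul_eq_mul]

theorem tx2scommon_polar_self (Q : QuadraticForm F (Fin n → F)) (a : Fin n → F) :
    QuadraticMap.polar (⇑Q) a a = 2 * Q a := by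
  rw [QuadraticMap.polar_self]
  simp

theorem tx2scommon_Q_add (Q : QuadraticForm F (Fin n → F)) (a b : Fin n → F) :
    Q (a + b) = Q a + Q b + QuadraticMap.polar (⇑Q) a b :=
  QuadraticMap.map_add Q a b

theorem tx2scommon_Q_smul (Q : QuadraticForm F (Fin n → F)) (s : F) (a : Fin n → F) :
    Q (s • a) = s * s * Q a := by
  rw [QuadraticMap.map_smul]
  rfl

/-- an isometry preserves the polar form -/
theorem tx2scommon_polar_isom (Q : QuadraticForm F (Fin n → F)) (g : GL (Fin n) F)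
    (hg : g ∈ isometryGroup F (⇑Q)) (a b : Fin n → F) :
    QuadraticMap.polar (⇑Q) ((g : Matrix (Fin n) (Fin n) F) *ᵥ a) ((g : Matrix (Fin n) (Fin n) F) *ᵥ b) =
      QuadraticMap.polar (⇑Q) a b := by
  have h1 : ∀ x : Fin n → F, Q ((g : Matrix (Fin n) (Fin n) F) *ᵥ x) = Q x := fun x => hg x x
  unfold QuadraticMap.polar
  rw [← Matrix.mulVec_add, h1, h1, h1]

/-- a hyperbolic basis of a non-degenerate plane of plus type -/
theorem tx2scommon_hyp_basis (Q : QuadraticForm F (Fin n → F)) (W : Submodule F (Fin n → F))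
    (hW : IsNondegenerateOn (QuadraticMap.polar (⇑Q)) W) (hd : Module.finrank F W = 2)
    (hp : IsPlusTypeOn (⇑Q) W) :
    ∃ u v : Fin n → F, u ∈ W ∧ v ∈ W ∧ Q u = 0 ∧ Q v = 0 ∧ QuadraticMap.polar (⇑Q) u v = 1 ∧
      (∀ w ∈ W, ∃ a b : F, w = a • u + b • v) ∧ (∀ a b : F, Q (a • u + b • v) = a * b) := by
  classical
  obtain ⟨U, hUW, hUs, hUd⟩ := hp
  have hU1 : Module.finrank F U = 1 := by omega
  have hUne : U ≠ ⊥ := by
    intro hb
    rw [hb, finrank_bot] at hU1
    omega
  obtain ⟨u, huU, hu0⟩ := Submodule.exists_mem_ne_zero_of_ne_bot hUne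
  have huW : u ∈ W := hUW huU
  have hQu : Q u = 0 := hUs u huU
  obtain ⟨⟨x, hxW, hxu⟩, _⟩ := hW u huW hu0
  have hux : QuadraticMap.polar (⇑Q) u x ≠ 0 := by rwa [QuadraticMap.polar_comm]
  obtain ⟨v₀, hv₀⟩ : ∃ v₀ : Fin n → F, v₀ = (QuadraticMap.polar (⇑Q) u x)⁻¹ • x := ⟨_, rfl⟩
  have hv₀W : v₀ ∈ W := by rw [hv₀]; exact W.smul_mem _ hxW
  have huv₀ : QuadraticMap.polar (⇑Q) u v₀ = 1 := by
    rw [hv₀, tx2scommon_polar_smul_right, inv_mul_cancel₀ hux]
  obtain ⟨v, hv⟩ : ∃ v : Fin n → F, v = v₀ + (-(Q v₀)) • u := ⟨_, rfl⟩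
  have hvW : v ∈ W := by rw [hv]; exact W.add_mem hv₀W (W.smul_mem _ huW)
  have huu : QuadraticMap.polar (⇑Q) u u = 0 := by rw [tx2scommon_polar_self, hQu, mul_zero]
  have huv : QuadraticMap.polar (⇑Q) u v = 1 := by
    rw [hv, tx2scommon_polar_add_right, tx2scommon_polar_smul_right, huv₀, huu, mul_zero, add_zero]
  have hQv : Q v = 0 := by
    rw [hv, tx2scommon_Q_add, tx2scommon_Q_smul, hQu, tx2scommon_polar_smul_right,
      QuadraticMap.polar_comm (⇑Q) v₀ u, huv₀]
    ring
  have hli : LinearIndependent F ![u, v] := by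
    rw [LinearIndependent.pair_iff]
    intro s t hst
    have h1 : QuadraticMap.polar (⇑Q) u (s • u + t • v) = 0 := by
      rw [hst]
      simp [QuadraticMap.polar]
    rw [tx2scommon_polar_add_right, tx2scommon_polar_smul_right, tx2scommon_polar_smul_right, huu, huv,
      mul_zero, zero_add, mul_one] at h1
    rw [h1, zero_smul, add_zero] at hst
    rcases smul_eq_zero.1 hst with h | h
    · exact ⟨h, h1⟩
    · exact absurd h hu0
  have hspan : Submodule.span F ({u, v} : Set (Fin n → F)) = W := by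
    apply Submodule.eq_of_le_of_finrank_eq
    · rw [Submodule.span_le]
      intro z hz
      rcases hz with rfl | rfl
      · exact huW
      · exact hvW
    · have := finrank_span_eq_card hli
      rw [Fintype.card_fin] at this
      have hr : Set.range ![u, v] = ({u, v} : Set (Fin n → F)) := by
        ext z
        simp [eq_comm]
        exact or_comm
      rw [hr] at this
      rw [hd, this]
  refine ⟨u, v, huW, hvW, hQu, hQv, huv, ?_, ?_⟩
  · intro w hw
    rw [← hspan, Submodule.mem_span_pair] at hw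
    obtain ⟨a, b, h⟩ := hw
    exact ⟨a, b, h.symm⟩
  · intro a b
    rw [tx2scommon_Q_add, tx2scommon_Q_smul, tx2scommon_Q_smul, hQu, hQv, tx2scommon_polar_smul_left,
      tx2scommon_polar_smul_right, huv]
    ring

/-- hyperbolic bases of all the blocks of an orthogonal decomposition into planes of plus type -/
theorem tx2scommon_bases (Q : QuadraticForm F (Fin n → F))
    {t : ℕ} (D : Fin t → Submodule F (Fin n → F)) (hD : IsOrthogonalMDecomposition (⇑Q) 2 D)
    (hp : ∀ i, IsPlusTypeOn (⇑Q) (D i)) :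
    ∃ u v : Fin t → (Fin n → F), (∀ i, u i ∈ D i) ∧ (∀ i, v i ∈ D i) ∧ (∀ i, Q (u i) = 0) ∧ (∀ i, Q (v i) = 0) ∧
      (∀ i, QuadraticMap.polar (⇑Q) (u i) (v i) = 1) ∧
      (∀ i, ∀ w ∈ D i, ∃ a b : F, w = a • u i + b • v i) ∧ (∀ i, ∀ a b : F, Q (a • u i + b • v i) = a * b) := by
  have h := fun i => tx2scommon_hyp_basis Q (D i) (hD.decomp.nondegenerate i) (hD.decomp.decomp.finrank_eq i) (hp i)
  choose u v h1 h2 h3 h4 h5 h6 h7 using h
  exact ⟨u, v, h1, h2, h3, h4, h5, h6, h7⟩

/-- the action of an isometry stabilising the decomposition on the hyperbolic bases -/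
theorem tx2scommon_act (Q : QuadraticForm F (Fin n → F))
    {t : ℕ} (D : Fin t → Submodule F (Fin n → F))
    (u v : Fin t → (Fin n → F)) (hu : ∀ i, u i ∈ D i) (hv : ∀ i, v i ∈ D i)
    (hQu : ∀ i, Q (u i) = 0) (hQv : ∀ i, Q (v i) = 0)
    (huv : ∀ i, QuadraticMap.polar (⇑Q) (u i) (v i) = 1)
    (hrep : ∀ i, ∀ w ∈ D i, ∃ a b : F, w = a • u i + b • v i)
    (hQab : ∀ i, ∀ a b : F, Q (a • u i + b • v i) = a * b)
    (g : GL (Fin n) F) (hg : g ∈ decompositionStabilizer D ⊓ isometryGroup F (⇑Q)) :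
    ∃ σ : Equiv.Perm (Fin t), (∀ i, (D i).map (Matrix.toLin' (g : Matrix (Fin n) (Fin n) F)) = D (σ i)) ∧
      ∀ i, ∃ c : F, c ≠ 0 ∧
        (((g : Matrix (Fin n) (Fin n) F) *ᵥ u i = c • u (σ i) ∧
            (g : Matrix (Fin n) (Fin n) F) *ᵥ v i = c⁻¹ • v (σ i)) ∨
          ((g : Matrix (Fin n) (Fin n) F) *ᵥ u i = c • v (σ i) ∧
            (g : Matrix (Fin n) (Fin n) F) *ᵥ v i = c⁻¹ • u (σ i))) := by
  obtain ⟨⟨σ, hσ⟩, hiso⟩ := hg
  refine ⟨σ, hσ, fun i => ?_⟩
  have hmem : ∀ x ∈ D i, (g : Matrix (Fin n) (Fin n) F) *ᵥ x ∈ D (σ i) := by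
    intro x hx
    rw [← hσ i]
    exact ⟨x, hx, by rw [Matrix.toLin'_apply]⟩
  have hQg : ∀ x : Fin n → F, Q ((g : Matrix (Fin n) (Fin n) F) *ᵥ x) = Q x := fun x => hiso x x
  obtain ⟨a, b, hab⟩ := hrep (σ i) _ (hmem _ (hu i))
  obtain ⟨c, d, hcd⟩ := hrep (σ i) _ (hmem _ (hv i))
  have h1 : a * b = 0 := by
    rw [← hQab (σ i) a b, ← hab, hQg, hQu]
  have h2 : c * d = 0 := by
    rw [← hQab (σ i) c d, ← hcd, hQg, hQv]
  have huu : QuadraticMap.polar (⇑Q) (u (σ i)) (u (σ i)) = 0 := by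
    rw [tx2scommon_polar_self, hQu, mul_zero]
  have hvv : QuadraticMap.polar (⇑Q) (v (σ i)) (v (σ i)) = 0 := by
    rw [tx2scommon_polar_self, hQv, mul_zero]
  have hvu : QuadraticMap.polar (⇑Q) (v (σ i)) (u (σ i)) = 1 := by
    rw [QuadraticMap.polar_comm, huv]
  have h3 : a * d + b * c = 1 := by
    have := tx2scommon_polar_isom Q g hiso (u i) (v i)
    rw [huv, hab, hcd] at this
    rw [← this]
    simp only [tx2scommon_polar_add_left, tx2scommon_polar_add_right, tx2scommon_polar_smul_left,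
      tx2scommon_polar_smul_right, huu, hvv, hvu, huv]
    ring
  by_cases ha : a = 0
  · have hbc : b * c = 1 := by rw [ha, zero_mul, zero_add] at h3; exact h3
    have hb : b ≠ 0 := left_ne_zero_of_mul_eq_one hbc
    have hc : c ≠ 0 := right_ne_zero_of_mul_eq_one hbc
    have hd : d = 0 := by
      rcases mul_eq_zero.1 h2 with h | h
      · exact absurd h hc
      · exact h
    refine ⟨b, hb, Or.inr ⟨?_, ?_⟩⟩
    · rw [hab, ha, zero_smul, zero_add]
    · rw [hcd, hd, zero_smul, add_zero]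
      congr 1
      exact eq_inv_of_mul_eq_one_right hbc
  · have hb : b = 0 := by
      rcases mul_eq_zero.1 h1 with h | h
      · exact absurd h ha
      · exact h
    have had : a * d = 1 := by rw [hb, zero_mul, add_zero] at h3; exact h3
    have hd : d ≠ 0 := right_ne_zero_of_mul_eq_one had
    have hc : c = 0 := by
      rcases mul_eq_zero.1 h2 with h | h
      · exact h
      · exact absurd h hd
    refine ⟨a, ha, Or.inl ⟨?_, ?_⟩⟩
    · rw [hab, hb, zero_smul, add_zero]
    · rw [hcd, hc, zero_smul, zero_add]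
      congr 1
      exact eq_inv_of_mul_eq_one_right had

end Cfsg.Agent.Lib.Helper15.TX2S
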