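import Mathlib
import Cfsg.Prelude.Def_GeometricClasses
import Cfsg.Agent.Lib.Helper27.ASC.Defs
import Cfsg.Agent.Lib.Helper19.ASG.Defs
import Cfsg.Agent.Lib.Helper26.ASGD1.Defs
import Cfsg.Agent.Lib.Helper19.ASU.Defs
import Cfsg.Agent.Lib.Helper19.ASUADJ
import Cfsg.Agent.Lib.Helper26.ASUC.Defs
import Cfsg.Agent.Lib.Helper19.ASU33Defs

set_option autoImplicit false
set_option linter.unusedVariables false
set_option linter.unusedSectionVars false

/-!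
# Project ASU, block C, case C-33, piece 33-HEIS : `u33_heis`
-/

namespace Cfsg.Agent.Lib.Helper19.ASU

open Cfsg Cfsg.Geo Cfsg.Agent.Lib.Helper27.ASC Cfsg.Agent.Lib.Helper19.ASG
open scoped MatrixGroups Matrix Kronecker

variable {n : ℕ} {F : Type*} [Field F]

theorem asuc33heis_omega3 (h2 : (2 : F) = 0) (ω : F) (hω : ω ^ 2 + ω + 1 = 0) : ω ^ 3 = 1 := by
  grind

theorem asuc33heis_XY (h2 : (2 : F) = 0) (ω : F) (hω : ω ^ 2 + ω + 1 = 0) :
    u33X ω * u33Y = ω • (u33Y * u33X ω) := by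
  ext i j
  fin_cases i <;> fin_cases j <;>
    simp [u33X, u33Y, Matrix.mul_apply, Fin.sum_univ_three, Matrix.smul_apply] <;> grind

/-- `Y X = ω² X Y` -/
theorem asuc33heis_YX (h2 : (2 : F) = 0) (ω : F) (hω : ω ^ 2 + ω + 1 = 0) :
    (u33Y : Matrix (Fin 3) (Fin 3) F) * u33X ω = ω ^ 2 • (u33X ω * u33Y) := by
  rw [asuc33heis_XY h2 ω hω, smul_smul]
  have h3 : ω ^ 2 * ω = 1 := by
    have := asuc33heis_omega3 h2 ω hω
    rw [← this]; ring
  rw [h3, one_smul]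

/-- `Y X^i = ω^(2i) X^i Y` -/
theorem asuc33heis_Y_Xpow (h2 : (2 : F) = 0) (ω : F) (hω : ω ^ 2 + ω + 1 = 0) (i : ℕ) :
    (u33Y : Matrix (Fin 3) (Fin 3) F) * u33X ω ^ i = ω ^ (2 * i) • (u33X ω ^ i * u33Y) := by
  induction i with
  | zero => simp
  | succ i ih =>
    rw [pow_succ, ← mul_assoc, ih, smul_mul_assoc, mul_assoc, asuc33heis_YX h2 ω hω, mul_smul_comm, smul_smul,
      ← mul_assoc]
    congr 1
    ring

/-- `Y^j X^i = ω^(2ij) X^i Y^j` -/
theorem asuc33heis_Ypow_Xpow (h2 : (2 : F) = 0) (ω : F) (hω : ω ^ 2 + ω + 1 = 0) (i j : ℕ) :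
    (u33Y : Matrix (Fin 3) (Fin 3) F) ^ j * u33X ω ^ i = ω ^ (2 * i * j) • (u33X ω ^ i * u33Y ^ j) := by
  induction j with
  | zero => simp
  | succ j ih =>
    calc (u33Y : Matrix (Fin 3) (Fin 3) F) ^ (j + 1) * u33X ω ^ i
        = u33Y ^ j * (u33Y * u33X ω ^ i) := by rw [pow_succ, mul_assoc]
      _ = ω ^ (2 * i) • ((u33Y ^ j * u33X ω ^ i) * u33Y) := by
          rw [asuc33heis_Y_Xpow h2 ω hω, mul_smul_comm, mul_assoc]
      _ = ω ^ (2 * i) • ((ω ^ (2 * i * j) • (u33X ω ^ i * u33Y ^ j)) * u33Y) := by rw [ih]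
      _ = (ω ^ (2 * i) * ω ^ (2 * i * j)) • (u33X ω ^ i * (u33Y ^ j * u33Y)) := by
          rw [smul_mul_assoc, smul_smul]
          simp only [mul_assoc]
      _ = ω ^ (2 * i * (j + 1)) • (u33X ω ^ i * u33Y ^ (j + 1)) := by
          rw [← pow_succ, ← pow_add]
          congr 2
          ring

/-- a cube root of unity is a power of `ω` -/
theorem asuc33heis_root (h2 : (2 : F) = 0) (ω : F) (hω : ω ^ 2 + ω + 1 = 0) (x : F) (hx : x ^ 3 = 1) :
    ∃ a : ℕ, x = ω ^ a := by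
  have h : (x - 1) * ((x - ω) * (x - ω ^ 2)) = 0 := by grind
  rcases mul_eq_zero.mp h with h | h
  · exact ⟨0, by rw [pow_zero]; exact sub_eq_zero.mp h⟩
  · rcases mul_eq_zero.mp h with h | h
    · exact ⟨1, by rw [pow_one]; exact sub_eq_zero.mp h⟩
    · exact ⟨2, sub_eq_zero.mp h⟩

theorem asuc33heis_Xpow (ω : F) (k : ℕ) :
    u33X ω ^ k = Matrix.diagonal ![1, ω ^ k, (ω ^ 2) ^ k] := by
  have hX : u33X ω = Matrix.diagonal ![1, ω, ω ^ 2] := by
    ext i j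
    fin_cases i <;> fin_cases j <;> simp [u33X]
  rw [hX, Matrix.diagonal_pow]
  congr 1
  funext i
  fin_cases i <;> simp

/-- 33-HEIS : the Heisenberg set is closed under products and contains the diagonal matrices of determinant one with entries
cube roots of unity. -/
theorem u33_heis (h2 : (2 : F) = 0) (ω : F) (hω : ω ^ 2 + ω + 1 = 0) :
    (∀ r ∈ u33Heis ω, ∀ s ∈ u33Heis ω, r * s ∈ u33Heis ω) ∧
    (∀ d : Fin 3 → F, (∀ i, d i ^ 3 = 1) → d 0 * d 1 * d 2 = 1 → Matrix.diagonal d ∈ u33Heis ω) := by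
  have hω3 := asuc33heis_omega3 h2 ω hω
  constructor
  · rintro r ⟨c, i, j, rfl⟩ s ⟨c', i', j', rfl⟩
    refine ⟨c + c' + 2 * i' * j, i + i', j + j', ?_⟩
    calc ω ^ c • (u33X ω ^ i * (u33Y : Matrix (Fin 3) (Fin 3) F) ^ j) * ω ^ c' • (u33X ω ^ i' * u33Y ^ j')
        = (ω ^ c * ω ^ c') • (u33X ω ^ i * ((u33Y ^ j * u33X ω ^ i') * u33Y ^ j')) := by
          rw [smul_mul_smul_comm]
          simp only [mul_assoc]
      _ = (ω ^ c * ω ^ c') • (u33X ω ^ i * ((ω ^ (2 * i' * j) • (u33X ω ^ i' * u33Y ^ j)) * u33Y ^ j')) := by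
          rw [asuc33heis_Ypow_Xpow h2 ω hω]
      _ = (ω ^ c * ω ^ c' * ω ^ (2 * i' * j)) • ((u33X ω ^ i * u33X ω ^ i') * (u33Y ^ j * u33Y ^ j')) := by
          rw [smul_mul_assoc, mul_smul_comm, smul_smul]
          simp only [mul_assoc]
      _ = ω ^ (c + c' + 2 * i' * j) • (u33X ω ^ (i + i') * u33Y ^ (j + j')) := by
          rw [← pow_add, ← pow_add, ← pow_add, ← pow_add]
  · intro d hd hprod
    obtain ⟨a, ha⟩ := asuc33heis_root h2 ω hω (d 0) (hd 0)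
    obtain ⟨b, hb⟩ := asuc33heis_root h2 ω hω (d 1) (hd 1)
    have hc : d 2 = ω ^ (2 * a + 2 * b) := by
      calc d 2 = d 2 * (ω ^ 3) ^ (a + b) := by rw [hω3, one_pow, mul_one]
        _ = (ω ^ a * ω ^ b * d 2) * ω ^ (2 * a + 2 * b) := by ring
        _ = ω ^ (2 * a + 2 * b) := by rw [← ha, ← hb, hprod, one_mul]
    refine ⟨a, b + 2 * a, 0, ?_⟩
    rw [pow_zero, mul_one, asuc33heis_Xpow]
    ext i j
    fin_cases i <;> fin_cases j <;> simp [Matrix.smul_apply]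
    · exact ha
    · rw [hb]
      calc ω ^ b = ω ^ b * (ω ^ 3) ^ a := by rw [hω3, one_pow, mul_one]
        _ = ω ^ a * ω ^ (b + 2 * a) := by ring
    · rw [hc]
      calc ω ^ (2 * a + 2 * b) = ω ^ (2 * a + 2 * b) * (ω ^ 3) ^ a := by rw [hω3, one_pow, mul_one]
        _ = ω ^ a * (ω ^ 2) ^ (b + 2 * a) := by ring

end Cfsg.Agent.Lib.Helper19.ASU
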