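import Mathlib
import Cfsg.Prelude.Def_GeometricClasses
import Cfsg.Agent.Lib.Helper27.ASC.Defs
import Cfsg.Agent.Lib.Helper19.ASG.Defs
import Cfsg.Agent.Lib.Helper26.ASGD1.Defs
import Cfsg.Agent.Lib.Helper19.ASU.Defs
import Cfsg.Agent.Lib.Helper19.ASUADJ
import Cfsg.Agent.Lib.Helper26.ASUC.Defs
import Cfsg.Agent.Lib.Helper19.ASU33Defs

set_option autoImplicit false
set_option linter.unusedVariables false
set_option linter.unusedSectionVars false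

/-!
# Project ASU, block C, case C-33, piece 33-REL : `u33_rel`
-/

namespace Cfsg.Agent.Lib.Helper19.ASU

open Cfsg Cfsg.Geo Cfsg.Agent.Lib.Helper27.ASC Cfsg.Agent.Lib.Helper19.ASG
open scoped MatrixGroups Matrix Kronecker

variable {n : ℕ} {F : Type*} [Field F]

theorem asuc33rel_X3 (h2 : (2 : F) = 0) (ω : F) (hω : ω ^ 2 + ω + 1 = 0) : u33X ω ^ 3 = 1 := by
  ext i j
  fin_cases i <;> fin_cases j <;>
    simp [u33X, pow_succ, Matrix.mul_apply, Fin.sum_univ_three, Matrix.one_apply] <;> grind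

theorem asuc33rel_Y3 : (u33Y : Matrix (Fin 3) (Fin 3) F) ^ 3 = 1 := by
  ext i j
  fin_cases i <;> fin_cases j <;>
    simp [u33Y, pow_succ, Matrix.mul_apply, Fin.sum_univ_three, Matrix.one_apply]

theorem asuc33rel_XY (h2 : (2 : F) = 0) (ω : F) (hω : ω ^ 2 + ω + 1 = 0) :
    u33X ω * u33Y = ω • (u33Y * u33X ω) := by
  ext i j
  fin_cases i <;> fin_cases j <;>
    simp [u33X, u33Y, Matrix.mul_apply, Fin.sum_univ_three, Matrix.smul_apply] <;> grind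

theorem asuc33rel_TT : (u33T : Matrix (Fin 3) (Fin 3) F) * u33T = 1 := by
  ext i j
  fin_cases i <;> fin_cases j <;>
    simp [u33T, Matrix.mul_apply, Fin.sum_univ_three, Matrix.one_apply]

theorem asuc33rel_TXT (h2 : (2 : F) = 0) (ω : F) (hω : ω ^ 2 + ω + 1 = 0) :
    u33T * u33X ω * u33T = u33X ω ^ 2 := by
  ext i j
  fin_cases i <;> fin_cases j <;>
    simp [u33X, u33T, pow_succ, Matrix.mul_apply, Fin.sum_univ_three] <;> grind

theorem asuc33rel_TYT : (u33T : Matrix (Fin 3) (Fin 3) F) * u33Y * u33T = u33Y ^ 2 := by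
  ext i j
  fin_cases i <;> fin_cases j <;>
    simp [u33Y, u33T, pow_succ, Matrix.mul_apply, Fin.sum_univ_three]

theorem asuc33rel_WX (h2 : (2 : F) = 0) (ω : F) (hω : ω ^ 2 + ω + 1 = 0) :
    u33W ω * u33X ω = u33Y ^ 2 * u33W ω := by
  ext i j
  fin_cases i <;> fin_cases j <;>
    simp [u33X, u33Y, u33W, pow_succ, Matrix.mul_apply, Fin.sum_univ_three] <;> grind

theorem asuc33rel_WY (h2 : (2 : F) = 0) (ω : F) (hω : ω ^ 2 + ω + 1 = 0) :
    u33W ω * u33Y = u33X ω * u33W ω := by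
  ext i j
  fin_cases i <;> fin_cases j <;>
    simp [u33X, u33Y, u33W, pow_succ, Matrix.mul_apply, Fin.sum_univ_three] <;> grind

theorem asuc33rel_uX (h2 : (2 : F) = 0) (ω : F) (hω : ω ^ 2 + ω + 1 = 0) :
    uadj 2 (u33X ω) * u33X ω = 1 := by
  ext i j
  fin_cases i <;> fin_cases j <;>
    simp [uadj, u33X, pow_succ, Matrix.mul_apply, Fin.sum_univ_three, Matrix.one_apply] <;> grind

theorem asuc33rel_uY : uadj 2 (u33Y : Matrix (Fin 3) (Fin 3) F) * u33Y = 1 := by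
  ext i j
  fin_cases i <;> fin_cases j <;>
    simp [uadj, u33Y, pow_succ, Matrix.mul_apply, Fin.sum_univ_three, Matrix.one_apply]

theorem asuc33rel_uT : uadj 2 (u33T : Matrix (Fin 3) (Fin 3) F) * u33T = 1 := by
  ext i j
  fin_cases i <;> fin_cases j <;>
    simp [uadj, u33T, pow_succ, Matrix.mul_apply, Fin.sum_univ_three, Matrix.one_apply]

theorem asuc33rel_uW (h2 : (2 : F) = 0) (ω : F) (hω : ω ^ 2 + ω + 1 = 0) :
    uadj 2 (u33W ω) * u33W ω = 1 := by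
  ext i j
  fin_cases i <;> fin_cases j <;>
    simp [uadj, u33W, pow_succ, Matrix.mul_apply, Fin.sum_univ_three, Matrix.one_apply] <;> grind

/-- 33-REL : the relations between `X`, `Y`, `T`, `W`, and their unitarity (`q = 2`). -/
theorem u33_rel (h2 : (2 : F) = 0) (ω : F) (hω : ω ^ 2 + ω + 1 = 0) :
    u33X ω ^ 3 = 1 ∧ (u33Y : Matrix (Fin 3) (Fin 3) F) ^ 3 = 1 ∧ u33X ω * u33Y = ω • (u33Y * u33X ω) ∧
    (u33T : Matrix (Fin 3) (Fin 3) F) * u33T = 1 ∧ u33T * u33X ω * u33T = u33X ω ^ 2 ∧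
    (u33T : Matrix (Fin 3) (Fin 3) F) * u33Y * u33T = u33Y ^ 2 ∧
    u33W ω * u33X ω = u33Y ^ 2 * u33W ω ∧ u33W ω * u33Y = u33X ω * u33W ω ∧
    uadj 2 (u33X ω) * u33X ω = 1 ∧ uadj 2 (u33Y : Matrix (Fin 3) (Fin 3) F) * u33Y = 1 ∧
    uadj 2 (u33T : Matrix (Fin 3) (Fin 3) F) * u33T = 1 ∧ uadj 2 (u33W ω) * u33W ω = 1 :=
  ⟨asuc33rel_X3 h2 ω hω, asuc33rel_Y3, asuc33rel_XY h2 ω hω, asuc33rel_TT, asuc33rel_TXT h2 ω hω,
    asuc33rel_TYT, asuc33rel_WX h2 ω hω, asuc33rel_WY h2 ω hω, asuc33rel_uX h2 ω hω, asuc33rel_uY,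
    asuc33rel_uT, asuc33rel_uW h2 ω hω⟩

end Cfsg.Agent.Lib.Helper19.ASU
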