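import Mathlib
import Cfsg.Agent.Lib.helper17.SLP.Defs
import Cfsg.Agent.Lib.helper17.SL3.Defs
import Cfsg.Agent.Lib.helper17.SL3.Defs2

/-!
# Project SL3 (S2287, designer helper17), row T12 (`tor_table`): the core, with the statements of
T4 (`tor_rel`, first two components), T9 (`act01`) and T10 (`act10`) as hypotheses.
-/

set_option autoImplicit false

namespace Cfsg.Agent.Lib.helper17.SL3

open Cfsg.Agent.Lib.helper17.SLP
open Polynomial

universe u v

variable {F : Type u} [Field F] {G : Type v} [Group G]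

/-- transport of an action along conjugation by `c`. -/
theorem sl3t12_act_conj (ζ : Fˣ) (g g' c : G) (X : F → G) (e : ℤ) (hg : c⁻¹ * g * c = g')
    (h : Act ζ g' X e) : Act ζ g (fun t => c * X t * c⁻¹) e := by
  intro t
  have hg2 : g = c * g' * c⁻¹ := by rw [← hg]; group
  show g * (c * X t * c⁻¹) * g⁻¹ = c * X (((ζ ^ e : Fˣ) : F) * t) * c⁻¹
  rw [← h t, hg2]
  group

/-- transport of an action along conjugation by `c⁻¹`. -/
theorem sl3t12_act_conj' (ζ : Fˣ) (g g' c : G) (X : F → G) (e : ℤ) (hg : c * g * c⁻¹ = g')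
    (h : Act ζ g' X e) : Act ζ g (fun t => c⁻¹ * X t * c) e := by
  intro t
  have hg2 : g = c⁻¹ * g' * c := by rw [← hg]; group
  show g * (c⁻¹ * X t * c) * g⁻¹ = c⁻¹ * X (((ζ ^ e : Fˣ) : F) * t) * c
  rw [← h t, hg2]
  group

/-- additivity is transported by conjugation. -/
theorem sl3t12_add_conj (a b : G) (hab : a * b = 1) (X : F → G)
    (h : ∀ s t, X (s + t) = X s * X t) (s t : F) :
    b * X (s + t) * a = (b * X s * a) * (b * X t * a) := by
  rw [h s t]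
  have : b * X s * a * (b * X t * a) = b * X s * (a * b) * X t * a := by group
  rw [this, hab, mul_one]
  group

/-- T12 core. -/
theorem sl3t12_core (ζ : Fˣ) (x : F → G) (d w c : G)
    (add : ∀ s t, x (s + t) = x s * x t)
    (h4a : c * d2 d c * c⁻¹ = d3 d c) (h4b : c * d3 d c * c⁻¹ = d)
    (h9 : Act ζ d x 1 ∧ Act ζ (d2 d c) x (-2) ∧ Act ζ (d3 d c) x 1)
    (h10 : (∀ s t, x10 x w (s + t) = x10 x w s * x10 x w t) ∧ (∀ t, w * x10 x w t * w⁻¹ = x (-t)) ∧
      Act ζ d (x10 x w) (-1) ∧ Act ζ (d2 d c) (x10 x w) 2 ∧ Act ζ (d3 d c) (x10 x w) (-1)) :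
    Tor ζ x d w c := by
  obtain ⟨h9a, h9b, h9c⟩ := h9
  obtain ⟨h10add, -, h10a, h10b, h10c⟩ := h10
  -- the six conjugation identities for the torus
  have e1 : c⁻¹ * d * c = d3 d c := rfl
  have e2 : c⁻¹ * d2 d c * c = d := by unfold d2; group
  have e3 : c⁻¹ * d3 d c * c = d2 d c := by rw [← h4a]; group
  have f1 : c * d * c⁻¹ = d2 d c := rfl
  have f2 : c * d2 d c * c⁻¹ = d3 d c := h4a
  have f3 : c * d3 d c * c⁻¹ = d := h4b
  have hcc : c * c⁻¹ = 1 := mul_inv_cancel c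
  have hcc' : c⁻¹ * c = 1 := inv_mul_cancel c
  refine
    { add10 := h10add
      add12 := ?_
      add20 := ?_
      add21 := ?_
      add02 := ?_
      t01 := ⟨h9a, h9b, h9c⟩
      t10 := ⟨h10a, h10b, h10c⟩
      t12 := ⟨sl3t12_act_conj ζ d (d3 d c) c x 1 e1 h9c, sl3t12_act_conj ζ (d2 d c) d c x 1 e2 h9a,
        sl3t12_act_conj ζ (d3 d c) (d2 d c) c x (-2) e3 h9b⟩
      t21 := ⟨sl3t12_act_conj ζ d (d3 d c) c (x10 x w) (-1) e1 h10c,
        sl3t12_act_conj ζ (d2 d c) d c (x10 x w) (-1) e2 h10a,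
        sl3t12_act_conj ζ (d3 d c) (d2 d c) c (x10 x w) 2 e3 h10b⟩
      t20 := ⟨sl3t12_act_conj' ζ d (d2 d c) c x (-2) f1 h9b,
        sl3t12_act_conj' ζ (d2 d c) (d3 d c) c x 1 f2 h9c,
        sl3t12_act_conj' ζ (d3 d c) d c x 1 f3 h9a⟩
      t02 := ⟨sl3t12_act_conj' ζ d (d2 d c) c (x10 x w) 2 f1 h10b,
        sl3t12_act_conj' ζ (d2 d c) (d3 d c) c (x10 x w) (-1) f2 h10c,
        sl3t12_act_conj' ζ (d3 d c) d c (x10 x w) (-1) f3 h10a⟩ }
  · intro s t
    exact sl3t12_add_conj c⁻¹ c hcc' x add s t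
  · intro s t
    exact sl3t12_add_conj c c⁻¹ hcc x add s t
  · intro s t
    exact sl3t12_add_conj c⁻¹ c hcc' (x10 x w) h10add s t
  · intro s t
    exact sl3t12_add_conj c c⁻¹ hcc (x10 x w) h10add s t

end Cfsg.Agent.Lib.helper17.SL3
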