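import Mathlib
import Cfsg.Agent.Lib.helper17.SLP.Defs
import Cfsg.Agent.Lib.helper17.SL3.Defs
import Cfsg.Agent.Lib.helper17.SL3.Defs2
import Cfsg.Agent.Lib.helper15.SL3T12core
import Cfsg.Agent.Lib.helper2.SL3T4
import Cfsg.Agent.Lib.Helper27.SL3T9
import Cfsg.Agent.Lib.Helper28.SL3T910h28

/-!
# Project SL3 (S2287, designer helper17), row T12 (`tor_table`), verbatim wrapper of `sl3t12_core`
(on helper2's T4 `tor_rel`, helper27's T9 `act01` and helper28's spare `sl3t10_h28_act10` = the exact statement of T10).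
-/

set_option autoImplicit false

namespace Cfsg.Agent.Lib.helper17.SL3

open Cfsg.Agent.Lib.helper17.SLP
open Polynomial

universe u v

variable {F : Type u} [Field F] {G : Type v} [Group G]

/-- T12 [M]  deps T4 T9 T10.  `g * (c * X t * c⁻¹) * g⁻¹ = c * ((c⁻¹ g c) * X t * (c⁻¹ g c)⁻¹) * c⁻¹` with `c⁻¹ d c = d₃`, `c⁻¹ d₂ c = d`, `c⁻¹ d₃ c = d₂`; for `c⁻¹ X c`: `c d c⁻¹ = d₂`, `c d₂ c⁻¹ = d₃`, `c d₃ c⁻¹ = d`. -/
theorem tor_table (ζ : Fˣ) (hζ : ∀ y : Fˣ, y ∈ Subgroup.zpowers ζ) (x : F → G) (d w c : G)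
    (H : Hyp ζ x d w c) : Tor ζ x d w c :=
  sl3t12_core ζ x d w c H.add (tor_rel ζ x d w c H).1 (tor_rel ζ x d w c H).2.1
    (act01 ζ hζ x d w c H) (sl3t10_h28_act10 ζ hζ x d w c H)

end Cfsg.Agent.Lib.helper17.SL3
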