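import Cfsg.Agent.Lib.helper15.TS2LIN
import Cfsg.Agent.Lib.Helper27.TS2.Defs

/-!
# Project TS2, row LIN: `lin_two` (verbatim vs `Helper27/TS2/Skel.lean.txt`), from `ts2lin_core`.
-/

set_option autoImplicit false
set_option linter.unusedSectionVars false
set_option linter.unusedVariables false

namespace Cfsg.Agent.Lib.Helper21.TS

open Matrix Module
open scoped Kronecker
open Cfsg.Agent.Lib.helper7.TP

variable {a b : ℕ} {F : Type*} [Field F]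

variable {J1 : Matrix (Fin 2) (Fin 2) F} {J2 : Matrix (Fin b) (Fin b) F}
  {M : Subgroup (Matrix.GeneralLinearGroup (Fin 2 × Fin b) F)}

/-- `z ↦ g (u ⊗ z)` as a linear map. -/
noncomputable def ts2linG (g : Matrix.GeneralLinearGroup (Fin 2 × Fin b) F) (u : Fin 2 → F) :
    (Fin b → F) →ₗ[F] (Fin 2 × Fin b → F) :=
  (Matrix.toLin' (g : Matrix (Fin 2 × Fin b) (Fin 2 × Fin b) F)).comp (ts2linT u)

theorem ts2linG_apply (g : Matrix.GeneralLinearGroup (Fin 2 × Fin b) F) (u : Fin 2 → F) (z : Fin b → F) :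
    ts2linG g u z = (g : Matrix (Fin 2 × Fin b) (Fin 2 × Fin b) F) *ᵥ ten u z := by
  simp [ts2linG]

theorem ts2linG_inj (g : Matrix.GeneralLinearGroup (Fin 2 × Fin b) F) {u : Fin 2 → F} (hu : u ≠ 0) :
    Function.Injective (ts2linG (b := b) g u) := by
  intro z z' h
  rw [ts2linG_apply, ts2linG_apply] at h
  apply ts2lin_ten_inj hu
  have h2 := congrArg (fun v => ((g⁻¹ : Matrix.GeneralLinearGroup (Fin 2 × Fin b) F) :
    Matrix (Fin 2 × Fin b) (Fin 2 × Fin b) F) *ᵥ v) h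
  simp only [Matrix.mulVec_mulVec] at h2
  rw [← Units.val_mul, inv_mul_cancel, Units.val_one, Matrix.one_mulVec, Matrix.one_mulVec] at h2
  exact h2

/-- LIN [L]. -/
theorem lin_two [Fintype F] (C : Ctx J1 J2) (hb : 7 ≤ b)
    (g : Matrix.GeneralLinearGroup (Fin 2 × Fin b) F) (hg : g ∈ SpV J1 J2) {u : Fin 2 → F} (hu : u ≠ 0)
    (hP : ∀ w m : Fin b → F, w ≠ 0 → bf J2 w w = 0 → bf J2 w m = 0 → bf J2 m m ≠ 0 →
      ∃ u₁ : Fin 2 → F, u₁ ≠ 0 ∧ ∀ z : Fin b → F,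
        (∀ i, bf J2 (fun j => ((g : Matrix (Fin 2 × Fin b) (Fin 2 × Fin b) F) *ᵥ ten u z) (i, j)) w = 0) →
        (∀ i, bf J2 (fun j => ((g : Matrix (Fin 2 × Fin b) (Fin 2 × Fin b) F) *ᵥ ten u z) (i, j)) m = 0) →
        ∃ z' : Fin b → F, (g : Matrix (Fin 2 × Fin b) (Fin 2 × Fin b) F) *ᵥ ten u z = ten u₁ z') :
    ∃ u₂ : Fin 2 → F, u₂ ≠ 0 ∧ ∀ z : Fin b → F, ∃ z' : Fin b → F,
      (g : Matrix (Fin 2 × Fin b) (Fin 2 × Fin b) F) *ᵥ ten u z = ten u₂ z' := by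
  have hmem : ∀ s ∈ LinearMap.range (ts2linG (b := b) g u), ∃ z : Fin b → F,
      s = (g : Matrix (Fin 2 × Fin b) (Fin 2 × Fin b) F) *ᵥ ten u z := by
    rintro s ⟨z, rfl⟩
    exact ⟨z, ts2linG_apply g u z⟩
  have hiso : ∀ s ∈ LinearMap.range (ts2linG (b := b) g u), ∀ s' ∈ LinearMap.range (ts2linG (b := b) g u),
      bf (JV J1 J2) s s' = 0 := by
    intro s hs s' hs'
    obtain ⟨z, rfl⟩ := hmem s hs
    obtain ⟨z', rfl⟩ := hmem s' hs'
    rw [(mem_Iso_iff_bf (JV J1 J2) g).mp hg, bf_JV_ten, bf_self_alt C.alt C.two, zero_mul]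
  have hdim : b ≤ finrank F (LinearMap.range (ts2linG (b := b) g u)) := by
    rw [LinearMap.finrank_range_of_inj (ts2linG_inj g hu), Module.finrank_fin_fun]
  obtain ⟨u₂, hu₂, h⟩ := ts2lin_core C hb (LinearMap.range (ts2linG (b := b) g u)) hiso hdim (by
    intro w m hw hww hwm hmm
    obtain ⟨u₁, hu₁, h₁⟩ := hP w m hw hww hwm hmm
    refine ⟨u₁, hu₁, ?_⟩
    intro s hs h1 h2
    obtain ⟨z, rfl⟩ := hmem s hs
    exact h₁ z h1 h2)
  refine ⟨u₂, hu₂, fun z => ?_⟩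
  exact h _ ⟨z, ts2linG_apply g u z⟩

end Cfsg.Agent.Lib.Helper21.TS
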