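import Cfsg.Agent.Lib.helper15.TS2STABB2b
import Cfsg.Agent.Lib.helper14.TS2RN2
import Cfsg.Agent.Lib.Lead.TS2T0RN
import Cfsg.Agent.Lib.Helper18.TS2OTRANS

/-!
# Project TS2, row STABB2: `stabB_two` (verbatim vs `Helper27/TS2/Skel.lean.txt`)
-/

set_option autoImplicit false
set_option linter.unusedSectionVars false
set_option linter.unusedVariables false

namespace Cfsg.Agent.Lib.Helper21.TS

open Matrix Module
open scoped Kronecker
open Cfsg.Agent.Lib.helper7.TP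

variable {a b : ℕ} {F : Type*} [Field F]

variable {J1 : Matrix (Fin 2) (Fin 2) F} {J2 : Matrix (Fin b) (Fin b) F}
  {M : Subgroup (Matrix.GeneralLinearGroup (Fin 2 × Fin b) F)}

/-- if `g` maps `A ⊗ w` into `A ⊗ w'` then `w'` is singular (`w` singular, `g` an isometry). -/
theorem ts2stabb2_sing (C : Ctx J1 J2) {w w' : Fin b → F} (hw : w ≠ 0) (hw' : w' ≠ 0)
    (hw0 : bf J2 w w = 0) (g : Matrix.GeneralLinearGroup (Fin 2 × Fin b) F) (hgS : g ∈ SpV J1 J2)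
    (hgN : ∀ x : Fin 2 → F, ∃ x' : Fin 2 → F,
      (g : Matrix (Fin 2 × Fin b) (Fin 2 × Fin b) F) *ᵥ ten x w = ten x' w') :
    bf J2 w' w' = 0 := by
  have two := C.two
  have halt := C.alt
  obtain ⟨u, hu⟩ : ∃ u : Fin 2 → F, u ≠ 0 :=
    ⟨Pi.single 0 1, by intro h; have := congrFun h 0; simp at this⟩
  have hu0 : bf J1 u u = 0 := bf_self_alt halt two u
  obtain ⟨y1, hy1⟩ := bf_nondeg C.det1 hu
  obtain ⟨x0, hx0⟩ : ∃ x0 : Fin 2 → F, x0 = (bf J1 u y1)⁻¹ • y1 := ⟨_, rfl⟩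
  have hux0 : bf J1 u x0 = 1 := by rw [hx0, bf_smul_right, inv_mul_cancel₀ hy1]
  obtain ⟨u', hu'⟩ := hgN u
  obtain ⟨x0', hx0'⟩ := hgN x0
  have hginj : ∀ v : Fin 2 × Fin b → F,
      (g : Matrix (Fin 2 × Fin b) (Fin 2 × Fin b) F) *ᵥ v = 0 → v = 0 := by
    intro v hv
    have := ts2stabb2_inv_mulVec g v
    rw [hv, Matrix.mulVec_zero] at this
    exact this.symm
  have hten0 : ∀ c : Fin 2 → F, ten c w = 0 → c = 0 := by
    intro c hc
    apply ts2stabb2_ten_left_inj hw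
    rw [hc, ts2stabb2_ten_zero_left]
  have hu'ne : u' ≠ 0 := by
    intro h0
    rw [h0, ts2stabb2_ten_zero_left] at hu'
    exact hu (hten0 u (hginj _ hu'))
  have hglin : ∀ α β : F, (g : Matrix (Fin 2 × Fin b) (Fin 2 × Fin b) F) *ᵥ ten (α • u + β • x0) w =
      ten (α • u' + β • x0') w' := by
    intro α β
    rw [ten_add_left, ten_smul_left, ten_smul_left, Matrix.mulVec_add, Matrix.mulVec_smul,
      Matrix.mulVec_smul, hu', hx0', ten_add_left, ten_smul_left, ten_smul_left]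
  have hd : bf J1 u' x0' ≠ 0 := by
    intro hd0
    obtain ⟨y2, hy2⟩ := bf_nondeg C.det1 hu'ne
    obtain ⟨u'', hu''⟩ : ∃ u'' : Fin 2 → F, u'' = (bf J1 u' y2)⁻¹ • y2 := ⟨_, rfl⟩
    have h1 : bf J1 u' u'' = 1 := by rw [hu'', bf_smul_right, inv_mul_cancel₀ hy2]
    have hdec := ts2stabb2_basisA halt two u' u'' h1 x0'
    rw [hd0, zero_smul, add_zero] at hdec
    have h2 := hglin (bf J1 u'' x0') 1
    have h3 : bf J1 u'' x0' • u' + (1 : F) • x0' = 0 := by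
      rw [one_smul]
      nth_rewrite 2 [hdec]
      rw [neg_smul, add_neg_cancel]
    rw [h3, ts2stabb2_ten_zero_left] at h2
    have h5 := hten0 _ (hginj _ h2)
    have h6 := congrArg (bf J1 u) h5
    rw [bf_add_right, bf_smul_right, bf_smul_right, hu0, hux0, bf_zero_right, mul_zero, zero_add,
      mul_one] at h6
    exact one_ne_zero h6
  have h := (mem_Iso_iff_bf (JV J1 J2) g).mp hgS (ten u w) (ten x0 w)
  rw [hu', hx0', bf_JV_ten, bf_JV_ten, hw0, mul_zero] at h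
  exact (mul_eq_zero.mp h).resolve_left hd

/-- STABB2 [L]. -/
theorem stabB_two [Fintype F] (p : ℕ) [Fact p.Prime] [CharP F p] (C : Ctx J1 J2) (hb : 3 ≤ b)
    (hT0 : T0 J1 J2 ≤ M) (hMS : M ≤ SpV J1 J2) (ufA : UfpA J1 J2 M) : StabB J1 J2 M := by
  intro g hg w w' hw hw' hw0 hgN
  have hw'0 : bf J2 w' w' = 0 := ts2stabb2_sing C hw hw' hw0 g (hMS hg) hgN
  obtain ⟨β, hβ, hβw⟩ := ob_trans_sing C.sym C.two C.det2 hw' hw hw'0 hw0
  have hkT : kronG (1 : Matrix.GeneralLinearGroup (Fin 2) F) β ∈ T0 J1 J2 :=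
    kronG_mem_T0 (one_mem _) hβ
  have hg1 : kronG (1 : Matrix.GeneralLinearGroup (Fin 2) F) β * g ∈ T0 J1 J2 := by
    apply ts2stabb2_same p C hT0 hMS ufA
      (fun {w} hw hw0 h hh h1 h2 => rn_two p C hb hT0 hMS ufA hw hw0 h hh h1 h2)
      (fun {w} hw hw0 t ht h1 h2 => t0_rn C hb hw hw0 t ht h1 h2)
      hw hw0 _ (mul_mem (hT0 hkT) hg)
    intro x
    obtain ⟨x', hx'⟩ := hgN x
    refine ⟨x', ?_⟩
    rw [ts2stabb2_mul_mulVec, hx', kronG_mulVec_ten, Units.val_one, Matrix.one_mulVec, hβw]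
  have := mul_mem (inv_mem hkT) hg1
  rwa [inv_mul_cancel_left] at this

end Cfsg.Agent.Lib.Helper21.TS
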