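import Mathlib
import Cfsg.Agent.Lib.Helper28.BP2.Defs

set_option autoImplicit false

/-!
# Project BP2 (S5736, designer helper28), row U9 (`cyclic_of_le_PB`), verbatim.
-/

namespace Cfsg.Agent.Lib.Helper28.BP2

open Cfsg.Agent.Lib.helper14

universe u v w

section Util

variable {F : Type u} [Field F]

/-- two lifts of the same element of `PSL₂(F)` differ by a scalar `r` with `r ^ 2 = 1`. -/
theorem bp2u9_lift (g h : SL2 F) (hgh : pr F g = pr F h) :
    ∃ r : F, r ^ 2 = 1 ∧ ∀ i j, (h : Matrix (Fin 2) (Fin 2) F) i j = (g : Matrix (Fin 2) (Fin 2) F) i j * r := by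
  have h1 : g⁻¹ * h ∈ Subgroup.center (SL2 F) := by
    have := hgh
    unfold pr at this
    rw [QuotientGroup.mk'_apply, QuotientGroup.mk'_apply] at this
    exact QuotientGroup.eq.mp this
  obtain ⟨r, hr, hA⟩ := Matrix.SpecialLinearGroup.mem_center_iff.mp h1
  refine ⟨r, by simpa using hr, ?_⟩
  have h2 : h = g * (g⁻¹ * h) := by group
  intro i j
  have h3 : (h : Matrix (Fin 2) (Fin 2) F) = (g : Matrix (Fin 2) (Fin 2) F) * Matrix.scalar (Fin 2) r := by
    rw [hA]
    conv_lhs => rw [h2]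
    rw [Matrix.SpecialLinearGroup.coe_mul]
  rw [h3, Matrix.mul_apply, Fin.sum_univ_two]
  fin_cases j <;> simp [Matrix.scalar_apply, Matrix.diagonal_apply]

/-- the square of the `(0,0)` entry only depends on the image in `PSL₂(F)`. -/
theorem bp2u9_sq (g h : SL2 F) (hgh : pr F g = pr F h) :
    ((h : Matrix (Fin 2) (Fin 2) F) 0 0) ^ 2 = ((g : Matrix (Fin 2) (Fin 2) F) 0 0) ^ 2 := by
  obtain ⟨r, hr, hA⟩ := bp2u9_lift g h hgh
  rw [hA, mul_pow, hr, mul_one]

/-- an upper triangular matrix with `(0,0)` entry `1` is unitriangular. -/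
theorem bp2u9_mem_US (b : SL2 F) (hb : b ∈ BS F) (h00 : (b : Matrix (Fin 2) (Fin 2) F) 0 0 = 1) :
    b ∈ US F := by
  rw [mem_US]
  refine ⟨(b : Matrix (Fin 2) (Fin 2) F) 0 1, ?_⟩
  have h10 : (b : Matrix (Fin 2) (Fin 2) F) 1 0 = 0 := (mem_BS b).mp hb
  have hdet := b.2
  rw [Matrix.det_fin_two, h00, h10, mul_zero, sub_zero, one_mul] at hdet
  apply Subtype.ext
  rw [uS_coe]
  ext i j
  fin_cases i <;> fin_cases j <;> simp [h00, h10, hdet]

/-- an element of `PB F` whose lift has squared `(0,0)` entry `1` lies in `PU F`. -/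
theorem bp2u9_mem_PU (b : SL2 F) (hb : b ∈ BS F)
    (h00 : ((b : Matrix (Fin 2) (Fin 2) F) 0 0) ^ 2 = 1) : pr F b ∈ PU F := by
  have h1 : (b : Matrix (Fin 2) (Fin 2) F) 0 0 = 1 ∨ (b : Matrix (Fin 2) (Fin 2) F) 0 0 = -1 :=
    sq_eq_sq_iff_eq_or_eq_neg.mp (by rw [h00, one_pow])
  rcases h1 with h1 | h1
  · exact Subgroup.mem_map_of_mem _ (bp2u9_mem_US b hb h1)
  · have h10 : (b : Matrix (Fin 2) (Fin 2) F) 1 0 = 0 := (mem_BS b).mp hb
    have hdet := b.2
    rw [Matrix.det_fin_two, h1, h10, mul_zero, sub_zero] at hdet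
    have h11 : (b : Matrix (Fin 2) (Fin 2) F) 1 1 = -1 := by linear_combination -hdet
    set t := (b : Matrix (Fin 2) (Fin 2) F) 0 1 with ht
    have hinv : (uS (-t))⁻¹ = uS t := by
      apply inv_eq_of_mul_eq_one_left
      rw [uS_mul, add_neg_cancel, uS_zero]
    have hpr : pr F (uS (-t)) = pr F b := by
      unfold pr
      rw [QuotientGroup.mk'_apply, QuotientGroup.mk'_apply]
      apply QuotientGroup.eq.mpr
      rw [hinv]
      apply Matrix.SpecialLinearGroup.mem_center_iff.mpr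
      refine ⟨-1, by simp, ?_⟩
      rw [Matrix.SpecialLinearGroup.coe_mul, uS_coe]
      ext i j
      fin_cases i <;> fin_cases j <;>
        simp [Matrix.mul_apply, Fin.sum_univ_two, h1, h10, h11, ← ht]
    rw [← hpr]
    exact Subgroup.mem_map_of_mem _ (uS_mem _)

variable [Fintype F]

/-- **U9**.  `g ↦ (g 0 0)^2` is a homomorphism `PB F → Fˣ` with kernel `PU F`; `Fˣ` is cyclic. -/
theorem cyclic_of_le_PB (K : Subgroup (PSL2 F)) (hK : K ≤ PB F) (hKU : K ⊓ PU F = ⊥) :
    IsCyclic K := by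
  classical
  have hex : ∀ k : K, ∃ b : SL2 F, b ∈ BS F ∧ pr F b = (k : PSL2 F) := fun k => by
    have := hK k.2
    unfold PB at this
    exact Subgroup.mem_map.mp this
  choose rep hrepB hrep using hex
  let φ : K →* F :=
    { toFun := fun k => ((rep k : Matrix (Fin 2) (Fin 2) F) 0 0) ^ 2
      map_one' := by
        have h := bp2u9_sq (1 : SL2 F) (rep 1) (by rw [hrep, map_one]; rfl)
        rw [h]; simp
      map_mul' := by
        intro k k'
        have h := bp2u9_sq (rep k * rep k') (rep (k * k'))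
          (by rw [hrep, map_mul, hrep, hrep]; rfl)
        rw [h, Matrix.SpecialLinearGroup.coe_mul, Matrix.mul_apply, Fin.sum_univ_two,
          (mem_BS (rep k')).mp (hrepB k'), mul_zero, add_zero, mul_pow] }
  have hφ : ∀ k : K, φ k = ((rep k : Matrix (Fin 2) (Fin 2) F) 0 0) ^ 2 := fun _ => rfl
  have hinj : Function.Injective φ.toHomUnits := by
    rw [injective_iff_map_eq_one]
    intro k hk
    have h1 : φ k = 1 := by
      have := congrArg (fun u : Fˣ => (u : F)) hk
      simpa [MonoidHom.coe_toHomUnits] using this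
    rw [hφ] at h1
    have h2 : pr F (rep k) ∈ PU F := bp2u9_mem_PU (rep k) (hrepB k) h1
    rw [hrep] at h2
    have h3 : (k : PSL2 F) ∈ K ⊓ PU F := ⟨k.2, h2⟩
    rw [hKU, Subgroup.mem_bot] at h3
    exact Subtype.ext h3
  exact isCyclic_of_injective φ.toHomUnits hinj

end Util

end Cfsg.Agent.Lib.Helper28.BP2
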