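import Mathlib
import Cfsg.Prelude.Def_ParabolicCharacters
set_option autoImplicit false

namespace Cfsg.Agent.Lib.helper15.Stb

open Matrix Finset
open scoped MatrixGroups

variable {n : ℕ} {F : Type*} [Field F]

def pm (σ : Equiv.Perm (Fin n)) : Matrix (Fin n) (Fin n) F :=
  Matrix.of fun i j => if i = σ j then 1 else 0

theorem pm_apply (σ : Equiv.Perm (Fin n)) (i j : Fin n) :
    (pm σ : Matrix (Fin n) (Fin n) F) i j = if i = σ j then 1 else 0 := rfl

theorem pm_one : (pm (1 : Equiv.Perm (Fin n)) : Matrix (Fin n) (Fin n) F) = 1 := by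
  ext i j
  rw [pm_apply, Matrix.one_apply]
  simp only [Equiv.Perm.coe_one, id]
  split_ifs with h1 h2 h2 <;> simp_all

theorem pm_mul (σ τ : Equiv.Perm (Fin n)) :
    (pm (σ * τ) : Matrix (Fin n) (Fin n) F) = pm σ * pm τ := by
  classical
  ext i j
  simp only [pm_apply, Matrix.mul_apply, Equiv.Perm.coe_mul, Function.comp_apply]
  rw [Finset.sum_eq_single (τ j)]
  · simp only [if_true, mul_one]
    split_ifs with h1 h2 h2 <;> simp_all
  · intro b _ hb
    simp [hb]
  · simp

noncomputable def pmGL (σ : Equiv.Perm (Fin n)) : GL (Fin n) F :=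
  ⟨pm σ, pm σ⁻¹, by rw [← pm_mul, mul_inv_cancel, pm_one], by rw [← pm_mul, inv_mul_cancel, pm_one]⟩

theorem pmGL_coe (σ : Equiv.Perm (Fin n)) :
    ((pmGL σ : GL (Fin n) F) : Matrix (Fin n) (Fin n) F) = pm σ := rfl

theorem pmGL_mul (σ τ : Equiv.Perm (Fin n)) :
    (pmGL (σ * τ) : GL (Fin n) F) = pmGL σ * pmGL τ := by
  apply Units.ext
  exact pm_mul σ τ

theorem pm_mulVec (σ : Equiv.Perm (Fin n)) (v : Fin n → F) (i : Fin n) :
    ((pm σ : Matrix (Fin n) (Fin n) F).mulVec v) i = v (σ⁻¹ i) := by
  classical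
  simp only [Matrix.mulVec, dotProduct, pm_apply]
  rw [Finset.sum_eq_single (σ⁻¹ i)]
  · simp
  · intro b _ hb
    have : i ≠ σ b := by
      intro h
      apply hb
      rw [h]
      simp
    simp [this]
  · simp

noncomputable def colCount (M : Matrix (Fin n) (Fin n) F) (j : Fin n) : ℕ := by
  classical
  exact (univ.filter fun i => M i j ≠ 0).card

theorem transvection_ut (i j : Fin n) (h : i < j) (c : F) :
    (transvection i j c).BlockTriangular id := by
  intro a b hab
  simp only [id] at hab
  simp only [transvection, Matrix.add_apply, Matrix.one_apply, Matrix.single_apply]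
  have h1 : a ≠ b := ne_of_gt hab
  have h2 : ¬ (i = a ∧ j = b) := by
    rintro ⟨rfl, rfl⟩
    exact absurd h (not_lt.mpr hab.le)
  simp [h1, h2]

noncomputable def tvGL (i j : Fin n) (h : i ≠ j) (c : F) : GL (Fin n) F :=
  Matrix.GeneralLinearGroup.mkOfDetNeZero (transvection i j c)
    (by rw [det_transvection_of_ne i j h]; exact one_ne_zero)

theorem tvGL_mem (i j : Fin n) (h : i < j) (c : F) :
    tvGL i j (ne_of_lt h) c ∈ Cfsg.upperTriangularGL n F :=
  transvection_ut i j h c

theorem tvGL_coe (i j : Fin n) (h : i ≠ j) (c : F) :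
    ((tvGL i j h c : GL (Fin n) F) : Matrix (Fin n) (Fin n) F) = transvection i j c := rfl

theorem colCount_lt_of (M M' : Matrix (Fin n) (Fin n) F) (c r : Fin n)
    (h1 : ∀ a, a ≠ r → M' a c = M a c) (h2 : M' r c = 0) (h3 : M r c ≠ 0) :
    colCount M' c < colCount M c := by
  classical
  unfold colCount
  apply Finset.card_lt_card
  rw [Finset.ssubset_iff_of_subset]
  · refine ⟨r, by simp [h3], by simp [h2]⟩
  · intro a ha
    simp only [mem_filter, mem_univ, true_and] at ha ⊢
    by_cases har : a = r
    · subst har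
      exact absurd h2 ha
    · rw [← h1 a har]
      exact ha

theorem colCount_eq_of (M M' : Matrix (Fin n) (Fin n) F) (c : Fin n)
    (h1 : ∀ a, M' a c = M a c) : colCount M' c = colCount M c := by
  classical
  unfold colCount
  congr 1
  ext a
  simp [h1]

theorem colCount_pos (M : GL (Fin n) F) (c : Fin n) :
    0 < colCount (M : Matrix (Fin n) (Fin n) F) c := by
  classical
  unfold colCount
  rw [Finset.card_pos]
  by_contra hne
  rw [Finset.not_nonempty_iff_eq_empty, Finset.filter_eq_empty_iff] at hne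
  have hz : ∀ i, (M : Matrix (Fin n) (Fin n) F) i c = 0 := by
    intro i
    have := hne (mem_univ i)
    simpa using this
  have hdet : (M : Matrix (Fin n) (Fin n) F).det = 0 := Matrix.det_eq_zero_of_column_eq_zero c hz
  have hu : IsUnit (M : Matrix (Fin n) (Fin n) F).det := by
    rw [← Matrix.isUnit_iff_isUnit_det]
    exact M.isUnit
  rw [hdet] at hu
  exact not_isUnit_zero hu

theorem exists_row_ne (M : GL (Fin n) F) (r : Fin n) :
    ∃ c, (M : Matrix (Fin n) (Fin n) F) r c ≠ 0 := by
  by_contra hne
  push Not at hne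
  have hdet : (M : Matrix (Fin n) (Fin n) F).det = 0 := Matrix.det_eq_zero_of_row_eq_zero r hne
  have hu : IsUnit (M : Matrix (Fin n) (Fin n) F).det := by
    rw [← Matrix.isUnit_iff_isUnit_det]
    exact M.isUnit
  rw [hdet] at hu
  exact not_isUnit_zero hu

def lexRel : (Fin n → ℕ) → (Fin n → ℕ) → Prop :=
  Pi.Lex (· < ·) (fun {_} => (· < ·))

theorem lexRel_wf : WellFounded (lexRel (n := n)) :=
  Pi.Lex.wellFounded (· < ·) (fun _ => Nat.lt_wfRel.wf)

theorem minimal_monomial (M : GL (Fin n) F)
    (hmin : ∀ b ∈ Cfsg.upperTriangularGL n F, ∀ b' ∈ Cfsg.upperTriangularGL n F,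
      ¬ lexRel (colCount ((b * M * b' : GL (Fin n) F) : Matrix (Fin n) (Fin n) F))
        (colCount (M : Matrix (Fin n) (Fin n) F))) :
    ∀ c, colCount (M : Matrix (Fin n) (Fin n) F) c = 1 := by
  classical
  by_contra hcon
  push Not at hcon
  have hex : (univ.filter fun c => colCount (M : Matrix (Fin n) (Fin n) F) c ≠ 1).Nonempty := by
    obtain ⟨c, hc⟩ := hcon
    exact ⟨c, by simp [hc]⟩
  obtain ⟨c, hc, hcmin⟩ := Finset.exists_min_image _ (fun c : Fin n => c) hex
  simp only [mem_filter, mem_univ, true_and] at hc hcmin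
  have hlt1 : ∀ c' < c, colCount (M : Matrix (Fin n) (Fin n) F) c' = 1 := by
    intro c' hc'
    by_contra h
    exact absurd (hcmin c' h) (not_le.mpr hc')
  have hc2 : 2 ≤ colCount (M : Matrix (Fin n) (Fin n) F) c := by
    have := colCount_pos M c
    omega
  have hne : (univ.filter fun i => (M : Matrix (Fin n) (Fin n) F) i c ≠ 0).Nonempty := by
    rw [← Finset.card_pos]
    have := colCount_pos M c
    unfold colCount at this
    convert this
  set r := (univ.filter fun i => (M : Matrix (Fin n) (Fin n) F) i c ≠ 0).max' hne with hr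
  have hrmem := Finset.max'_mem _ hne
  rw [← hr] at hrmem
  simp only [mem_filter, mem_univ, true_and] at hrmem
  have hrmax : ∀ i, (M : Matrix (Fin n) (Fin n) F) i c ≠ 0 → i ≤ r := by
    intro i hi
    exact Finset.le_max' _ i (by simp [hi])
  by_cases hcase : ∃ c' < c, (M : Matrix (Fin n) (Fin n) F) r c' ≠ 0
  · obtain ⟨c', hc'lt, hc'ne⟩ := hcase
    have hone := hlt1 c' hc'lt
    have huniq : ∀ i, i ≠ r → (M : Matrix (Fin n) (Fin n) F) i c' = 0 := by
      intro i hir
      by_contra hi
      unfold colCount at hone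
      rw [Finset.card_eq_one] at hone
      obtain ⟨a, ha⟩ := hone
      have h1 : i ∈ ({a} : Finset (Fin n)) := by
        rw [← ha]
        simp only [mem_filter, mem_univ, true_and]
        exact hi
      have h2 : r ∈ ({a} : Finset (Fin n)) := by
        rw [← ha]
        simp only [mem_filter, mem_univ, true_and]
        exact hc'ne
      rw [Finset.mem_singleton] at h1 h2
      exact hir (h1.trans h2.symm)
    set β : F := - (M : Matrix (Fin n) (Fin n) F) r c / (M : Matrix (Fin n) (Fin n) F) r c' with hβ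
    apply hmin 1 (Subgroup.one_mem _) (tvGL c' c (ne_of_lt hc'lt) β) (tvGL_mem c' c hc'lt β)
    refine ⟨c, ?_, ?_⟩
    · intro j hj
      apply colCount_eq_of
      intro a
      rw [one_mul, Units.val_mul, tvGL_coe]
      exact mul_transvection_apply_of_ne c' c a j (ne_of_lt hj) β _
    · apply colCount_lt_of _ _ c r
      · intro a har
        rw [one_mul, Units.val_mul, tvGL_coe, mul_transvection_apply_same, huniq a har]
        ring
      · rw [one_mul, Units.val_mul, tvGL_coe, mul_transvection_apply_same, hβ]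
        field_simp
        ring
      · exact hrmem
  · push Not at hcase
    have hex2 : ∃ r', r' ≠ r ∧ (M : Matrix (Fin n) (Fin n) F) r' c ≠ 0 := by
      by_contra hno
      push Not at hno
      have : colCount (M : Matrix (Fin n) (Fin n) F) c ≤ 1 := by
        unfold colCount
        rw [Finset.card_le_one]
        intro a ha b hb
        simp only [mem_filter, mem_univ, true_and] at ha hb
        have h1 : a = r := by
          by_contra h
          exact ha (hno a h)
        have h2 : b = r := by
          by_contra h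
          exact hb (hno b h)
        rw [h1, h2]
      omega
    obtain ⟨r', hr'ne, hr'c⟩ := hex2
    have hr'lt : r' < r := lt_of_le_of_ne (hrmax r' hr'c) hr'ne
    set α : F := - (M : Matrix (Fin n) (Fin n) F) r' c / (M : Matrix (Fin n) (Fin n) F) r c with hα
    apply hmin (tvGL r' r (ne_of_lt hr'lt) α) (tvGL_mem r' r hr'lt α) 1 (Subgroup.one_mem _)
    refine ⟨c, ?_, ?_⟩
    · intro j hj
      apply colCount_eq_of
      intro a
      rw [mul_one, Units.val_mul, tvGL_coe]
      by_cases ha : a = r'
      · subst ha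
        rw [transvection_mul_apply_same, hcase j hj]
        ring
      · exact transvection_mul_apply_of_ne r' r a j ha α _
    · apply colCount_lt_of _ _ c r'
      · intro a har
        rw [mul_one, Units.val_mul, tvGL_coe]
        exact transvection_mul_apply_of_ne r' r a c har α _
      · rw [mul_one, Units.val_mul, tvGL_coe, transvection_mul_apply_same, hα]
        field_simp
        ring
      · exact hr'c

theorem monomial_decomp (M : GL (Fin n) F)
    (h : ∀ c, colCount (M : Matrix (Fin n) (Fin n) F) c = 1) :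
    ∃ σ : Equiv.Perm (Fin n), ∃ D ∈ Cfsg.upperTriangularGL n F, M = pmGL σ * D := by
  classical
  have hex : ∀ c, ∃ r, (M : Matrix (Fin n) (Fin n) F) r c ≠ 0 ∧
      ∀ i, (M : Matrix (Fin n) (Fin n) F) i c ≠ 0 → i = r := by
    intro c
    have := h c
    unfold colCount at this
    rw [Finset.card_eq_one] at this
    obtain ⟨a, ha⟩ := this
    refine ⟨a, ?_, ?_⟩
    · have : a ∈ (univ.filter fun i => (M : Matrix (Fin n) (Fin n) F) i c ≠ 0) := by
        rw [ha]
        simp
      simpa using this
    · intro i hi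
      have : i ∈ (univ.filter fun i => (M : Matrix (Fin n) (Fin n) F) i c ≠ 0) := by
        simp [hi]
      rw [ha] at this
      simpa using this
  choose ρ hρ1 hρ2 using hex
  have hsurj : Function.Surjective ρ := by
    intro r
    obtain ⟨c, hc⟩ := exists_row_ne M r
    exact ⟨c, (hρ2 c r hc).symm⟩
  have hbij : Function.Bijective ρ := (Finite.surjective_iff_bijective).mp hsurj
  let σ : Equiv.Perm (Fin n) := Equiv.ofBijective ρ hbij
  let d : Fin n → F := fun c => (M : Matrix (Fin n) (Fin n) F) (ρ c) c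
  have hd : (Matrix.diagonal d).det ≠ 0 := by
    rw [Matrix.det_diagonal, Finset.prod_ne_zero_iff]
    intro c _
    exact hρ1 c
  let D : GL (Fin n) F := Matrix.GeneralLinearGroup.mkOfDetNeZero (Matrix.diagonal d) hd
  refine ⟨σ, D, ?_, ?_⟩
  · show (Matrix.diagonal d).BlockTriangular id
    exact Matrix.blockTriangular_diagonal d
  · apply Units.ext
    ext i j
    show (M : Matrix (Fin n) (Fin n) F) i j = ((pm σ : Matrix (Fin n) (Fin n) F) * Matrix.diagonal d) i j
    rw [Matrix.mul_diagonal, pm_apply]
    by_cases hij : i = σ j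
    · rw [if_pos hij, one_mul]
      show _ = (M : Matrix (Fin n) (Fin n) F) (ρ j) j
      rw [hij]
      rfl
    · rw [if_neg hij, zero_mul]
      by_contra hne
      exact hij (hρ2 j i hne)

theorem exists_bruhat (g : GL (Fin n) F) :
    ∃ σ : Equiv.Perm (Fin n), ∃ b ∈ Cfsg.upperTriangularGL n F,
      ∃ b' ∈ Cfsg.upperTriangularGL n F, g = b * pmGL σ * b' := by
  classical
  let S : Set (Fin n → ℕ) := {v | ∃ b ∈ Cfsg.upperTriangularGL n F, ∃ b' ∈ Cfsg.upperTriangularGL n F,
    v = colCount ((b * g * b' : GL (Fin n) F) : Matrix (Fin n) (Fin n) F)}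
  have hS : S.Nonempty := ⟨_, 1, Subgroup.one_mem _, 1, Subgroup.one_mem _, rfl⟩
  obtain ⟨v, ⟨b, hb, b', hb', rfl⟩, hvmin⟩ := lexRel_wf.has_min S hS
  have hmono := minimal_monomial (b * g * b') (by
    intro c hc c' hc' hlt
    apply hvmin _ _ hlt
    refine ⟨c * b, Subgroup.mul_mem _ hc hb, b' * c', Subgroup.mul_mem _ hb' hc', ?_⟩
    have e : c * (b * g * b') * c' = c * b * g * (b' * c') := by group
    rw [e])
  obtain ⟨σ, D, hD, hM⟩ := monomial_decomp _ hmono
  refine ⟨σ, b⁻¹, Subgroup.inv_mem _ hb, D * b'⁻¹, Subgroup.mul_mem _ hD (Subgroup.inv_mem _ hb'), ?_⟩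
  have : g = b⁻¹ * (b * g * b') * b'⁻¹ := by group
  rw [this, hM]
  group

end Cfsg.Agent.Lib.helper15.Stb
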