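import Mathlib
import Cfsg.Agent.Lib.helper17.SLP.Defs
import Cfsg.Agent.Lib.helper17.SLN.Defs

/-!
# Project SLN (S2290, designer helper17), row M8 (`diag_transvection`): a diagonal matrix conjugates a transvection to a
transvection (copy of `diag_T` of `Cfsg/Agent/S2402.lean` for a general index type).
-/

set_option autoImplicit false

namespace Cfsg.Agent.Lib.helper17.SLN

open Cfsg.Agent.Lib.helper17.SLP
open Cfsg.Agent.Lib.helper7.St

universe u v w v'

section M

open Matrix

variable {F : Type u} [Field F] {ι : Type w} [Fintype ι] [DecidableEq ι]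

/-- M8 [S-M] -/
theorem diag_transvection (d : Matrix.SpecialLinearGroup ι F) (D : ι → F) (hd : d.1 = Matrix.diagonal D)
    {i j : ι} (hij : i ≠ j) (t t' : F) (ht : t' * D j = D i * t) :
    d * Matrix.SpecialLinearGroup.transvection hij t = Matrix.SpecialLinearGroup.transvection hij t' * d := by
  apply Subtype.ext
  show d.1 * (1 + Matrix.single i j t) = (1 + Matrix.single i j t') * d.1
  rw [hd, mul_add, add_mul, mul_one, one_mul]
  congr 1
  ext a b
  rw [Matrix.diagonal_mul, Matrix.mul_diagonal]
  simp only [Matrix.single_apply]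
  by_cases h : i = a ∧ j = b
  · obtain ⟨rfl, rfl⟩ := h
    simp [ht]
  · simp [h]

end M

end Cfsg.Agent.Lib.helper17.SLN
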