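import Cfsg.Agent.Lib.helper15.SQM.Defs

set_option autoImplicit false

/-!
# Project SQM, rows A (`sqm_scalar`) and C3 (`sqm_inv_even`), verbatim from `helper15/SQM/Skel.lean.txt`.
-/

namespace Cfsg.Agent.Lib.helper15.SQM

open Matrix Module

variable {ι : Type} [Fintype ι] [DecidableEq ι] {F : Type*} [Field F]

/-- A [S]: an isometry with scalar square has square `±1`.  (`Q (x² v) = z² Q v`.) -/
theorem sqm_scalar (Q : QuadraticForm F (ι → F)) (hQ : ∃ v, Q v ≠ 0)
    (x : Matrix.GeneralLinearGroup ι F) (hx : x ∈ Cfsg.isometryGroup F ⇑Q) (z : F)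
    (hz : ((x ^ 2 : Matrix.GeneralLinearGroup ι F) : Matrix ι ι F) = z • (1 : Matrix ι ι F)) :
    z = 1 ∨ z = -1 := by
  obtain ⟨v, hv⟩ := hQ
  have h2 : x ^ 2 ∈ Cfsg.isometryGroup F ⇑Q := Subgroup.pow_mem _ hx 2
  have h3 : Q (((x ^ 2 : Matrix.GeneralLinearGroup ι F) : Matrix ι ι F) *ᵥ v) = Q v := h2 v v
  rw [hz, Matrix.smul_mulVec, Matrix.one_mulVec, QuadraticMap.map_smul] at h3
  have h4 : (z * z - 1) * Q v = 0 := by
    rw [sub_mul, one_mul, sub_eq_zero]; simpa [smul_eq_mul] using h3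
  rcases mul_eq_zero.1 h4 with h5 | h5
  · have h6 : (z - 1) * (z + 1) = 0 := by rw [← h5]; ring
    rcases mul_eq_zero.1 h6 with h7 | h7
    · left; exact sub_eq_zero.1 h7
    · right; exact eq_neg_of_add_eq_zero_left h7
  · exact absurd h5 hv

/-- the restriction of `x` to an invariant subspace -/
theorem sqmc3_det_sq {V : Type*} [AddCommGroup V] [Module F V] [FiniteDimensional F V]
    (y : V →ₗ[F] V) (hy : y * y = -1) :
    LinearMap.det y * LinearMap.det y = (-1 : F) ^ finrank F V := by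
  rw [← map_mul, hy]
  have : (-1 : V →ₗ[F] V) = (-1 : F) • (1 : V →ₗ[F] V) := by simp
  rw [this, LinearMap.det_smul, map_one, mul_one]

/-- C3 [S-M]: in case 3 invariant subspaces have even dimension.  (`y = x|W`: `det y ^ 2 = det (y²) = det (-1) = (-1)^(dim W)`; odd dimension would make `-1` a square.) -/
theorem sqm_inv_even (x : Matrix ι ι F) (hx2 : x * x = -1) (hns : ¬ IsSquare (-1 : F))
    (W : Submodule F (ι → F)) (hW : W.map (Matrix.toLin' x) ≤ W) : Even (finrank F ↥W) := by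
  have hmem : ∀ w ∈ W, Matrix.toLin' x w ∈ W := fun w hw => hW (Submodule.mem_map_of_mem hw)
  set y : W →ₗ[F] W := (Matrix.toLin' x).restrict hmem with hy
  have hyy : y * y = -1 := by
    apply LinearMap.ext
    intro w
    apply Subtype.ext
    simp only [Module.End.mul_apply, hy, LinearMap.coe_restrict_apply, LinearMap.neg_apply,
      Module.End.one_apply, Submodule.coe_neg, Matrix.toLin'_apply]
    rw [Matrix.mulVec_mulVec, hx2, Matrix.neg_mulVec, Matrix.one_mulVec]
  have hdet := sqmc3_det_sq y hyy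
  by_contra hodd
  rw [Nat.not_even_iff_odd] at hodd
  rw [hodd.neg_one_pow] at hdet
  exact hns ⟨_, hdet.symm⟩

end Cfsg.Agent.Lib.helper15.SQM
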