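import Mathlib
import Cfsg.Agent.Lib.helper3.T2E.Defs
import Cfsg.Agent.Lib.helper8.ChevBN2
import Cfsg.Agent.Lib.helper8.ChevTabOrbE6

/-!
# T2E row D7 (helper15), VERBATIM: `N1_norm_T1` — `N¹ = N ∩ G¹` normalizes `T¹ = H ∩ G¹`
-/

set_option autoImplicit false

namespace Cfsg.Agent.Lib.helper3.T2E

open Cfsg.Lie Cfsg.Lie.ChevalleyDatum Matrix
open Cfsg.Agent.Lib.helper8 Cfsg.Agent.Lib.Helper10.TEM Cfsg.Agent.Lib.helper7.Ce
  Cfsg.Agent.Lib.helper15.St2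

universe u

variable {K : Type u} [Field K] {q : ℕ} {f : K ≃+* K}

/-- the monomial subgroup of `E₆(K)` normalizes the diagonal subgroup -/
theorem t2ed7h15_norm (n h : GG K) (hn : n ∈ chevE6.monomialSubgroup K) (hh : h ∈ chevE6.diagonalSubgroup K) :
    n * h * n⁻¹ ∈ chevE6.diagonalSubgroup K ∧ n⁻¹ * h * n ∈ chevE6.diagonalSubgroup K := by
  have hle := h8N_le_normalizer_H (F := K) chevE6 hB hA h8dep_E6 h8par_E6 h8orbChk_E6
  have h1 := hle hn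
  have h2 := hle (inv_mem hn)
  rw [Subgroup.mem_normalizer_iff] at h1 h2
  refine ⟨(h1 h).1 hh, ?_⟩
  have := (h2 h).1 hh
  rwa [inv_inv] at this

-- ROW D7 [S-M]  `N` normalizes `H` (BN package `hBN` / `h8Pi_H`), and `G¹` is a subgroup.
theorem N1_norm_T1 (n h : GG K) (hn : n ∈ N1 K q) (hh : h ∈ T1 K q) :
    n * h * n⁻¹ ∈ T1 K q ∧ n⁻¹ * h * n ∈ T1 K q := by
  have hn' : n ∈ chevE6.monomialSubgroup K ∧ n ∈ twistedE6 K q := Subgroup.mem_inf.1 hn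
  have hh' : h ∈ chevE6.diagonalSubgroup K ∧ h ∈ twistedE6 K q := Subgroup.mem_inf.1 hh
  obtain ⟨h1, h2⟩ := t2ed7h15_norm n h hn'.1 hh'.1
  exact ⟨Subgroup.mem_inf.2 ⟨h1, mul_mem (mul_mem hn'.2 hh'.2) (inv_mem hn'.2)⟩,
    Subgroup.mem_inf.2 ⟨h2, mul_mem (mul_mem (inv_mem hn'.2) hh'.2) hn'.2⟩⟩

end Cfsg.Agent.Lib.helper3.T2E
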