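import Mathlib
import Cfsg.Prelude.Def_Classical
import Cfsg.Agent.Lib.helper15.QuadF2Plus

set_option autoImplicit false

namespace Cfsg.Agent.Lib.helper15

theorem card_fun_zmod2 (m : ℕ) : Fintype.card (Fin m → ZMod 2) = 2 ^ m := by
  rw [Fintype.card_fun, ZMod.card, Fintype.card_fin]

theorem card_VP (m : ℕ) : Fintype.card (VP m) = 2 ^ (2 * m) := by
  rw [Fintype.card_fun, ZMod.card, Fintype.card_sum, Fintype.card_fin, two_mul]

theorem inner_sum_chi (m : ℕ) (x : Fin m → ZMod 2) :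
    ∑ y : Fin m → ZMod 2, chi (∑ i, x i * y i) = if x = 0 then (2 : ℤ) ^ m else 0 := by
  split_ifs with hx
  · subst hx
    simp only [Pi.zero_apply, zero_mul, Finset.sum_const_zero, chi_zero, Finset.sum_const,
      Finset.card_univ, card_fun_zmod2, nsmul_eq_mul, mul_one]
    push_cast
    rfl
  · obtain ⟨j, hj⟩ : ∃ j, x j ≠ 0 := by
      by_contra hcon
      push Not at hcon
      exact hx (funext hcon)
    apply sum_chi_additive_eq_zero (fun y : Fin m → ZMod 2 => ∑ i, x i * y i) ?_ (Pi.single j 1) ?_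
    · intro u v
      simp only [Pi.add_apply, mul_add, Finset.sum_add_distrib]
    · show ∑ i, x i * (Pi.single j 1 : Fin m → ZMod 2) i = 1
      rw [Finset.sum_eq_single j]
      · rw [Pi.single_eq_same, mul_one]; exact zmod2_eq_one_of_ne_zero hj
      · intro i _ hi
        rw [Pi.single_eq_of_ne hi, mul_zero]
      · intro h; exact absurd (Finset.mem_univ _) h

theorem gsum_QP (m : ℕ) : gsum (QP m) = 2 ^ m := by
  unfold gsum
  rw [← Equiv.sum_comp (Equiv.sumArrowEquivProdArrow (Fin m) (Fin m) (ZMod 2)).symm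
    (fun v => chi (QP m v)), Fintype.sum_prod_type]
  have h : ∀ x : Fin m → ZMod 2, ∑ y : Fin m → ZMod 2,
      chi (QP m ((Equiv.sumArrowEquivProdArrow (Fin m) (Fin m) (ZMod 2)).symm (x, y)))
        = if x = 0 then (2 : ℤ) ^ m else 0 := by
    intro x
    rw [← inner_sum_chi m x]
    rfl
  rw [Finset.sum_congr rfl (fun x _ => h x)]
  rw [Finset.sum_ite_eq' Finset.univ (0 : Fin m → ZMod 2) (fun _ => (2 : ℤ) ^ m)]
  simp

def qw (m : ℕ) (w : VP m) : VP m → ZMod 2 := fun v => QP m v + BP m v w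

theorem qw_polar (m : ℕ) (w : VP m) (u v : VP m) :
    qw m w (u + v) = qw m w u + qw m w v + BP m u v := by
  unfold qw
  rw [QP_polar, BP_add_left]
  ring

theorem qw_injective (m : ℕ) : Function.Injective (qw m) := by
  intro w w' h
  by_contra hne
  have hne' : w + w' ≠ 0 := by
    intro h0
    apply hne
    have : w = -w' := eq_neg_of_add_eq_zero_left h0
    rw [this]
    funext j
    exact zmod2_neg _
  obtain ⟨u, hu⟩ := BP_nondeg m (w + w') hne'
  have h1 : qw m w u = qw m w' u := congrFun h u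
  unfold qw at h1
  rw [BP_add_right] at hu
  have h2 : BP m u w = BP m u w' := add_left_cancel h1
  rw [h2, zmod2_add_self] at hu
  exact zero_ne_one hu

theorem exists_qw (m : ℕ) (q : VP m → ZMod 2)
    (hq : ∀ u v : VP m, q (u + v) = q u + q v + BP m u v) : ∃ w, q = qw m w := by
  let φ : VP m →+ ZMod 2 := AddMonoidHom.mk' (fun v => q v - QP m v) (by
    intro u v
    show q (u + v) - QP m (u + v) = (q u - QP m u) + (q v - QP m v)
    rw [hq, QP_polar]
    ring)
  let w : VP m := fun j => match j with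
    | Sum.inl i => φ (Pi.single (Sum.inr i) 1)
    | Sum.inr i => φ (Pi.single (Sum.inl i) 1)
  let ψ : VP m →+ ZMod 2 := AddMonoidHom.mk' (fun v => BP m v w) (fun u v => BP_add_left m u v w)
  have hφψ : φ = ψ := by
    apply AddMonoidHom.functions_ext
    intro j x
    have hx : x = 0 ∨ x = 1 := by revert x; decide
    rcases hx with rfl | rfl
    · rw [Pi.single_zero, map_zero, map_zero]
    · rcases j with i | i
      · show φ (Pi.single (Sum.inl i) 1) = BP m (Pi.single (Sum.inl i) 1) w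
        rw [BP_single_inl]
      · show φ (Pi.single (Sum.inr i) 1) = BP m (Pi.single (Sum.inr i) 1) w
        rw [BP_single_inr]
  refine ⟨w, ?_⟩
  funext v
  have h1 : φ v = ψ v := by rw [hφψ]
  have h2 : q v - QP m v = BP m v w := h1
  unfold qw
  rw [← h2]
  ring


theorem plus_type_iff (m : ℕ) (w : VP m) :
    (∃ g : VP m ≃ₗ[ZMod 2] VP m, ∀ v, qw m w v = QP m (g v)) ↔ QP m w = 0 :=
  same_type_iff m (QP m) (QP_polar m) w

def idxMinus (k : ℕ) : (Fin k ⊕ Fin k) ⊕ Fin 2 ≃ Fin (k + 1) ⊕ Fin (k + 1) where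
  toFun j := match j with
    | Sum.inl (Sum.inl i) => Sum.inl i.castSucc
    | Sum.inl (Sum.inr i) => Sum.inr i.castSucc
    | Sum.inr t => if t = 0 then Sum.inl (Fin.last k) else Sum.inr (Fin.last k)
  invFun j := match j with
    | Sum.inl i => Fin.lastCases (Sum.inr 0) (fun i' => Sum.inl (Sum.inl i')) i
    | Sum.inr i => Fin.lastCases (Sum.inr 1) (fun i' => Sum.inl (Sum.inr i')) i
  left_inv j := by
    rcases j with (i | i) | t
    · simp
    · simp
    · have ht : t = 0 ∨ t = 1 := by revert t; decide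
      rcases ht with rfl | rfl <;> simp
  right_inv j := by
    rcases j with i | i
    · induction i using Fin.lastCases with
      | last => simp
      | cast i => simp
    · induction i using Fin.lastCases with
      | last => simp
      | cast i => simp

def minusEquiv (k : ℕ) : VP (k + 1) ≃ₗ[ZMod 2] ((Fin k ⊕ Fin k) ⊕ Fin 2 → ZMod 2) :=
  LinearEquiv.funCongrLeft (ZMod 2) (ZMod 2) (idxMinus k)

theorem minusEquiv_apply (k : ℕ) (v : VP (k + 1)) (j : (Fin k ⊕ Fin k) ⊕ Fin 2) :
    minusEquiv k v j = v (idxMinus k j) := rfl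

abbrev QM (k : ℕ) : ((Fin k ⊕ Fin k) ⊕ Fin 2 → ZMod 2) → ZMod 2 := Cfsg.quadFormMinus k (ZMod 2) 1 1

def w0 (k : ℕ) : VP (k + 1) := Pi.single (Sum.inl (Fin.last k)) 1 + Pi.single (Sum.inr (Fin.last k)) 1

theorem QP_w0 (k : ℕ) : QP (k + 1) (w0 k) = 1 := by
  unfold QP Cfsg.quadFormPlus w0
  rw [Finset.sum_eq_single (Fin.last k)]
  · simp
  · intro i _ hi
    simp [hi]
  · intro h; exact absurd (Finset.mem_univ _) h

theorem BP_w0 (k : ℕ) (v : VP (k + 1)) :
    BP (k + 1) v (w0 k) = v (Sum.inr (Fin.last k)) + v (Sum.inl (Fin.last k)) := by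
  rw [BP_symm]
  unfold w0
  rw [BP_add_left, BP_single_inl, BP_single_inr]

theorem QM_minusEquiv (k : ℕ) (v : VP (k + 1)) : QM k (minusEquiv k v) = qw (k + 1) (w0 k) v := by
  unfold qw
  rw [BP_w0]
  unfold QM QP Cfsg.quadFormMinus Cfsg.quadFormPlus
  rw [Fin.sum_univ_castSucc]
  simp only [minusEquiv_apply]
  have e1 : ∀ i : Fin k, idxMinus k (Sum.inl (Sum.inl i)) = Sum.inl i.castSucc := fun _ => rfl
  have e2 : ∀ i : Fin k, idxMinus k (Sum.inl (Sum.inr i)) = Sum.inr i.castSucc := fun _ => rfl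
  have e3 : idxMinus k (Sum.inr 0) = Sum.inl (Fin.last k) := rfl
  have e4 : idxMinus k (Sum.inr 1) = Sum.inr (Fin.last k) := rfl
  simp only [e1, e2, e3, e4]
  have h1 := zmod2_mul_self (v (Sum.inl (Fin.last k)))
  have h2 := zmod2_mul_self (v (Sum.inr (Fin.last k)))
  rw [pow_two, pow_two, h1, h2]
  ring

theorem qw_shift (m : ℕ) (w w' : VP m) (v : VP m) :
    qw m w v = qw m w' v + BP m v (w + w') := by
  unfold qw
  rw [BP_add_right]
  have := zmod2_add_self (BP m v w')
  calc QP m v + BP m v w = QP m v + BP m v w + 0 := by rw [add_zero]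
    _ = QP m v + BP m v w + (BP m v w' + BP m v w') := by rw [this]
    _ = _ := by ring

theorem gsum_QM (k : ℕ) : gsum (QM k) = - gsum (QP (k + 1)) := by
  rw [← gsum_comp_equiv (QM k) (minusEquiv k).toEquiv]
  have : (fun v => QM k ((minusEquiv k).toEquiv v)) = fun v => QP (k + 1) v + BP (k + 1) v (w0 k) := by
    funext v
    exact QM_minusEquiv k v
  rw [this]
  exact gsum_eq_neg_of_equiv (k + 1) (QP (k + 1)) (QP_polar (k + 1)) (w0 k) (QP_w0 k)

theorem minus_type_iff (k : ℕ) (w : VP (k + 1)) :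
    (∃ g : VP (k + 1) ≃ₗ[ZMod 2] ((Fin k ⊕ Fin k) ⊕ Fin 2 → ZMod 2),
      ∀ v, qw (k + 1) w v = QM k (g v)) ↔ QP (k + 1) w = 1 := by
  constructor
  · rintro ⟨g, hg⟩
    by_contra hne
    have hw : QP (k + 1) w = 0 := by
      have : QP (k + 1) w = 0 ∨ QP (k + 1) w = 1 := by
        generalize QP (k + 1) w = c; revert c; decide
      rcases this with h | h
      · exact h
      · exact absurd h hne
    obtain ⟨g', hg'⟩ := (plus_type_iff (k + 1) w).mpr hw
    have h1 : gsum (qw (k + 1) w) = gsum (QM k) := by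
      have : qw (k + 1) w = fun v => QM k (g.toEquiv v) := funext hg
      rw [this]
      exact gsum_comp_equiv (QM k) g.toEquiv
    have h2 : gsum (qw (k + 1) w) = gsum (QP (k + 1)) := by
      have : qw (k + 1) w = fun v => QP (k + 1) (g'.toEquiv v) := funext hg'
      rw [this]
      exact gsum_comp_equiv (QP (k + 1)) g'.toEquiv
    have h3 := gsum_QM k
    have h4 : gsum (QP (k + 1)) ≠ 0 := by
      have : Nonempty (VP (k + 1)) := ⟨0⟩
      exact gsum_ne_zero (isQuadPair_QP (k + 1))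
    omega
  · intro hw
    have h0 : qw (k + 1) (w0 k) (w + w0 k) = 0 := by
      unfold qw
      rw [QP_polar, hw, QP_w0, BP_add_left, BP_alt, add_zero]
      have h1 := zmod2_add_self (1 : ZMod 2)
      have h2 := zmod2_add_self (BP (k + 1) w (w0 k))
      calc (1 : ZMod 2) + 1 + BP (k + 1) w (w0 k) + BP (k + 1) w (w0 k)
          = (1 + 1) + (BP (k + 1) w (w0 k) + BP (k + 1) w (w0 k)) := by ring
        _ = 0 := by rw [h1, h2, add_zero]
    obtain ⟨g, hg⟩ := (same_type_iff (k + 1) (qw (k + 1) (w0 k)) (qw_polar (k + 1) (w0 k))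
      (w + w0 k)).mpr h0
    refine ⟨g.trans (minusEquiv k), ?_⟩
    intro v
    rw [qw_shift (k + 1) w (w0 k) v, hg v]
    exact (QM_minusEquiv k (g v)).symm


def IsPol (m : ℕ) (q : VP m → ZMod 2) : Prop :=
  ∀ u v : VP m, q (u + v) = q u + q v + BP m u v

theorem card_pol_sub (m : ℕ) (P : (VP m → ZMod 2) → Prop) :
    Nat.card {q : VP m → ZMod 2 // IsPol m q ∧ P q} = Nat.card {w : VP m // P (qw m w)} := by
  symm
  apply Nat.card_congr
  refine Equiv.ofBijective (fun w => ⟨qw m w.1, qw_polar m w.1, w.2⟩) ⟨?_, ?_⟩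
  · intro w w' h
    apply Subtype.ext
    apply qw_injective m
    exact congrArg Subtype.val h
  · rintro ⟨q, hq, hP⟩
    obtain ⟨w, rfl⟩ := exists_qw m q hq
    exact ⟨⟨w, hP⟩, rfl⟩

theorem card_pol (m : ℕ) : Nat.card {q : VP m → ZMod 2 // IsPol m q} = 2 ^ (2 * m) := by
  have h := card_pol_sub m (fun _ => True)
  have h1 : Nat.card {q : VP m → ZMod 2 // IsPol m q} =
      Nat.card {q : VP m → ZMod 2 // IsPol m q ∧ True} := by
    apply Nat.card_congr
    exact Equiv.subtypeEquivRight (fun q => (and_iff_left trivial).symm)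
  rw [h1, h]
  have h2 : Nat.card {w : VP m // True} = Nat.card (VP m) := Nat.card_congr (Equiv.subtypeUnivEquiv (fun _ => trivial))
  rw [h2, Nat.card_eq_fintype_card, card_VP]

theorem card_QP_zero (k : ℕ) :
    Nat.card {w : VP (k + 1) // QP (k + 1) w = 0} = 2 ^ (2 * k + 1) + 2 ^ k := by
  classical
  rw [Nat.card_eq_fintype_card]
  have h := card_zeros (QP (k + 1))
  rw [gsum_QP, card_VP] at h
  have h1 : (2 : ℤ) ^ (2 * (k + 1)) = 2 * 2 ^ (2 * k + 1) := by
    rw [show 2 * (k + 1) = (2 * k + 1) + 1 by ring, pow_succ]; ring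
  have h2 : (2 : ℤ) ^ (k + 1) = 2 * 2 ^ k := by rw [pow_succ]; ring
  push_cast at h
  rw [h1, h2] at h
  have h3 : (Fintype.card {w : VP (k + 1) // QP (k + 1) w = 0} : ℤ) = 2 ^ (2 * k + 1) + 2 ^ k := by
    linarith
  exact_mod_cast h3

theorem card_QP_one (k : ℕ) :
    Nat.card {w : VP (k + 1) // QP (k + 1) w = 1} = 2 ^ (2 * k + 1) - 2 ^ k := by
  classical
  have h0 := card_QP_zero k
  rw [Nat.card_eq_fintype_card] at h0
  have h1 : Nat.card {w : VP (k + 1) // QP (k + 1) w = 1} =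
      Nat.card {w : VP (k + 1) // ¬ QP (k + 1) w = 0} := by
    apply Nat.card_congr
    apply Equiv.subtypeEquivRight
    intro w
    generalize QP (k + 1) w = c
    revert c
    decide
  rw [h1, Nat.card_eq_fintype_card, Fintype.card_subtype_compl, h0, card_VP]
  have h2 : (2 : ℕ) ^ (2 * (k + 1)) = 2 * 2 ^ (2 * k + 1) := by
    rw [show 2 * (k + 1) = (2 * k + 1) + 1 by ring, pow_succ]; ring
  rw [h2]
  omega

end Cfsg.Agent.Lib.helper15
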