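import Mathlib
import Cfsg.Prelude.Def_Classical
import Cfsg.Agent.Lib.helper15.QuadF2Count

set_option autoImplicit false

namespace Cfsg.Agent.Lib.helper15

section Witt

variable {V : Type*} [AddCommGroup V] [Fintype V]

theorem chi_nonneg_add (x : ZMod 2) : 0 ≤ 1 + chi x := by
  revert x; decide

theorem chi_cases (x : ZMod 2) : chi x = 1 ∨ chi x = -1 := by
  revert x; decide

noncomputable def ssum (B : V → V → ZMod 2) (U : AddSubgroup V) [Fintype U] (v : V) : ℤ :=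
  ∑ u : U, chi (B v u)

theorem ssum_of_forall {q : V → ZMod 2} {B : V → V → ZMod 2} (_h : IsQuadPair q B)
    (U : AddSubgroup V) [Fintype U] (v : V) (hv : ∀ u ∈ U, B v u = 0) :
    ssum B U v = Fintype.card U := by
  unfold ssum
  rw [Finset.sum_congr rfl (fun u _ => by rw [hv u.1 u.2, chi_zero])]
  simp

theorem ssum_of_exists {q : V → ZMod 2} {B : V → V → ZMod 2} (h : IsQuadPair q B)
    (U : AddSubgroup V) [Fintype U] (v : V) (hv : ∃ u ∈ U, B v u ≠ 0) :
    ssum B U v = 0 := by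
  unfold ssum
  obtain ⟨a, haU, ha⟩ := hv
  exact sum_chi_additive_eq_zero (fun u : U => B v u) (fun u u' => h.add_right v u u') ⟨a, haU⟩
    (zmod2_eq_one_of_ne_zero ha)

theorem ssum_nonneg {q : V → ZMod 2} {B : V → V → ZMod 2} (h : IsQuadPair q B)
    (U : AddSubgroup V) [Fintype U] (v : V) : 0 ≤ ssum B U v := by
  by_cases hv : ∀ u ∈ U, B v u = 0
  · rw [ssum_of_forall h U v hv]
    exact Int.natCast_nonneg _
  · push Not at hv
    rw [ssum_of_exists h U v hv]

theorem B_eq_zero_of_singular {q : V → ZMod 2} {B : V → V → ZMod 2} (h : IsQuadPair q B)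
    (U : AddSubgroup V) (hU : ∀ u ∈ U, q u = 0) (v : V) (hv : v ∈ U) (u : V) (hu : u ∈ U) :
    B v u = 0 := by
  have h1 := h.polar v u
  rw [hU _ (U.add_mem hv hu), hU _ hv, hU _ hu, zero_add, zero_add] at h1
  exact h1.symm

theorem sum_ssum {q : V → ZMod 2} {B : V → V → ZMod 2} (h : IsQuadPair q B)
    (U : AddSubgroup V) [Fintype U] : ∑ v, ssum B U v = Fintype.card V := by
  classical
  unfold ssum
  rw [Finset.sum_comm]
  have step : ∀ u : U, ∑ v, chi (B v u) = if u = 0 then (Fintype.card V : ℤ) else 0 := by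
    intro u
    by_cases hu : u = 0
    · subst hu
      rw [if_pos rfl]
      simp [h.B_zero_right, chi_zero]
    · rw [if_neg hu]
      have hu' : (u : V) ≠ 0 := fun h0 => hu (Subtype.ext h0)
      obtain ⟨a, ha⟩ := h.nondeg u hu'
      exact sum_chi_additive_eq_zero (fun v => B v u) (fun v v' => h.add_left v v' u) a ha
  rw [Finset.sum_congr rfl (fun u _ => step u)]
  simp

theorem sum_chi_mul_ssum {q : V → ZMod 2} {B : V → V → ZMod 2} (h : IsQuadPair q B)
    (U : AddSubgroup V) [Fintype U] (hU : ∀ u ∈ U, q u = 0) :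
    ∑ v, chi (q v) * ssum B U v = Fintype.card U * gsum q := by
  unfold ssum
  have step : ∀ v : V, chi (q v) * ∑ u : U, chi (B v u) = ∑ u : U, chi (q (v + u)) := by
    intro v
    rw [Finset.mul_sum]
    apply Finset.sum_congr rfl
    intro u _
    rw [h.polar, hU u.1 u.2, add_zero, chi_add]
  rw [Finset.sum_congr rfl (fun v _ => step v), Finset.sum_comm]
  have step2 : ∀ u : U, ∑ v, chi (q (v + u)) = gsum q := by
    intro u
    unfold gsum
    exact Equiv.sum_comp (Equiv.addRight (u : V)) (fun v => chi (q v))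
  rw [Finset.sum_congr rfl (fun u _ => step2 u)]
  simp

theorem two_mul_card_sq_le {q : V → ZMod 2} {B : V → V → ZMod 2} (h : IsQuadPair q B)
    (U : AddSubgroup V) [Fintype U] (hU : ∀ u ∈ U, q u = 0) :
    2 * (Fintype.card U : ℤ) ^ 2 ≤ Fintype.card V + Fintype.card U * gsum q := by
  classical
  have h1 : ∑ v, (1 + chi (q v)) * ssum B U v = Fintype.card V + Fintype.card U * gsum q := by
    rw [← sum_ssum h U, ← sum_chi_mul_ssum h U hU, ← Finset.sum_add_distrib]
    apply Finset.sum_congr rfl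
    intro v _
    ring
  rw [← h1]
  have h2 : ∑ v ∈ Finset.univ.filter (· ∈ U), (1 + chi (q v)) * ssum B U v
      ≤ ∑ v, (1 + chi (q v)) * ssum B U v := by
    apply Finset.sum_le_sum_of_subset_of_nonneg (Finset.filter_subset _ _)
    intro v _ _
    exact mul_nonneg (chi_nonneg_add _) (ssum_nonneg h U v)
  refine le_trans ?_ h2
  rw [Finset.sum_subtype (Finset.univ.filter (· ∈ U)) (p := (· ∈ U)) (by intro x; simp)]
  have h3 : ∀ u : U, (1 + chi (q u)) * ssum B U u = 2 * Fintype.card U := by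
    intro u
    rw [hU u.1 u.2, chi_zero, ssum_of_forall h U u (fun u' hu' => B_eq_zero_of_singular h U hU u u.2 u' hu')]
    ring
  have h4 : ∑ u : U, (1 + chi (q u)) * ssum B U u = ∑ _u : U, 2 * (Fintype.card U : ℤ) :=
    Finset.sum_congr rfl (fun u _ => h3 u)
  have h5 : ∑ u : { x // x ∈ U }, (1 + chi (q u)) * ssum B U u = 2 * (Fintype.card U : ℤ) ^ 2 := by
    rw [h4]
    simp
    ring
  exact le_of_eq h5.symm

end Witt


def lagrP (m : ℕ) : (Fin m → ZMod 2) →ₗ[ZMod 2] VP m where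
  toFun x := Sum.elim x 0
  map_add' x y := by funext j; rcases j with i | i <;> simp
  map_smul' c x := by funext j; rcases j with i | i <;> simp

theorem lagrP_injective (m : ℕ) : Function.Injective (lagrP m) := by
  intro x y h
  funext i
  exact congrFun h (Sum.inl i)

theorem QP_lagrP (m : ℕ) (x : Fin m → ZMod 2) : QP m (lagrP m x) = 0 := by
  unfold QP Cfsg.quadFormPlus
  apply Finset.sum_eq_zero
  intro i _
  show x i * 0 = 0
  exact mul_zero _

theorem exists_singular_plus (m : ℕ) :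
    ∃ U : Submodule (ZMod 2) (VP m), (∀ u ∈ U, QP m u = 0) ∧ Module.finrank (ZMod 2) ↥U = m := by
  refine ⟨LinearMap.range (lagrP m), ?_, ?_⟩
  · rintro u ⟨x, rfl⟩
    exact QP_lagrP m x
  · rw [LinearMap.finrank_range_of_inj (lagrP_injective m), Module.finrank_fin_fun]

def lagrM (k : ℕ) : (Fin k → ZMod 2) →ₗ[ZMod 2] ((Fin k ⊕ Fin k) ⊕ Fin 2 → ZMod 2) where
  toFun x := Sum.elim (Sum.elim x 0) 0
  map_add' x y := by funext j; rcases j with (i | i) | i <;> simp
  map_smul' c x := by funext j; rcases j with (i | i) | i <;> simp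

theorem lagrM_injective (k : ℕ) : Function.Injective (lagrM k) := by
  intro x y h
  funext i
  exact congrFun h (Sum.inl (Sum.inl i))

theorem QM_lagrM (k : ℕ) (x : Fin k → ZMod 2) : QM k (lagrM k x) = 0 := by
  unfold QM Cfsg.quadFormMinus
  have h1 : ∑ i : Fin k, lagrM k x (Sum.inl (Sum.inl i)) * lagrM k x (Sum.inl (Sum.inr i)) = 0 := by
    apply Finset.sum_eq_zero
    intro i _
    show x i * 0 = 0
    exact mul_zero _
  rw [h1]
  show (0 : ZMod 2) + ((0 : ZMod 2) ^ 2 + 1 * 0 * 0 + 1 * (0 : ZMod 2) ^ 2) = 0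
  ring

theorem exists_singular_minus (k : ℕ) :
    ∃ U : Submodule (ZMod 2) ((Fin k ⊕ Fin k) ⊕ Fin 2 → ZMod 2),
      (∀ u ∈ U, QM k u = 0) ∧ Module.finrank (ZMod 2) ↥U = k := by
  refine ⟨LinearMap.range (lagrM k), ?_, ?_⟩
  · rintro u ⟨x, rfl⟩
    exact QM_lagrM k x
  · rw [LinearMap.finrank_range_of_inj (lagrM_injective k), Module.finrank_fin_fun]

theorem card_submodule_VP (m : ℕ) (U : Submodule (ZMod 2) (VP m)) [Fintype U.toAddSubgroup] :
    Fintype.card U.toAddSubgroup = 2 ^ Module.finrank (ZMod 2) ↥U := by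
  have h := Module.natCard_eq_pow_finrank (K := ZMod 2) (V := ↥U)
  rw [Nat.card_zmod] at h
  rw [← h, ← Nat.card_eq_fintype_card]
  rfl

theorem finrank_le_plus (m : ℕ) (U : Submodule (ZMod 2) (VP m)) (hU : ∀ u ∈ U, QP m u = 0) :
    Module.finrank (ZMod 2) ↥U ≤ m := by
  classical
  have h := two_mul_card_sq_le (isQuadPair_QP m) U.toAddSubgroup hU
  rw [card_submodule_VP, card_VP, gsum_QP] at h
  by_contra hcon
  push Not at hcon
  obtain ⟨e, he⟩ : ∃ e, Module.finrank (ZMod 2) ↥U = m + 1 + e := ⟨_, (Nat.add_sub_cancel' hcon).symm⟩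
  rw [he] at h
  push_cast at h
  have hy : (1 : ℤ) ≤ 2 ^ m := one_le_pow₀ (by norm_num)
  have hz : (1 : ℤ) ≤ 2 ^ e := one_le_pow₀ (by norm_num)
  have e1 : (2 : ℤ) ^ (m + 1 + e) = 2 * 2 ^ m * 2 ^ e := by rw [pow_add, pow_succ]; ring
  have e2 : (2 : ℤ) ^ (2 * m) = 2 ^ m * 2 ^ m := by rw [two_mul, pow_add]
  rw [e1, e2] at h
  generalize (2 : ℤ) ^ m = y at *
  generalize (2 : ℤ) ^ e = z at *
  nlinarith [mul_pos (show (0 : ℤ) < y by linarith) (show (0 : ℤ) < z by linarith),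
    mul_nonneg (show (0 : ℤ) ≤ y * z - 1 by nlinarith) (show (0 : ℤ) ≤ y by linarith),
    mul_nonneg (show (0 : ℤ) ≤ y * z - 1 by nlinarith) (show (0 : ℤ) ≤ y * y * z by positivity)]


theorem gsum_qw_w0 (k : ℕ) : gsum (qw (k + 1) (w0 k)) = - 2 ^ (k + 1) := by
  rw [← gsum_QP (k + 1)]
  exact gsum_eq_neg_of_equiv (k + 1) (QP (k + 1)) (QP_polar (k + 1)) (w0 k) (QP_w0 k)

theorem finrank_le_minus (k : ℕ) (U' : Submodule (ZMod 2) ((Fin k ⊕ Fin k) ⊕ Fin 2 → ZMod 2))
    (hU' : ∀ u ∈ U', QM k u = 0) : Module.finrank (ZMod 2) ↥U' ≤ k := by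
  classical
  set U : Submodule (ZMod 2) (VP (k + 1)) :=
    Submodule.map ((minusEquiv k).symm : ((Fin k ⊕ Fin k) ⊕ Fin 2 → ZMod 2) →ₗ[ZMod 2] VP (k + 1)) U' with hUdef
  have hfr : Module.finrank (ZMod 2) ↥U = Module.finrank (ZMod 2) ↥U' :=
    LinearEquiv.finrank_map_eq (minusEquiv k).symm U'
  have hU : ∀ u ∈ U.toAddSubgroup, qw (k + 1) (w0 k) u = 0 := by
    rintro u ⟨u', hu', rfl⟩
    have h1 := QM_minusEquiv k ((minusEquiv k).symm u')
    rw [LinearEquiv.apply_symm_apply] at h1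
    have h2 : qw (k + 1) (w0 k) ((minusEquiv k).symm u') = QM k u' := h1.symm
    rw [← hU' u' hu']
    exact h2
  have h := two_mul_card_sq_le (isQuadPair_of_polar (k + 1) _ (qw_polar (k + 1) (w0 k)))
    U.toAddSubgroup hU
  rw [card_submodule_VP, card_VP, gsum_qw_w0, hfr] at h
  by_contra hcon
  push Not at hcon
  obtain ⟨e, he⟩ : ∃ e, Module.finrank (ZMod 2) ↥U' = k + 1 + e := ⟨_, (Nat.add_sub_cancel' hcon).symm⟩
  rw [he] at h
  push_cast at h
  have hy : (1 : ℤ) ≤ 2 ^ (k + 1) := one_le_pow₀ (by norm_num)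
  have hz : (1 : ℤ) ≤ 2 ^ e := one_le_pow₀ (by norm_num)
  have e1 : (2 : ℤ) ^ (k + 1 + e) = 2 ^ (k + 1) * 2 ^ e := by rw [pow_add]
  have e2 : (2 : ℤ) ^ (2 * (k + 1)) = 2 ^ (k + 1) * 2 ^ (k + 1) := by rw [two_mul, pow_add]
  rw [e1, e2] at h
  generalize (2 : ℤ) ^ (k + 1) = y at *
  generalize (2 : ℤ) ^ e = z at *
  nlinarith [mul_pos (show (0 : ℤ) < y by linarith) (show (0 : ℤ) < z by linarith),
    mul_pos (show (0 : ℤ) < y * y by nlinarith) (show (0 : ℤ) < z by linarith),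
    mul_nonneg (show (0 : ℤ) ≤ y * y by nlinarith) (show (0 : ℤ) ≤ z * z - 1 by nlinarith)]

end Cfsg.Agent.Lib.helper15
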