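import Mathlib
import Cfsg.Agent.Lib.Helper16.SympTrans
import Cfsg.Agent.Lib.Lead.SympCount
import Cfsg.Agent.S2381
import Cfsg.Agent.S0246
import Cfsg.Agent.Lib.helper15.SpProd
import Cfsg.Agent.Lib.helper15.SylowEmb
import Cfsg.Agent.Lib.helper15.PslMix
import Cfsg.Agent.S2469

set_option autoImplicit false

namespace Cfsg.Agent.Lib.helper15.SpCons

open Module Polynomial
open Cfsg.Agent.Lib.Lead Cfsg.Agent.Lib.Helper16
open Cfsg.Agent.Lib.helper15.PslMix Cfsg.Agent.Lib.helper15.SpProd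

theorem embed_sc {F : Type*} [Field F] {V : Type*} [AddCommGroup V] [Module F V] {m : ℕ}
    (b : Basis (Fin m ⊕ Fin m) F V) (ω : LinearMap.BilinForm F V)
    (hb : LinearMap.BilinForm.toMatrix b ω = Matrix.J (Fin m) F) {G : Type*} [Group G]
    (ρ : G →* (V →ₗ[F] V)) (hρ : ∀ g u v, ω (ρ g u) (ρ g v) = ω u v) (hinj : Function.Injective ρ) :
    ∃ φ : G →* Matrix.symplecticGroup (Fin m) F, Function.Injective φ ∧
      ∀ (g : G) (c : F), (φ g : Matrix (Fin m ⊕ Fin m) (Fin m ⊕ Fin m) F) = c • 1 ↔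
        ρ g = c • LinearMap.id := by
  have hmem : ∀ g, LinearMap.toMatrix b b (ρ g) ∈ Matrix.symplecticGroup (Fin m) F := by
    intro g
    rw [SymplecticGroup.mem_iff']
    have h1 : LinearMap.BilinForm.comp ω (ρ g) (ρ g) = ω := by
      apply LinearMap.ext
      intro u
      apply LinearMap.ext
      intro v
      exact hρ g u v
    have h2 := LinearMap.BilinForm.toMatrix_comp b b ω (ρ g) (ρ g)
    rw [h1, hb] at h2
    exact h2.symm
  let φ : G →* Matrix.symplecticGroup (Fin m) F :=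
    { toFun := fun g => ⟨LinearMap.toMatrix b b (ρ g), hmem g⟩
      map_one' := by
        apply Subtype.ext
        show LinearMap.toMatrix b b (ρ 1) = 1
        rw [map_one]
        exact LinearMap.toMatrix_one b
      map_mul' := by
        intro g h
        apply Subtype.ext
        show LinearMap.toMatrix b b (ρ (g * h)) = LinearMap.toMatrix b b (ρ g) * LinearMap.toMatrix b b (ρ h)
        rw [map_mul]
        exact LinearMap.toMatrix_mul b (ρ g) (ρ h) }
  refine ⟨φ, ?_, ?_⟩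
  · intro g h hgh
    have h1 : LinearMap.toMatrix b b (ρ g) = LinearMap.toMatrix b b (ρ h) := congrArg Subtype.val hgh
    exact hinj ((LinearMap.toMatrix b b).injective h1)
  · intro g c
    show LinearMap.toMatrix b b (ρ g) = c • 1 ↔ _
    have h1 : (c • 1 : Matrix (Fin m ⊕ Fin m) (Fin m ⊕ Fin m) F) =
        LinearMap.toMatrix b b (c • LinearMap.id) := by
      rw [map_smul, LinearMap.toMatrix_id]
    rw [h1]
    exact (LinearMap.toMatrix b b).injective.eq_iff

theorem mk_pow_eq_one_iff {F : Type*} [Field F] (n : ℕ) (hn : 1 ≤ n)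
    (x : Matrix.symplecticGroup (Fin n) F) (k : ℕ) :
    (QuotientGroup.mk x : Cfsg.PSp n F) ^ k = 1 ↔
      ((x ^ k : Matrix.symplecticGroup (Fin n) F) : Matrix (Fin n ⊕ Fin n) (Fin n ⊕ Fin n) F) = 1 ∨
      ((x ^ k : Matrix.symplecticGroup (Fin n) F) : Matrix (Fin n ⊕ Fin n) (Fin n ⊕ Fin n) F) = -1 := by
  rw [← QuotientGroup.mk_pow, QuotientGroup.eq_one_iff]
  constructor
  · intro h
    rcases Cfsg.Agent.S0246.center_cases hn _ h with h1 | h1
    · left
      rw [h1]
      rfl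
    · right
      rw [h1]
      exact Cfsg.Agent.S0246.negOne_coe
  · rintro (h | h)
    · have : x ^ k = 1 := Subtype.ext h
      rw [this]
      exact Subgroup.one_mem _
    · have : x ^ k = Cfsg.Agent.S0246.negOne F n := by
        apply Subtype.ext
        rw [h]
        exact Cfsg.Agent.S0246.negOne_coe.symm
      rw [this]
      exact Cfsg.Agent.S0246.negOne_mem_center

def Om (F : Type*) [Field F] (m : ℕ) : Matrix (Fin m) (Fin m) F :=
  Matrix.of fun i j => if i.val + j.val + 1 = m then (-1) ^ i.val else 0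

theorem Om_apply {F : Type*} [Field F] (m : ℕ) (i j : Fin m) :
    Om F m i j = if i.val + j.val + 1 = m then (-1) ^ i.val else 0 := rfl

theorem Om_transpose {F : Type*} [Field F] (k : ℕ) : (Om F (2 * k)).transpose = - Om F (2 * k) := by
  ext i j
  rw [Matrix.transpose_apply, Matrix.neg_apply, Om_apply, Om_apply]
  by_cases h : i.val + j.val + 1 = 2 * k
  · rw [if_pos h, if_pos (by omega)]
    have : j.val = 2 * k - 1 - i.val := by omega
    have h2 : i.val + j.val = 2 * (k - 1) + 1 := by omega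
    have h3 : ((-1 : F)) ^ (i.val + j.val) = -1 := by
      rw [h2, pow_succ, pow_mul]
      simp
    have h4 : ((-1 : F)) ^ i.val * (-1) ^ i.val = 1 := by
      rw [← mul_pow]
      simp
    rw [pow_add] at h3
    calc (-1 : F) ^ j.val = ((-1 : F) ^ i.val * (-1) ^ i.val) * (-1) ^ j.val := by rw [h4, one_mul]
      _ = (-1 : F) ^ i.val * ((-1) ^ i.val * (-1) ^ j.val) := by ring
      _ = -(-1) ^ i.val := by rw [h3]; ring
  · rw [if_neg h, if_neg (by omega), neg_zero]

theorem Om_sq {F : Type*} [Field F] (k : ℕ) : Om F (2 * k) * Om F (2 * k) = -1 := by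
  ext i l
  rw [Matrix.mul_apply, Matrix.neg_apply, Matrix.one_apply]
  have hi : 2 * k - 1 - i.val < 2 * k := by have := i.2; omega
  rw [Finset.sum_eq_single (⟨2 * k - 1 - i.val, hi⟩ : Fin (2 * k))]
  · rw [Om_apply, Om_apply, if_pos (by show i.val + (2 * k - 1 - i.val) + 1 = 2 * k; have := i.2; omega)]
    by_cases hil : i = l
    · rw [if_pos hil, if_pos (by show (2 * k - 1 - i.val) + l.val + 1 = 2 * k; rw [← hil]; have := i.2; omega)]
      rw [← pow_add]
      have : i.val + (2 * k - 1 - i.val) = 2 * (k - 1) + 1 := by have := i.2; omega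
      rw [this, pow_succ, pow_mul]
      simp
    · rw [if_neg hil, if_neg, mul_zero, neg_zero]
      show ¬ ((2 * k - 1 - i.val) + l.val + 1 = 2 * k)
      intro h
      apply hil
      apply Fin.ext
      have := i.2
      omega
  · intro j _ hj
    rw [Om_apply, if_neg, zero_mul]
    intro h
    apply hj
    apply Fin.ext
    show j.val = 2 * k - 1 - i.val
    omega
  · intro h
    exact absurd (Finset.mem_univ _) h

theorem Jb_Om {F : Type*} [Field F] (k : ℕ) :
    (Jb F (2 * k) (2 * k)).transpose * Om F (2 * k) = - (Om F (2 * k) * Jb F (2 * k) (2 * k)) := by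
  ext i j
  rw [Matrix.neg_apply, Matrix.mul_apply, Matrix.mul_apply]
  have hJ : ∀ a b : Fin (2 * k), Jb F (2 * k) (2 * k) a b = if b.val = a.val + 1 ∧ b.val < 2 * k then 1 else 0 :=
    fun a b => rfl
  simp only [Matrix.transpose_apply, hJ, Om_apply]
  by_cases h : i.val + j.val = 2 * k
  · have hi1 : 1 ≤ i.val := by have := j.2; omega
    have hj1 : 1 ≤ j.val := by have := i.2; omega
    have hi' : i.val - 1 < 2 * k := by have := i.2; omega
    have hj' : j.val - 1 < 2 * k := by have := j.2; omega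
    rw [Finset.sum_eq_single (⟨i.val - 1, hi'⟩ : Fin (2 * k)),
      Finset.sum_eq_single (⟨j.val - 1, hj'⟩ : Fin (2 * k))]
    · have c1 : (i.val = (i.val - 1) + 1 ∧ i.val < 2 * k) := ⟨by omega, i.2⟩
      have c2 : ((i.val - 1) + j.val + 1 = 2 * k) := by omega
      have c3 : (i.val + (j.val - 1) + 1 = 2 * k) := by omega
      have c4 : (j.val = (j.val - 1) + 1 ∧ j.val < 2 * k) := ⟨by omega, j.2⟩
      show (if i.val = (i.val - 1) + 1 ∧ i.val < 2 * k then (1 : F) else 0) *
          (if (i.val - 1) + j.val + 1 = 2 * k then (-1 : F) ^ (i.val - 1) else 0) =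
        -((if i.val + (j.val - 1) + 1 = 2 * k then (-1 : F) ^ i.val else 0) *
          (if j.val = (j.val - 1) + 1 ∧ j.val < 2 * k then (1 : F) else 0))
      rw [if_pos c1, if_pos c2, if_pos c3, if_pos c4, one_mul, mul_one]
      have : (-1 : F) ^ i.val = (-1) ^ ((i.val - 1) + 1) := by
        congr 1
        omega
      rw [this, pow_succ]
      ring
    · intro l _ hl
      by_cases h1 : j.val = l.val + 1 ∧ j.val < 2 * k
      · exfalso
        apply hl
        apply Fin.ext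
        show l.val = j.val - 1
        omega
      · rw [if_neg h1, mul_zero]
    · intro h'
      exact absurd (Finset.mem_univ _) h'
    · intro l _ hl
      by_cases h1 : i.val = l.val + 1 ∧ i.val < 2 * k
      · exfalso
        apply hl
        apply Fin.ext
        show l.val = i.val - 1
        omega
      · rw [if_neg h1, zero_mul]
    · intro h'
      exact absurd (Finset.mem_univ _) h'
  · rw [Finset.sum_eq_zero, Finset.sum_eq_zero, neg_zero]
    · intro l _
      by_cases h1 : j.val = l.val + 1 ∧ j.val < 2 * k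
      · rw [if_neg, zero_mul]
        omega
      · rw [if_neg h1, mul_zero]
    · intro l _
      by_cases h1 : i.val = l.val + 1 ∧ i.val < 2 * k
      · rw [if_pos h1, one_mul, if_neg]
        omega
      · rw [if_neg h1, zero_mul]

def isoSub {F : Type*} [Field F] {V : Type*} [AddCommGroup V] [Module F V]
    (ω : LinearMap.BilinForm F V) : Subgroup (Module.End F V)ˣ where
  carrier := {g | ∀ x y, ω ((g : Module.End F V) x) ((g : Module.End F V) y) = ω x y}
  one_mem' := by
    intro x y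
    rfl
  mul_mem' := by
    intro g h hg hh x y
    rw [Units.val_mul, Module.End.mul_apply, Module.End.mul_apply, hg, hh]
  inv_mem' := by
    intro g hg x y
    have h1 := hg (((g⁻¹ : (Module.End F V)ˣ) : Module.End F V) x) (((g⁻¹ : (Module.End F V)ˣ) : Module.End F V) y)
    rw [← Module.End.mul_apply, ← Module.End.mul_apply, ← Units.val_mul, mul_inv_cancel] at h1
    exact h1.symm

theorem mem_isoSub {F : Type*} [Field F] {V : Type*} [AddCommGroup V] [Module F V]
    (ω : LinearMap.BilinForm F V) (g : (Module.End F V)ˣ) :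
    g ∈ isoSub ω ↔ ∀ x y, ω ((g : Module.End F V) x) ((g : Module.End F V) y) = ω x y := Iff.rfl

theorem embed_iso {F : Type*} [Field F] {V : Type*} [AddCommGroup V] [Module F V]
    [FiniteDimensional F V] {m : ℕ} (hV : finrank F V = 2 * m) (ω : LinearMap.BilinForm F V)
    (hω : ω.IsAlt) (hnd : ω.Nondegenerate) :
    ∃ φ : isoSub ω →* Matrix.symplecticGroup (Fin m) F, Function.Injective φ ∧
      ∀ (g : isoSub ω) (c : F), (φ g : Matrix (Fin m ⊕ Fin m) (Fin m ⊕ Fin m) F) = c • 1 ↔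
        ((g : (Module.End F V)ˣ) : Module.End F V) = c • LinearMap.id := by
  obtain ⟨b, hb⟩ := symplectic_basis hV ω hω hnd
  let ρ : isoSub ω →* (V →ₗ[F] V) := (Units.coeHom (Module.End F V)).comp (isoSub ω).subtype
  have hρ : ∀ (g : isoSub ω) (u v : V), ω (ρ g u) (ρ g v) = ω u v := fun g u v => g.2 u v
  have hinj : Function.Injective ρ := by
    intro g h hgh
    apply Subtype.ext
    apply Units.ext
    exact hgh
  obtain ⟨φ, hφ, hφc⟩ := embed_sc b ω hb ρ hρ hinj
  exact ⟨φ, hφ, fun g c => hφc g c⟩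

theorem transpose_pow_Om {F : Type*} [Field F] (k : ℕ) (i : ℕ) :
    ((Jb F (2 * k) (2 * k)) ^ i).transpose * Om F (2 * k) =
      Om F (2 * k) * (-(Jb F (2 * k) (2 * k))) ^ i := by
  induction i with
  | zero => rw [pow_zero, pow_zero, Matrix.transpose_one, one_mul, mul_one]
  | succ i ih =>
    rw [pow_succ', Matrix.transpose_mul, Matrix.mul_assoc, Jb_Om, Matrix.mul_neg, ← Matrix.mul_assoc, ih,
      Matrix.mul_assoc, ← Matrix.mul_neg]
    congr 1
    rw [pow_succ, Matrix.mul_neg]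

theorem aeval_transpose_Om {F : Type*} [Field F] (k : ℕ) (q : F[X]) :
    (aeval (Jb F (2 * k) (2 * k)) q).transpose * Om F (2 * k) =
      Om F (2 * k) * aeval (Jb F (2 * k) (2 * k)) (q.comp (-X)) := by
  induction q using Polynomial.induction_on' with
  | add a b ha hb =>
    rw [map_add, Matrix.transpose_add, Matrix.add_mul, ha, hb, add_comp, map_add, Matrix.mul_add]
  | monomial i c =>
    rw [← C_mul_X_pow_eq_monomial, mul_comp, C_comp, X_pow_comp, map_mul, map_mul, aeval_C, map_pow,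
      aeval_X, map_pow, map_neg, aeval_X, Algebra.algebraMap_eq_smul_one, Matrix.smul_mul, one_mul,
      Matrix.smul_mul, one_mul, Matrix.transpose_smul, Matrix.smul_mul, transpose_pow_Om,
      Matrix.mul_smul]

theorem Jb_pow_top {F : Type*} [Field F] (m : ℕ) (j : ℕ) (hj : m ≤ j) : (Jb F m m) ^ j = 0 := by
  rcases Nat.eq_zero_or_pos j with h0 | h0
  · have hm : m = 0 := by omega
    subst hm
    ext i
    exact i.elim0
  · obtain ⟨t, rfl⟩ : ∃ t, j = t + 1 := ⟨j - 1, by omega⟩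
    ext a b
    rw [Jb_pow, if_neg, Matrix.zero_apply]
    have := b.2
    omega

theorem Jb_pow_ne {F : Type*} [Field F] (m : ℕ) (j : ℕ) (hj : j < m) : (Jb F m m) ^ j ≠ 0 := by
  rcases Nat.eq_zero_or_pos j with h0 | h0
  · rw [h0, pow_zero]
    intro h
    have h1 := congrFun (congrFun h ⟨0, by omega⟩) ⟨0, by omega⟩
    rw [Matrix.one_apply_eq, Matrix.zero_apply] at h1
    exact one_ne_zero h1
  · obtain ⟨t, rfl⟩ : ∃ t, j = t + 1 := ⟨j - 1, by omega⟩
    intro h
    have h1 := congrFun (congrFun h ⟨0, by omega⟩) ⟨t + 1, hj⟩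
    rw [Jb_pow, if_pos ⟨by simp, hj⟩, Matrix.zero_apply] at h1
    exact one_ne_zero h1

noncomputable def pa (F : Type*) [Field F] (m : ℕ) : F[X] := (1 + X) * ∑ i ∈ Finset.range m, X ^ i

noncomputable def pb (F : Type*) [Field F] (m : ℕ) : F[X] := (1 - X) * ∑ i ∈ Finset.range m, (-X) ^ i

theorem pa_comp {F : Type*} [Field F] (m : ℕ) : (pa F m).comp (-X) = pb F m := by
  unfold pa pb
  rw [mul_comp, add_comp, one_comp, X_comp, ← sub_eq_add_neg]
  congr 1
  have h : ∀ q : F[X], q.comp (-X) = Polynomial.compRingHom (-X : F[X]) q := fun q => rfl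
  rw [h, map_sum]
  apply Finset.sum_congr rfl
  intro i _
  rw [← h, X_pow_comp]

theorem pa_mul_pb {F : Type*} [Field F] (k : ℕ) :
    pa F (2 * k) * pb F (2 * k) = (1 - X ^ (2 * k)) * (1 - X ^ (2 * k)) := by
  unfold pa pb
  have h1 : (1 - X) * ∑ i ∈ Finset.range (2 * k), (X : F[X]) ^ i = 1 - X ^ (2 * k) :=
    mul_neg_geom_sum X (2 * k)
  have h2 : (1 + X) * ∑ i ∈ Finset.range (2 * k), (-X : F[X]) ^ i = 1 - X ^ (2 * k) := by
    have h3 := mul_neg_geom_sum (-X : F[X]) (2 * k)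
    rw [sub_neg_eq_add, Even.neg_pow (even_two_mul k)] at h3
    exact h3
  calc ((1 + X) * ∑ i ∈ Finset.range (2 * k), (X : F[X]) ^ i) * ((1 - X) * ∑ i ∈ Finset.range (2 * k), (-X) ^ i)
      = ((1 - X) * ∑ i ∈ Finset.range (2 * k), (X : F[X]) ^ i) *
          ((1 + X) * ∑ i ∈ Finset.range (2 * k), (-X : F[X]) ^ i) := by ring
    _ = _ := by rw [h1, h2]

theorem pa_sub_one {F : Type*} [Field F] (m : ℕ) :
    pa F m - 1 = X * (C 2 * ∑ i ∈ Finset.range m, X ^ i) - X ^ m := by
  unfold pa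
  have h1 : (1 - X) * ∑ i ∈ Finset.range m, (X : F[X]) ^ i = 1 - X ^ m := mul_neg_geom_sum X m
  have h2 : (C 2 : F[X]) = 2 := C_ofNat 2
  rw [h2]
  linear_combination h1

theorem pa_sub_one_mul {F : Type*} [Field F] (h2 : (2 : F) ≠ 0) (m : ℕ) :
    (C (2⁻¹ : F) * (1 - X)) * (pa F m - 1) = X - C (2⁻¹ : F) * (1 + X) * X ^ m := by
  unfold pa
  have h1 : (1 - X) * ∑ i ∈ Finset.range m, (X : F[X]) ^ i = 1 - X ^ m := mul_neg_geom_sum X m
  have h3 : (C (2⁻¹ : F) : F[X]) * 2 = 1 := by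
    have : (2 : F[X]) = C (2 : F) := (C_ofNat 2).symm
    rw [this, ← C_mul, inv_mul_cancel₀ h2, C_1]
  linear_combination (C (2⁻¹ : F) * (1 + X)) * h1 + X * h3

theorem aeval_one_sub_pow {F : Type*} [Field F] (m : ℕ) :
    aeval (Jb F m m) ((1 - X ^ m) * (1 - X ^ m) : F[X]) = 1 := by
  rw [map_mul, map_sub, map_one, map_pow, aeval_X, Jb_pow_top m m le_rfl, sub_zero, mul_one]

theorem U_mul_U' {F : Type*} [Field F] (k : ℕ) :
    aeval (Jb F (2 * k) (2 * k)) (pa F (2 * k)) * aeval (Jb F (2 * k) (2 * k)) (pb F (2 * k)) = 1 := by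
  rw [← map_mul, pa_mul_pb, aeval_one_sub_pow]

theorem U'_mul_U {F : Type*} [Field F] (k : ℕ) :
    aeval (Jb F (2 * k) (2 * k)) (pb F (2 * k)) * aeval (Jb F (2 * k) (2 * k)) (pa F (2 * k)) = 1 := by
  rw [← map_mul, mul_comm (pb F (2 * k)), pa_mul_pb, aeval_one_sub_pow]

theorem U_isom {F : Type*} [Field F] (k : ℕ) :
    (aeval (Jb F (2 * k) (2 * k)) (pa F (2 * k))).transpose * Om F (2 * k) *
      aeval (Jb F (2 * k) (2 * k)) (pa F (2 * k)) = Om F (2 * k) := by
  rw [aeval_transpose_Om, pa_comp, Matrix.mul_assoc, U'_mul_U, mul_one]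

theorem U_sub_one_pow {F : Type*} [Field F] (h2 : (2 : F) ≠ 0) (m : ℕ) (j : ℕ) :
    (aeval (Jb F m m) (pa F m) - 1) ^ j = 0 ↔ m ≤ j := by
  have e1 : aeval (Jb F m m) (pa F m) - 1 = aeval (Jb F m m) (pa F m - 1) := by
    rw [map_sub, map_one]
  constructor
  · intro h
    by_contra hlt
    apply Jb_pow_ne (F := F) m j (by omega)
    have h3 : aeval (Jb F m m) ((C (2⁻¹ : F) * (1 - X)) * (pa F m - 1)) = Jb F m m := by
      rw [pa_sub_one_mul h2, map_sub, aeval_X, map_mul, map_pow, aeval_X, Jb_pow_top m m le_rfl, mul_zero,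
        sub_zero]
    rw [← h3, ← map_pow, mul_pow, map_mul, map_pow (aeval (Jb F m m)) (pa F m - 1), ← e1, h, mul_zero]
  · intro h
    rw [e1, pa_sub_one, map_sub, map_pow, aeval_X, Jb_pow_top m m le_rfl, sub_zero, ← map_pow, mul_pow,
      map_mul, map_pow, aeval_X, Jb_pow_top m j h, zero_mul]

theorem Om_isAlt {F : Type*} [Field F] (h2 : (2 : F) ≠ 0) (k : ℕ) :
    (Matrix.toBilin' (Om F (2 * k))).IsAlt := by
  intro x
  have h1 : Matrix.toBilin' (Om F (2 * k)) x x = - Matrix.toBilin' (Om F (2 * k)) x x := by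
    nth_rewrite 1 [Matrix.toBilin'_apply']
    rw [Matrix.dotProduct_mulVec, ← Matrix.mulVec_transpose, Om_transpose, Matrix.neg_mulVec,
      neg_dotProduct, dotProduct_comm, ← Matrix.toBilin'_apply']
  have h3 : (2 : F) * Matrix.toBilin' (Om F (2 * k)) x x = 0 := by
    rw [two_mul]
    nth_rewrite 1 [h1]
    exact neg_add_cancel _
  rcases mul_eq_zero.1 h3 with h | h
  · exact absurd h h2
  · exact h

theorem Om_nondeg {F : Type*} [Field F] (k : ℕ) :
    (Matrix.toBilin' (Om F (2 * k))).Nondegenerate := by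
  apply Matrix.Nondegenerate.toBilin'
  apply Matrix.nondegenerate_of_det_ne_zero
  intro h
  have h1 := congrArg Matrix.det (Om_sq (F := F) k)
  rw [Matrix.det_mul, h, mul_zero, Matrix.det_neg, Matrix.det_one, mul_one, Fintype.card_fin,
    pow_mul] at h1
  simp at h1

theorem toBilin'_pres {F : Type*} [Field F] {ι : Type*} [Fintype ι] [DecidableEq ι]
    (Ω U : Matrix ι ι F) (hU : U.transpose * Ω * U = Ω) (x y : ι → F) :
    Matrix.toBilin' Ω (Matrix.toLin' U x) (Matrix.toLin' U y) = Matrix.toBilin' Ω x y := by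
  rw [Matrix.toBilin'_apply', Matrix.toBilin'_apply', Matrix.toLin'_apply, Matrix.toLin'_apply,
    Matrix.mulVec_mulVec, ← Matrix.vecMul_transpose, ← Matrix.dotProduct_mulVec, Matrix.mulVec_mulVec,
    ← Matrix.mul_assoc, hU]

theorem exists_reg_unip {F : Type*} [Field F] (p : ℕ) [Fact p.Prime] [CharP F p] (hp2 : p ≠ 2) (k : ℕ) :
    ∃ x : Matrix.symplecticGroup (Fin k) F, ∀ j : ℕ, x ^ (p ^ j) = 1 ↔ 2 * k ≤ p ^ j := by
  have hp : p.Prime := Fact.out
  rcases Nat.eq_zero_or_pos k with hk0 | hk0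
  · refine ⟨1, fun j => ?_⟩
    rw [one_pow, hk0]
    simp
  have h2 : (2 : F) ≠ 0 := by
    intro h
    have h3 : ((2 : ℕ) : F) = 0 := by exact_mod_cast h
    rw [CharP.cast_eq_zero_iff F p] at h3
    exact hp2 ((Nat.prime_dvd_prime_iff_eq hp Nat.prime_two).1 h3)
  have hne : Nonempty (Fin (2 * k)) := ⟨⟨0, by omega⟩⟩
  have hV : finrank F (Fin (2 * k) → F) = 2 * k := Module.finrank_fin_fun F
  obtain ⟨φ, hφ, -⟩ := embed_iso hV (Matrix.toBilin' (Om F (2 * k))) (Om_isAlt h2 k) (Om_nondeg k)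
  obtain ⟨U, hU⟩ : ∃ U, U = aeval (Jb F (2 * k) (2 * k)) (pa F (2 * k)) := ⟨_, rfl⟩
  obtain ⟨U', hU'⟩ : ∃ U', U' = aeval (Jb F (2 * k) (2 * k)) (pb F (2 * k)) := ⟨_, rfl⟩
  have hUU' : U * U' = 1 := by rw [hU, hU', U_mul_U']
  have hU'U : U' * U = 1 := by rw [hU, hU', U'_mul_U]
  let Uu : (Matrix (Fin (2 * k)) (Fin (2 * k)) F)ˣ := ⟨U, U', hUU', hU'U⟩
  let u : (Module.End F (Fin (2 * k) → F))ˣ :=
    Units.map ((Matrix.toLinAlgEquiv' : Matrix (Fin (2 * k)) (Fin (2 * k)) F ≃ₐ[F] _).toAlgHom : _ →* _) Uu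
  have hucoe : ∀ t : ℕ, ((u ^ t : (Module.End F (Fin (2 * k) → F))ˣ) : Module.End F (Fin (2 * k) → F)) =
      Matrix.toLin' (U ^ t) := by
    intro t
    rw [← map_pow]
    rfl
  have humem : u ∈ isoSub (Matrix.toBilin' (Om F (2 * k))) := by
    intro x y
    have h1 := hucoe 1
    rw [pow_one, pow_one] at h1
    rw [h1]
    apply toBilin'_pres
    rw [hU]
    exact U_isom k
  refine ⟨φ ⟨u, humem⟩, fun j => ?_⟩
  rw [← map_pow, ← map_one φ, hφ.eq_iff, ← U_sub_one_pow h2 (2 * k) (p ^ j), ← hU,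
    sub_pow_char_pow_of_commute _ _ (Commute.one_right _), one_pow, sub_eq_zero]
  constructor
  · intro h
    have h1 := congrArg (fun g : isoSub (Matrix.toBilin' (Om F (2 * k))) =>
      ((g : (Module.End F (Fin (2 * k) → F))ˣ) : Module.End F (Fin (2 * k) → F))) h
    simp only [Subgroup.coe_pow, Subgroup.coe_one, Units.val_one] at h1
    rw [hucoe] at h1
    have h3 : (1 : Module.End F (Fin (2 * k) → F)) = Matrix.toLin' (1 : Matrix (Fin (2 * k)) (Fin (2 * k)) F) := by
      rw [Matrix.toLin'_one]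
      rfl
    rw [h3] at h1
    exact Matrix.toLin'.injective h1
  · intro h
    apply Subtype.ext
    apply Units.ext
    rw [Subgroup.coe_pow, hucoe, h, Matrix.toLin'_one]
    rfl

theorem exists_unip_order {F : Type*} [Field F] (p : ℕ) [Fact p.Prime] [CharP F p] (hp2 : p ≠ 2) (k : ℕ)
    (v : ℕ) (hv : v = 0 ∨ p ^ (v - 1) < 2 * k) :
    ∃ y : Matrix.symplecticGroup (Fin k) F, orderOf y = p ^ v := by
  classical
  have hp : p.Prime := Fact.out
  obtain ⟨x, hx⟩ := exists_reg_unip (F := F) p hp2 k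
  have hex : ∃ j : ℕ, 2 * k ≤ p ^ j := ⟨2 * k, (Nat.lt_pow_self hp.one_lt).le⟩
  obtain ⟨c', hc'⟩ : ∃ c', c' = Nat.find hex := ⟨_, rfl⟩
  have hc1 : 2 * k ≤ p ^ c' := by rw [hc']; exact Nat.find_spec hex
  have hc2 : ∀ j, 2 * k ≤ p ^ j → c' ≤ j := fun j hj => by rw [hc']; exact Nat.find_min' hex hj
  have hox : orderOf x = p ^ c' := by
    have h1 : orderOf x ∣ p ^ c' := orderOf_dvd_of_pow_eq_one ((hx c').2 hc1)
    obtain ⟨i, hic, hi⟩ := (Nat.dvd_prime_pow hp).1 h1
    have h2 : x ^ (p ^ i) = 1 := by rw [← hi]; exact pow_orderOf_eq_one x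
    have h3 := hc2 i ((hx i).1 h2)
    have : i = c' := le_antisymm hic h3
    rw [hi, this]
  have hvc : v ≤ c' := by
    rcases hv with h | h
    · omega
    · have h1 : p ^ (v - 1) < p ^ c' := lt_of_lt_of_le h hc1
      have h2 := (Nat.pow_lt_pow_iff_right hp.one_lt).1 h1
      omega
  refine ⟨x ^ (p ^ (c' - v)), ?_⟩
  rw [orderOf_pow_of_dvd (pow_pos hp.pos _).ne' (by rw [hox]; exact pow_dvd_pow p (by omega)), hox,
    Nat.pow_div (by omega) hp.pos]
  congr 1
  omega

theorem exists_prod_emb_sc {F : Type*} [Field F] (a b : ℕ) :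
    ∃ φ : Matrix.symplecticGroup (Fin a) F × Matrix.symplecticGroup (Fin b) F →*
      Matrix.symplecticGroup (Fin (a + b)) F, Function.Injective φ ∧
      ∀ (g : Matrix.symplecticGroup (Fin a) F × Matrix.symplecticGroup (Fin b) F) (c : F),
        (φ g : Matrix (Fin (a + b) ⊕ Fin (a + b)) (Fin (a + b) ⊕ Fin (a + b)) F) = c • 1 →
        (g.1 : Matrix (Fin a ⊕ Fin a) (Fin a ⊕ Fin a) F) = c • 1 ∧
        (g.2 : Matrix (Fin b ⊕ Fin b) (Fin b ⊕ Fin b) F) = c • 1 := by
  have hV : finrank F ((Fin a ⊕ Fin a → F) × (Fin b ⊕ Fin b → F)) = 2 * (a + b) := by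
    rw [Module.finrank_prod, Module.finrank_fintype_fun_eq_card, Module.finrank_fintype_fun_eq_card,
      Fintype.card_sum, Fintype.card_sum, Fintype.card_fin, Fintype.card_fin]
    ring
  obtain ⟨bas, hbas⟩ := symplectic_basis hV (prodForm a b) (prodForm_isAlt a b) (prodForm_nondeg a b)
  have hpres : ∀ (g : Matrix.symplecticGroup (Fin a) F × Matrix.symplecticGroup (Fin b) F)
      (u v : (Fin a ⊕ Fin a → F) × (Fin b ⊕ Fin b → F)),
      prodForm a b (prodAct a b g u) (prodAct a b g v) = prodForm a b u v := by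
    intro g u v
    rw [prodForm_apply, prodForm_apply, prodAct_apply, prodAct_apply]
    rw [sympB_pres, sympB_pres]
  have hinj : Function.Injective (prodAct (F := F) a b) := by
    intro g h hgh
    have h1 : ∀ v, prodAct a b g v = prodAct a b h v := fun v => by rw [hgh]
    apply Prod.ext
    · apply Subtype.ext
      rw [Matrix.ext_iff_mulVec]
      intro x
      have h2 := h1 (x, 0)
      rw [prodAct_apply, prodAct_apply] at h2
      exact congrArg Prod.fst h2
    · apply Subtype.ext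
      rw [Matrix.ext_iff_mulVec]
      intro x
      have h2 := h1 (0, x)
      rw [prodAct_apply, prodAct_apply] at h2
      exact congrArg Prod.snd h2
  obtain ⟨φ, hφ, hφc⟩ := embed_sc bas (prodForm a b) hbas (prodAct a b) hpres hinj
  refine ⟨φ, hφ, fun g c hg => ?_⟩
  have h1 := (hφc g c).1 hg
  have h2 : ∀ v, prodAct a b g v = c • v := fun v => by rw [h1]; rfl
  constructor
  · rw [Matrix.ext_iff_mulVec]
    intro x
    have h3 := h2 (x, 0)
    rw [prodAct_apply] at h3
    have h4 := congrArg Prod.fst h3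
    rw [Matrix.smul_mulVec, Matrix.one_mulVec]
    exact h4
  · rw [Matrix.ext_iff_mulVec]
    intro x
    have h3 := h2 (0, x)
    rw [prodAct_apply] at h3
    have h4 := congrArg Prod.snd h3
    rw [Matrix.smul_mulVec, Matrix.one_mulVec]
    exact h4

theorem two_ne_zero_of_char {F : Type*} [Field F] (p : ℕ) [Fact p.Prime] [CharP F p] (hp2 : p ≠ 2) :
    (2 : F) ≠ 0 := by
  have hp : p.Prime := Fact.out
  intro h
  have h3 : ((2 : ℕ) : F) = 0 := by exact_mod_cast h
  rw [CharP.cast_eq_zero_iff F p] at h3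
  exact hp2 ((Nat.prime_dvd_prime_iff_eq hp Nat.prime_two).1 h3)

theorem orderOf_negOne {F : Type*} [Field F] (h2 : (2 : F) ≠ 0) (d : ℕ) (hd : 1 ≤ d) :
    orderOf (Cfsg.Agent.S0246.negOne F d) = 2 := by
  have hne : Nonempty (Fin d ⊕ Fin d) := ⟨Sum.inl ⟨0, by omega⟩⟩
  apply orderOf_eq_prime
  · apply Subtype.ext
    show (Cfsg.Agent.S0246.negOne F d : Matrix (Fin d ⊕ Fin d) (Fin d ⊕ Fin d) F) ^ 2 = 1
    rw [Cfsg.Agent.S0246.negOne_coe, neg_sq, one_pow]
  · intro h
    have h1 := congrArg Subtype.val h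
    change (Cfsg.Agent.S0246.negOne F d : Matrix (Fin d ⊕ Fin d) (Fin d ⊕ Fin d) F) = 1 at h1
    rw [Cfsg.Agent.S0246.negOne_coe] at h1
    have h3 := congrFun (congrFun h1 (Sum.inl ⟨0, by omega⟩)) (Sum.inl ⟨0, by omega⟩)
    rw [Matrix.neg_apply, Matrix.one_apply_eq] at h3
    apply h2
    have : (2 : F) = 1 - (-1) := by ring
    rw [this, h3, sub_self]

theorem orderOf_neg_mul {F : Type*} [Field F] (h2 : (2 : F) ≠ 0) (d : ℕ) (hd : 1 ≤ d)
    (s : Matrix.symplecticGroup (Fin d) F) (M : ℕ) (hM : orderOf s = M) (hodd : Odd M) :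
    orderOf (Cfsg.Agent.S0246.negOne F d * s) = 2 * M := by
  have hc : Commute (Cfsg.Agent.S0246.negOne F d) s :=
    (Subgroup.mem_center_iff.1 Cfsg.Agent.S0246.negOne_mem_center s).symm
  rw [hc.orderOf_mul_eq_mul_orderOf_of_coprime, orderOf_negOne h2 d hd, hM]
  rw [orderOf_negOne h2 d hd, hM]
  exact Nat.coprime_two_left.2 hodd

theorem coprime_p_of_dvd {F : Type*} [Field F] [Fintype F] (p : ℕ) [Fact p.Prime] [CharP F p]
    (d M : ℕ) (hd : 1 ≤ d) (hM : M ∣ Fintype.card F ^ d + 1 ∨ M ∣ Fintype.card F ^ d - 1) :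
    Nat.Coprime M p := by
  have hp : p.Prime := Fact.out
  obtain ⟨a, ha⟩ := FiniteField.card F p
  have hpq : p ∣ Fintype.card F ^ d := by
    rw [ha.2]
    exact dvd_pow (dvd_pow_self p (PNat.ne_zero a)) (by omega)
  apply Nat.Coprime.symm
  rw [Nat.Prime.coprime_iff_not_dvd hp]
  intro hpM
  have hq1 : 1 ≤ Fintype.card F ^ d := Nat.one_le_pow _ _ Fintype.card_pos
  rcases hM with h | h
  · have h1 : p ∣ Fintype.card F ^ d + 1 := dvd_trans hpM h
    have h2 : p ∣ 1 := (Nat.dvd_add_right hpq).1 h1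
    exact hp.one_lt.ne' (Nat.dvd_one.1 h2)
  · have h1 : p ∣ Fintype.card F ^ d - 1 := dvd_trans hpM h
    have h2 : p ∣ 1 := by
      have h3 : Fintype.card F ^ d = (Fintype.card F ^ d - 1) + 1 := by omega
      rw [h3] at hpq
      exact (Nat.dvd_add_right h1).1 hpq
    exact hp.one_lt.ne' (Nat.dvd_one.1 h2)

theorem exists_mix {F : Type*} [Field F] [Fintype F] (p : ℕ) [Fact p.Prime] [CharP F p] (hp2 : p ≠ 2)
    (d e M v : ℕ) (hd : 1 ≤ d) (he : 1 ≤ e)
    (hM : M ∣ Fintype.card F ^ d + 1 ∨ M ∣ Fintype.card F ^ d - 1) (hodd : Odd M)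
    (hv : v = 0 ∨ p ^ (v - 1) < 2 * e) :
    ∃ y : Cfsg.PSp (d + e) F, orderOf y = 2 * M * p ^ v := by
  have hp : p.Prime := Fact.out
  have h2 : (2 : F) ≠ 0 := two_ne_zero_of_char p hp2
  have hne : Nonempty (Fin e ⊕ Fin e) := ⟨Sum.inl ⟨0, by omega⟩⟩
  obtain ⟨s0, hs0⟩ : ∃ s0 : Matrix.symplecticGroup (Fin d) F, orderOf s0 = M := by
    rcases hM with h | h
    · exact Cfsg.Agent.S2469.exists_cyc_sp_even d d M (by omega) le_rfl h
    · exact Cfsg.Agent.S2469.exists_cyc_sp_odd d d M (by omega) le_rfl h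
  obtain ⟨u', hu'⟩ := exists_unip_order (F := F) p hp2 e v hv
  obtain ⟨φ, hφ, hφc⟩ := exists_prod_emb_sc (F := F) d e
  have hcop : Nat.Coprime (2 * M) (p ^ v) := by
    apply Nat.Coprime.pow_right
    apply Nat.Coprime.mul_left
    · rw [Nat.coprime_primes Nat.prime_two hp]
      exact fun h => hp2 h.symm
    · exact coprime_p_of_dvd p d M hd hM
  have hog : orderOf (φ (Cfsg.Agent.S0246.negOne F d * s0, u')) = 2 * M * p ^ v := by
    rw [orderOf_injective φ hφ, Prod.orderOf, orderOf_neg_mul h2 d hd s0 M hs0 hodd, hu']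
    exact hcop.lcm_eq_mul
  obtain ⟨y, hy⟩ : ∃ y, y = φ (Cfsg.Agent.S0246.negOne F d * s0, u') := ⟨_, rfl⟩
  rw [← hy] at hog
  refine ⟨QuotientGroup.mk y, ?_⟩
  rw [← hog]
  apply Nat.dvd_antisymm
  · apply orderOf_dvd_of_pow_eq_one
    rw [← QuotientGroup.mk_pow, pow_orderOf_eq_one]
    rfl
  · apply orderOf_dvd_of_pow_eq_one
    obtain ⟨o, ho⟩ : ∃ o, o = orderOf (QuotientGroup.mk y : Cfsg.PSp (d + e) F) := ⟨_, rfl⟩
    have h1 := pow_orderOf_eq_one (QuotientGroup.mk y : Cfsg.PSp (d + e) F)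
    rw [← ho]
    rw [← ho, mk_pow_eq_one_iff (d + e) (by omega)] at h1
    rcases h1 with h1 | h1
    · exact Subtype.ext h1
    · exfalso
      rw [hy, ← map_pow] at h1
      have h3 : (-1 : Matrix (Fin (d + e) ⊕ Fin (d + e)) (Fin (d + e) ⊕ Fin (d + e)) F) = (-1 : F) • 1 := by
        rw [neg_one_smul]
      rw [h3] at h1
      have h4 := (hφc _ _ h1).2
      rw [Prod.pow_snd, neg_one_smul] at h4
      have h5 : ((u' ^ o) ^ (p ^ v) : Matrix.symplecticGroup (Fin e) F) = 1 := by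
        rw [← pow_mul, mul_comm, pow_mul, ← hu', pow_orderOf_eq_one, one_pow]
      have h6 := congrArg Subtype.val h5
      rw [SubmonoidClass.coe_pow] at h6
      change ((u' ^ o : Matrix.symplecticGroup (Fin e) F) :
        Matrix (Fin e ⊕ Fin e) (Fin e ⊕ Fin e) F) ^ (p ^ v) = 1 at h6
      rw [h4, Odd.neg_one_pow] at h6
      · have h7 := congrFun (congrFun h6 (Sum.inl ⟨0, by omega⟩)) (Sum.inl ⟨0, by omega⟩)
        rw [Matrix.neg_apply, Matrix.one_apply_eq] at h7
        apply h2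
        have : (2 : F) = 1 - (-1) := by ring
        rw [this, h7, sub_self]
      · apply Odd.pow
        exact hp.odd_of_ne_two hp2

theorem orderOf_mk_of_pow_neg {F : Type*} [Field F] (n : ℕ) (hn : 1 ≤ n)
    (x : Matrix.symplecticGroup (Fin n) F) (M : ℕ) (hM : 0 < M) (hx : orderOf x = 4 * M)
    (hneg : ((x ^ (2 * M) : Matrix.symplecticGroup (Fin n) F) :
      Matrix (Fin n ⊕ Fin n) (Fin n ⊕ Fin n) F) = -1) :
    orderOf (QuotientGroup.mk x : Cfsg.PSp n F) = 2 * M := by
  apply Nat.dvd_antisymm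
  · apply orderOf_dvd_of_pow_eq_one
    rw [mk_pow_eq_one_iff n hn]
    exact Or.inr hneg
  · obtain ⟨o, ho⟩ : ∃ o, o = orderOf (QuotientGroup.mk x : Cfsg.PSp n F) := ⟨_, rfl⟩
    rw [← ho]
    have h1 := pow_orderOf_eq_one (QuotientGroup.mk x : Cfsg.PSp n F)
    rw [← ho, mk_pow_eq_one_iff n hn] at h1
    have h2 : x ^ (2 * o) = 1 := by
      apply Subtype.ext
      rw [mul_comm, pow_mul, SubmonoidClass.coe_pow]
      rcases h1 with h1 | h1
      · rw [h1, one_pow]
        rfl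
      · rw [h1, neg_sq, one_pow]
        rfl
    have h3 : 4 * M ∣ 2 * o := by
      rw [← hx]
      exact orderOf_dvd_of_pow_eq_one h2
    have h4 : 2 * (2 * M) ∣ 2 * o := by
      have : 2 * (2 * M) = 4 * M := by ring
      rw [this]
      exact h3
    exact (Nat.mul_dvd_mul_iff_left (by norm_num)).1 h4

theorem torus_lemma {F : Type*} [Field F] {V : Type*} [AddCommGroup V] [Module F V]
    [FiniteDimensional F V] {n : ℕ} (hn : 1 ≤ n) (hV : finrank F V = 2 * n) (ω : LinearMap.BilinForm F V)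
    (hω : ω.IsAlt) (hnd : ω.Nondegenerate) (w : (Module.End F V)ˣ) (hw : w ∈ isoSub ω)
    (M : ℕ) (hM : 0 < M) (how : orderOf w = 4 * M)
    (hneg : ((w ^ (2 * M) : (Module.End F V)ˣ) : Module.End F V) = (-1 : F) • LinearMap.id) :
    ∃ y : Cfsg.PSp n F, orderOf y = 2 * M := by
  obtain ⟨φ, hφ, hφc⟩ := embed_iso hV ω hω hnd
  refine ⟨QuotientGroup.mk (φ ⟨w, hw⟩), ?_⟩
  apply orderOf_mk_of_pow_neg n hn _ M hM
  · rw [orderOf_injective φ hφ, ← how]
    exact (Subgroup.orderOf_coe (⟨w, hw⟩ : isoSub ω)).symm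
  · rw [← map_pow]
    have h1 : (-1 : Matrix (Fin n ⊕ Fin n) (Fin n ⊕ Fin n) F) = (-1 : F) • 1 := by
      rw [neg_one_smul]
    rw [h1, hφc]
    exact hneg

noncomputable def mulUnit (F E : Type*) [Field F] [Field E] [Algebra F E] : Eˣ →* (Module.End F E)ˣ :=
  Units.map ((Algebra.lmul F E : E →ₐ[F] Module.End F E) : E →* Module.End F E)

theorem mulUnit_apply (F E : Type*) [Field F] [Field E] [Algebra F E] (g : Eˣ) (x : E) :
    ((mulUnit F E g : (Module.End F E)ˣ) : Module.End F E) x = (g : E) * x := rfl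

theorem mulUnit_injective (F E : Type*) [Field F] [Field E] [Algebra F E] :
    Function.Injective (mulUnit F E) := by
  intro g h hgh
  apply Units.ext
  have h1 := congrArg (fun u : (Module.End F E)ˣ => (u : Module.End F E) 1) hgh
  simp only [mulUnit_apply, mul_one] at h1
  exact h1

theorem exists_unit_order {E : Type*} [Field E] [Finite E] (m : ℕ) (hm : m ∣ Nat.card Eˣ) :
    ∃ g : Eˣ, orderOf g = m := by
  obtain ⟨γ, hγ⟩ := IsCyclic.exists_ofOrder_eq_natCard (α := Eˣ)
  have hpos : 0 < Nat.card Eˣ := Nat.card_pos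
  obtain ⟨t, ht⟩ := hm
  have ht0 : t ≠ 0 := by
    intro h
    rw [h, mul_zero] at ht
    omega
  have hm0 : 0 < m := by
    rcases Nat.eq_zero_or_pos m with h | h
    · rw [h, zero_mul] at ht
      omega
    · exact h
  refine ⟨γ ^ t, ?_⟩
  rw [orderOf_pow_of_dvd ht0 (by rw [hγ, ht]; exact Dvd.intro_left m rfl), hγ, ht,
    Nat.mul_div_cancel _ (Nat.pos_of_ne_zero ht0)]

theorem pow_two_mul_eq_neg_one {E : Type*} [Field E] (g : Eˣ) (M : ℕ) (hM : 0 < M)
    (hg : orderOf g = 4 * M) : ((g ^ (2 * M) : Eˣ) : E) = -1 := by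
  have h1 : ((g ^ (2 * M) : Eˣ) : E) * ((g ^ (2 * M) : Eˣ) : E) = 1 := by
    rw [← Units.val_mul, ← pow_add]
    have : 2 * M + 2 * M = 4 * M := by ring
    rw [this, ← hg, pow_orderOf_eq_one, Units.val_one]
  have h2 : ((g ^ (2 * M) : Eˣ) : E) ≠ 1 := by
    intro h
    have h3 : g ^ (2 * M) = 1 := Units.ext h
    have h4 := orderOf_dvd_of_pow_eq_one h3
    rw [hg] at h4
    have := Nat.le_of_dvd (by omega) h4
    omega
  have h3 : (((g ^ (2 * M) : Eˣ) : E) - 1) * (((g ^ (2 * M) : Eˣ) : E) + 1) = 0 := by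
    have : (((g ^ (2 * M) : Eˣ) : E) - 1) * (((g ^ (2 * M) : Eˣ) : E) + 1) =
      ((g ^ (2 * M) : Eˣ) : E) * ((g ^ (2 * M) : Eˣ) : E) - 1 := by ring
    rw [this, h1, sub_self]
  rcases mul_eq_zero.1 h3 with h | h
  · exact absurd (sub_eq_zero.1 h) h2
  · exact eq_neg_of_add_eq_zero_left h

theorem exists_torus_plus {F : Type*} [Field F] [Fintype F] (n M : ℕ) (hn : 1 ≤ n) (hM : 0 < M)
    (h4 : 4 * M ∣ Fintype.card F ^ n + 1) : ∃ y : Cfsg.PSp n F, orderOf y = 2 * M := by
  classical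
  have hq1 : 1 < Fintype.card F := Fintype.one_lt_card
  have hfp : Fact (ringChar F).Prime := ⟨CharP.char_is_prime F _⟩
  have hne : NeZero (2 * n) := ⟨by omega⟩
  let E := FiniteField.Extension F (ringChar F) (2 * n)
  have hE : Module.finrank F E = 2 * n := FiniteField.finrank_extension F (ringChar F) _
  have hcE : Nat.card Eˣ = Fintype.card F ^ (2 * n) - 1 := by
    rw [Nat.card_units, FiniteField.natCard_extension, Nat.card_eq_fintype_card]
  have hqe : 1 < Fintype.card F ^ n := Nat.one_lt_pow (by omega) hq1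
  have hfac : Fintype.card F ^ (2 * n) - 1 = (Fintype.card F ^ n - 1) * (Fintype.card F ^ n + 1) := by
    rw [two_mul, pow_add]
    have : 1 ≤ Fintype.card F ^ n := by omega
    zify [this, Nat.one_le_iff_ne_zero.2 (mul_ne_zero (by omega : Fintype.card F ^ n ≠ 0)
      (by omega : Fintype.card F ^ n ≠ 0))]
    ring
  have hmE : 4 * M ∣ Nat.card Eˣ := by
    rw [hcE, hfac]
    exact Dvd.dvd.mul_left h4 _
  obtain ⟨g, hg⟩ := exists_unit_order (E := E) (4 * M) hmE
  let σ : E ≃ₐ[F] E := (FiniteField.Extension.frob F (ringChar F) (2 * n)) ^ n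
  have hσa : ∀ x : E, σ x = x ^ (Fintype.card F ^ n) := by
    intro x
    have := FiniteField.Extension.frob_iterate_apply F (ringChar F) (2 * n) n (x := x)
    rw [Nat.card_eq_fintype_card] at this
    exact this
  have hcardE : Nat.card E = Fintype.card F ^ (2 * n) := by
    rw [FiniteField.natCard_extension, Nat.card_eq_fintype_card]
  have hσ : ∀ x : E, σ (σ x) = x := by
    intro x
    rw [hσa, hσa, ← pow_mul, ← pow_add, ← two_mul, ← hcardE]
    have := Fintype.ofFinite E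
    rw [Nat.card_eq_fintype_card]
    exact FiniteField.pow_card x
  obtain ⟨c, hc⟩ : ∃ c : E, σ c ≠ c := by
    obtain ⟨γ, hγ⟩ := IsCyclic.exists_ofOrder_eq_natCard (α := Eˣ)
    refine ⟨(γ : E), ?_⟩
    intro h
    rw [hσa] at h
    have h1 : γ ^ (Fintype.card F ^ n) = γ := by
      apply Units.ext
      rw [Units.val_pow_eq_pow_val]
      exact h
    have h2 : γ ^ (Fintype.card F ^ n - 1) = 1 := by
      have : γ ^ (Fintype.card F ^ n - 1) * γ = γ := by
        rw [← pow_succ, Nat.sub_add_cancel (by omega)]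
        exact h1
      exact mul_eq_right.1 this
    have h3 := orderOf_dvd_of_pow_eq_one h2
    rw [hγ, hcE, hfac] at h3
    have h4 := Nat.le_of_dvd (by omega) h3
    have : (Fintype.card F ^ n - 1) * 2 ≤ (Fintype.card F ^ n - 1) * (Fintype.card F ^ n + 1) :=
      Nat.mul_le_mul_left _ (by omega)
    omega
  have hu : (g : E) * σ (g : E) = 1 := by
    rw [hσa, ← pow_succ', ← Units.val_pow_eq_pow_val]
    obtain ⟨t, ht⟩ := h4
    rw [ht, pow_mul, ← hg, pow_orderOf_eq_one, one_pow, Units.val_one]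
  have hsep : Algebra.IsSeparable F E := inferInstance
  have hAlt := Cfsg.Agent.S2381.tw_isAlt σ c
  have hnd : (Cfsg.Agent.S2381.tw σ c).Nondegenerate :=
    (hAlt.isRefl.nondegenerate_iff_separatingLeft).2 (Cfsg.Agent.S2381.tw_sepLeft σ hσ c hc)
  have hfin : FiniteDimensional F E := inferInstance
  refine torus_lemma hn hE (Cfsg.Agent.S2381.tw σ c) hAlt hnd (mulUnit F E g) ?_ M hM ?_ ?_
  · intro x y
    rw [mulUnit_apply, mulUnit_apply]
    exact Cfsg.Agent.S2381.tw_inv σ c _ hu x y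
  · rw [orderOf_injective (mulUnit F E) (mulUnit_injective F E), hg]
  · rw [← map_pow]
    apply LinearMap.ext
    intro x
    rw [mulUnit_apply, pow_two_mul_eq_neg_one g M hM hg]
    simp only [LinearMap.smul_apply, LinearMap.id_coe, id_eq, neg_smul, one_smul]
    exact neg_one_mul x

noncomputable def hypForm (F E : Type*) [Field F] [Field E] [Algebra F E] :
    LinearMap.BilinForm F (E × E) :=
  (Algebra.traceForm F E).comp (LinearMap.fst F E E) (LinearMap.snd F E E) -
    (Algebra.traceForm F E).comp (LinearMap.snd F E E) (LinearMap.fst F E E)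

theorem hypForm_apply (F E : Type*) [Field F] [Field E] [Algebra F E] (v w : E × E) :
    hypForm F E v w = Algebra.trace F E (v.1 * w.2) - Algebra.trace F E (v.2 * w.1) := by
  simp [hypForm, Algebra.traceForm_apply]

theorem hypForm_isAlt (F E : Type*) [Field F] [Field E] [Algebra F E] : (hypForm F E).IsAlt := by
  intro v
  rw [hypForm_apply, mul_comm v.2 v.1, sub_self]

theorem hypForm_nondeg (F E : Type*) [Field F] [Field E] [Algebra F E] [FiniteDimensional F E]
    [Algebra.IsSeparable F E] : (hypForm F E).Nondegenerate := by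
  refine ((hypForm_isAlt F E).isRefl.nondegenerate_iff_separatingLeft).2 ?_
  intro v hv
  have hnd := traceForm_nondegenerate F E
  obtain ⟨a, b⟩ := v
  have ha : a = 0 := by
    apply hnd.1 a
    intro y
    have h1 := hv (0, y)
    rw [hypForm_apply] at h1
    simpa [Algebra.traceForm_apply] using h1
  have hb : b = 0 := by
    apply hnd.1 b
    intro y
    have h1 := hv (y, 0)
    rw [hypForm_apply] at h1
    simp only [mul_zero, map_zero, zero_sub, neg_eq_zero] at h1
    rw [Algebra.traceForm_apply]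
    exact h1
  rw [ha, hb]
  rfl

noncomputable def hypAct (F E : Type*) [Field F] [Field E] [Algebra F E] :
    Eˣ →* Module.End F (E × E) where
  toFun g := (Algebra.lmul F E (g : E)).prodMap (Algebra.lmul F E ((g⁻¹ : Eˣ) : E))
  map_one' := by
    rw [inv_one, Units.val_one, map_one]
    exact LinearMap.prodMap_one
  map_mul' := by
    intro g h
    rw [mul_inv, Units.val_mul, Units.val_mul, map_mul, map_mul]
    exact (LinearMap.prodMap_mul _ _ _ _).symm

theorem hypAct_apply (F E : Type*) [Field F] [Field E] [Algebra F E] (g : Eˣ) (v : E × E) :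
    hypAct F E g v = ((g : E) * v.1, ((g⁻¹ : Eˣ) : E) * v.2) := rfl

theorem exists_torus_minus {F : Type*} [Field F] [Fintype F] (n M : ℕ) (hn : 1 ≤ n) (hM : 0 < M)
    (h4 : 4 * M ∣ Fintype.card F ^ n - 1) : ∃ y : Cfsg.PSp n F, orderOf y = 2 * M := by
  classical
  have hq1 : 1 < Fintype.card F := Fintype.one_lt_card
  have hfp : Fact (ringChar F).Prime := ⟨CharP.char_is_prime F _⟩
  have hne : NeZero n := ⟨by omega⟩
  let E := FiniteField.Extension F (ringChar F) n
  have hE : Module.finrank F E = n := FiniteField.finrank_extension F (ringChar F) _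
  have hcE : Nat.card Eˣ = Fintype.card F ^ n - 1 := by
    rw [Nat.card_units, FiniteField.natCard_extension, Nat.card_eq_fintype_card]
  have hmE : 4 * M ∣ Nat.card Eˣ := by
    rw [hcE]
    exact h4
  obtain ⟨g, hg⟩ := exists_unit_order (E := E) (4 * M) hmE
  have hsep : Algebra.IsSeparable F E := inferInstance
  have hfin : FiniteDimensional F E := inferInstance
  have hV : finrank F (E × E) = 2 * n := by
    rw [Module.finrank_prod, hE]
    ring
  have hinj : Function.Injective (hypAct F E).toHomUnits := by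
    intro a b hab
    have h1 := congrArg (fun u : (Module.End F (E × E))ˣ => ((u : Module.End F (E × E)) (1, 0)).1) hab
    simp only [MonoidHom.coe_toHomUnits, hypAct_apply, mul_one] at h1
    exact Units.ext h1
  refine torus_lemma hn hV (hypForm F E) (hypForm_isAlt F E) (hypForm_nondeg F E)
    ((hypAct F E).toHomUnits g) ?_ M hM ?_ ?_
  · intro x y
    rw [MonoidHom.coe_toHomUnits, hypAct_apply, hypAct_apply, hypForm_apply, hypForm_apply]
    have h1 : (g : E) * x.1 * (((g⁻¹ : Eˣ) : E) * y.2) = ((g : E) * ((g⁻¹ : Eˣ) : E)) * (x.1 * y.2) := by ring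
    have h2 : ((g⁻¹ : Eˣ) : E) * x.2 * ((g : E) * y.1) = ((g : E) * ((g⁻¹ : Eˣ) : E)) * (x.2 * y.1) := by ring
    rw [h1, h2, ← Units.val_mul, mul_inv_cancel, Units.val_one, one_mul, one_mul]
  · rw [orderOf_injective _ hinj, hg]
  · rw [← map_pow, MonoidHom.coe_toHomUnits]
    apply LinearMap.ext
    intro x
    rw [hypAct_apply]
    have h5 : ((g ^ (2 * M))⁻¹ : Eˣ) = g ^ (2 * M) := by
      rw [inv_eq_iff_mul_eq_one, ← pow_add]
      have : 2 * M + 2 * M = 4 * M := by ring
      rw [this, ← hg, pow_orderOf_eq_one]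
    rw [h5, pow_two_mul_eq_neg_one g M hM hg]
    simp only [LinearMap.smul_apply, LinearMap.id_coe, id_eq, neg_smul, one_smul]
    ext
    · exact neg_one_mul x.1
    · exact neg_one_mul x.2

theorem nilp_pow_card_gen {F : Type*} [Field F] {ι : Type*} [Fintype ι] [DecidableEq ι]
    (N : Matrix ι ι F) (hN : IsNilpotent N) : N ^ (Fintype.card ι) = 0 := by
  have h1 := Matrix.isNilpotent_charpoly_sub_pow_of_isNilpotent hN
  have h2 : N.charpoly - Polynomial.X ^ (Fintype.card ι) = 0 := h1.eq_zero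
  have h3 : N.charpoly = Polynomial.X ^ (Fintype.card ι) := sub_eq_zero.1 h2
  have h4 := Matrix.aeval_self_charpoly N
  rw [h3] at h4
  simpa using h4

theorem sp_ppow_lt {F : Type*} [Field F] [Fintype F] (p : ℕ) [Fact p.Prime] [CharP F p]
    (n : ℕ) (hn : 1 ≤ n) (c : ℕ)
    (w : Cfsg.PSp n F) (hw : orderOf w = p ^ (c + 1)) : p ^ c < 2 * n := by
  classical
  have hp : p.Prime := Fact.out
  have hne : Nonempty (Fin n ⊕ Fin n) := ⟨Sum.inl ⟨0, by omega⟩⟩
  obtain ⟨u₀, rfl⟩ := QuotientGroup.mk_surjective w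
  have ho0 : orderOf u₀ ≠ 0 := (orderOf_pos u₀).ne'
  obtain ⟨v, M', hM', hoM⟩ := Nat.exists_eq_pow_mul_and_not_dvd ho0 p hp.ne_one
  have hdvd : p ^ (c + 1) ∣ orderOf u₀ := by
    rw [← hw]
    apply orderOf_dvd_of_pow_eq_one
    rw [← QuotientGroup.mk_pow, pow_orderOf_eq_one]
    rfl
  have hcv : c + 1 ≤ v := by
    rw [hoM] at hdvd
    have h1 : p ^ (c + 1) ∣ p ^ v := (Nat.Coprime.pow_left (c + 1)
      ((Nat.Prime.coprime_iff_not_dvd hp).2 hM')).dvd_of_dvd_mul_right hdvd
    exact (Nat.pow_dvd_pow_iff_le_right hp.one_lt).1 h1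
  obtain ⟨U, hU⟩ : ∃ U : Matrix (Fin n ⊕ Fin n) (Fin n ⊕ Fin n) F,
      U = ((u₀ ^ M' : Matrix.symplecticGroup (Fin n) F) : Matrix (Fin n ⊕ Fin n) (Fin n ⊕ Fin n) F) := ⟨_, rfl⟩
  have hM'0 : 0 < M' := by
    rcases Nat.eq_zero_or_pos M' with h | h
    · rw [h, mul_zero] at hoM
      exact absurd hoM ho0
    · exact h
  have hUo : orderOf (u₀ ^ M') = p ^ v := by
    rw [orderOf_pow_of_dvd hM'0.ne' ⟨p ^ v, by rw [hoM]; ring⟩, hoM, Nat.mul_div_cancel _ hM'0]
  have hcoe : ∀ t : ℕ, (((u₀ ^ M') ^ t : Matrix.symplecticGroup (Fin n) F) :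
      Matrix (Fin n ⊕ Fin n) (Fin n ⊕ Fin n) F) = U ^ t := by
    intro t
    rw [hU]
    rfl
  have hU1 : U ^ (p ^ v) = 1 := by
    rw [← hcoe, ← hUo, pow_orderOf_eq_one]
    rfl
  obtain ⟨v', hv'⟩ : ∃ v', v = v' + 1 := ⟨v - 1, by omega⟩
  have hU2 : U ^ (p ^ v') ≠ 1 := by
    intro h
    have h1 : (u₀ ^ M') ^ (p ^ v') = 1 := by
      apply Subtype.ext
      rw [hcoe, h]
      rfl
    have h2 := orderOf_dvd_of_pow_eq_one h1
    rw [hUo, hv'] at h2
    have h3 := Nat.le_of_dvd (pow_pos hp.pos v') h2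
    have h4 : p ^ v' < p ^ (v' + 1) := Nat.pow_lt_pow_right hp.one_lt (by omega)
    omega
  have hnil : IsNilpotent (U - 1) := by
    refine ⟨p ^ v, ?_⟩
    rw [sub_pow_char_pow_of_commute _ _ (Commute.one_right _), hU1, one_pow, sub_self]
  have hN := nilp_pow_card_gen (U - 1) hnil
  rw [Fintype.card_sum, Fintype.card_fin, ← two_mul] at hN
  by_contra hlt
  have hle : 2 * n ≤ p ^ v' := by
    have h1 : p ^ c ≤ p ^ v' := Nat.pow_le_pow_right hp.pos (by omega)
    omega
  have h5 : (U - 1) ^ (p ^ v') = 0 := by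
    rw [← Nat.sub_add_cancel hle, pow_add, hN, mul_zero]
  rw [sub_pow_char_pow_of_commute _ _ (Commute.one_right _), one_pow, sub_eq_zero] at h5
  exact hU2 h5

end Cfsg.Agent.Lib.helper15.SpCons
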