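import Mathlib
import Cfsg.Agent.Lib.helper7.SPC.Defs
import Cfsg.Agent.Lib.helper6.Symp

set_option autoImplicit false

/-!
# Project SPC, row R2 (`std_iso_iff`), helper15.
-/

namespace Cfsg.Agent.Lib.helper7.SPC

universe u

open Module

variable {F : Type u} [Field F]

/-- R2. -/
theorem std_iso_iff (m : ℕ) (N N' : Matrix (Fin m ⊕ Fin m) (Fin m ⊕ Fin m) F) :
    TIso (stdTrip m N) (stdTrip m N') ↔
      ∃ h : Matrix.symplecticGroup (Fin m) F,
        (h : Matrix (Fin m ⊕ Fin m) (Fin m ⊕ Fin m) F) * N = N' * (h : Matrix (Fin m ⊕ Fin m) (Fin m ⊕ Fin m) F) := by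
  constructor
  · rintro ⟨e, he1, he2⟩
    have e' : (Fin m ⊕ Fin m → F) ≃ₗ[F] (Fin m ⊕ Fin m → F) := e
    have he1' : ∀ x y : Fin m ⊕ Fin m → F,
        Cfsg.sympForm m F (e x) (e y) = Cfsg.sympForm m F x y := he1
    have he2' : ∀ x : Fin m ⊕ Fin m → F, e (Matrix.toLin' N x) = Matrix.toLin' N' (e x) := he2
    let el : (Fin m ⊕ Fin m → F) →ₗ[F] (Fin m ⊕ Fin m → F) :=
      (show (Fin m ⊕ Fin m → F) ≃ₗ[F] (Fin m ⊕ Fin m → F) from e).toLinearMap
    have hel : ∀ x, el x = e x := fun _ => rfl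
    have hmv : ∀ x : Fin m ⊕ Fin m → F, (LinearMap.toMatrix' el).mulVec x = e x := by
      intro x
      rw [← Matrix.toLin'_apply, Matrix.toLin'_toMatrix', hel]
    have hmem : LinearMap.toMatrix' el ∈ Matrix.symplecticGroup (Fin m) F := by
      rw [Cfsg.Agent.Lib.helper6.mem_symplecticGroup_iff_sympForm]
      intro x y
      rw [hmv, hmv]
      exact he1' x y
    refine ⟨⟨LinearMap.toMatrix' el, hmem⟩, ?_⟩
    show LinearMap.toMatrix' el * N = N' * LinearMap.toMatrix' el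
    apply Matrix.toLin'.injective
    apply LinearMap.ext
    intro x
    rw [Matrix.toLin'_mul, Matrix.toLin'_mul, LinearMap.comp_apply, LinearMap.comp_apply,
      Matrix.toLin'_toMatrix', hel, hel]
    exact he2' x
  · rintro ⟨h, hh⟩
    have hmem := (Cfsg.Agent.Lib.helper6.mem_symplecticGroup_iff_sympForm m
      (h : Matrix (Fin m ⊕ Fin m) (Fin m ⊕ Fin m) F)).1 h.2
    have h1 : ((h⁻¹ : Matrix.symplecticGroup (Fin m) F) : Matrix (Fin m ⊕ Fin m) (Fin m ⊕ Fin m) F)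
        * (h : Matrix (Fin m ⊕ Fin m) (Fin m ⊕ Fin m) F) = 1 :=
      congrArg Subtype.val (inv_mul_cancel h)
    have h2 : (h : Matrix (Fin m ⊕ Fin m) (Fin m ⊕ Fin m) F)
        * ((h⁻¹ : Matrix.symplecticGroup (Fin m) F) : Matrix (Fin m ⊕ Fin m) (Fin m ⊕ Fin m) F) = 1 :=
      congrArg Subtype.val (mul_inv_cancel h)
    let e : (Fin m ⊕ Fin m → F) ≃ₗ[F] (Fin m ⊕ Fin m → F) :=
      LinearEquiv.ofLinear (Matrix.toLin' (h : Matrix (Fin m ⊕ Fin m) (Fin m ⊕ Fin m) F))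
        (Matrix.toLin' ((h⁻¹ : Matrix.symplecticGroup (Fin m) F) :
          Matrix (Fin m ⊕ Fin m) (Fin m ⊕ Fin m) F))
        (by rw [← Matrix.toLin'_mul, h2, Matrix.toLin'_one])
        (by rw [← Matrix.toLin'_mul, h1, Matrix.toLin'_one])
    have hex : ∀ x, e x = (h : Matrix (Fin m ⊕ Fin m) (Fin m ⊕ Fin m) F).mulVec x := by
      intro x
      show Matrix.toLin' (h : Matrix (Fin m ⊕ Fin m) (Fin m ⊕ Fin m) F) x = _
      rw [Matrix.toLin'_apply]
    refine ⟨e, ?_, ?_⟩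
    · show ∀ x y : Fin m ⊕ Fin m → F,
        Cfsg.Agent.Lib.Helper13.S5955.stdB m F (e x) (e y)
          = Cfsg.Agent.Lib.Helper13.S5955.stdB m F x y
      intro x y
      rw [Cfsg.Agent.Lib.Helper13.S5955.stdB_apply, Cfsg.Agent.Lib.Helper13.S5955.stdB_apply,
        hex, hex]
      exact hmem x y
    · show ∀ x : Fin m ⊕ Fin m → F, e (Matrix.toLin' N x) = Matrix.toLin' N' (e x)
      intro x
      rw [hex, hex, Matrix.toLin'_apply, Matrix.toLin'_apply, Matrix.mulVec_mulVec,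
        Matrix.mulVec_mulVec, hh]

end Cfsg.Agent.Lib.helper7.SPC
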