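import Mathlib
import Cfsg.Agent.Lib.Helper5.S1906.Defs

/-!
# Project S1906, row U2 (helper15): `exists_odd_compl`.
-/

set_option autoImplicit false

namespace Cfsg.Agent.Lib.Helper5.S1906

open scoped IsMulCommutative

/-- U2 -/
theorem exists_odd_compl {K : Type*} [Group K] [Finite K] (s : K) (hs : s * s = 1) (hs1 : s ≠ 1)
    (h2 : ∀ S : Subgroup K, IsPGroup 2 S → Nat.card S ≤ 2) :
    ∃ O : Subgroup K, O.Normal ∧ Odd (Nat.card O) ∧ ∀ k : K, k ∈ O ∨ s * k ∈ O := by
  haveI : Fact (Nat.Prime 2) := ⟨Nat.prime_two⟩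
  have hord : orderOf s = 2 := orderOf_eq_prime (by rw [pow_two]; exact hs) hs1
  have hZ : IsPGroup 2 (Subgroup.zpowers s) := by
    apply IsPGroup.of_card (n := 1)
    rw [Nat.card_zpowers, hord, pow_one]
  obtain ⟨P, hP⟩ := hZ.exists_le_sylow
  have hsP : s ∈ (P : Subgroup K) := hP (Subgroup.mem_zpowers s)
  have hPc : Nat.card (P : Subgroup K) = 2 := by
    apply le_antisymm (h2 _ P.2)
    have := Subgroup.card_le_of_le hP
    rw [Nat.card_zpowers, hord] at this
    exact this
  have hPmem : ∀ x ∈ (P : Subgroup K), x = 1 ∨ x = s := by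
    intro x hx
    by_contra hcon
    push Not at hcon
    obtain ⟨y, _, hy⟩ := (Nat.card_eq_two_iff' (1 : (P : Subgroup K))).mp hPc
    have h1 : (⟨x, hx⟩ : (P : Subgroup K)) = y := hy _ (fun h => hcon.1 (congrArg Subtype.val h))
    have h3 : (⟨s, hsP⟩ : (P : Subgroup K)) = y := hy _ (fun h => hs1 (congrArg Subtype.val h))
    exact hcon.2 (congrArg Subtype.val (h1.trans h3.symm))
  have hN : Subgroup.normalizer ((P : Subgroup K) : Set K) ≤
      Subgroup.centralizer ((P : Subgroup K) : Set K) := by
    intro n hn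
    rw [Subgroup.mem_centralizer_iff]
    intro x hx
    rcases hPmem x hx with rfl | rfl
    · simp
    · have h3 : n * x * n⁻¹ ∈ (P : Subgroup K) := (Subgroup.mem_normalizer_iff.mp hn x).mp hsP
      rcases hPmem _ h3 with h | h
      · exfalso
        apply hs1
        have : n * x = n := by rw [mul_inv_eq_one] at h; exact h
        exact mul_eq_left.mp this
      · exact (mul_inv_eq_iff_eq_mul.mp h).symm
  refine ⟨(MonoidHom.transferSylow P hN).ker, inferInstance, ?_, ?_⟩
  · rw [← Nat.not_even_iff_odd, even_iff_two_dvd]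
    exact MonoidHom.not_dvd_card_ker_transferSylow P hN
  · have hc := MonoidHom.ker_transferSylow_isComplement' P hN
    have hidx : (MonoidHom.transferSylow P hN).ker.index = 2 := by
      rw [hc.symm.index_eq_card, hPc]
    have hsO : s ∉ (MonoidHom.transferSylow P hN).ker := by
      intro hmem
      have hd := MonoidHom.ker_transferSylow_disjoint P hN (P : Subgroup K) P.2
      have := (Subgroup.disjoint_def.mp hd) hmem hsP
      exact hs1 this
    intro k
    by_cases hk : k ∈ (MonoidHom.transferSylow P hN).ker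
    · exact Or.inl hk
    · right
      rw [Subgroup.mul_mem_iff_of_index_two hidx]
      exact ⟨fun h => absurd h hsO, fun h => absurd h hk⟩

end Cfsg.Agent.Lib.Helper5.S1906
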