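import Mathlib
import Cfsg.Agent.Lib.helper17.T3.DefsC
import Cfsg.Agent.Lib.Helper21.T3CA1a

/-!
# T3C row E1 (helper15), VERBATIM: `LongLift.eqv` — equivariance of the long lifts
-/

set_option autoImplicit false

namespace Cfsg.Agent.Lib.helper17.T3

open Cfsg.Agent.Lib.helper15.St2 Cfsg.Agent.Lib.helper7.Ce Matrix

variable {F K : Type*} [Field F] [Field K] [Algebra F K]

variable {C : Cub F K} {G Γ : Type*} [Group G] [Group Γ]

section E

variable {S : SysT C G} {σ : Γ →* G} {L : ShortLift S σ}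

/-- [E1] [S] `c = -(tr (s * 1))` (`hC.tr_surj`), `M.ss1`, `cj_cm`, `L.eqv` twice, `M.ss1` again, `tr (a * s * (b * 1)) = c0 * tr s` from `hab` (`Cub.tr_smul`, `Algebra.smul_def`). -/
theorem LongLift.eqv (hC : C.Good) (M : LongLift S σ L) (e : Γ) (k k' : ZMod 6) {a b : K} {c0 : F} (ha : a ≠ 0) (hb : b ≠ 0) (hk : S.MapsPair (σ e) k k' a)
    (hk1 : S.MapsPair (σ e) (k + 1) (k' + 1) b) (hab : a * b = algebraMap F K c0) (c : F) : cj e (M.Y k c) = M.Y k' (c0 * c) := by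
  obtain ⟨s, hs⟩ := hC.tr_surj (-c)
  have h1 : M.Y k c = cm (L.X k s) (L.X (k + 1) 1) := by
    rw [M.ss1, mul_one, hs, neg_neg]
  rw [h1, cj_cm, L.eqv e k k' a ha hk s, L.eqv e (k + 1) (k' + 1) b hb hk1 1, M.ss1]
  congr 1
  have h2 : a * s * (b * 1) = c0 • s := by
    rw [Algebra.smul_def, ← hab]
    ring
  rw [h2, C.tr_smul, hs]
  ring

end E

end Cfsg.Agent.Lib.helper17.T3
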