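import Cfsg.Agent.Lib.helper15.SQM.Defs

set_option autoImplicit false
set_option linter.unusedSectionVars false
set_option linter.unusedVariables false

/-!
# Project SQM, row B1 (`sqm_frame1`), verbatim from `helper15/SQM/Skel.lean.txt`.

`X` an isometry of a nondegenerate symmetric bilinear space with `X² = -1`, `c² = -1`: the eigenspaces `ker (X - c)`, `ker (X + c)` are
totally isotropic, complementary and in perfect duality.
-/

namespace Cfsg.Agent.Lib.helper15.SQM

open Matrix Module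

section abstract

variable {F : Type*} [Field F] {V : Type*} [AddCommGroup V] [Module F V]

/-- the `c`-eigenspace -/
def sqmb1_eig (X : V →ₗ[F] V) (c : F) : Submodule F V := LinearMap.ker (X - c • LinearMap.id)

theorem sqmb1_mem_eig (X : V →ₗ[F] V) (c : F) (v : V) : v ∈ sqmb1_eig X c ↔ X v = c • v := by
  unfold sqmb1_eig
  rw [LinearMap.mem_ker, LinearMap.sub_apply, LinearMap.smul_apply, LinearMap.id_apply, sub_eq_zero]

/-- eigenspaces are totally isotropic -/
theorem sqmb1_orth (h2 : (2 : F) ≠ 0) (B : LinearMap.BilinForm F V) (X : V →ₗ[F] V)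
    (hX : ∀ u v, B (X u) (X v) = B u v) (c : F) (hc : c * c = -1) (u v : V)
    (hu : u ∈ sqmb1_eig X c) (hv : v ∈ sqmb1_eig X c) : B u v = 0 := by
  rw [sqmb1_mem_eig] at hu hv
  have h1 := hX u v
  rw [hu, hv] at h1
  simp only [map_smul, LinearMap.smul_apply, smul_eq_mul] at h1
  rw [← mul_assoc, hc] at h1
  have h3 : (2 : F) * B u v = 0 := by linear_combination -h1
  exact (mul_eq_zero.1 h3).resolve_left h2

/-- the decomposition -/
theorem sqmb1_decomp (h2 : (2 : F) ≠ 0) (X : V →ₗ[F] V) (hXX : ∀ v, X (X v) = -v) (c : F)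
    (hc : c * c = -1) (v : V) :
    ∃ u ∈ sqmb1_eig X c, ∃ w ∈ sqmb1_eig X (-c), v = u + w := by
  refine ⟨(2 : F)⁻¹ • (v - c • X v), ?_, (2 : F)⁻¹ • (v + c • X v), ?_, ?_⟩
  · rw [sqmb1_mem_eig]
    simp only [map_smul, map_sub, hXX, smul_sub, smul_neg, sub_neg_eq_add, smul_smul]
    have : c * (2⁻¹ * c) = -(2 : F)⁻¹ := by rw [mul_comm (2 : F)⁻¹ c, ← mul_assoc, hc]; ring
    rw [this, neg_smul, mul_comm c, sub_neg_eq_add, add_comm]
  · rw [sqmb1_mem_eig]
    simp only [map_smul, map_add, hXX, smul_add, smul_neg, smul_smul, neg_smul, neg_mul]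
    have : c * (2⁻¹ * c) = -(2 : F)⁻¹ := by rw [mul_comm (2 : F)⁻¹ c, ← mul_assoc, hc]; ring
    rw [this, neg_smul, neg_neg, mul_comm c, add_comm]
  · rw [← smul_add]
    have : v - c • X v + (v + c • X v) = (2 : F) • v := by rw [two_smul]; abel
    rw [this, smul_smul, inv_mul_cancel₀ h2, one_smul]

/-- the pairing `ker (X + c) → Dual (ker (X - c))` is injective -/
theorem sqmb1_inj [FiniteDimensional F V] (h2 : (2 : F) ≠ 0) (B : LinearMap.BilinForm F V)
    (hB : B.Nondegenerate) (X : V →ₗ[F] V)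
    (hX : ∀ u v, B (X u) (X v) = B u v) (hXX : ∀ v, X (X v) = -v) (c : F) (hc : c * c = -1) :
    Function.Injective (B.flip.domRestrict₁₂ (sqmb1_eig X (-c)) (sqmb1_eig X c)) := by
  rw [← LinearMap.ker_eq_bot, LinearMap.ker_eq_bot']
  intro w hw
  apply Subtype.ext
  rw [Submodule.coe_zero]
  apply hB.2
  intro v
  obtain ⟨u, hu, w', hw', rfl⟩ := sqmb1_decomp h2 X hXX c hc v
  rw [map_add, LinearMap.add_apply]
  have h1 : B u w = 0 := by
    have := LinearMap.congr_fun hw ⟨u, hu⟩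
    simpa [LinearMap.domRestrict₁₂_apply] using this
  have h3 : B w' w = 0 :=
    sqmb1_orth h2 B X hX (-c) (by rw [neg_mul_neg, hc]) w' w hw' w.2
  rw [h1, h3, add_zero]

theorem sqmb1_finrank_le [FiniteDimensional F V] (h2 : (2 : F) ≠ 0) (B : LinearMap.BilinForm F V)
    (hB : B.Nondegenerate) (X : V →ₗ[F] V)
    (hX : ∀ u v, B (X u) (X v) = B u v) (hXX : ∀ v, X (X v) = -v) (c : F) (hc : c * c = -1) :
    finrank F (sqmb1_eig X (-c)) ≤ finrank F (sqmb1_eig X c) := by
  have := LinearMap.finrank_le_finrank_of_injective (sqmb1_inj h2 B hB X hX hXX c hc)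
  rwa [Subspace.dual_finrank_eq] at this

theorem sqmb1_finrank_eq [FiniteDimensional F V] (h2 : (2 : F) ≠ 0) (B : LinearMap.BilinForm F V)
    (hB : B.Nondegenerate) (X : V →ₗ[F] V)
    (hX : ∀ u v, B (X u) (X v) = B u v) (hXX : ∀ v, X (X v) = -v) (c : F) (hc : c * c = -1) :
    finrank F (sqmb1_eig X (-c)) = finrank F (sqmb1_eig X c) := by
  apply le_antisymm (sqmb1_finrank_le h2 B hB X hX hXX c hc)
  have := sqmb1_finrank_le h2 B hB X hX hXX (-c) (by rw [neg_mul_neg, hc])
  rwa [neg_neg] at this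

theorem sqmb1_finrank_total [FiniteDimensional F V] (h2 : (2 : F) ≠ 0) (B : LinearMap.BilinForm F V)
    (hB : B.Nondegenerate) (X : V →ₗ[F] V)
    (hX : ∀ u v, B (X u) (X v) = B u v) (hXX : ∀ v, X (X v) = -v) (c : F) (hc : c * c = -1) :
    finrank F V = 2 * finrank F (sqmb1_eig X c) := by
  have hc0 : c ≠ 0 := by rintro rfl; simp at hc
  have hinf : sqmb1_eig X c ⊓ sqmb1_eig X (-c) = ⊥ := by
    rw [eq_bot_iff]
    intro v hv
    obtain ⟨h1, h3⟩ := Submodule.mem_inf.1 hv
    rw [sqmb1_mem_eig] at h1 h3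
    rw [Submodule.mem_bot]
    have h4 : ((2 : F) * c) • v = 0 := by
      rw [two_mul, add_smul]
      nth_rewrite 1 [← h1]
      rw [h3, neg_smul, neg_add_cancel]
    exact (smul_eq_zero.1 h4).resolve_left (mul_ne_zero h2 hc0)
  have hsup : sqmb1_eig X c ⊔ sqmb1_eig X (-c) = ⊤ := by
    rw [eq_top_iff]
    intro v _
    obtain ⟨u, hu, w, hw, rfl⟩ := sqmb1_decomp h2 X hXX c hc v
    exact Submodule.add_mem_sup hu hw
  have h5 := Submodule.finrank_sup_add_finrank_inf_eq (sqmb1_eig X c) (sqmb1_eig X (-c))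
  rw [hinf, hsup, finrank_bot, add_zero, finrank_top, sqmb1_finrank_eq h2 B hB X hX hXX c hc] at h5
  omega

/-- the dual family -/
theorem sqmb1_dual [FiniteDimensional F V] (h2 : (2 : F) ≠ 0) (B : LinearMap.BilinForm F V)
    (hB : B.Nondegenerate) (X : V →ₗ[F] V)
    (hX : ∀ u v, B (X u) (X v) = B u v) (hXX : ∀ v, X (X v) = -v) (c : F) (hc : c * c = -1) :
    ∃ (d : ℕ) (e f : Fin d → V), finrank F V = 2 * d ∧ (∀ i, e i ∈ sqmb1_eig X c) ∧
      (∀ i, f i ∈ sqmb1_eig X (-c)) ∧ ∀ i j, B (e i) (f j) = if i = j then 1 else 0 := by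
  have hsurj : Function.Surjective (B.flip.domRestrict₁₂ (sqmb1_eig X (-c)) (sqmb1_eig X c)) := by
    rw [← LinearMap.injective_iff_surjective_of_finrank_eq_finrank]
    · exact sqmb1_inj h2 B hB X hX hXX c hc
    · rw [Subspace.dual_finrank_eq]; exact sqmb1_finrank_eq h2 B hB X hX hXX c hc
  set b := Module.finBasis F (sqmb1_eig X c) with hb
  choose f hf using fun j => hsurj (b.coord j)
  refine ⟨finrank F (sqmb1_eig X c), fun i => (b i : V), fun j => (f j : V),
    sqmb1_finrank_total h2 B hB X hX hXX c hc, fun i => (b i).2, fun j => (f j).2, ?_⟩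
  intro i j
  have h1 := LinearMap.congr_fun (hf j) (b i)
  rw [LinearMap.domRestrict₁₂_apply, LinearMap.BilinForm.flip_apply, Basis.coord_apply, Basis.repr_self,
    Finsupp.single_apply] at h1
  rw [h1]

end abstract

variable {ι : Type} [Fintype ι] [DecidableEq ι] {F : Type*} [Field F]

/-- B1 [M-L]: the hyperbolic eigen-frame. -/
theorem sqm_frame1 (h2 : (2 : F) ≠ 0) (Q : QuadraticForm F (ι → F))
    (hnd : (QuadraticMap.polarBilin Q).Nondegenerate) (x : Matrix.GeneralLinearGroup ι F)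
    (hx : x ∈ Cfsg.isometryGroup F ⇑Q) (hx2 : (x : Matrix ι ι F) * (x : Matrix ι ι F) = -1)
    (i0 : F) (hi0 : i0 * i0 = -1) :
    ∃ (d : ℕ) (e f : Fin d → (ι → F)), Frame1 Q (x : Matrix ι ι F) i0 d e f := by
  set X : (ι → F) →ₗ[F] (ι → F) := Matrix.toLin' (x : Matrix ι ι F) with hXdef
  have hQX : ∀ v, Q (X v) = Q v := fun v => hx v v
  have hX : ∀ u v, QuadraticMap.polarBilin Q (X u) (X v) = QuadraticMap.polarBilin Q u v := by
    intro u v
    simp only [QuadraticMap.polarBilin_apply_apply, QuadraticMap.polar]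
    rw [← map_add, hQX, hQX, hQX]
  have hXX : ∀ v, X (X v) = -v := by
    intro v
    rw [hXdef, Matrix.toLin'_apply, Matrix.toLin'_apply, Matrix.mulVec_mulVec, hx2, Matrix.neg_mulVec,
      Matrix.one_mulVec]
  obtain ⟨d, e, f, hcard, he, hf, hef⟩ := sqmb1_dual h2 (QuadraticMap.polarBilin Q) hnd X hX hXX i0 hi0
  have hsing : ∀ (c : F), c * c = -1 → ∀ v, v ∈ sqmb1_eig X c → Q v = 0 := by
    intro c hc v hv
    rw [sqmb1_mem_eig] at hv
    have h1 := hQX v
    rw [hv, QuadraticMap.map_smul, hc, smul_eq_mul] at h1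
    have h3 : (2 : F) * Q v = 0 := by linear_combination -h1
    exact (mul_eq_zero.1 h3).resolve_left h2
  have hi0' : (-i0) * (-i0) = -1 := by rw [neg_mul_neg, hi0]
  refine ⟨d, e, f, ⟨fun i => hsing i0 hi0 _ (he i), fun i => hsing (-i0) hi0' _ (hf i), ?_, ?_, ?_, ?_, ?_, ?_⟩⟩
  · intro i j
    have := sqmb1_orth h2 (QuadraticMap.polarBilin Q) X hX i0 hi0 (e i) (e j) (he i) (he j)
    simpa [QuadraticMap.polarBilin_apply_apply] using this
  · intro i j
    have := sqmb1_orth h2 (QuadraticMap.polarBilin Q) X hX (-i0) hi0' (f i) (f j) (hf i) (hf j)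
    simpa [QuadraticMap.polarBilin_apply_apply] using this
  · intro i j
    have := hef i j
    simpa [QuadraticMap.polarBilin_apply_apply] using this
  · intro i
    have := (sqmb1_mem_eig X i0 (e i)).1 (he i)
    rwa [hXdef, Matrix.toLin'_apply] at this
  · intro i
    have := (sqmb1_mem_eig X (-i0) (f i)).1 (hf i)
    rwa [hXdef, Matrix.toLin'_apply] at this
  · rw [← hcard, Module.finrank_fintype_fun_eq_card]

end Cfsg.Agent.Lib.helper15.SQM
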