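import Mathlib
import Cfsg.Agent.Lib.helper8.A7R.Defs
import Cfsg.Agent.Lib.helper8.SylowBasic
import Cfsg.Agent.Lib.helper8.SylowConj
import Cfsg.Agent.Lib.helper8.SubgroupCard

set_option autoImplicit false

/-!
# Project A7R (designer helper8), row B09a `klein_struct` (helper15)

The Klein case: if `N(P)` (`P` a Sylow 3-subgroup of a simple group of order 2520 without subgroups of index 7) has no
element of order 4, a Sylow 2-subgroup `D` of `N(P)` is a four-group acting faithfully on `P ≅ 3^2`, two of its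
involutions `a`, `b` have fixed-point subgroups `⟨x⟩ ≠ ⟨x'⟩` of order 3, and `N(⟨x⟩) = N(P) = N(⟨x'⟩)`.
-/

namespace Cfsg.Agent.Lib.helper8.A7R

universe u

variable {G : Type u} [Group G]

open Subgroup

theorem a7rb09a_conj_mul (a u v : G) : a * (u * v) * a⁻¹ = (a * u * a⁻¹) * (a * v * a⁻¹) := by group

theorem a7rb09a_conj_inv (a u : G) : a * u⁻¹ * a⁻¹ = (a * u * a⁻¹)⁻¹ := by group

theorem a7rb09a_conj_conj (a b u : G) : a * (b * u * b⁻¹) * a⁻¹ = (a * b) * u * (a * b)⁻¹ := by group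

theorem a7rb09a_conj_invol (a u : G) (ha : a ^ 2 = 1) : a * (a * u * a⁻¹) * a⁻¹ = u := by
  rw [a7rb09a_conj_conj, ← pow_two, ha]; simp

theorem a7rb09a_eq_one_of_pow (u : G) (h2 : u ^ 2 = 1) (h3 : u ^ 3 = 1) : u = 1 := by
  calc u = u ^ 3 * (u ^ 2)⁻¹ := by group
    _ = 1 := by rw [h3, h2]; simp

/-- elements of a group of order 3 generated by `x` -/
theorem a7rb09a_mem_zpowers3 (x y : G) (hx : x ^ 3 = 1) (hy : y ∈ zpowers x) :
    y = 1 ∨ y = x ∨ y = x⁻¹ := by
  obtain ⟨k, rfl⟩ := mem_zpowers_iff.mp hy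
  have h3 : x ^ (3 : ℤ) = 1 := by exact_mod_cast hx
  have hk : x ^ k = x ^ (k % 3) := by
    conv_lhs => rw [← Int.emod_add_mul_ediv k 3, zpow_add, zpow_mul, h3, one_zpow, mul_one]
  rw [hk]
  have h0 : 0 ≤ k % 3 := Int.emod_nonneg _ (by norm_num)
  have h1 : k % 3 < 3 := Int.emod_lt_of_pos _ (by norm_num)
  have h2 : x ^ (2 : ℤ) = x⁻¹ := by
    have : x ^ (2 : ℤ) * x = 1 := by
      have : x ^ (2 : ℤ) * x = x ^ (3 : ℤ) := by
        rw [show (3 : ℤ) = 2 + 1 by norm_num, zpow_add, zpow_one]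
      rw [this, h3]
    exact eq_inv_of_mul_eq_one_left this
  generalize k % 3 = r at *
  interval_cases r
  · left; simp
  · right; left; simp
  · right; right; exact h2

/-- an element of order 7 normalizing a subgroup of order 3 centralizes it -/
theorem a7rb09a_seven_cent (x z : G) (hx : x ^ 3 = 1) (hz : z ^ 7 = 1)
    (hzN : z ∈ Nz (zpowers x)) : z * x = x * z := by
  have hmem : z * x * z⁻¹ ∈ zpowers x := (mem_normalizer_iff.mp hzN x).mp (mem_zpowers x)
  rcases a7rb09a_mem_zpowers3 x _ hx hmem with h | h | h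
  · have : x = 1 := by
      have h' : z * x = z := by rw [mul_inv_eq_iff_eq_mul] at h; simpa using h
      exact mul_eq_left.mp h'
    rw [this]; simp
  · exact mul_inv_eq_iff_eq_mul.mp h
  · -- z inverts x, so z^2 centralizes x, and z = (z^2)^4
    have h2 : z ^ 2 * x * (z ^ 2)⁻¹ = x := by
      rw [pow_two, ← a7rb09a_conj_conj, h, a7rb09a_conj_inv, h, inv_inv]
    have hc : Commute (z ^ 2) x := mul_inv_eq_iff_eq_mul.mp h2
    have hc4 : Commute ((z ^ 2) ^ 4) x := hc.pow_left 4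
    have hz8 : (z ^ 2) ^ 4 = z := by
      rw [← pow_mul]
      calc z ^ (2 * 4) = z ^ 7 * z := by rw [← pow_succ]
        _ = z := by rw [hz, one_mul]
    rw [hz8] at hc4
    exact hc4

/-- Lemma S: a subgroup `⟨x⟩` of order 3 of `P` whose normalizer contains `N(P)` has normalizer `N(P)`. -/
theorem a7rb09a_norm_eq (hS : Std G) (h1 : St1 G) (h2 : St2 G) (P : Sylow 3 G)
    (x : G) (hx : orderOf x = 3)
    (hle : Nz (P : Subgroup G) ≤ Nz (zpowers x)) :
    Nz (zpowers x) = Nz (P : Subgroup G) := by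
  haveI := hS.finite
  haveI : Fact (Nat.Prime 3) := ⟨Nat.prime_three⟩
  have hx3 : x ^ 3 = 1 := by rw [← hx]; exact pow_orderOf_eq_one x
  have hN36 : Nat.card (Nz (P : Subgroup G)) = 36 := by
    have := Cfsg.Agent.Lib.helper8.h8_card_normalizer_sylow 3 P
    rw [h2.syl3, hS.card] at this
    change Nat.card (Nz (P : Subgroup G)) * 70 = 2520 at this
    omega
  have hPH : (P : Subgroup G) ≤ Nz (zpowers x) := le_normalizer.trans hle
  -- the number of Sylow 3-subgroups of `H = N(⟨x⟩)`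
  have hidx := Cfsg.Agent.Lib.helper8.h8_nsylow_eq_index_normalizer 3 (P.subtype hPH)
  rw [Sylow.coe_subtype, ← subgroupOf_normalizer_eq hPH] at hidx
  have hrel : Nat.card (Nz (P : Subgroup G)) * (Nz (P : Subgroup G)).relIndex (Nz (zpowers x)) =
      Nat.card (Nz (zpowers x)) := Cfsg.Agent.Lib.helper8.h8_card_mul_relIndex hle
  have hmod := Cfsg.Agent.Lib.helper8.h8_nsylow_mod (G := ↥(Nz (zpowers x))) 3
  have hrel' : 36 * Nat.card (Sylow 3 ↥(Nz (zpowers x))) = Nat.card (Nz (zpowers x)) := by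
    rw [hidx, ← hN36]
    exact hrel
  generalize Nat.card (Sylow 3 ↥(Nz (zpowers x))) = m at hmod hrel'
  have hdvd : Nat.card (Nz (zpowers x)) ∣ 2520 := by
    rw [← hS.card]; exact Subgroup.card_subgroup_dvd_card _
  have hm70 : m ∣ 70 := by
    rw [← hrel'] at hdvd
    exact Nat.dvd_of_mul_dvd_mul_left (by norm_num : 0 < 36) (by simpa using hdvd)
  have hmle : m ≤ 70 := Nat.le_of_dvd (by norm_num) hm70
  have hcases : m = 1 ∨ m = 7 ∨ m = 10 ∨ m = 70 := by
    interval_cases m <;> omega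
  have hidxH := (Nz (zpowers x)).card_mul_index
  rw [hS.card, ← hrel'] at hidxH
  rcases hcases with rfl | rfl | rfl | rfl
  · -- `|H| = 36`
    exact (Subgroup.eq_of_le_of_card_ge hle (by rw [← hrel', hN36])).symm
  · -- `7 ∣ |H|`: an element of order 7 centralizing `x`
    exfalso
    haveI : Fact (Nat.Prime 7) := ⟨by norm_num⟩
    obtain ⟨z, hz⟩ := exists_prime_orderOf_dvd_card' (G := ↥(Nz (zpowers x))) 7
      (by rw [← hrel']; norm_num)
    have hz7 : orderOf (z : G) = 7 := by rw [Subgroup.orderOf_coe]; exact hz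
    have hz7' : (z : G) ^ 7 = 1 := by rw [← hz7]; exact pow_orderOf_eq_one _
    have hcomm := a7rb09a_seven_cent x (z : G) hx3 hz7' z.2
    have hxC : x ∈ Cz (z : G) := by
      rw [mem_centralizer_singleton_iff]; exact hcomm.symm
    rw [h1.selfc7 _ hz7] at hxC
    have := Subgroup.orderOf_dvd_natCard _ hxC
    rw [Nat.card_zpowers, hz7, hx] at this
    omega
  · -- index 7
    exfalso
    apply hS.no7 (Nz (zpowers x))
    omega
  · -- `⟨x⟩` normal
    exfalso
    have htop : Nz (zpowers x) = ⊤ := by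
      apply Subgroup.eq_top_of_card_eq
      rw [← hrel', hS.card]
    haveI : (zpowers x).Normal := normalizer_eq_top_iff.mp htop
    haveI := hS.simple
    have hc3 : Nat.card (zpowers x) = 3 := by rw [Nat.card_zpowers, hx]
    rcases Cfsg.Agent.Lib.helper8.h8_simple_card_normal (zpowers x) with h | h
    · omega
    · rw [hS.card] at h; omega

/-- Lemma N: `N(P) = P D`, so a subgroup containing `P` and `D` contains `N(P)`. -/
theorem a7rb09a_le_of [Finite G] (P : Subgroup G) (hN36 : Nat.card (Nz P) = 36) (hP9 : Nat.card P = 9)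
    (D : Subgroup G) (hD4 : Nat.card D = 4) (hDN : D ≤ Nz P) (H : Subgroup G) (hPH : P ≤ H) (hDH : D ≤ H) :
    Nz P ≤ H := by
  have hle : P ⊔ D ≤ Nz P := sup_le le_normalizer hDN
  have h9 : 9 ∣ Nat.card (P ⊔ D : Subgroup G) := by
    rw [← hP9]; exact Subgroup.card_dvd_of_le le_sup_left
  have h4 : 4 ∣ Nat.card (P ⊔ D : Subgroup G) := by
    rw [← hD4]; exact Subgroup.card_dvd_of_le le_sup_right
  have h36 : 36 ∣ Nat.card (P ⊔ D : Subgroup G) :=
    (by norm_num : Nat.Coprime 9 4).mul_dvd_of_dvd_of_dvd h9 h4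
  have hpos : 0 < Nat.card (P ⊔ D : Subgroup G) := Nat.card_pos
  have heq : P ⊔ D = Nz P := by
    apply Subgroup.eq_of_le_of_card_ge hle
    rw [hN36]
    exact Nat.le_of_dvd hpos h36
  rw [← heq]
  exact sup_le hPH hDH

/-- a nontrivial element of square 1 does not centralize `P` -/
theorem a7rb09a_faith (P : Subgroup G) (hex : ∀ x ∈ P, x ^ 3 = 1) (hc : Cs P = P)
    (g : G) (hg2 : g ^ 2 = 1) (hgc : ∀ y ∈ P, g * y = y * g) : g = 1 := by
  have hgC : g ∈ Cs P := by
    rw [mem_centralizer_iff]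
    intro h hh
    exact (hgc h hh).symm
  rw [hc] at hgC
  exact a7rb09a_eq_one_of_pow g hg2 (hex g hgC)

/-- the fixed points of an involution on `P` form a subgroup of order 1 or 3 -/
theorem a7rb09a_fcard [Finite G] (P : Subgroup G) (hP9 : Nat.card P = 9) (hex : ∀ x ∈ P, x ^ 3 = 1)
    (hc : Cs P = P) (g : G) (hg2 : g ^ 2 = 1) (hg1 : g ≠ 1) :
    Nat.card (P ⊓ Cz g : Subgroup G) = 1 ∨ Nat.card (P ⊓ Cz g : Subgroup G) = 3 := by
  have hdvd : Nat.card (P ⊓ Cz g : Subgroup G) ∣ 3 ^ 2 := by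
    have := Subgroup.card_dvd_of_le (inf_le_left : P ⊓ Cz g ≤ P)
    rw [hP9] at this
    simpa using this
  obtain ⟨k, hk, hkeq⟩ := (Nat.dvd_prime_pow Nat.prime_three).mp hdvd
  interval_cases k
  · left; simpa using hkeq
  · right; simpa using hkeq
  · exfalso
    have hEq : P ⊓ Cz g = P :=
      Subgroup.eq_of_le_of_card_ge inf_le_left (by rw [hkeq, hP9]; norm_num)
    have hle : P ≤ Cz g := inf_eq_left.mp hEq
    apply hg1
    apply a7rb09a_faith P hex hc g hg2
    intro y hy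
    have := hle hy
    rw [mem_centralizer_singleton_iff] at this
    exact this.symm

/-- an element of `N(P)` commuting with `a` normalizes `C_P(a)` -/
theorem a7rb09a_norm_F (P : Subgroup G) (a g : G) (hgN : g ∈ Nz P) (hga : g * a = a * g) :
    g ∈ Nz (P ⊓ Cz a) := by
  rw [mem_normalizer_iff]
  intro h
  have h1 := mem_normalizer_iff.mp hgN h
  have hcg : Commute a g := hga.symm
  rw [mem_inf, mem_inf, mem_centralizer_singleton_iff, mem_centralizer_singleton_iff]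
  constructor
  · rintro ⟨hP, hC⟩
    refine ⟨h1.mp hP, ?_⟩
    have hch : Commute a h := hC.symm
    exact ((hcg.mul_right hch).mul_right hcg.inv_right).symm
  · rintro ⟨hP, hC⟩
    refine ⟨h1.mpr hP, ?_⟩
    have hch : Commute a (g * h * g⁻¹) := hC.symm
    have h2 : Commute a (g⁻¹ * (g * h * g⁻¹) * g) := (hcg.inv_right.mul_right hch).mul_right hcg
    have h3 : g⁻¹ * (g * h * g⁻¹) * g = h := by group
    rw [h3] at h2
    exact h2.symm

/-- the product `y · y^a` is fixed by the involution `a` -/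
theorem a7rb09a_fix (P : Subgroup G) (hab : ∀ u ∈ P, ∀ v ∈ P, u * v = v * u) (a : G)
    (haN : a ∈ Nz P) (ha : a ^ 2 = 1) (y : G) (hy : y ∈ P) :
    a * (y * (a * y * a⁻¹)) * a⁻¹ = y * (a * y * a⁻¹) := by
  have h1 : a * y * a⁻¹ ∈ P := (mem_normalizer_iff.mp haN y).mp hy
  rw [a7rb09a_conj_mul, a7rb09a_conj_invol a y ha]
  exact hab _ h1 _ hy

/-- the quotient `y · (y^a)⁻¹` is inverted by the involution `a` -/
theorem a7rb09a_neg (a : G) (ha : a ^ 2 = 1) (y : G) :
    a * (y * (a * y * a⁻¹)⁻¹) * a⁻¹ = (y * (a * y * a⁻¹)⁻¹)⁻¹ := by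
  rw [a7rb09a_conj_mul, a7rb09a_conj_inv, a7rb09a_conj_invol a y ha, mul_inv_rev, inv_inv]

/-- a non-inverting involution `a` of `N(P)` has `C_P(a) = ⟨x⟩` of order 3 -/
theorem a7rb09a_one [Finite G] (P : Subgroup G) (hP9 : Nat.card P = 9)
    (hab : ∀ u ∈ P, ∀ v ∈ P, u * v = v * u) (hex : ∀ x ∈ P, x ^ 3 = 1) (hc : Cs P = P)
    (a : G) (haN : a ∈ Nz P) (ha2 : a ^ 2 = 1) (ha1 : a ≠ 1)
    (hia : ¬ ∀ y ∈ P, a * y * a⁻¹ = y⁻¹) :
    ∃ x : G, x ∈ P ∧ x ≠ 1 ∧ a * x = x * a ∧ zpowers x = P ⊓ Cz a ∧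
      Nat.card (P ⊓ Cz a : Subgroup G) = 3 := by
  push Not at hia
  obtain ⟨y, hy, hne⟩ := hia
  have h1 : a * y * a⁻¹ ∈ P := (mem_normalizer_iff.mp haN y).mp hy
  have hfix := a7rb09a_fix P hab a haN ha2 y hy
  have hcomm : a * (y * (a * y * a⁻¹)) = y * (a * y * a⁻¹) * a := mul_inv_eq_iff_eq_mul.mp hfix
  have hx1 : y * (a * y * a⁻¹) ≠ 1 := by
    intro h
    exact hne (eq_inv_of_mul_eq_one_right h)
  have hxF : y * (a * y * a⁻¹) ∈ P ⊓ Cz a := by
    rw [mem_inf, mem_centralizer_singleton_iff]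
    exact ⟨P.mul_mem hy h1, hcomm.symm⟩
  have hcard : Nat.card (P ⊓ Cz a : Subgroup G) = 3 := by
    rcases a7rb09a_fcard P hP9 hex hc a ha2 ha1 with h | h
    · exfalso
      rw [Subgroup.card_eq_one] at h
      rw [h, Subgroup.mem_bot] at hxF
      exact hx1 hxF
    · exact h
  refine ⟨y * (a * y * a⁻¹), P.mul_mem hy h1, hx1, hcomm, ?_, hcard⟩
  exact Cfsg.Agent.Lib.helper8.h8_zpowers_eq_of_prime_card 3 Nat.prime_three _ hcard _ hxF hx1

/-- two distinct non-inverting involutions `a`, `b` of the four-group `D` have distinct fixed-point subgroups -/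
theorem a7rb09a_core [Finite G] (P : Subgroup G) (hP9 : Nat.card P = 9)
    (hab : ∀ u ∈ P, ∀ v ∈ P, u * v = v * u) (hex : ∀ x ∈ P, x ^ 3 = 1) (hc : Cs P = P)
    (D : Subgroup G) (hDN : D ≤ Nz P) (hD2 : ∀ g ∈ D, g ^ 2 = 1)
    (hDab : ∀ u ∈ D, ∀ v ∈ D, u * v = v * u)
    (a b : G) (haD : a ∈ D) (hbD : b ∈ D) (ha1 : a ≠ 1) (hb1 : b ≠ 1) (hne : a ≠ b)
    (hia : ¬ ∀ y ∈ P, a * y * a⁻¹ = y⁻¹) (hib : ¬ ∀ y ∈ P, b * y * b⁻¹ = y⁻¹) :
    ∃ x x' : G, x ∈ P ∧ x' ∈ P ∧ x ≠ 1 ∧ x' ≠ 1 ∧ x' ∉ zpowers x ∧ a * x = x * a ∧ b * x' = x' * b ∧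
      D ≤ Nz (zpowers x) ∧ D ≤ Nz (zpowers x') := by
  have ha2 := hD2 a haD
  have hb2 := hD2 b hbD
  have haN := hDN haD
  have hbN := hDN hbD
  obtain ⟨x, hxP, hx1, hax, hzx, hca⟩ := a7rb09a_one P hP9 hab hex hc a haN ha2 ha1 hia
  obtain ⟨x', hx'P, hx'1, hbx', hzx', hcb⟩ := a7rb09a_one P hP9 hab hex hc b hbN hb2 hb1 hib
  refine ⟨x, x', hxP, hx'P, hx1, hx'1, ?_, hax, hbx', ?_, ?_⟩
  · intro hmem
    rw [hzx] at hmem
    -- `C_P(a) = ⟨x'⟩ = C_P(b)`
    have hFa : zpowers x' = P ⊓ Cz a :=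
      Cfsg.Agent.Lib.helper8.h8_zpowers_eq_of_prime_card 3 Nat.prime_three _ hca _ hmem hx'1
    have hFab : P ⊓ Cz b = P ⊓ Cz a := by rw [← hzx', hFa]
    have hax' : a * x' = x' * a := by
      have h0 := hmem
      rw [mem_inf, mem_centralizer_singleton_iff] at h0
      exact h0.2.symm
    -- `a` moves some `y`
    obtain ⟨y, hy, hay⟩ : ∃ y ∈ P, a * y ≠ y * a := by
      by_contra hcon
      push Not at hcon
      exact ha1 (a7rb09a_faith P hex hc a ha2 hcon)
    have hyc : a * y * a⁻¹ ∈ P := (mem_normalizer_iff.mp haN y).mp hy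
    have hwP : y * (a * y * a⁻¹)⁻¹ ∈ P := P.mul_mem hy (P.inv_mem hyc)
    have hw1 : y * (a * y * a⁻¹)⁻¹ ≠ 1 := by
      intro h
      apply hay
      have h' : y = a * y * a⁻¹ := by
        have := mul_inv_eq_one.mp h
        exact this
      exact (mul_inv_eq_iff_eq_mul.mp h'.symm)
    have hwa := a7rb09a_neg a ha2 y
    generalize y * (a * y * a⁻¹)⁻¹ = w at hwP hw1 hwa
    -- `v = w · w^b` is fixed by `b`, hence by `a`, and is inverted by `a`
    have hwb : b * w * b⁻¹ ∈ P := (mem_normalizer_iff.mp hbN w).mp hwP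
    have hvP : w * (b * w * b⁻¹) ∈ P := P.mul_mem hwP hwb
    have hvb := a7rb09a_fix P hab b hbN hb2 w hwP
    have hvFb : w * (b * w * b⁻¹) ∈ P ⊓ Cz b := by
      rw [mem_inf, mem_centralizer_singleton_iff]
      exact ⟨hvP, (mul_inv_eq_iff_eq_mul.mp hvb).symm⟩
    rw [hFab, mem_inf, mem_centralizer_singleton_iff] at hvFb
    have hva : a * (w * (b * w * b⁻¹)) * a⁻¹ = w * (b * w * b⁻¹) :=
      mul_inv_eq_iff_eq_mul.mpr hvFb.2.symm
    have hva' : a * (w * (b * w * b⁻¹)) * a⁻¹ = (w * (b * w * b⁻¹))⁻¹ := by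
      rw [a7rb09a_conj_mul, a7rb09a_conj_conj, hDab a haD b hbD, ← a7rb09a_conj_conj, hwa,
        a7rb09a_conj_inv, ← mul_inv_rev]
      congr 1
      exact hab _ hwb _ hwP
    have hv1 : w * (b * w * b⁻¹) = 1 := by
      apply a7rb09a_eq_one_of_pow _ _ (hex _ hvP)
      have : w * (b * w * b⁻¹) = (w * (b * w * b⁻¹))⁻¹ := hva.symm.trans hva'
      rw [pow_two]
      nth_rewrite 1 [this]
      exact inv_mul_cancel _
    have hwb' : b * w * b⁻¹ = w⁻¹ := eq_inv_of_mul_eq_one_right hv1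
    -- `a b` fixes `w` and `x'`
    have habD : a * b ∈ D := D.mul_mem haD hbD
    have hab2 := hD2 _ habD
    have hab1 : a * b ≠ 1 := by
      intro h
      apply hne
      have h1 : a = b⁻¹ := eq_inv_of_mul_eq_one_left h
      have h2 : b⁻¹ = b := by
        have : b * b = 1 := by rw [← pow_two]; exact hb2
        exact inv_eq_of_mul_eq_one_left this
      rw [h1, h2]
    have hwab : a * b * w * (a * b)⁻¹ = w := by
      rw [← a7rb09a_conj_conj, hwb', a7rb09a_conj_inv, hwa, inv_inv]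
    have hwF : w ∈ P ⊓ Cz (a * b) := by
      rw [mem_inf, mem_centralizer_singleton_iff]
      exact ⟨hwP, (mul_inv_eq_iff_eq_mul.mp hwab).symm⟩
    have hx'F : x' ∈ P ⊓ Cz (a * b) := by
      rw [mem_inf, mem_centralizer_singleton_iff]
      refine ⟨hx'P, ?_⟩
      calc x' * (a * b) = (x' * a) * b := (mul_assoc _ _ _).symm
        _ = (a * x') * b := by rw [hax']
        _ = a * (x' * b) := mul_assoc _ _ _
        _ = a * (b * x') := by rw [hbx']
        _ = a * b * x' := (mul_assoc _ _ _).symm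
    rcases a7rb09a_fcard P hP9 hex hc (a * b) hab2 hab1 with h | h
    · rw [Subgroup.card_eq_one] at h
      rw [h, Subgroup.mem_bot] at hx'F
      exact hx'1 hx'F
    · have hz : zpowers x' = P ⊓ Cz (a * b) :=
        Cfsg.Agent.Lib.helper8.h8_zpowers_eq_of_prime_card 3 Nat.prime_three _ h _ hx'F hx'1
      rw [← hz, hFa, mem_inf, mem_centralizer_singleton_iff] at hwF
      have h3 : a * w * a⁻¹ = w := mul_inv_eq_iff_eq_mul.mpr hwF.2.symm
      rw [hwa] at h3
      apply hw1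
      apply a7rb09a_eq_one_of_pow _ _ (hex _ hwP)
      rw [pow_two]
      nth_rewrite 1 [← h3]
      exact inv_mul_cancel _
  · intro g hg
    rw [hzx]
    exact a7rb09a_norm_F P a g (hDN hg) (hDab g hg a haD)
  · intro g hg
    rw [hzx']
    exact a7rb09a_norm_F P b g (hDN hg) (hDab g hg b hbD)

/-- B09a [M-L]: the Klein case, structure. -/
theorem klein_struct (hS : Std G) (h1 : St1 G) (h2 : St2 G)
    (hc : ∀ P : Sylow 3 G, Cs (P : Subgroup G) = (P : Subgroup G))
    (he : ∀ P : Sylow 3 G, ∀ x ∈ (P : Subgroup G), x ^ 3 = 1)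
    (P : Sylow 3 G) (hno : ∀ k ∈ Nz (P : Subgroup G), orderOf k ≠ 4) :
    ∃ a b x x' : G, a ∈ Nz (P : Subgroup G) ∧ b ∈ Nz (P : Subgroup G) ∧ orderOf a = 2 ∧ orderOf b = 2 ∧
      x ∈ (P : Subgroup G) ∧ x' ∈ (P : Subgroup G) ∧ orderOf x = 3 ∧ orderOf x' = 3 ∧ x' ∉ Subgroup.zpowers x ∧
      a * x = x * a ∧ b * x' = x' * b ∧
      Nz (Subgroup.zpowers x) = Nz (P : Subgroup G) ∧ Nz (Subgroup.zpowers x') = Nz (P : Subgroup G) := by
  haveI := hS.finite
  haveI : Fact (Nat.Prime 3) := ⟨Nat.prime_three⟩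
  haveI : Fact (Nat.Prime 2) := ⟨Nat.prime_two⟩
  have hG : Nat.card G = 3 ^ 2 * 280 := by rw [hS.card]; norm_num
  have hP9 : Nat.card (P : Subgroup G) = 9 := by
    have := Cfsg.Agent.Lib.helper8.h8_sylow_card 3 2 280 hG (by norm_num) P
    simpa using this
  have hN36 : Nat.card (Nz (P : Subgroup G)) = 36 := by
    have := Cfsg.Agent.Lib.helper8.h8_card_normalizer_sylow 3 P
    rw [h2.syl3, hS.card] at this
    change Nat.card (Nz (P : Subgroup G)) * 70 = 2520 at this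
    omega
  have hab := Cfsg.Agent.Lib.helper8.h8_comm_of_card_prime_sq 3 (P : Subgroup G) (by rw [hP9]; norm_num)
  have hex := he P
  have hcP := hc P
  -- a Sylow 2-subgroup `D` of `N(P)`
  obtain ⟨K, hK⟩ := Sylow.exists_subgroup_card_pow_prime (G := ↥(Nz (P : Subgroup G))) 2 (n := 2)
    (by rw [hN36]; norm_num)
  obtain ⟨D, hDdef⟩ : ∃ D : Subgroup G, D = K.map (Nz (P : Subgroup G)).subtype := ⟨_, rfl⟩
  have hD4 : Nat.card D = 4 := by
    rw [hDdef, Subgroup.card_map_of_injective (Subgroup.subtype_injective _), hK]; norm_num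
  have hDN : D ≤ Nz (P : Subgroup G) := by rw [hDdef]; exact Subgroup.map_subtype_le K
  have hD2 : ∀ g ∈ D, g ^ 2 = 1 := by
    intro g hg
    have h4 : orderOf g ∣ 2 ^ 2 := by
      have := Subgroup.orderOf_dvd_natCard D hg
      rw [hD4] at this
      simpa using this
    obtain ⟨k, hk, hkeq⟩ := (Nat.dvd_prime_pow Nat.prime_two).mp h4
    interval_cases k
    · rw [pow_zero, orderOf_eq_one_iff] at hkeq
      rw [hkeq]; simp
    · rw [pow_one] at hkeq
      rw [← hkeq]; exact pow_orderOf_eq_one g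
    · exact absurd (by simpa using hkeq) (hno g (hDN hg))
  have hDab := Cfsg.Agent.Lib.helper8.h8_comm_of_card_prime_sq 2 D (by rw [hD4]; norm_num)
  -- two distinct involutions `d`, `e` of `D`
  obtain ⟨d, hdD, hd1⟩ : ∃ d ∈ D, d ≠ 1 := by
    rcases D.bot_or_exists_ne_one with h | h
    · rw [h, Subgroup.card_bot] at hD4; omega
    · exact h
  have hd2 : orderOf d = 2 := orderOf_eq_prime (hD2 d hdD) hd1
  obtain ⟨e, heD, hed⟩ : ∃ e ∈ D, e ∉ zpowers d := by
    by_contra hcon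
    push Not at hcon
    have hle : D ≤ zpowers d := hcon
    have := Subgroup.card_dvd_of_le hle
    rw [hD4, Nat.card_zpowers, hd2] at this
    omega
  have he1 : e ≠ 1 := fun h => hed (h ▸ one_mem _)
  have hde : d ≠ e := fun h => hed (h ▸ mem_zpowers d)
  have hsq : ∀ g ∈ D, g⁻¹ = g := by
    intro g hg
    have : g * g = 1 := by rw [← pow_two]; exact hD2 g hg
    exact inv_eq_of_mul_eq_one_left this
  -- two inverting elements of `D` have trivial product
  have hprod : ∀ g ∈ D, ∀ h ∈ D, (∀ y ∈ (P : Subgroup G), g * y * g⁻¹ = y⁻¹) →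
      (∀ y ∈ (P : Subgroup G), h * y * h⁻¹ = y⁻¹) → g * h = 1 := by
    intro g hg h hh hgi hhi
    apply a7rb09a_faith (P : Subgroup G) hex hcP (g * h) (hD2 _ (D.mul_mem hg hh))
    intro y hy
    have : g * h * y * (g * h)⁻¹ = y := by
      rw [← a7rb09a_conj_conj, hhi y hy, a7rb09a_conj_inv, hgi y hy, inv_inv]
    exact mul_inv_eq_iff_eq_mul.mp this
  -- the conclusion for a good pair
  have hfin : ∀ a b : G, a ∈ D → b ∈ D → a ≠ 1 → b ≠ 1 → a ≠ b →
      (¬ ∀ y ∈ (P : Subgroup G), a * y * a⁻¹ = y⁻¹) → (¬ ∀ y ∈ (P : Subgroup G), b * y * b⁻¹ = y⁻¹) →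
      ∃ a b x x' : G, a ∈ Nz (P : Subgroup G) ∧ b ∈ Nz (P : Subgroup G) ∧ orderOf a = 2 ∧ orderOf b = 2 ∧
      x ∈ (P : Subgroup G) ∧ x' ∈ (P : Subgroup G) ∧ orderOf x = 3 ∧ orderOf x' = 3 ∧ x' ∉ Subgroup.zpowers x ∧
      a * x = x * a ∧ b * x' = x' * b ∧
      Nz (Subgroup.zpowers x) = Nz (P : Subgroup G) ∧ Nz (Subgroup.zpowers x') = Nz (P : Subgroup G) := by
    intro a b haD hbD ha1 hb1 hne hia hib
    obtain ⟨x, x', hxP, hx'P, hx1, hx'1, hnot, hax, hbx', hDx, hDx'⟩ :=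
      a7rb09a_core (P : Subgroup G) hP9 hab hex hcP D hDN hD2 hDab a b haD hbD ha1 hb1 hne hia hib
    have hox : orderOf x = 3 := orderOf_eq_prime (hex x hxP) hx1
    have hox' : orderOf x' = 3 := orderOf_eq_prime (hex x' hx'P) hx'1
    have hPle : ∀ t ∈ (P : Subgroup G), (P : Subgroup G) ≤ Nz (zpowers t) := by
      intro t ht p hp
      apply Subgroup.centralizer_le_normalizer
      rw [mem_centralizer_iff]
      intro h hh
      have hhP : h ∈ (P : Subgroup G) := (zpowers_le.mpr ht) hh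
      exact hab h hhP p hp
    refine ⟨a, b, x, x', hDN haD, hDN hbD, orderOf_eq_prime (hD2 a haD) ha1,
      orderOf_eq_prime (hD2 b hbD) hb1, hxP, hx'P, hox, hox', hnot, hax, hbx', ?_, ?_⟩
    · exact a7rb09a_norm_eq hS h1 h2 P x hox
        (a7rb09a_le_of (P : Subgroup G) hN36 hP9 D hD4 hDN _ (hPle x hxP) hDx)
    · exact a7rb09a_norm_eq hS h1 h2 P x' hox'
        (a7rb09a_le_of (P : Subgroup G) hN36 hP9 D hD4 hDN _ (hPle x' hx'P) hDx')
  have hdeD : d * e ∈ D := D.mul_mem hdD heD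
  have hde1 : d * e ≠ 1 := by
    intro h
    apply hde
    have h1' : d = e⁻¹ := eq_inv_of_mul_eq_one_left h
    rw [h1', hsq e heD]
  have hd_ne : d ≠ d * e := by
    intro h
    apply he1
    exact (mul_eq_left.mp h.symm)
  have he_ne : e ≠ d * e := by
    intro h
    apply hd1
    exact (mul_eq_right.mp h.symm)
  by_cases hid : ∀ y ∈ (P : Subgroup G), d * y * d⁻¹ = y⁻¹
  · -- then `e` and `d e` do not invert
    have hie : ¬ ∀ y ∈ (P : Subgroup G), e * y * e⁻¹ = y⁻¹ := fun h => hde1 (hprod d hdD e heD hid h)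
    have hide : ¬ ∀ y ∈ (P : Subgroup G), (d * e) * y * (d * e)⁻¹ = y⁻¹ := by
      intro h
      have := hprod d hdD (d * e) hdeD hid h
      apply he1
      have h3 : d * (d * e) = e := by
        rw [← mul_assoc, ← pow_two, hD2 d hdD, one_mul]
      rw [← h3]; exact this
    exact hfin e (d * e) heD hdeD he1 hde1 he_ne hie hide
  · by_cases hie : ∀ y ∈ (P : Subgroup G), e * y * e⁻¹ = y⁻¹
    · have hide : ¬ ∀ y ∈ (P : Subgroup G), (d * e) * y * (d * e)⁻¹ = y⁻¹ := by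
        intro h
        have := hprod (d * e) hdeD e heD h hie
        apply hd1
        have h3 : d * e * e = d := by
          rw [mul_assoc, ← pow_two, hD2 e heD, mul_one]
        rw [← h3]; exact this
      exact hfin d (d * e) hdD hdeD hd1 hde1 hd_ne hid hide
    · exact hfin d e hdD heD hd1 he1 hde hid hie

end Cfsg.Agent.Lib.helper8.A7R
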