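import Mathlib
import Cfsg.Prelude.Def_GeometricClasses
import Cfsg.Agent.Lib.Helper27.ASC.Defs
import Cfsg.Agent.Lib.helper23.ASCO.Defs
import Cfsg.Agent.Lib.Helper19.ASG.Defs
import Cfsg.Agent.Lib.Helper1.ASGCLIF3
import Cfsg.Agent.Lib.Helper1.ASGCLIF4
import Cfsg.Agent.Lib.Helper25.ASO.Defs
import Cfsg.Agent.Lib.helper23.ASE.Defs

set_option autoImplicit false
set_option linter.unusedVariables false
set_option linter.unusedSectionVars false
set_option linter.style.haveILetI false

/-!
# Project ASE (S5826), piece PERFFLD : `perfect_field_false`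
-/

namespace Cfsg.Agent.Lib.helper23.ASE

open Cfsg Cfsg.Geo Cfsg.Agent.Lib.Helper27.ASC Cfsg.Agent.Lib.helper23.ASCO Cfsg.Agent.Lib.Helper19.ASG
  Cfsg.Agent.Lib.Helper25.ASO
open scoped MatrixGroups Matrix Kronecker

variable {n : ℕ} {F : Type*} [Field F] [Fintype F]

theorem aseperffld_conj_add (h : GL (Fin n) F) (f g : Matrix (Fin n) (Fin n) F) :
    asgConj h (f + g) = asgConj h f + asgConj h g := by
  unfold asgConj
  rw [Matrix.mul_add, Matrix.add_mul]

theorem aseperffld_conj_algebraMap (h : GL (Fin n) F) (c : F) :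
    asgConj h (algebraMap F (Matrix (Fin n) (Fin n) F) c) = algebraMap F (Matrix (Fin n) (Fin n) F) c := by
  unfold asgConj
  rw [Algebra.algebraMap_eq_smul_one, Matrix.mul_smul, Matrix.mul_one, Matrix.smul_mul, ← Units.val_mul,
    mul_inv_cancel, Units.val_one]

/-- two conjugations by elements of the normaliser of a field subalgebra commute on it -/
theorem aseperffld_comm {r : ℕ} (hr : 0 < r) (K : Subalgebra F (Matrix (Fin n) (Fin n) F))
    (hK : IsFieldSubalgebra r K) (g h : GL (Fin n) F) (hg : g ∈ subalgebraNormalizer K)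
    (hh : h ∈ subalgebraNormalizer K) (k : Matrix (Fin n) (Fin n) F) (hk : k ∈ K) :
    asgConj g (asgConj h k) = asgConj h (asgConj g k) := by
  classical
  letI : Field K := (asgclif_isField K hK hr).toField
  haveI : Module.Finite F K := Module.finite_of_finrank_pos (by rw [hK.finrank_eq]; exact hr)
  haveI : Finite K := Module.finite_of_finite F
  have hmem : ∀ x ∈ subalgebraNormalizer K, ∀ k ∈ K, asgConj x k ∈ K := fun x hx k hk => (hx k).mp hk
  let cj : ∀ x ∈ subalgebraNormalizer K, (K ≃ₐ[F] K) := fun x hx =>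
    { toFun := fun k => ⟨asgConj x k, hmem x hx k k.2⟩
      invFun := fun k => ⟨asgConj x⁻¹ k, hmem x⁻¹ ((subalgebraNormalizer K).inv_mem hx) k k.2⟩
      left_inv := fun k => Subtype.ext (asgclif_conj_inv_conj x k)
      right_inv := fun k => Subtype.ext (asgclif_conj_conj_inv x k)
      map_mul' := fun a b => Subtype.ext (asgclif_conj_mmul x a b)
      map_add' := fun a b => Subtype.ext (aseperffld_conj_add x a b)
      commutes' := fun c => Subtype.ext (aseperffld_conj_algebraMap x c) }
  have hcomm : cj g hg * cj h hh = cj h hh * cj g hg := (IsCyclic.commGroup).mul_comm _ _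
  have h1 := congrArg (fun φ : K ≃ₐ[F] K => ((φ ⟨k, hk⟩ : K) : Matrix (Fin n) (Fin n) F)) hcomm
  exact h1

/-- PERFFLD : a perfect absolutely irreducible group normalises no extension field. -/
theorem perfect_field_false {N : Subgroup (GL (Fin n) F)} (hA : AbsIrr N) (hperf : ⁅N, N⁆ = N) {r : ℕ} (hr : 2 ≤ r)
    (K : Subalgebra F (Matrix (Fin n) (Fin n) F)) (hK : IsFieldSubalgebra r K)
    (hNK : N ≤ subalgebraNormalizer K) : False := by
  classical
  have hr0 : 0 < r := by omega
  -- the centraliser of `K` in `GL`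
  let C : Subgroup (GL (Fin n) F) :=
    { carrier := {x | ∀ k ∈ K, asgConj x k = k}
      one_mem' := fun k _ => asgclif_conj_one k
      mul_mem' := by
        intro a b ha hb k hk
        show asgConj (a * b) k = k
        rw [asgclif_conj_mul, hb k hk, ha k hk]
      inv_mem' := by
        intro a ha k hk
        show asgConj a⁻¹ k = k
        have h1 := ha k hk
        calc asgConj a⁻¹ k = asgConj a⁻¹ (asgConj a k) := by rw [h1]
          _ = k := asgclif_conj_inv_conj a k }
  have hle : ⁅N, N⁆ ≤ C := by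
    rw [Subgroup.commutator_le]
    intro g hg h hh k hk
    show asgConj (g * h * g⁻¹ * h⁻¹) k = k
    have hgM := hNK hg
    have hhM := hNK hh
    have hgi : g⁻¹ ∈ subalgebraNormalizer K := (subalgebraNormalizer K).inv_mem hgM
    have hhi : h⁻¹ ∈ subalgebraNormalizer K := (subalgebraNormalizer K).inv_mem hhM
    have hx : asgConj g⁻¹ (asgConj h⁻¹ k) ∈ K := (hgi _).mp ((hhi k).mp hk)
    rw [asgclif_conj_mul, asgclif_conj_mul, asgclif_conj_mul,
      aseperffld_comm hr0 K hK g h hgM hhM _ hx, asgclif_conj_conj_inv, asgclif_conj_conj_inv]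
  rw [hperf] at hle
  -- every element of `K` is scalar
  have hscal : ∀ k ∈ K, ∃ c : F, k = c • (1 : Matrix (Fin n) (Fin n) F) := by
    intro k hk
    apply hA.2 k
    rintro s ⟨x, hx, rfl⟩
    have h1 : asgConj x k = k := hle hx k hk
    unfold asgConj at h1
    have h2 : ((x⁻¹ : GL (Fin n) F) : Matrix (Fin n) (Fin n) F) * (x : Matrix (Fin n) (Fin n) F) = 1 := by
      rw [← Units.val_mul, inv_mul_cancel, Units.val_one]
    calc k * (x : Matrix (Fin n) (Fin n) F)
        = (x : Matrix (Fin n) (Fin n) F) * k * ((x⁻¹ : GL (Fin n) F) : Matrix (Fin n) (Fin n) F) *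
            (x : Matrix (Fin n) (Fin n) F) := by rw [h1]
      _ = (x : Matrix (Fin n) (Fin n) F) * k := by rw [Matrix.mul_assoc, h2, Matrix.mul_one]
  have hle2 : Subalgebra.toSubmodule K ≤ Submodule.span F {(1 : Matrix (Fin n) (Fin n) F)} := by
    intro k hk
    obtain ⟨c, rfl⟩ := hscal k hk
    exact Submodule.smul_mem _ c (Submodule.subset_span rfl)
  have h1 : Module.finrank F (Subalgebra.toSubmodule K) ≤
      Module.finrank F (Submodule.span F {(1 : Matrix (Fin n) (Fin n) F)}) := Submodule.finrank_mono hle2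
  have h2 : Module.finrank F (Submodule.span F {(1 : Matrix (Fin n) (Fin n) F)}) ≤ 1 := by
    have h := finrank_span_finset_le_card (R := F) ({(1 : Matrix (Fin n) (Fin n) F)} : Finset _)
    rw [Finset.coe_singleton, Finset.card_singleton] at h
    exact h
  have h3 : Module.finrank F (Subalgebra.toSubmodule K) = r := hK.finrank_eq
  omega

end Cfsg.Agent.Lib.helper23.ASE
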