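import Mathlib
import Cfsg.Prelude.Def_GeometricClasses
import Cfsg.Agent.Lib.Helper27.ASC.Defs
import Cfsg.Agent.Lib.Helper19.ASG.Defs
import Cfsg.Agent.Lib.Helper18.ASP.Defs

set_option autoImplicit false
set_option linter.unusedVariables false
set_option linter.unusedSectionVars false

/-!
# Project ASP, block AB, piece AB-ND : `ab_nddec`
-/

namespace Cfsg.Agent.Lib.Helper18.ASP

open Cfsg Cfsg.Geo Cfsg.Agent.Lib.Helper27.ASC Cfsg.Agent.Lib.Helper19.ASG
open scoped MatrixGroups Matrix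

variable {n : ℕ} {F : Type*} [Field F] [Fintype F]

/-- AB-ND : self-adjoint pairwise orthogonal idempotents whose ranges form an `m`-decomposition give a NON-DEGENERATE
`m`-decomposition. -/
theorem ab_nddec (f : (Fin n → F) → (Fin n → F) → F) (hf : IsSymplecticForm f) {t k : ℕ}
    (E : Fin t → Matrix (Fin n) (Fin n) F) (hsa : ∀ i u v, f (E i *ᵥ u) v = f u (E i *ᵥ v))
    (hid : ∀ i, E i * E i = E i) (horth : ∀ i j, i ≠ j → E i * E j = 0)
    (hD : IsMDecomposition k (fun i => LinearMap.range (Matrix.toLin' (E i)))) :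
    IsNondegenerateMDecomposition f k (fun i => LinearMap.range (Matrix.toLin' (E i))) := by
  have hfix : ∀ i, ∀ w ∈ LinearMap.range (Matrix.toLin' (E i)), E i *ᵥ w = w := by
    intro i w hw
    obtain ⟨w', rfl⟩ := hw
    rw [Matrix.toLin'_apply, Matrix.mulVec_mulVec, hid]
  have hmem : ∀ i x, E i *ᵥ x ∈ LinearMap.range (Matrix.toLin' (E i)) := by
    intro i x
    exact ⟨x, Matrix.toLin'_apply _ _⟩
  refine ⟨hD, ?_, ?_⟩
  · intro i w hw hw0
    obtain ⟨⟨x, hx⟩, ⟨y, hy⟩⟩ := hf.nondegenerate w hw0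
    refine ⟨⟨E i *ᵥ x, hmem i x, ?_⟩, ⟨E i *ᵥ y, hmem i y, ?_⟩⟩
    · rw [hsa, hfix i w hw]
      exact hx
    · rw [← hsa, hfix i w hw]
      exact hy
  · intro i j hij u hu v hv
    obtain ⟨u', rfl⟩ := hu
    obtain ⟨v', rfl⟩ := hv
    rw [Matrix.toLin'_apply, Matrix.toLin'_apply, hsa, Matrix.mulVec_mulVec, horth i j hij,
      Matrix.zero_mulVec]
    have h0 := hf.bilinear.smul_right 0 u' 0
    rw [zero_smul, zero_mul] at h0
    exact h0

end Cfsg.Agent.Lib.Helper18.ASP
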