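import Mathlib
import Cfsg.Prelude.Def_GeometricClasses
import Cfsg.Agent.Lib.Helper27.ASC.Defs
import Cfsg.Agent.Lib.Helper19.ASG.Defs
import Cfsg.Agent.Lib.Helper9.ASGD2T.Defs
import Cfsg.Agent.Lib.Helper9.ASGD2TF.Defs
import Cfsg.Agent.Lib.Helper19.ASU.Defs
import Cfsg.Agent.Lib.Helper19.ASUADJ

set_option autoImplicit false
set_option linter.unusedVariables false
set_option linter.unusedSectionVars false

/-!
# Project ASU (S5663), block D2T, piece D2T-UF1 : `gram_unitary`
-/

namespace Cfsg.Agent.Lib.Helper19.ASU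

open Cfsg Cfsg.Geo Cfsg.Agent.Lib.Helper27.ASC Cfsg.Agent.Lib.Helper19.ASG
open scoped MatrixGroups Matrix

variable {n : ℕ} {F : Type*} [Field F]

variable [Fintype F]

/-- the form of a Gram matrix as a dot product -/
theorem asud2tuf1_dot {k : ℕ} (σ : F → F) (M : Matrix (Fin k) (Fin k) F) (x y : Fin k → F) :
    formOfGram σ M x y = x ⬝ᵥ (M *ᵥ (fun b => σ (y b))) := by
  unfold formOfGram
  simp only [dotProduct, Matrix.mulVec, Finset.mul_sum, mul_assoc]

/-- D2T-UF1 : an invertible hermitian matrix defines a non-degenerate unitary form. -/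
theorem gram_unitary (q : ℕ) (hF : Fintype.card F = q ^ 2) {k : ℕ} (M : Matrix (Fin k) (Fin k) F) (hM : IsUnit M.det)
    (hherm : ∀ i j, (M j i) ^ q = M i j) : IsUnitaryFormPow q (formOfGram (fun x : F => x ^ q) M) := by
  have hsymm : ∀ v w : Fin k → F, formOfGram (fun x : F => x ^ q) M v w =
      (formOfGram (fun x : F => x ^ q) M w v) ^ q := by
    intro v w
    rw [← ufrob_apply hF (formOfGram (fun x : F => x ^ q) M w v)]
    unfold formOfGram
    rw [map_sum]
    simp_rw [map_sum, map_mul]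
    simp only [ufrob_apply hF, upow_pow hF]
    rw [Finset.sum_comm]
    refine Finset.sum_congr rfl (fun a _ => Finset.sum_congr rfl (fun b _ => ?_))
    rw [hherm b a]
    ring
  have hinj : Function.Injective M.mulVec :=
    Matrix.mulVec_injective_iff_isUnit.mpr ((Matrix.isUnit_iff_isUnit_det M).mpr hM)
  have hleft : ∀ v : Fin k → F, v ≠ 0 → ∃ x, formOfGram (fun x : F => x ^ q) M x v ≠ 0 := by
    intro v hv
    have hv' : (fun b => (v b) ^ q) ≠ (0 : Fin k → F) := by
      intro h
      apply hv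
      funext b
      have hb := congrFun h b
      simp only [Pi.zero_apply] at hb
      apply upow_injective hF
      rw [hb]
      have hq : 0 < q := uq_pos hF
      show (0 : F) = (0 : F) ^ q
      rw [zero_pow hq.ne']
    have hne : M *ᵥ (fun b => (v b) ^ q) ≠ 0 := by
      intro h
      apply hv'
      apply hinj
      rw [h, Matrix.mulVec_zero]
    obtain ⟨a0, ha0⟩ : ∃ a0, (M *ᵥ (fun b => (v b) ^ q)) a0 ≠ 0 := by
      by_contra hcon
      push Not at hcon
      exact hne (funext hcon)
    refine ⟨Pi.single a0 1, ?_⟩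
    rw [asud2tuf1_dot, single_one_dotProduct]
    exact ha0
  refine ⟨?_, ?_, hsymm, ?_⟩
  · intro x y v
    rw [asud2tuf1_dot, asud2tuf1_dot, asud2tuf1_dot, add_dotProduct]
  · intro c x v
    rw [asud2tuf1_dot, asud2tuf1_dot, smul_dotProduct, smul_eq_mul]
  · intro v hv
    obtain ⟨x, hx⟩ := hleft v hv
    refine ⟨⟨x, hx⟩, ⟨x, ?_⟩⟩
    rw [hsymm v x]
    exact pow_ne_zero q hx

end Cfsg.Agent.Lib.Helper19.ASU
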