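import Mathlib
import Cfsg.Agent.Lib.Lead.BCS.Defs

set_option autoImplicit false

/-!
# Project BCS, row A3 (`bcs_comm_inv`): SECOND COPY by helper15 under the name `bcsa3_h15` (same statement as in `Lead/BCS/Skel.lean.txt`).
-/

namespace Cfsg.Agent.Lib.Lead.BCS

open Polynomial Module Matrix Cfsg.Agent.Lib.Helper13.S5955 Cfsg.Agent.Lib.helper15.S5972
  Cfsg.Agent.Lib.Helper18.ONE

/-- `g` commuting with `y` commutes with every polynomial in `y` -/
theorem bcsa3_h15_comm {F : Type*} [Field F] {V : Type*} [AddCommGroup V] [Module F V]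
    (g y : Module.End F V) (hc : Commute g y) (P : F[X]) (v : V) :
    aeval y P (g v) = g (aeval y P v) := by
  have h1 : Commute g (aeval y P) := by
    induction P using Polynomial.induction_on' with
    | add p q hp hq =>
      rw [map_add]
      exact hp.add_right hq
    | monomial n a =>
      rw [aeval_monomial]
      exact (Algebra.commute_algebraMap_right a g).mul_right (hc.pow_right n)
  have h2 := congrArg (fun f : Module.End F V => f v) h1.eq
  simp only [Module.End.mul_apply] at h2
  exact h2.symm

/-- `g` commuting with `y` preserves the kernel of every polynomial in `y` -/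
theorem bcsa3_h15_ker {F : Type*} [Field F] {V : Type*} [AddCommGroup V] [Module F V]
    (g y : Module.End F V) (hc : Commute g y) (P : F[X]) :
    SInv g (LinearMap.ker (aeval y P)) := by
  intro v hv
  rw [LinearMap.mem_ker] at hv ⊢
  rw [bcsa3_h15_comm g y hc P v, hv, map_zero]

/-- A3 [S] (second copy, same statement as `bcs_comm_inv`). -/
theorem bcsa3_h15 {F : Type*} [Field F] {V : Type*} [AddCommGroup V] [Module F V]
    (g y : Module.End F V) (hc : Commute g y) (r : ℕ) :
    SInv g (fixS y) ∧ SInv g (cycS r y) :=
  ⟨bcsa3_h15_ker g y hc _, bcsa3_h15_ker g y hc _⟩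

end Cfsg.Agent.Lib.Lead.BCS
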