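import Mathlib
import Cfsg.Agent.Lib.helper7.BD.D1Defs
import Cfsg.Agent.Lib.helper7.BD.D1Defs2
import Cfsg.Agent.Lib.Helper24.BD3VAL
import Cfsg.Agent.Lib.Helper29.BD4REPSCOV
import Cfsg.Agent.Lib.Helper29.BD4SUMB
import Cfsg.Agent.Lib.helper23.BD3CJ4

/-!
# Project BD (helper7), stage B, wave 4, piece VALX : the values of a non-exceptional character on the
`p`-singular elements of `C_G(P)`.
-/

set_option autoImplicit false
set_option linter.unusedVariables false
set_option linter.unusedSectionVars false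

namespace Cfsg.Agent.Lib.helper7.BD

open Cfsg.Agent.Lib.helper7

universe u

section root

variable {G : Type u} [Group G] [Fintype G] {M : Ideal Cfsg.AlgInt} {p : ℕ} [Fact p.Prime]
  {P : Sylow p G} {B : Set (Cfsg.IrrCharacter G)}
  {b : Set (Cfsg.IrrCharacter (Subgroup.centralizer ((P : Subgroup G) : Set G)))}
  {θ : Cfsg.IrrCharacter (Subgroup.centralizer ((P : Subgroup G) : Set G))} {T : Subgroup G}

local notation "CC" => Subgroup.centralizer ((P : Subgroup G) : Set G)
local notation "NN" => Subgroup.normalizer ((P : Subgroup G) : Set G)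

/-- elements of `N_G(P)` normalize `C_G(P)` -/
theorem bd4valx_norm {n : G} (hn : n ∈ NN) :
    n ∈ Subgroup.normalizer ((CC : Subgroup G) : Set G) :=
  Cfsg.Agent.Lib.Helper24.ci_normalizer_le (P : Subgroup G) hn

/-- the value of a conjugate character, as the value at the conjugate element -/
theorem bd4valx_cj_apply {n : G} (hn : n ∈ NN) (c : ↥CC) :
    ∃ c' : ↥CC, (c' : G) = n⁻¹ * (c : G) * n ∧ orderOf c' = orderOf c ∧
      ∀ ζ : Cfsg.IrrCharacter ↥CC, (cjIrr CC n ζ : ↥CC → ℂ) c = (ζ : ↥CC → ℂ) c' := by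
  have hn' := bd4valx_norm (P := P) hn
  refine ⟨(Subgroup.normalizerMonoidHom CC ⟨n, hn'⟩).symm c, ?_, ?_, fun ζ => cjIrr_apply CC hn' ζ c⟩
  · have h1 : (Subgroup.normalizerMonoidHom CC ⟨n, hn'⟩) ((Subgroup.normalizerMonoidHom CC ⟨n, hn'⟩).symm c) = c :=
      MulEquiv.apply_symm_apply _ _
    have h2 : ((Subgroup.normalizerMonoidHom CC ⟨n, hn'⟩) ((Subgroup.normalizerMonoidHom CC ⟨n, hn'⟩).symm c) : G) =
        n * (((Subgroup.normalizerMonoidHom CC ⟨n, hn'⟩).symm c : ↥CC) : G) * n⁻¹ := rfl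
    rw [h1] at h2
    rw [h2]
    group
  · exact MulEquiv.orderOf_eq (Subgroup.normalizerMonoidHom CC ⟨n, hn'⟩).symm c

variable [Fintype ↥(Subgroup.centralizer ((P : Subgroup G) : Set G))]
  [Fintype ↥(Subgroup.normalizer ((P : Subgroup G) : Set G))]

/-- VALX : the values of a non-exceptional character on the `p`-singular elements of `C` -/
theorem h15_root_value_X (h : RootHyp p M P B b θ T) {t : ℕ}
    (r : Fin t → Cfsg.IrrCharacter (Subgroup.centralizer ((P : Subgroup G) : Set G)))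
    (hr : IsReps P b θ T ((Subgroup.centralizer ((P : Subgroup G) : Set G)).relIndex T) t r)
    (χ : Cfsg.IrrCharacter G) (hχ : χ ∈ B) (ε : ℤ)
    (hmul : ∀ j,
      Cfsg.classInner (r j : ↥(Subgroup.centralizer ((P : Subgroup G) : Set G)) → ℂ)
          (fun c : ↥(Subgroup.centralizer ((P : Subgroup G) : Set G)) => (χ : G → ℂ) (c : G)) -
        Cfsg.classInner (θ : ↥(Subgroup.centralizer ((P : Subgroup G) : Set G)) → ℂ)
          (fun c : ↥(Subgroup.centralizer ((P : Subgroup G) : Set G)) => (χ : G → ℂ) (c : G)) =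
        ((ε : ℤ) : ℂ))
    (c : ↥(Subgroup.centralizer ((P : Subgroup G) : Set G))) (hc : p ∣ orderOf c) :
    (Nat.card T : ℂ) * (χ : G → ℂ) (c : G) =
      - ((ε : ℤ) : ℂ) * ∑ n : ↥(Subgroup.normalizer ((P : Subgroup G) : Set G)),
        (cjIrr (Subgroup.centralizer ((P : Subgroup G) : Set G)) (n : G) θ :
          ↥(Subgroup.centralizer ((P : Subgroup G) : Set G)) → ℂ) c := by
  classical
  haveI : Fintype (Cfsg.IrrCharacter ↥CC) := Fintype.ofFinite _
  rw [root_value_sing h χ hχ c hc, Finset.mul_sum]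
  refine Finset.sum_congr rfl fun n _ => ?_
  set m : Cfsg.IrrCharacter ↥CC → ℂ := fun ξ =>
    Cfsg.classInner (ξ : ↥CC → ℂ) (fun c : ↥CC => (χ : G → ℂ) (c : G)) with hm
  -- the multiplicities on `b`
  have hmb : ∀ ξ ∈ b, m ξ = m θ + (if ξ = θ then 0 else ((ε : ℤ) : ℂ)) := by
    intro ξ hξ
    by_cases hξθ : ξ = θ
    · rw [if_pos hξθ, hξθ, add_zero]
    · rw [if_neg hξθ]
      obtain ⟨j, s, hs, hsj⟩ := root_reps_cover h r hr ξ hξ hξθ
      have hsN : s ∈ Subgroup.normalizer ((CC : Subgroup G) : Set G) :=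
        bd4valx_norm (P := P) ((h.hT s).1 hs).1
      have h1 : m ξ = m (r j) := by
        rw [hm]
        simp only
        rw [← hsj, classInner_res_cjIrr CC hsN χ (r j)]
      rw [h1]
      have := hmul j
      rw [hm]
      simp only
      linear_combination this
  obtain ⟨c', hc'1, hc'2, hc'3⟩ := bd4valx_cj_apply (P := P) n.2 c
  have hsing : p ∣ orderOf c' := by rw [hc'2]; exact hc
  have hsum0 := root_sum_block_sing h c' hsing
  -- rewrite everything as sums over the finite type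
  rw [h7_finsum_mem_fintype] at hsum0 ⊢
  have h2 : ∀ ξ : Cfsg.IrrCharacter ↥CC,
      (if ξ ∈ b then m ξ * (cjIrr CC (n : G) ξ : ↥CC → ℂ) c else 0) =
        (m θ + ((ε : ℤ) : ℂ)) * (if ξ ∈ b then (ξ : ↥CC → ℂ) c' else 0) -
          (if ξ = θ then ((ε : ℤ) : ℂ) * (θ : ↥CC → ℂ) c' else 0) := by
    intro ξ
    by_cases hξ : ξ ∈ b
    · rw [if_pos hξ, if_pos hξ, hmb ξ hξ, hc'3 ξ]
      by_cases hξθ : ξ = θ
      · rw [if_pos hξθ, if_pos hξθ, hξθ]
        ring
      · rw [if_neg hξθ, if_neg hξθ]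
        ring
    · rw [if_neg hξ, if_neg hξ]
      have hξθ : ξ ≠ θ := fun hh => hξ (hh ▸ h.hθ)
      rw [if_neg hξθ]
      ring
  rw [Finset.sum_congr rfl (fun ξ _ => h2 ξ), Finset.sum_sub_distrib, ← Finset.mul_sum, hsum0,
    mul_zero, zero_sub, Finset.sum_ite_eq' Finset.univ θ, if_pos (Finset.mem_univ θ), hc'3 θ]
  ring

end root

end Cfsg.Agent.Lib.helper7.BD
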