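import Mathlib
import Cfsg.Agent.Lib.helper15.BD4VALX
import Cfsg.Agent.Lib.Helper25.BDTSUB
import Cfsg.Agent.Lib.Helper13.BD3CJ

/-!
# Project BD (helper7), stage B, wave 4, piece VALY : the values of an exceptional character on the
`p`-singular elements of `C_G(P)`.
-/

set_option autoImplicit false
set_option linter.unusedVariables false
set_option linter.unusedSectionVars false
set_option linter.style.haveILetI false

namespace Cfsg.Agent.Lib.helper7.BD

open Cfsg.Agent.Lib.helper7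

universe u

section root

variable {G : Type u} [Group G] [Fintype G] {M : Ideal Cfsg.AlgInt} {p : ℕ} [Fact p.Prime]
  {P : Sylow p G} {B : Set (Cfsg.IrrCharacter G)}
  {b : Set (Cfsg.IrrCharacter (Subgroup.centralizer ((P : Subgroup G) : Set G)))}
  {θ : Cfsg.IrrCharacter (Subgroup.centralizer ((P : Subgroup G) : Set G))} {T : Subgroup G}

local notation "CC" => Subgroup.centralizer ((P : Subgroup G) : Set G)
local notation "NN" => Subgroup.normalizer ((P : Subgroup G) : Set G)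

variable [Fintype ↥(Subgroup.centralizer ((P : Subgroup G) : Set G))]
  [Fintype ↥(Subgroup.normalizer ((P : Subgroup G) : Set G))]

/-- the sum over `N` of the conjugates of `ξ`, evaluated at `c`, is invariant under conjugation of `ξ` by `N` -/
theorem bd4valy_orbit_sum_inv {s : G} (hs : s ∈ NN) (ξ : Cfsg.IrrCharacter ↥CC) (c : ↥CC) :
    ∑ n : ↥NN, (cjIrr CC (n : G) (cjIrr CC s ξ) : ↥CC → ℂ) c =
      ∑ n : ↥NN, (cjIrr CC (n : G) ξ : ↥CC → ℂ) c := by
  have hsN := bd4valx_norm (P := P) hs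
  rw [← Equiv.sum_comp (Equiv.mulRight (⟨s, hs⟩ : ↥NN))
    (fun n : ↥NN => (cjIrr CC (n : G) ξ : ↥CC → ℂ) c)]
  refine Finset.sum_congr rfl fun n _ => ?_
  have h1 : ((Equiv.mulRight (⟨s, hs⟩ : ↥NN)) n : ↥NN) = n * ⟨s, hs⟩ := rfl
  rw [h1, Subgroup.coe_mul, cjIrr_mul CC (bd4valx_norm (P := P) n.2) hsN ξ]

/-- `|C : T| * |C| = |T|` -/
theorem bd4valy_card_T (h : RootHyp p M P B b θ T) :
    (CC).relIndex T * Nat.card ↥CC = Nat.card ↥T := by
  have hCT := (root_C_le_T h).1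
  rw [Subgroup.relIndex]
  have h1 := ((CC).subgroupOf T).index_mul_card
  rw [Nat.card_congr (Subgroup.subgroupOfEquivOfLe hCT).toEquiv] at h1
  exact h1

/-- the sum over `b` of the `N`-orbit sums vanishes at a `p`-singular element -/
theorem bd4valy_sum_b (h : RootHyp p M P B b θ T) (c : ↥CC) (hc : p ∣ orderOf c) :
    ∑ᶠ ξ ∈ b, ∑ n : ↥NN, (cjIrr CC (n : G) ξ : ↥CC → ℂ) c = 0 := by
  classical
  haveI : Fintype (Cfsg.IrrCharacter ↥CC) := Fintype.ofFinite _
  rw [h7_finsum_mem_fintype]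
  have h1 : ∀ ξ : Cfsg.IrrCharacter ↥CC,
      (if ξ ∈ b then ∑ n : ↥NN, (cjIrr CC (n : G) ξ : ↥CC → ℂ) c else 0) =
        ∑ n : ↥NN, if ξ ∈ b then (cjIrr CC (n : G) ξ : ↥CC → ℂ) c else 0 := by
    intro ξ
    split_ifs
    · rfl
    · simp
  rw [Finset.sum_congr rfl (fun ξ _ => h1 ξ), Finset.sum_comm]
  refine Finset.sum_eq_zero fun n _ => ?_
  obtain ⟨c', hc'1, hc'2, hc'3⟩ := bd4valx_cj_apply (P := P) n.2 c
  have hsing : p ∣ orderOf c' := by rw [hc'2]; exact hc
  have hsum0 := root_sum_block_sing h c' hsing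
  rw [h7_finsum_mem_fintype] at hsum0
  have h2 : ∑ ξ : Cfsg.IrrCharacter ↥CC,
      (if ξ ∈ b then (cjIrr CC (n : G) ξ : ↥CC → ℂ) c else 0) =
      ∑ ξ : Cfsg.IrrCharacter ↥CC, if ξ ∈ b then (ξ : ↥CC → ℂ) c' else 0 := by
    refine Finset.sum_congr rfl fun ξ _ => ?_
    rw [hc'3 ξ]
  rw [h2, hsum0]

/-- VALY : the values of an exceptional character on the `p`-singular elements of `C` -/
theorem h15_root_value_Y (h : RootHyp p M P B b θ T) {t : ℕ}
    (r : Fin t → Cfsg.IrrCharacter (Subgroup.centralizer ((P : Subgroup G) : Set G)))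
    (hr : IsReps P b θ T ((Subgroup.centralizer ((P : Subgroup G) : Set G)).relIndex T) t r)
    (χ : Cfsg.IrrCharacter G) (hχ : χ ∈ B) (ε : ℤ) (j : Fin t)
    (hmul : ∀ j',
      Cfsg.classInner (r j' : ↥(Subgroup.centralizer ((P : Subgroup G) : Set G)) → ℂ)
          (fun c : ↥(Subgroup.centralizer ((P : Subgroup G) : Set G)) => (χ : G → ℂ) (c : G)) -
        Cfsg.classInner (θ : ↥(Subgroup.centralizer ((P : Subgroup G) : Set G)) → ℂ)
          (fun c : ↥(Subgroup.centralizer ((P : Subgroup G) : Set G)) => (χ : G → ℂ) (c : G)) =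
        if j = j' then ((ε : ℤ) : ℂ) else 0)
    (c : ↥(Subgroup.centralizer ((P : Subgroup G) : Set G))) (hc : p ∣ orderOf c) :
    (Nat.card (Subgroup.centralizer ((P : Subgroup G) : Set G)) : ℂ) * (χ : G → ℂ) (c : G) =
      ((ε : ℤ) : ℂ) * ∑ n : ↥(Subgroup.normalizer ((P : Subgroup G) : Set G)),
        (cjIrr (Subgroup.centralizer ((P : Subgroup G) : Set G)) (n : G) (r j) :
          ↥(Subgroup.centralizer ((P : Subgroup G) : Set G)) → ℂ) c := by
  classical
  haveI : Fintype (Cfsg.IrrCharacter ↥CC) := Fintype.ofFinite _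
  have hTN := (root_C_le_T h).2
  set e := (CC).relIndex T with he
  set m : Cfsg.IrrCharacter ↥CC → ℂ := fun ξ =>
    Cfsg.classInner (ξ : ↥CC → ℂ) (fun c : ↥CC => (χ : G → ℂ) (c : G)) with hm
  set S : Cfsg.IrrCharacter ↥CC → ℂ := fun ξ =>
    ∑ n : ↥NN, (cjIrr CC (n : G) ξ : ↥CC → ℂ) c with hS
  -- invariance under `T`
  have hSinv : ∀ n ∈ T, ∀ ξ ∈ b, S (cjIrr CC n ξ) = S ξ := fun n hn ξ _ =>
    bd4valy_orbit_sum_inv (P := P) (hTN hn) ξ c
  have hminv : ∀ n ∈ T, ∀ ξ ∈ b, m (cjIrr CC n ξ) = m ξ := fun n hn ξ _ =>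
    classInner_res_cjIrr CC (bd4valx_norm (P := P) (hTN hn)) χ ξ
  have hGinv : ∀ n ∈ T, ∀ ξ ∈ b, m (cjIrr CC n ξ) * S (cjIrr CC n ξ) = m ξ * S ξ := by
    intro n hn ξ hξ
    rw [hSinv n hn ξ hξ, hminv n hn ξ hξ]
  -- the value formula, with the sums exchanged
  have hval : (Nat.card T : ℂ) * (χ : G → ℂ) (c : G) = ∑ᶠ ξ ∈ b, m ξ * S ξ := by
    rw [root_value_sing h χ hχ c hc, h7_finsum_mem_fintype]
    have h1 : ∀ n : ↥NN, (∑ᶠ ξ ∈ b, Cfsg.classInner (ξ : ↥CC → ℂ)
        (fun c : ↥CC => (χ : G → ℂ) (c : G)) * (cjIrr CC (n : G) ξ : ↥CC → ℂ) c) =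
        ∑ ξ : Cfsg.IrrCharacter ↥CC, if ξ ∈ b then m ξ * (cjIrr CC (n : G) ξ : ↥CC → ℂ) c else 0 :=
      fun n => h7_finsum_mem_fintype b _
    rw [Finset.sum_congr rfl (fun n _ => h1 n), Finset.sum_comm]
    refine Finset.sum_congr rfl fun ξ _ => ?_
    split_ifs
    · rw [hS]
      simp only
      rw [Finset.mul_sum]
    · simp
  -- splitting off `θ`
  have hsplit : ∀ F : Cfsg.IrrCharacter ↥CC → ℂ, ∑ᶠ ξ ∈ b, F ξ = F θ + ∑ᶠ ξ ∈ b \ {θ}, F ξ := by
    intro F
    have hb : b = insert θ (b \ {θ}) := by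
      ext ξ
      simp only [Set.mem_insert_iff, Set.mem_diff, Set.mem_singleton_iff]
      constructor
      · intro hξ
        by_cases hξθ : ξ = θ
        · exact Or.inl hξθ
        · exact Or.inr ⟨hξ, hξθ⟩
      · rintro (hξ | hξ)
        · rw [hξ]; exact h.hθ
        · exact hξ.1
    conv_lhs => rw [hb]
    rw [finsum_mem_insert _ (by simp) (Set.toFinite _)]
  have hG := hr.sum (fun ξ => m ξ * S ξ) hGinv
  have hSs := hr.sum S hSinv
  have hzero := bd4valy_sum_b h c hc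
  rw [hsplit S, hSs] at hzero
  rw [hsplit (fun ξ => m ξ * S ξ), hG] at hval
  -- the multiplicities
  have hmr : ∀ j', m (r j') = m θ + (if j = j' then ((ε : ℤ) : ℂ) else 0) := by
    intro j'
    have := hmul j'
    rw [hm]
    simp only
    linear_combination this
  have hsumG : ∑ j', m (r j') * S (r j') = m θ * ∑ j', S (r j') + ((ε : ℤ) : ℂ) * S (r j) := by
    simp only [hmr, add_mul, Finset.sum_add_distrib, Finset.mul_sum]
    congr 1
    rw [Finset.sum_eq_single j]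
    · rw [if_pos rfl]
    · intro j' _ hj'
      rw [if_neg (Ne.symm hj'), zero_mul]
    · intro hj
      exact absurd (Finset.mem_univ j) hj
  rw [hsumG] at hval
  -- `|T| χ(c) = ε e S(r j)`
  have hval2 : (Nat.card T : ℂ) * (χ : G → ℂ) (c : G) = (e : ℂ) * (((ε : ℤ) : ℂ) * S (r j)) := by
    rw [hval]
    linear_combination (m θ) * hzero
  have hcard := bd4valy_card_T h
  rw [← he] at hcard
  have hcardC : ((e : ℂ)) * (Nat.card ↥CC : ℂ) = (Nat.card T : ℂ) := by exact_mod_cast hcard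
  have he0 : (e : ℂ) ≠ 0 := by
    intro h0
    rw [h0, zero_mul] at hcardC
    have : (Nat.card T : ℂ) ≠ 0 := by exact_mod_cast (Nat.card_pos (α := ↥T)).ne'
    exact this hcardC.symm
  rw [← hcardC, mul_assoc] at hval2
  exact mul_left_cancel₀ he0 hval2

end root

end Cfsg.Agent.Lib.helper7.BD
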