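import Mathlib
import Cfsg.Agent.Lib.Helper28.BP2.Defs
import Cfsg.Agent.Lib.helper15.BP2U9
import Cfsg.Agent.Lib.helper4.BP2U12
import Cfsg.Agent.Lib.helper6.PSL2Index
import Cfsg.Agent.S0799

set_option autoImplicit false

/-!
# Project BP2 (S5736, designer helper28), row C8 (`odd_dickson`): core (second copy, helper15).

`bp2c8_h15_core` proves the statement of C8 from the statements of U5 `card_PU`, U6 `sylow_conj_PU`,
U7 `normalizer_PU`, U8 `card_PB` (hypotheses), the landed S0799 (Dickson), U9 `cyclic_of_le_PB`,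
U12 `normalizer_le_PB`, and `helper6.PSL2Index.card_PSL2_mul` / `card_PGL2`.
-/

namespace Cfsg.Agent.Lib.Helper28.BP2

open Cfsg.Agent.Lib.helper14

universe u v w

section C8

variable {F : Type u} [Field F]

/-- powers of an upper triangular matrix: the `(0,0)` entry. -/
theorem bp2c8_pow00 (b : SL2 F) (hb : b ∈ BS F) (n : ℕ) :
    ((b ^ n : SL2 F) : Matrix (Fin 2) (Fin 2) F) 0 0 = ((b : Matrix (Fin 2) (Fin 2) F) 0 0) ^ n := by
  induction n with
  | zero => simp
  | succ n ih =>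
    rw [pow_succ, Matrix.SpecialLinearGroup.coe_mul, Matrix.mul_apply, Fin.sum_univ_two, ih,
      (mem_BS b).mp hb, mul_zero, add_zero, pow_succ]

/-- an element of `PB F` killed by `p` lies in `PU F` (`p` the characteristic). -/
theorem bp2c8_mem_PU_of_pow (p : ℕ) [Fact p.Prime] [CharP F p] (x : PSL2 F) (hx : x ∈ PB F)
    (hxp : x ^ p = 1) : x ∈ PU F := by
  unfold PB at hx
  obtain ⟨b, hb, rfl⟩ := Subgroup.mem_map.mp hx
  have h1 : pr F (1 : SL2 F) = pr F (b ^ p) := by rw [map_one, map_pow, hxp]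
  have h2 := bp2u9_sq (1 : SL2 F) (b ^ p) h1
  rw [bp2c8_pow00 b hb] at h2
  have h3 : (((b : Matrix (Fin 2) (Fin 2) F) 0 0) ^ 2) ^ p = 1 := by
    rw [← pow_mul, mul_comm, pow_mul, h2]; simp
  have h4 : ((b : Matrix (Fin 2) (Fin 2) F) 0 0) ^ 2 = 1 := by
    apply frobenius_inj F p
    rw [frobenius_def, frobenius_def, h3, one_pow]
  exact bp2u9_mem_PU b hb h4

variable [Fintype F]

/-- `PU F ≤ PB F`. -/
theorem bp2c8_PU_le_PB : PU F ≤ PB F := by
  unfold PU PB
  apply Subgroup.map_mono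
  intro g hg
  obtain ⟨x, rfl⟩ := (mem_US g).mp hg
  rw [mem_BS, uS_coe]; simp

/-- the Borel case of C8: `H` isomorphic to a subgroup `K'` of `PB F`. -/
theorem bp2c8_borel (p : ℕ) [Fact p.Prime] [CharP F p]
    (hU5 : Nat.card (PU F) = Fintype.card F)
    (hU6 : ∀ P : Sylow p (PSL2 F),
      ∃ g : PSL2 F, (P : Subgroup (PSL2 F)) = (PU F).map (MulAut.conj g).toMonoidHom)
    (hU7 : Subgroup.normalizer ((PU F : Subgroup (PSL2 F)) : Set (PSL2 F)) = PB F)
    (hU8 : Nat.card (PB F) * Nat.gcd 2 (Fintype.card F - 1) =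
      Fintype.card F * (Fintype.card F - 1))
    (H K' : Subgroup (PSL2 F)) (hK' : K' ≤ PB F) (e : H ≃* K') :
    (IsCyclic H ∧ (Nat.card H ∣ (Fintype.card F + 1) / Nat.gcd 2 (Fintype.card F - 1) ∨
        Nat.card H ∣ (Fintype.card F - 1) / Nat.gcd 2 (Fintype.card F - 1))) ∨
      ∃ g : PSL2 F, H.map (MulAut.conj g).toMonoidHom ≤ PB F := by
  classical
  have hpp : p.Prime := Fact.out
  obtain ⟨n, -, hq⟩ := FiniteField.card F p
  have hcard : Nat.card H = Nat.card K' := Nat.card_congr e.toEquiv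
  by_cases hp : p ∣ Nat.card H
  · -- `p ∣ |H|`: a nontrivial normal `p`-subgroup
    right
    rw [hcard] at hp
    obtain ⟨x, hx⟩ := exists_prime_orderOf_dvd_card' p hp
    have hxp : (x : PSL2 F) ^ p = 1 := by
      have : x ^ p = 1 := by rw [← hx]; exact pow_orderOf_eq_one x
      exact_mod_cast congrArg (fun y : K' => (y : PSL2 F)) this
    have hxU : (x : PSL2 F) ∈ PU F := bp2c8_mem_PU_of_pow p _ (hK' x.2) hxp
    have hx1 : x ≠ 1 := by
      intro h; rw [h, orderOf_one] at hx; exact hpp.one_lt.ne hx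
    -- the normal subgroup of `H`
    let N : Subgroup H := ((PU F).subgroupOf K').comap e.toMonoidHom
    have hN : ∀ h : H, h ∈ N ↔ ((e h : K') : PSL2 F) ∈ PU F := fun h => by
      simp [N, Subgroup.mem_comap, Subgroup.mem_subgroupOf]
    have hNp : IsPGroup p N := by
      have h1 : IsPGroup p (PU F) := by
        apply IsPGroup.of_card (n := n)
        rw [hU5, hq]
      have h2 : IsPGroup p ((PU F).subgroupOf K') := h1.comap_subtype
      exact h2.comap_of_injective e.toMonoidHom e.injective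
    let Q : Subgroup (PSL2 F) := N.map H.subtype
    have hQp : IsPGroup p Q := hNp.map _
    have hQ1 : Q ≠ ⊥ := by
      intro h
      have h1 : N = ⊥ := (Subgroup.map_eq_bot_iff_of_injective N H.subtype_injective).mp h
      have h2 : e.symm x ∈ N := by rw [hN]; simpa using hxU
      rw [h1, Subgroup.mem_bot] at h2
      apply hx1
      have := congrArg e h2
      simpa using this
    -- `H` normalises `Q`
    have hconj : ∀ h ∈ H, ∀ y ∈ Q, h * y * h⁻¹ ∈ Q := by
      intro h hh y hy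
      obtain ⟨m, hm, rfl⟩ := Subgroup.mem_map.mp hy
      refine Subgroup.mem_map.mpr ⟨⟨h, hh⟩ * m * ⟨h, hh⟩⁻¹, ?_, by simp⟩
      rw [hN] at hm ⊢
      rw [map_mul, map_mul, map_inv]
      have hb : ((e ⟨h, hh⟩ : K') : PSL2 F) ∈
          Subgroup.normalizer ((PU F : Subgroup (PSL2 F)) : Set (PSL2 F)) := by
        rw [hU7]; exact hK' (e ⟨h, hh⟩).2
      have := (Subgroup.mem_normalizer_iff.mp hb _).mp hm
      simpa using this
    have hHN : H ≤ Subgroup.normalizer ((Q : Subgroup (PSL2 F)) : Set (PSL2 F)) := by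
      intro h hh
      rw [Subgroup.mem_normalizer_iff]
      intro y
      refine ⟨fun hy => hconj h hh y hy, fun hy => ?_⟩
      have := hconj h⁻¹ (H.inv_mem hh) _ hy
      simpa [mul_assoc] using this
    -- into a Sylow subgroup, conjugate to `PU F`
    obtain ⟨P₂, hQP⟩ := hQp.exists_le_sylow
    obtain ⟨g₂, hg₂⟩ := hU6 P₂
    refine ⟨g₂⁻¹, ?_⟩
    have hQ2 : Q.map (MulAut.conj g₂⁻¹).toMonoidHom ≤ PU F := by
      intro w hw
      obtain ⟨y, hy, rfl⟩ := Subgroup.mem_map.mp hw
      have h1 : y ∈ (P₂ : Subgroup (PSL2 F)) := hQP hy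
      rw [hg₂] at h1
      obtain ⟨u, hu, rfl⟩ := Subgroup.mem_map.mp h1
      simpa [MulAut.conj_apply, mul_assoc] using hu
    have hQ21 : Q.map (MulAut.conj g₂⁻¹).toMonoidHom ≠ ⊥ := by
      intro h
      exact hQ1 ((Subgroup.map_eq_bot_iff_of_injective Q (MulAut.conj g₂⁻¹).injective).mp h)
    have h3 := normalizer_le_PB _ hQ2 hQ21
    refine le_trans ?_ h3
    rw [← Subgroup.map_equiv_normalizer_eq]
    exact Subgroup.map_mono hHN
  · -- `p ∤ |H|`: cyclic of order dividing `(q - 1) / d`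
    left
    have hcop : Nat.Coprime (Nat.card K') (Fintype.card F) := by
      rw [hq, ← hcard]
      exact Nat.Coprime.pow_right _ ((Nat.Prime.coprime_iff_not_dvd hpp).mpr hp).symm
    have hinf : K' ⊓ PU F = ⊥ := by
      apply Subgroup.eq_bot_of_card_eq
      have h1 : Nat.card ↥(K' ⊓ PU F) ∣ Nat.card K' := Subgroup.card_dvd_of_le inf_le_left
      have h2 : Nat.card ↥(K' ⊓ PU F) ∣ Fintype.card F := by
        rw [← hU5]; exact Subgroup.card_dvd_of_le inf_le_right
      exact Nat.dvd_one.mp (hcop ▸ Nat.dvd_gcd h1 h2)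
    have hcyc : IsCyclic K' := cyclic_of_le_PB K' hK' hinf
    refine ⟨isCyclic_of_surjective e.symm.toMonoidHom e.symm.surjective, Or.inr ?_⟩
    rw [hcard]
    -- `|K'| ∣ |PB F| = q t`, coprime to `q`
    have hqdvd : Fintype.card F ∣ Nat.card (PB F) := by
      rw [← hU5]; exact Subgroup.card_dvd_of_le bp2c8_PU_le_PB
    obtain ⟨t, ht⟩ := hqdvd
    have hqpos : 0 < Fintype.card F := Fintype.card_pos
    have htd : t * Nat.gcd 2 (Fintype.card F - 1) = Fintype.card F - 1 := by
      rw [ht, mul_assoc] at hU8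
      exact Nat.eq_of_mul_eq_mul_left hqpos hU8
    have h1 : Nat.card K' ∣ Fintype.card F * t := ht ▸ Subgroup.card_dvd_of_le hK'
    have h2 : Nat.card K' ∣ t := hcop.dvd_of_dvd_mul_left h1
    have h3 : t = (Fintype.card F - 1) / Nat.gcd 2 (Fintype.card F - 1) :=
      (Nat.div_eq_of_eq_mul_left (Nat.gcd_pos_of_pos_left _ (by norm_num)) htd.symm).symm
    rwa [← h3]

/-- `q (q² - 1)` is even. -/
theorem bp2c8_even_arith (k : ℕ) : 2 ∣ k * (k ^ 2 - 1) := by
  rcases Nat.even_or_odd k with h | h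
  · exact Dvd.dvd.mul_right h.two_dvd _
  · apply Dvd.dvd.mul_left
    obtain ⟨r, rfl⟩ := h
    refine ⟨2 * r ^ 2 + 2 * r, ?_⟩
    have : (2 * r + 1) ^ 2 = 2 * (2 * r ^ 2 + 2 * r) + 1 := by ring
    rw [this]; simp

/-- `|PSL₂(K)|` is even. -/
theorem bp2c8_even_PSL2 (K : Type) [Field K] [Fintype K] : 2 ∣ Nat.card (PSL2 K) := by
  have h := Cfsg.Agent.Lib.helper6.PSL2Index.card_PSL2_mul (F := K)
  set k := Fintype.card K with hk
  have hk2 : 2 ≤ k := by
    rw [hk]; exact Fintype.one_lt_card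
  rcases Nat.even_or_odd k with he | ho
  · -- `k` even: `gcd 2 (k - 1) = 1`
    have hg : Nat.gcd 2 (k - 1) = 1 := by
      have : Odd (k - 1) := by
        obtain ⟨r, hr⟩ := he
        exact ⟨r - 1, by omega⟩
      exact (Nat.coprime_two_left.mpr this)
    rw [hg, mul_one] at h
    show 2 ∣ Nat.card (Matrix.ProjectiveSpecialLinearGroup (Fin 2) K)
    rw [h]
    exact Dvd.dvd.mul_right he.two_dvd _
  · -- `k` odd: `gcd = 2`, `8 ∣ k² - 1`
    obtain ⟨r, hr⟩ := ho
    have hg : Nat.gcd 2 (k - 1) = 2 := by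
      have : k - 1 = 2 * r := by omega
      rw [this]; simp
    rw [hg] at h
    have h8 : k ^ 2 - 1 = 4 * (r * (r + 1)) := by
      have : k ^ 2 = 4 * (r * (r + 1)) + 1 := by rw [hr]; ring
      rw [this]; simp
    have hrr : 2 ∣ r * (r + 1) := (Nat.even_mul_succ_self r).two_dvd
    obtain ⟨s, hs⟩ := hrr
    rw [h8, hs] at h
    have h' : Nat.card (Matrix.ProjectiveSpecialLinearGroup (Fin 2) K) = 2 * (k * (2 * s)) := by
      have : Nat.card (Matrix.ProjectiveSpecialLinearGroup (Fin 2) K) * 2 = (2 * (k * (2 * s))) * 2 := by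
        rw [h]; ring
      exact Nat.eq_of_mul_eq_mul_right (by norm_num) this
    show 2 ∣ Nat.card (Matrix.ProjectiveSpecialLinearGroup (Fin 2) K)
    rw [h']
    exact dvd_mul_right _ _

/-- **C8** (`odd_dickson`), core: from the statements of U5, U6, U7, U8. -/
theorem bp2c8_h15_core (p : ℕ) [Fact p.Prime] [CharP F p]
    (hU5 : Nat.card (PU F) = Fintype.card F)
    (hU6 : ∀ P : Sylow p (PSL2 F),
      ∃ g : PSL2 F, (P : Subgroup (PSL2 F)) = (PU F).map (MulAut.conj g).toMonoidHom)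
    (hU7 : Subgroup.normalizer ((PU F : Subgroup (PSL2 F)) : Set (PSL2 F)) = PB F)
    (hU8 : Nat.card (PB F) * Nat.gcd 2 (Fintype.card F - 1) =
      Fintype.card F * (Fintype.card F - 1))
    (H : Subgroup (PSL2 F)) (hodd : Odd (Nat.card H)) :
    (IsCyclic H ∧ (Nat.card H ∣ (Fintype.card F + 1) / Nat.gcd 2 (Fintype.card F - 1) ∨
        Nat.card H ∣ (Fintype.card F - 1) / Nat.gcd 2 (Fintype.card F - 1))) ∨
      ∃ g : PSL2 F, H.map (MulAut.conj g).toMonoidHom ≤ PB F := by
  classical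
  have hne : ¬ 2 ∣ Nat.card H := fun h => (Nat.not_even_iff_odd.mpr hodd) (even_iff_two_dvd.mpr h)
  rcases Cfsg.Agent.S0799.result (F := F) (q := Fintype.card F) rfl p H with
    ⟨k, hk, hck | he⟩ | ⟨P, K, hKP, he⟩ | he | he | he | ⟨K, _, _, m, -, he | he⟩
  · -- cyclic
    left
    obtain ⟨hc, rfl⟩ := hck
    exact ⟨hc, hk⟩
  · -- dihedral: even order
    obtain ⟨e⟩ := he
    exfalso; apply hne
    rw [Nat.card_congr e.toEquiv, DihedralGroup.nat_card]
    exact dvd_mul_right _ _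
  · -- Borel type
    obtain ⟨e⟩ := he
    obtain ⟨g, hg⟩ := hU6 P
    let c : PSL2 F ≃* PSL2 F := MulAut.conj g⁻¹
    have hK' : K.map c.toMonoidHom ≤ PB F := by
      intro w hw
      obtain ⟨k, hk, rfl⟩ := Subgroup.mem_map.mp hw
      have h1 := hKP hk
      rw [← hU7, Subgroup.mem_normalizer_iff]
      intro u
      have hmem : ∀ y : PSL2 F, y ∈ (P : Subgroup (PSL2 F)) ↔ g⁻¹ * y * g ∈ PU F := by
        intro y
        rw [hg]
        constructor
        · intro hy
          obtain ⟨v, hv, rfl⟩ := Subgroup.mem_map.mp hy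
          simpa [MulAut.conj_apply, mul_assoc] using hv
        · intro hy
          exact Subgroup.mem_map.mpr ⟨_, hy, by simp [MulAut.conj_apply, mul_assoc]⟩
      have h2 := (Subgroup.mem_normalizer_iff.mp h1) (g * u * g⁻¹)
      rw [hmem, hmem] at h2
      have e1 : g⁻¹ * (g * u * g⁻¹) * g = u := by group
      have e2 : g⁻¹ * (k * (g * u * g⁻¹) * k⁻¹) * g = c.toMonoidHom k * u * (c.toMonoidHom k)⁻¹ := by
        simp [c, mul_assoc]
      rw [e1, e2] at h2
      exact h2
    exact bp2c8_borel p hU5 hU6 hU7 hU8 H _ hK' (MulEquiv.trans e (c.subgroupMap K))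
  · -- `A₄`
    obtain ⟨e⟩ := he
    exfalso; apply hne
    rw [Nat.card_congr e.toEquiv]
    have h : Nat.card (alternatingGroup (Fin 4)) = 12 := by
      have := two_mul_card_alternatingGroup (α := Fin 4)
      rw [Fintype.card_perm, Fintype.card_fin] at this
      rw [Nat.card_eq_fintype_card]
      have h24 : Nat.factorial 4 = 24 := by decide
      omega
    rw [h]; norm_num
  · -- `S₄`
    obtain ⟨e⟩ := he
    exfalso; apply hne
    rw [Nat.card_congr e.toEquiv, Nat.card_eq_fintype_card, Fintype.card_perm, Fintype.card_fin]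
    decide
  · -- `A₅`
    obtain ⟨e⟩ := he
    exfalso; apply hne
    rw [Nat.card_congr e.toEquiv]
    have h : Nat.card (alternatingGroup (Fin 5)) = 60 := by
      have := two_mul_card_alternatingGroup (α := Fin 5)
      rw [Fintype.card_perm, Fintype.card_fin] at this
      rw [Nat.card_eq_fintype_card]
      have h120 : Nat.factorial 5 = 120 := by decide
      omega
    rw [h]; norm_num
  · -- `PSL₂(K)`
    obtain ⟨e⟩ := he
    exfalso; apply hne
    rw [Nat.card_congr e.toEquiv]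
    exact bp2c8_even_PSL2 K
  · -- `PGL₂(K)`
    obtain ⟨e⟩ := he
    exfalso; apply hne
    rw [Nat.card_congr e.toEquiv, Cfsg.Agent.Lib.helper6.PSL2Index.card_PGL2]
    exact bp2c8_even_arith _

end C8

end Cfsg.Agent.Lib.Helper28.BP2
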