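import Mathlib
import Cfsg.Prelude.Def_Characters
import Cfsg.Prelude.Def_Blocks
import Cfsg.Agent.Lib.Helper25.CharLinear
import Cfsg.Agent.Lib.Helper29.LeoOrbit
import Cfsg.Agent.Lib.helper7.BR.Defs
import Cfsg.Agent.Lib.helper7.BTCENT1
import Cfsg.Agent.Lib.helper7.BTCENT2
import Cfsg.Agent.Lib.Helper16.BTBURN

/-!
# Project BT3 (S4501), piece CEN3 : `C_G(P) = P` for a Sylow `3`-subgroup of order `3`
-/

set_option autoImplicit false
set_option linter.unusedVariables false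
set_option linter.unusedSectionVars false

namespace Cfsg.Agent.Lib.Helper13.BT3

open Classical
open scoped ComplexConjugate
open Cfsg.Agent.Lib.Helper25 Cfsg.Agent.Lib.Helper29
open Cfsg.Agent.Lib.helper7.BR

universe u

variable {G : Type u} [Group G] [Fintype G]

/-- the product of an element of order `3` with a commuting `3`-regular element is `3`-singular -/
theorem bt3cen3_singular (x c : G) (hx : orderOf x = 3) (hxc : Commute x c) (hc : ¬ 3 ∣ orderOf c) :
    3 ∣ orderOf (x * c) := by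
  have hcop : Nat.Coprime (orderOf x) (orderOf c) := by
    rw [hx]
    exact (Nat.Prime.coprime_iff_not_dvd Nat.prime_three).mpr hc
  rw [hxc.orderOf_mul_eq_mul_orderOf_of_coprime hcop, hx]
  exact dvd_mul_right 3 _

/-- CEN3 : `C_G(P) = P` for a Sylow `3`-subgroup of order `3`. -/
theorem cen_three [IsSimpleGroup G] (hnc : ¬ ∀ x y : G, x * y = y * x) (P : Sylow 3 G)
    (hP : Nat.card ↥(P : Subgroup G) = 3) (χ : Cfsg.IrrCharacter G) (hχ : leoDeg χ = 3)
    (hvan : ∀ y : G, 3 ∣ orderOf y → (χ : G → ℂ) y = 0) : cen P = (P : Subgroup G) := by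
  haveI : Fact (Nat.Prime 3) := ⟨Nat.prime_three⟩
  have hpp : Nat.Prime 3 := Nat.prime_three
  apply Cfsg.Agent.Lib.Helper13.BT.cen_eq_of_pregular P hP
  intro c hc hreg
  -- a generator of `P`
  have hex : ∃ x0 ∈ (P : Subgroup G), x0 ≠ 1 := by
    by_contra hcon
    push Not at hcon
    have hbot : (P : Subgroup G) = ⊥ := by
      rw [Subgroup.eq_bot_iff_forall]
      exact hcon
    rw [hbot] at hP
    simp at hP
  obtain ⟨x0, hx0P, hx01⟩ := hex
  have hordof : ∀ x ∈ (P : Subgroup G), x ≠ 1 → orderOf x = 3 := by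
    intro x hx hx1
    have h1 : orderOf x ∣ 3 := by
      have := Subgroup.orderOf_dvd_natCard (P : Subgroup G) hx
      rwa [hP] at this
    rcases (Nat.dvd_prime hpp).mp h1 with h | h
    · exact absurd (orderOf_eq_one_iff.mp h) hx1
    · exact h
  have hord : orderOf x0 = 3 := hordof x0 hx0P hx01
  have hPle : (P : Subgroup G) ≤ cen P := Cfsg.Agent.Lib.Helper13.BT.btcent2_le_cen P hP
  -- the central element `y` of `C = C_G(P)`
  set C : Subgroup G := cen P with hC
  set y : ↥C := ⟨x0, hPle hx0P⟩ with hy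
  have hycen : y ∈ Subgroup.center ↥C := by
    rw [Subgroup.mem_center_iff]
    intro g
    apply Subtype.ext
    simp only [Subgroup.coe_mul]
    exact (Subgroup.mem_centralizer_iff.mp g.2) x0 hx0P |>.symm
  have hyp : y ^ 3 = 1 := by
    apply Subtype.ext
    simp only [Subgroup.coe_pow, Subgroup.coe_one]
    rw [← hord, pow_orderOf_eq_one]
  have hχC : Cfsg.IsCharacter ↥C (fun h : ↥C => (χ : G → ℂ) (h : G)) :=
    Cfsg.Agent.Lib.helper2.isCharacter_restrict (Cfsg.Agent.Lib.helper2.isCharacter_of_irr χ) C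
  have hφ := Cfsg.Agent.Lib.helper7.PM2.proj_central_pow hχC y hycen 3 (by norm_num) hyp 1 (one_pow 3)
  set φ : ↥C → ℂ := fun g => ((3 : ℕ) : ℂ)⁻¹ * ∑ m ∈ Finset.range 3,
    (1 : ℂ)⁻¹ ^ m * (χ : G → ℂ) ((y ^ m * g : ↥C) : G) with hφdef
  have hφval : ∀ g : ↥C, φ g = (3 : ℂ)⁻¹ * ((χ : G → ℂ) (g : G) + (χ : G → ℂ) (x0 * (g : G)) +
      (χ : G → ℂ) (x0 ^ 2 * (g : G))) := by
    intro g
    rw [hφdef]
    simp only [inv_one, one_pow, one_mul, Subgroup.coe_mul, Subgroup.coe_pow, Finset.sum_range_succ,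
      Finset.sum_range_zero, zero_add, pow_zero, pow_one]
    push_cast
    rfl
  have hχ1 : (χ : G → ℂ) 1 = 3 := by
    rw [leoDeg_spec χ, hχ]
    norm_num
  -- `x0 ^ 2` is a non-trivial element of `P`
  have hx2P : x0 ^ 2 ∈ (P : Subgroup G) := Subgroup.pow_mem _ hx0P 2
  have hx21 : x0 ^ 2 ≠ 1 := by
    intro h1
    have h2 : orderOf x0 ∣ 2 := orderOf_dvd_of_pow_eq_one h1
    rw [hord] at h2
    omega
  have hord2 : orderOf (x0 ^ 2) = 3 := hordof _ hx2P hx21
  have hφ1 : φ 1 = 1 := by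
    rw [hφval]
    simp only [Subgroup.coe_one, mul_one]
    rw [hvan x0 (by rw [hord]), hvan (x0 ^ 2) (by rw [hord2]), hχ1]
    norm_num
  set c' : ↥C := ⟨c, hc⟩ with hc'
  have hnorm := Cfsg.Agent.Lib.Helper13.BT.btcent1_linear_norm hφ hφ1 c'
  have hcomm : ∀ x ∈ (P : Subgroup G), Commute x c := by
    intro x hx
    exact ((Subgroup.mem_centralizer_iff.mp hc) x hx)
  have hφc : φ c' = (3 : ℂ)⁻¹ * (χ : G → ℂ) c := by
    rw [hφval]
    have hc'' : ((c' : ↥C) : G) = c := rfl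
    rw [hc'', hvan (x0 * c) (bt3cen3_singular x0 c hord (hcomm x0 hx0P) hreg),
      hvan (x0 ^ 2 * c) (bt3cen3_singular (x0 ^ 2) c hord2 (hcomm _ hx2P) hreg)]
    ring
  -- `|χ(c)| = 3 = χ(1)`
  have hχ3 : χ ≠ trivIrr G := by
    intro h
    rw [h] at hχ1
    simp at hχ1
  have hcen : c ∈ Subgroup.center G := by
    apply Cfsg.Agent.Lib.helper15.PSL.center_of_norm_eq χ
      (Cfsg.Agent.Lib.Helper13.BT.faithful_of_simple χ hχ3) c
    rw [hχ1]
    rw [hφc] at hnorm
    have h3 : conj ((3 : ℂ)⁻¹ * (χ : G → ℂ) c) = (3 : ℂ)⁻¹ * conj ((χ : G → ℂ) c) := by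
      rw [map_mul, map_inv₀]
      congr 2
      exact Complex.conj_ofNat 3
    rw [h3] at hnorm
    linear_combination 9 * hnorm
  rw [Cfsg.Agent.Lib.Helper13.BT.btburn_center hnc, Subgroup.mem_bot] at hcen
  exact hcen

end Cfsg.Agent.Lib.Helper13.BT3
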