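import Mathlib
import Cfsg.Agent.Lib.Helper10.C3E.Defs

/-!
# Project S5975 (designer helper10), row CASES : second copy by helper15 under the name
`c3ecases_h15_nrm_cases` (exact statement of `c3e_nrm_cases`; the row belongs to helper22).
-/

set_option autoImplicit false
set_option linter.unusedVariables false
set_option linter.unusedSectionVars false

namespace Cfsg.Agent.Lib.Helper10.C3E

open Module

variable {F K V : Type*} [Field F] [Field K] [Algebra F K] [AddCommGroup V] [Module F V] [Module K V]
  [IsScalarTower F K V]

theorem c3ecases_h15_nrm_cases [FiniteDimensional F K] (g : V ≃ₗ[F] V) (h : Nrm K g) :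
    Lin K g ∨ ∃ σ : K ≃ₐ[F] K, σ ≠ 1 ∧ ∀ (a : K) (x : V), g (a • x) = σ a • g x := by
  obtain ⟨σ, hσ⟩ := h
  by_cases hV : ∀ x : V, x = 0
  · left
    intro a x
    rw [hV (g (a • x)), hV (g x), smul_zero]
  · simp only [not_forall] at hV
    obtain ⟨x₀, hx₀⟩ := hV
    have hy₀ : g x₀ ≠ 0 := fun h0 => hx₀ (g.map_eq_zero_iff.mp h0)
    have hinj : Function.Injective fun c : K => c • g x₀ := smul_left_injective K hy₀
    have hadd : ∀ a b, σ (a + b) = σ a + σ b := by
      intro a b
      apply hinj
      show σ (a + b) • g x₀ = (σ a + σ b) • g x₀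
      rw [← hσ, add_smul, map_add, hσ, hσ, add_smul]
    have hmul : ∀ a b, σ (a * b) = σ a * σ b := by
      intro a b
      apply hinj
      show σ (a * b) • g x₀ = (σ a * σ b) • g x₀
      rw [← hσ, mul_smul, hσ, hσ, mul_smul]
    have halg : ∀ c : F, σ (algebraMap F K c) = algebraMap F K c := by
      intro c
      apply hinj
      show σ (algebraMap F K c) • g x₀ = (algebraMap F K c) • g x₀
      rw [← hσ, algebraMap_smul, algebraMap_smul, map_smul]
    let φ : K →ₐ[F] K :=
      { toFun := σ
        map_one' := by
          have := halg 1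
          simpa using this
        map_mul' := hmul
        map_zero' := by
          have := halg 0
          simpa using this
        map_add' := hadd
        commutes' := halg }
    let σ' : K ≃ₐ[F] K := AlgEquiv.ofBijective φ (AlgHom.bijective φ)
    have hσ' : ∀ a, σ' a = σ a := fun a => rfl
    by_cases h1 : σ' = 1
    · left
      intro a x
      rw [hσ, ← hσ', h1]
      rfl
    · right
      exact ⟨σ', h1, fun a x => by rw [hσ' a]; exact hσ a x⟩

end Cfsg.Agent.Lib.Helper10.C3E
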