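import Mathlib
import Cfsg.Agent.Lib.Helper10.C3Q.Defs
import Cfsg.Agent.Lib.Helper16.SpinAdjust2
import Cfsg.Agent.Lib.helper23.C3QNCOMM
import Cfsg.Agent.Lib.Helper29.C3QSPOS
import Cfsg.Agent.Lib.Helper21.C3QSNEG
import Cfsg.Agent.Lib.Helper20.C3QCLS
import Cfsg.Agent.Lib.helper15.OTSSTDCTX
import Cfsg.Agent.Lib.helper4.OTSOMEGAODD

set_option autoImplicit false
set_option linter.unusedVariables false
set_option linter.unusedSectionVars false

/-!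
# Project C3Q, row SFIN (`s_fin`): SECOND COPY by helper15 under the name `c3qsfin_h15` (same statement as in `Helper10/C3Q/Skel.lean.txt`).
-/

namespace Cfsg.Agent.Lib.Helper10.C3Q

open Matrix Module Cfsg.Agent.Lib.Helper13.OTS Cfsg.Agent.Lib.Helper16

universe u

variable {F : Type u} [Field F] {ι : Type} [Fintype ι] [DecidableEq ι]

/-- transport of `NrmA` along `h` with `h A = A' h` -/
theorem c3qsfin_h15_transport (A A' : Matrix ι ι F) (h y : GL ι F)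
    (hh : (h : Matrix ι ι F) * A = A' * (h : Matrix ι ι F)) (hy : NrmA A' y) :
    NrmA A (h⁻¹ * y * h) := by
  have h1 : ((h⁻¹ : GL ι F) : Matrix ι ι F) * (h : Matrix ι ι F) = 1 := by
    rw [← Units.val_mul, inv_mul_cancel, Units.val_one]
  have h2 : (h : Matrix ι ι F) * ((h⁻¹ : GL ι F) : Matrix ι ι F) = 1 := by
    rw [← Units.val_mul, mul_inv_cancel, Units.val_one]
  -- `A h⁻¹ = h⁻¹ A'`
  have hinv : A * ((h⁻¹ : GL ι F) : Matrix ι ι F) = ((h⁻¹ : GL ι F) : Matrix ι ι F) * A' := by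
    calc A * ((h⁻¹ : GL ι F) : Matrix ι ι F)
        = (((h⁻¹ : GL ι F) : Matrix ι ι F) * (h : Matrix ι ι F)) * A * ((h⁻¹ : GL ι F) : Matrix ι ι F) := by
          rw [h1, Matrix.one_mul]
      _ = ((h⁻¹ : GL ι F) : Matrix ι ι F) * ((h : Matrix ι ι F) * A) * ((h⁻¹ : GL ι F) : Matrix ι ι F) := by
          simp only [Matrix.mul_assoc]
      _ = ((h⁻¹ : GL ι F) : Matrix ι ι F) * (A' * (h : Matrix ι ι F)) * ((h⁻¹ : GL ι F) : Matrix ι ι F) := by
          rw [hh]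
      _ = ((h⁻¹ : GL ι F) : Matrix ι ι F) * A' * ((h : Matrix ι ι F) * ((h⁻¹ : GL ι F) : Matrix ι ι F)) := by
          simp only [Matrix.mul_assoc]
      _ = ((h⁻¹ : GL ι F) : Matrix ι ι F) * A' := by rw [h2, Matrix.mul_one]
  have hL : ((h⁻¹ * y * h : GL ι F) : Matrix ι ι F) * A =
      ((h⁻¹ : GL ι F) : Matrix ι ι F) * ((y : Matrix ι ι F) * A') * (h : Matrix ι ι F) := by
    rw [Units.val_mul, Units.val_mul]
    calc ((h⁻¹ : GL ι F) : Matrix ι ι F) * (y : Matrix ι ι F) * (h : Matrix ι ι F) * A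
        = ((h⁻¹ : GL ι F) : Matrix ι ι F) * (y : Matrix ι ι F) * ((h : Matrix ι ι F) * A) := by
          simp only [Matrix.mul_assoc]
      _ = ((h⁻¹ : GL ι F) : Matrix ι ι F) * (y : Matrix ι ι F) * (A' * (h : Matrix ι ι F)) := by rw [hh]
      _ = _ := by simp only [Matrix.mul_assoc]
  have hR : A * ((h⁻¹ * y * h : GL ι F) : Matrix ι ι F) =
      ((h⁻¹ : GL ι F) : Matrix ι ι F) * (A' * (y : Matrix ι ι F)) * (h : Matrix ι ι F) := by
    rw [Units.val_mul, Units.val_mul]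
    calc A * (((h⁻¹ : GL ι F) : Matrix ι ι F) * (y : Matrix ι ι F) * (h : Matrix ι ι F))
        = (A * ((h⁻¹ : GL ι F) : Matrix ι ι F)) * (y : Matrix ι ι F) * (h : Matrix ι ι F) := by
          simp only [Matrix.mul_assoc]
      _ = (((h⁻¹ : GL ι F) : Matrix ι ι F) * A') * (y : Matrix ι ι F) * (h : Matrix ι ι F) := by rw [hinv]
      _ = _ := by simp only [Matrix.mul_assoc]
  rcases hy with hy | hy
  · left
    rw [hL, hR, hy]
  · right
    rw [hL, hR, hy, Matrix.mul_neg, Matrix.neg_mul]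

/-- SFIN [M] (second copy, same statement as `s_fin`). -/
theorem c3qsfin_h15 [Fintype F] (h2 : (2 : F) ≠ 0) (Q : QuadraticForm F (ι → F))
    (hQ : (QuadraticMap.polarBilin Q).Nondegenerate) (d : ℕ) (hcard : Fintype.card ι = 2 * d)
    (hd : 2 ≤ d) (δ : F) (A : Matrix ι ι F) (hA : Gen (⇑Q) δ A) : AllConjA (⇑Q) A 2 := by
  intro x hxΩ hz hns
  obtain ⟨z, hz⟩ := hz
  have hxO : x ∈ Cfsg.isometryGroup F (⇑Q) := q_omega_le Q x hxΩ
  have hne : ∃ v, Q v ≠ 0 := otsomegaodd_ne Q hQ (by omega)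
  have key : ∃ (A' : Matrix ι ι F) (a b : ι → F) (ha : Q a ≠ 0) (hb : Q b ≠ 0), Gen (⇑Q) δ A' ∧
      IsSquare (Q a) ∧ ¬ IsSquare (Q b) ∧
      ∀ ρ : GL ι F, (ρ = 1 ∨ ρ = ((reflG Q a ha : ↥(Cfsg.isometryGroup F (⇑Q))) : GL ι F) ∨
          ρ = ((reflG Q b hb : ↥(Cfsg.isometryGroup F (⇑Q))) : GL ι F) ∨
          ρ = ((reflG Q a ha * reflG Q b hb : ↥(Cfsg.isometryGroup F (⇑Q))) : GL ι F)) →
        NrmA A' (ρ⁻¹ * x * ρ) := by
    rcases s_scal Q hne x hxO z hz with rfl | rfl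
    · have hx2 : ((x ^ 2 : GL ι F) : Matrix ι ι F) = 1 := by rw [hz, one_smul]
      exact s_local_pos h2 Q hQ d hcard hd δ hA.ns x hxΩ hx2
    · exact s_local_neg h2 Q hQ d hcard (by omega) δ hA.ns x hxO hz
  obtain ⟨A', a, b, ha, hb, hA', hsa, hsb, hρ⟩ := key
  obtain ⟨h, hhO, hhA⟩ := cls h2 Q hQ δ A A' hA hA' (d - 1) (by omega)
  obtain ⟨ρ, hρΩ, hρcase⟩ := spin_adjust2 h2 Q hQ ⟨h, hhO⟩ a b ha hb hsa hsb
  have hN : NrmA A' (((ρ : GL ι F))⁻¹ * x * (ρ : GL ι F)) := by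
    apply hρ
    rcases hρcase with h' | h' | h' | h'
    · left; rw [h']; rfl
    · right; left; rw [h']
    · right; right; left; rw [h']
    · right; right; right; rw [h']
  refine ⟨(ρ : GL ι F) * h, ⟨ρ * ⟨h, hhO⟩, hρΩ, rfl⟩, ?_⟩
  have hconj : ((ρ : GL ι F) * h)⁻¹ * x * ((ρ : GL ι F) * h) =
      h⁻¹ * (((ρ : GL ι F))⁻¹ * x * (ρ : GL ι F)) * h := by group
  rw [hconj]
  exact c3qsfin_h15_transport A A' h _ hhA hN

end Cfsg.Agent.Lib.Helper10.C3Q
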