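import Mathlib
import Cfsg.Agent.Lib.helper3.C6U.Defs
import Cfsg.Agent.Lib.helper15.C6UW1

set_option autoImplicit false
set_option linter.unusedVariables false
set_option linter.unusedSectionVars false

/-!
# Project C6U, row B4 (`pauli_unitary`), SECOND COPY by helper15 under the name `c6ub4_h15` (same statement as in `helper3/C6U/Skel.lean.txt`).
-/

namespace Cfsg.Agent.Lib.helper3.C6U

open Polynomial Matrix
open Cfsg.Agent.Lib.Helper10.C6P
open scoped MatrixGroups

variable {F : Type*} [Field F]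

section fin

variable [Fintype F] {p : ℕ} [Fact p.Prime] [CharP F p]

theorem c6ub4h15_pne : p ≠ 0 := (Fact.out : p.Prime).ne_zero

theorem c6ub4h15_zero_pow : (0 : F) ^ p = 0 := zero_pow (c6ub4h15_pne (p := p))

theorem c6ub4h15_neg_one_pow : (-1 : F) ^ p = -1 := by
  have h := map_neg (frobenius F p) (1 : F)
  rw [frobenius_def, frobenius_def, one_pow] at h
  exact h

/-- the identity is unitary -/
theorem c6ub4h15_isU_one : IsU p (1 : M4 F) := by
  unfold IsU gram
  rw [Matrix.transpose_one, Matrix.one_mul]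
  ext a b
  rw [Matrix.map_apply]
  by_cases hab : a = b
  · subst hab
    rw [Matrix.one_apply_eq, one_pow]
  · rw [Matrix.one_apply_ne hab, c6ub4h15_zero_pow]

/-- powers of unitary matrices are unitary -/
theorem c6ub4h15_isU_pow (A : M4 F) (hA : IsU p A) (n : ℕ) : IsU p (A ^ n) := by
  induction n with
  | zero => rw [pow_zero]; exact c6ub4h15_isU_one
  | succ n ih => rw [pow_succ]; exact c6uw1_isU_mul _ _ ih hA

/-- a scalar of norm one times a unitary matrix is unitary -/
theorem c6ub4h15_isU_smul (c : F) (hc : c * c ^ p = 1) (A : M4 F) (hA : IsU p A) : IsU p (c • A) := by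
  unfold IsU gram at hA ⊢
  have hmap : (c • A).map (fun a => a ^ p) = c ^ p • A.map (fun a => a ^ p) := by
    ext a b
    simp only [Matrix.map_apply, Matrix.smul_apply, smul_eq_mul, mul_pow]
  rw [hmap, Matrix.transpose_smul, Matrix.smul_mul, Matrix.mul_smul, hA, smul_smul, hc, one_smul]

theorem c6ub4h15_pD1 : IsU p (pD1 : M4 F) := by
  unfold IsU gram
  ext a b
  fin_cases a <;> fin_cases b <;>
    simp [pD1, Matrix.mul_apply, Fin.sum_univ_four, Matrix.diagonal_apply, c6ub4h15_zero_pow,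
      c6ub4h15_neg_one_pow, Matrix.one_apply]

theorem c6ub4h15_pD2 : IsU p (pD2 : M4 F) := by
  unfold IsU gram
  ext a b
  fin_cases a <;> fin_cases b <;>
    simp [pD2, Matrix.mul_apply, Fin.sum_univ_four, Matrix.diagonal_apply, c6ub4h15_zero_pow,
      c6ub4h15_neg_one_pow, Matrix.one_apply]

theorem c6ub4h15_pX1 : IsU p (pX1 : M4 F) := by
  unfold IsU gram
  ext a b
  fin_cases a <;> fin_cases b <;>
    simp [pX1, Matrix.mul_apply, Fin.sum_univ_four, c6ub4h15_zero_pow, Matrix.one_apply]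

theorem c6ub4h15_pX2 : IsU p (pX2 : M4 F) := by
  unfold IsU gram
  ext a b
  fin_cases a <;> fin_cases b <;>
    simp [pX2, Matrix.mul_apply, Fin.sum_univ_four, c6ub4h15_zero_pow, Matrix.one_apply]

/-- B4 [S-M] (second copy, same statement as `pauli_unitary`) : Pauli words are unitary. -/
theorem c6ub4_h15 (i : F) (hi : i * i = -1) (hip : i ^ p = -i) (a b c d e : ℕ) : IsU p (pauliM i a b c d e) := by
  unfold pauliM
  apply c6ub4h15_isU_smul
  · rw [← pow_mul, mul_comm a p, pow_mul, hip, ← mul_pow, mul_neg, hi, neg_neg, one_pow]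
  · exact c6uw1_isU_mul _ _ (c6uw1_isU_mul _ _ (c6uw1_isU_mul _ _
      (c6ub4h15_isU_pow _ c6ub4h15_pD1 b) (c6ub4h15_isU_pow _ c6ub4h15_pX1 c))
      (c6ub4h15_isU_pow _ c6ub4h15_pD2 d)) (c6ub4h15_isU_pow _ c6ub4h15_pX2 e)

end fin

end Cfsg.Agent.Lib.helper3.C6U
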