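import Mathlib
import Cfsg.Agent.Lib.helper3.CEUO.Defs2
import Cfsg.Agent.Lib.Helper27.STU.Defs3
import Cfsg.Agent.Lib.Helper24.STCI1
import Cfsg.Agent.Lib.Helper24.STUB1
import Cfsg.Agent.Lib.helper8.STULA1
import Cfsg.Agent.Lib.Helper25.STULA2
import Cfsg.Agent.Lib.Helper12.CEUOD1

/-!
# Project CEUO (sub-designer helper3; odd case of S2089), row D7 (helper15, from the bottom of helper27's D-chain): CORES under own names.
* `ceuod7_hhh` : the statement of `hhh_odd` (no dependencies);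
* `ceuod7_Dq_zero` : the statement of D3b `Dq_zero` (no dependencies);
* `ceuod7_hls_core` : the statement of `hls_odd`, with the STATEMENT of D5 `Zo_eq` (for the given `L`, `h2`) as hypothesis `hZo`.
-/

set_option autoImplicit false

namespace Cfsg.Agent.Lib.helper3.CEUO

open Cfsg.Agent.Lib.helper15.St2 Cfsg.Agent.Lib.helper7.Ce Cfsg.Agent.Lib.helper3.STC Cfsg.Agent.Lib.Helper27.STU
  Cfsg.Agent.Lib.helper7.CEU

open Cfsg.Agent.Lib.helper7.CEC (I2 I3 I4 U2 U3)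

section D

variable {F : Type*} [Field F] [StarRing F] {od : Prop} {ι : Type*} {Γ G : Type*} [Group Γ] [Group G] {S : SysU F od ι G} {σ : Γ →* G}
  {h : IsCE σ}

/-- the statement of `hhh_odd` (D7) -/
theorem ceuod7_hhh (L : ShortLift S h) (hK : HK L) (Z : LongLift S h) :
    ∀ a b : ι ⊕ ι, ab a ≠ ab b → ∀ ξ η : Lam F od, cm (Z.Z a ξ) (Z.Z b η) = L.X a (ng b) (-(ξ.v * star η.v)) :=
  fun a b hab ξ η => hK a b hab ξ η _ _ (Z.map a ξ) (Z.map b η)

/-- `L.X a b 0 = 1` -/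
theorem ceuod7_X_zero (L : ShortLift S h) {a b : ι ⊕ ι} (hab : ab a ≠ ab b) : L.X a b 0 = 1 := by
  have h1 := L.add a b hab 0 0
  rw [add_zero] at h1
  exact mul_eq_left.mp h1.symm

/-- `Z.Z a 1 = 1` -/
theorem ceuod7_Z_one (Z : LongLift S h) (a : ι ⊕ ι) : Z.Z a 1 = 1 := by
  have h1 := Z.mul a 1 1
  rw [mul_one] at h1
  exact mul_eq_left.mp h1.symm

/-- the statement of `Dq_zero` (D3b) -/
theorem ceuod7_Dq_zero (L : ShortLift S h) {a b : ι ⊕ ι} (hab : ab a ≠ ab b) (ξ : Lam F od) : Dq L a b ξ 0 = 1 := by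
  have hne : ng a ≠ b ∧ ng a ≠ ng b := by
    constructor
    · intro e2
      exact (ceuod1_ne hab).2 (by rw [← e2, ng_ng])
    · intro e2
      exact (ceuod1_ne hab).1 (ng_inj.1 e2)
  have h0 : σ (lf h (S.xs (ng a) b 0)) = 1 := by
    rw [map_lf, S.xs_zero hne.1 hne.2]
  have hZq : Zq S h a b ξ 0 = 1 := by
    unfold Zq
    rw [cm_eq_one_iff]
    exact (h.comm_of_map_one h0 _).symm
  unfold Dq
  rw [hZq, mul_zero, ceuod7_X_zero L hab, inv_one, one_mul]

/-- D7 core: the lifted relation `ls`; `hZo` is the statement of D5 `Zo_eq`. -/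
theorem ceuod7_hls_core (L : ShortLift S h) (h2 : I2 ι) (Z : LongLift S h)
    (hZo : ∀ {a c : ι ⊕ ι}, ab a ≠ ab (ng c) → ∀ {u : F}, u ≠ 0 → ∀ η : Lam F od, Do L a (ng c) u η = Zo L h2 c η)
    (hZ : ∀ c η, Z.Z c η = Zo L h2 c η) :
    ∀ a b : ι ⊕ ι, ab a ≠ ab b → ∀ (ξ : Lam F od) (u : F),
      cm (Z.Z a ξ) (L.X (ng a) b u) = L.X a b (ξ.c * u) * Z.Z (ng b) (Lam.act (star u) (Lam.bar ξ)) := by
  intro a b hab ξ u
  have hnab : ab (ng a) ≠ ab b := by rw [ab_ng]; exact hab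
  have e1 : cm (Z.Z a ξ) (L.X (ng a) b u) = Zq S h a b ξ u := Zq_eq h (Z.map a ξ) (L.map (ng a) b hnab u)
  have e2 : Zq S h a b ξ u = L.X a b (ξ.c * u) * Dq L a b ξ u := by
    unfold Dq
    rw [mul_inv_cancel_left]
  rw [e1, e2]
  congr 1
  by_cases hu : u = 0
  · rw [hu, ceuod7_Dq_zero L hab ξ, star_zero, Lam.act_zero, ceuod7_Z_one]
  · have hsu : star u ≠ 0 := fun e => hu (by simpa using congrArg star e)
    have e3 : Dq L a b ξ u = Do L a b u (Lam.act (star u) (Lam.bar ξ)) := by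
      unfold Do
      rw [Lam.act_act, inv_mul_cancel₀ hsu, Lam.act_one, Lam.bar_bar]
    have hac : ab a ≠ ab (ng (ng b)) := by rw [ng_ng]; exact hab
    have e4 := hZo hac hu (Lam.act (star u) (Lam.bar ξ))
    rw [ng_ng] at e4
    rw [e3, e4, hZ]

end D

end Cfsg.Agent.Lib.helper3.CEUO
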