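import Mathlib

set_option autoImplicit false

namespace Cfsg.Agent.Lib.helper15.ES

lemma exists_pair (R : Type*) [Group R] [Finite R] (hR : Nat.card R = 27)
    (hna : ¬ IsMulCommutative R) :
    ∃ x y : R, x * y * x⁻¹ * y⁻¹ ≠ 1 ∧ (x * y * x⁻¹ * y⁻¹) ∈ Subgroup.center R := by
  have : Fact (Nat.Prime 3) := ⟨Nat.prime_three⟩
  have hR3 : Nat.card R = 3 ^ 3 := by rw [hR]; norm_num
  obtain ⟨k, hk0, hk⟩ := IsPGroup.card_center_eq_prime_pow hR3 (by norm_num)
  have hidx := (Subgroup.center R).card_mul_index
  rw [hk, hR3] at hidx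
  have hk3 : k ≤ 3 := by
    by_contra hlt
    have h1 : 3 ^ 4 ≤ 3 ^ k := Nat.pow_le_pow_right (by norm_num) (by omega)
    have h2 : 3 ^ k ≤ 3 ^ 3 := by
      rw [← hidx]
      exact Nat.le_mul_of_pos_right _ (Nat.pos_of_ne_zero (Subgroup.index_ne_zero_of_finite))
    omega
  have hcomm_of : (∀ a b : R, a * b = b * a) → False := fun h => hna ⟨⟨h⟩⟩
  have hk1 : k = 1 := by
    interval_cases k
    · rfl
    · exfalso
      have hi : (Subgroup.center R).index = 3 := by
        have : 3 ^ 2 * (Subgroup.center R).index = 3 ^ 2 * 3 := by rw [hidx]; norm_num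
        exact Nat.eq_of_mul_eq_mul_left (by norm_num) this
      have hc : Nat.card (R ⧸ Subgroup.center R) = 3 := hi
      have : IsCyclic (R ⧸ Subgroup.center R) := isCyclic_of_prime_card hc
      apply hcomm_of
      intro a b
      exact ((QuotientGroup.mk' (Subgroup.center R)).isMulCommutative_of_isCyclic_of_ker_le_center
        (by rw [QuotientGroup.ker_mk'])).is_comm.comm a b
    · exfalso
      have hi : (Subgroup.center R).index = 1 := by
        have : 3 ^ 3 * (Subgroup.center R).index = 3 ^ 3 * 1 := by rw [hidx, mul_one]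
        exact Nat.eq_of_mul_eq_mul_left (by norm_num) this
      have htop : Subgroup.center R = ⊤ := Subgroup.index_eq_one.mp hi
      apply hcomm_of
      intro a b
      have ha : a ∈ Subgroup.center R := by rw [htop]; trivial
      exact (Subgroup.mem_center_iff.mp ha b).symm
  subst hk1
  have hi : (Subgroup.center R).index = 3 ^ 2 := by
    have : 3 ^ 1 * (Subgroup.center R).index = 3 ^ 1 * 3 ^ 2 := by rw [hidx]; norm_num
    exact Nat.eq_of_mul_eq_mul_left (by norm_num) this
  have hc : Nat.card (R ⧸ Subgroup.center R) = 3 ^ 2 := hi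
  have hqc := (IsPGroup.isMulCommutative_of_card_eq_prime_sq hc).is_comm.comm
  have hcen : ∀ a b : R, a * b * a⁻¹ * b⁻¹ ∈ Subgroup.center R := by
    intro a b
    rw [← QuotientGroup.eq_one_iff]
    have := hqc (QuotientGroup.mk a) (QuotientGroup.mk b)
    rw [QuotientGroup.mk_mul, QuotientGroup.mk_mul, QuotientGroup.mk_mul, QuotientGroup.mk_inv,
      QuotientGroup.mk_inv, this]
    group
  by_contra hno
  apply hcomm_of
  intro a b
  by_contra hab
  apply hno
  refine ⟨a, b, ?_, hcen a b⟩
  intro h1
  apply hab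
  have : a * b * a⁻¹ * b⁻¹ * (b * a) = 1 * (b * a) := by rw [h1]
  rw [one_mul] at this
  rw [← this]
  group

lemma closure_eq_of_noncomm {G : Type*} [Group G] (R : Subgroup G) (hR : Nat.card R = 27) (a b : G)
    (ha : a ∈ R) (hb : b ∈ R) (hab : a * b ≠ b * a) : Subgroup.closure {a, b} = R := by
  have : Fact (Nat.Prime 3) := ⟨Nat.prime_three⟩
  have : Finite R := Nat.finite_of_card_ne_zero (by rw [hR]; norm_num)
  set H := Subgroup.closure ({a, b} : Set G) with hH
  have hle : H ≤ R := by
    rw [hH, Subgroup.closure_le]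
    intro t ht
    rcases ht with rfl | rfl
    · exact ha
    · exact hb
  have haH : a ∈ H := Subgroup.subset_closure (by simp)
  have hbH : b ∈ H := Subgroup.subset_closure (by simp)
  have hdvd : Nat.card H ∣ 3 ^ 3 := by
    have := Subgroup.card_dvd_of_le hle
    rw [hR] at this
    exact this
  obtain ⟨k, hk, hk'⟩ := (Nat.dvd_prime_pow Nat.prime_three).mp hdvd
  have hcomm_absurd : (∀ s t : H, s * t = t * s) → False := by
    intro h
    apply hab
    have := h ⟨a, haH⟩ ⟨b, hbH⟩
    exact congrArg Subtype.val this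
  have : Finite H := Finite.of_injective (fun t : H => (⟨t.1, hle t.2⟩ : R))
    (fun s t hst => Subtype.ext (congrArg (fun u : R => u.1) hst))
  interval_cases k
  · exfalso
    apply hcomm_absurd
    rw [pow_zero] at hk'
    have hsub : Subsingleton H := (Nat.card_eq_one_iff_unique.mp hk').1
    intro s t
    rw [Subsingleton.elim s t]
  · exfalso
    apply hcomm_absurd
    rw [pow_one] at hk'
    have : IsCyclic H := isCyclic_of_prime_card hk'
    intro s t
    exact (IsCyclic.commGroup (α := H)).mul_comm s t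
  · exfalso
    apply hcomm_absurd
    exact (IsPGroup.isMulCommutative_of_card_eq_prime_sq hk').is_comm.comm
  · apply Subgroup.eq_of_le_of_card_ge hle
    rw [hk', hR]
    norm_num

lemma mem_normalizer_of_gens {G : Type*} [Group G] (R : Subgroup G) [Finite R] (a b : G)
    (hcl : Subgroup.closure {a, b} = R) (n : G) (hna : n * a * n⁻¹ ∈ R) (hnb : n * b * n⁻¹ ∈ R) :
    n ∈ Subgroup.normalizer (R : Set G) := by
  have hle : R ≤ R.comap (MulAut.conj n).toMonoidHom := by
    have h0 : Subgroup.closure {a, b} ≤ R.comap (MulAut.conj n).toMonoidHom := by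
      rw [Subgroup.closure_le]
      intro t ht
      rw [SetLike.mem_coe, Subgroup.mem_comap]
      rcases ht with rfl | rfl
      · simpa using hna
      · simpa using hnb
    rwa [hcl] at h0
  have hconj : ∀ h ∈ R, n * h * n⁻¹ ∈ R := by
    intro h hh
    have := hle hh
    rw [Subgroup.mem_comap] at this
    simpa using this
  rw [Subgroup.mem_normalizer_iff_map_conj_eq]
  apply Subgroup.eq_of_le_of_card_ge
  · rintro _ ⟨h, hh, rfl⟩
    simpa using hconj h hh
  · apply le_of_eq
    exact (Subgroup.card_map_of_injective (MulAut.conj n).injective).symm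

end Cfsg.Agent.Lib.helper15.ES
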