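import Mathlib
import Cfsg.Agent.Lib.helper15.SN1

set_option autoImplicit false

namespace Cfsg.Agent.Lib.helper15.SN

open Matrix Polynomial

variable {F : Type*} [Field F] [Fintype F] {n : ℕ}

lemma order_dvd_finrank (A : Matrix (Fin n) (Fin n) F) (r : ℕ) [Fact r.Prime] (hA : A ^ r = 1)
    (U : Submodule F (Fin n → F)) (hU : ∀ u ∈ U, A *ᵥ u ∈ U)
    (hfix : ∀ u ∈ U, A *ᵥ u = u → u = 0) :
    orderOf ((Fintype.card F : ℕ) : ZMod r) ∣ Module.finrank F U := by
  classical
  let f : Function.End U := fun u => ⟨A *ᵥ u.1, hU u.1 u.2⟩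
  have hfpow : ∀ m : ℕ, ∀ u : U, ((f ^ m) u : Fin n → F) = (A ^ m) *ᵥ u.1 := by
    intro m
    induction m with
    | zero =>
      intro u
      rw [pow_zero, pow_zero, Matrix.one_mulVec]
      rfl
    | succ m ih =>
      intro u
      rw [pow_succ']
      show A *ᵥ ((f ^ m) u : Fin n → F) = _
      rw [ih u, Matrix.mulVec_mulVec, ← pow_succ']
  have hf : f ^ r ^ 1 = 1 := by
    funext u
    apply Subtype.ext
    rw [pow_one, hfpow, hA, Matrix.one_mulVec]
    rfl
  have h1 := Equiv.Perm.card_fixedPoints_modEq (p := r) (n := 1) hf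
  have hfp : Fintype.card (Function.fixedPoints f) = 1 := by
    rw [Fintype.card_eq_one_iff]
    refine ⟨⟨0, ?_⟩, ?_⟩
    · show f 0 = 0
      apply Subtype.ext
      show A *ᵥ (0 : Fin n → F) = 0
      rw [Matrix.mulVec_zero]
    · rintro ⟨u, hu⟩
      apply Subtype.ext
      apply Subtype.ext
      have h2 : f u = u := hu
      have h3 : A *ᵥ u.1 = u.1 := congrArg Subtype.val h2
      exact hfix u.1 u.2 h3
  rw [hfp, Module.card_eq_pow_finrank (K := F) (V := U)] at h1
  apply orderOf_dvd_of_pow_eq_one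
  have h2 := (ZMod.natCast_eq_natCast_iff _ _ _).mpr h1
  rw [Nat.cast_pow, Nat.cast_one] at h2
  exact h2

variable {F : Type*} [Field F] {n : ℕ}

def cyc (A : Matrix (Fin n) (Fin n) F) (v : Fin n → F) : Submodule F (Fin n → F) :=
  Submodule.span F (Set.range fun m : ℕ => (A ^ m) *ᵥ v)

lemma pow_mem_cyc (A : Matrix (Fin n) (Fin n) F) (v : Fin n → F) (m : ℕ) :
    (A ^ m) *ᵥ v ∈ cyc A v := Submodule.subset_span ⟨m, rfl⟩

lemma self_mem_cyc (A : Matrix (Fin n) (Fin n) F) (v : Fin n → F) : v ∈ cyc A v := by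
  have := pow_mem_cyc A v 0
  rwa [pow_zero, Matrix.one_mulVec] at this

lemma cyc_invariant (A : Matrix (Fin n) (Fin n) F) (v : Fin n → F) {u : Fin n → F}
    (hu : u ∈ cyc A v) : A *ᵥ u ∈ cyc A v := by
  unfold cyc at hu ⊢
  induction hu using Submodule.span_induction with
  | mem x hx =>
    obtain ⟨m, rfl⟩ := hx
    rw [Matrix.mulVec_mulVec, ← pow_succ']
    exact Submodule.subset_span ⟨m + 1, rfl⟩
  | zero => rw [Matrix.mulVec_zero]; exact Submodule.zero_mem _
  | add x y _ _ hx hy => rw [Matrix.mulVec_add]; exact Submodule.add_mem _ hx hy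
  | smul c x _ hx => rw [Matrix.mulVec_smul]; exact Submodule.smul_mem _ c hx

lemma cyc_pow_invariant (A : Matrix (Fin n) (Fin n) F) (v : Fin n → F) {u : Fin n → F}
    (hu : u ∈ cyc A v) (m : ℕ) : (A ^ m) *ᵥ u ∈ cyc A v := by
  induction m with
  | zero => rwa [pow_zero, Matrix.one_mulVec]
  | succ m ih =>
    rw [pow_succ', ← Matrix.mulVec_mulVec]
    exact cyc_invariant A v ih

lemma cyc_le_of_mem (A : Matrix (Fin n) (Fin n) F) {v u : Fin n → F} (hu : u ∈ cyc A v) :
    cyc A u ≤ cyc A v := by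
  unfold cyc
  rw [Submodule.span_le]
  rintro _ ⟨m, rfl⟩
  exact cyc_pow_invariant A v hu m

lemma cyc_eq_span_fin (A : Matrix (Fin n) (Fin n) F) (hn : 0 < n) (hA : A ^ n = 1) (v : Fin n → F) :
    cyc A v = Submodule.span F (Set.range fun i : Fin n => (A ^ (i : ℕ)) *ᵥ v) := by
  apply le_antisymm
  · unfold cyc
    rw [Submodule.span_le]
    rintro _ ⟨m, rfl⟩
    have e : A ^ m = A ^ (m % n) := by
      conv_lhs => rw [← Nat.div_add_mod m n, pow_add, pow_mul, hA, one_pow, one_mul]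
    apply Submodule.subset_span
    exact ⟨⟨m % n, Nat.mod_lt m hn⟩, by simp [e]⟩
  · rw [Submodule.span_le]
    rintro _ ⟨i, rfl⟩
    exact pow_mem_cyc A v i

section main
variable [Fintype F]

theorem cyclic_vector (hnp : n.Prime) (hn3 : 3 ≤ n) (hnF : (n : F) ≠ 0)
    (hord : orderOf ((Fintype.card F : ℕ) : ZMod n) = n - 1)
    (A : Matrix (Fin n) (Fin n) F) (hA : A ^ n = 1) (hA1 : A ≠ 1) :
    ∃ v : Fin n → F, cyc A v = ⊤ := by
  have : Fact n.Prime := ⟨hnp⟩
  have hn : 0 < n := hnp.pos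
  set N : Matrix (Fin n) (Fin n) F := ∑ i ∈ Finset.range n, A ^ i with hN
  have hAN : A * N = N := by
    have := mul_geom_sum A n
    rw [hA, sub_self, sub_mul, one_mul, sub_eq_zero] at this
    exact this
  have hNA : N * A = N := by
    have := geom_sum_mul A n
    rw [hA, sub_self, mul_sub, mul_one, sub_eq_zero] at this
    exact this
  have hApN : ∀ i : ℕ, A ^ i * N = N := by
    intro i
    induction i with
    | zero => rw [pow_zero, one_mul]
    | succ i ih => rw [pow_succ, mul_assoc, hAN, ih]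
  have hNN : N * N = (n : F) • N := by
    conv_lhs => rw [hN, Finset.sum_mul]
    rw [Finset.sum_congr rfl (fun i _ => hApN i), Finset.sum_const, Finset.card_range]
    exact (Nat.cast_smul_eq_nsmul F n N).symm
  let V₁ : Submodule F (Fin n → F) := LinearMap.ker (Matrix.toLin' (A - 1))
  let W : Submodule F (Fin n → F) := LinearMap.ker (Matrix.toLin' N)
  have hV₁ : ∀ v, v ∈ V₁ ↔ A *ᵥ v = v := by
    intro v
    show Matrix.toLin' (A - 1) v = 0 ↔ _
    rw [Matrix.toLin'_apply, Matrix.sub_mulVec, Matrix.one_mulVec, sub_eq_zero]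
  have hW : ∀ v, v ∈ W ↔ N *ᵥ v = 0 := by
    intro v
    show Matrix.toLin' N v = 0 ↔ _
    rw [Matrix.toLin'_apply]
  have hNfix : ∀ v, A *ᵥ v = v → N *ᵥ v = (n : F) • v := by
    intro v hv
    have hp : ∀ i : ℕ, (A ^ i) *ᵥ v = v := by
      intro i
      induction i with
      | zero => rw [pow_zero, Matrix.one_mulVec]
      | succ i ih => rw [pow_succ, ← Matrix.mulVec_mulVec, hv, ih]
    rw [hN, Matrix.sum_mulVec, Finset.sum_congr rfl (fun i _ => hp i), Finset.sum_const,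
      Finset.card_range, Nat.cast_smul_eq_nsmul]
  have hdisj : V₁ ⊓ W = ⊥ := by
    rw [eq_bot_iff]
    rintro v ⟨h1, h2⟩
    have h3 := hNfix v ((hV₁ v).mp h1)
    rw [(hW v).mp h2] at h3
    rw [Submodule.mem_bot]
    exact (smul_eq_zero.mp h3.symm).resolve_left hnF
  have hdec : ∀ v : Fin n → F, ((n : F)⁻¹ • (N *ᵥ v)) ∈ V₁ ∧ (v - (n : F)⁻¹ • (N *ᵥ v)) ∈ W := by
    intro v
    constructor
    · rw [hV₁, Matrix.mulVec_smul, Matrix.mulVec_mulVec, hAN]
    · rw [hW, Matrix.mulVec_sub, Matrix.mulVec_smul, Matrix.mulVec_mulVec, hNN, Matrix.smul_mulVec,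
        smul_smul, inv_mul_cancel₀ hnF, one_smul, sub_self]
  have hsup : V₁ ⊔ W = ⊤ := by
    rw [eq_top_iff]
    intro v _
    have := hdec v
    have e : v = (n : F)⁻¹ • (N *ᵥ v) + (v - (n : F)⁻¹ • (N *ᵥ v)) := by abel
    rw [e]
    exact Submodule.add_mem_sup this.1 this.2
  have hdim : Module.finrank F V₁ + Module.finrank F W = n := by
    have := Submodule.finrank_sup_add_finrank_inf_eq V₁ W
    rw [hsup, hdisj, finrank_bot, finrank_top, Module.finrank_fin_fun] at this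
    omega
  have hWne : W ≠ ⊥ := by
    intro hbot
    apply hA1
    apply mat_ext_mulVec
    intro v
    have h1 := (hdec v).2
    rw [hbot, Submodule.mem_bot, sub_eq_zero] at h1
    have h2 := (hdec v).1
    rw [← h1, hV₁] at h2
    rw [h2, Matrix.one_mulVec]
  have hWinv : ∀ u ∈ W, A *ᵥ u ∈ W := by
    intro u hu
    rw [hW] at hu ⊢
    rw [Matrix.mulVec_mulVec, hNA, hu]
  have hWfix : ∀ u ∈ W, A *ᵥ u = u → u = 0 := by
    intro u hu hfix
    have : u ∈ V₁ ⊓ W := ⟨(hV₁ u).mpr hfix, hu⟩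
    rw [hdisj] at this
    exact (Submodule.mem_bot F).mp this
  have hn1 : 2 ≤ n - 1 := by omega
  have hdW : Module.finrank F W = n - 1 := by
    have h1 := order_dvd_finrank A n hA W hWinv hWfix
    rw [hord] at h1
    have h2 : 0 < Module.finrank F W := Module.finrank_pos_iff_exists_ne_zero.mpr (by
      obtain ⟨w, hw, hw0⟩ := Submodule.exists_mem_ne_zero_of_ne_bot hWne
      exact ⟨⟨w, hw⟩, fun h => hw0 (congrArg Subtype.val h)⟩)
    obtain ⟨t, ht⟩ := h1
    have h3 : Module.finrank F W ≤ n := by omega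
    have ht1 : t = 1 := by
      rcases t with _ | _ | t
      · rw [mul_zero] at ht; omega
      · rfl
      · exfalso
        have : (n - 1) * (t + 1 + 1) ≥ (n - 1) * 2 := Nat.mul_le_mul_left _ (by omega)
        omega
    rw [ht, ht1, mul_one]
  have hdV : Module.finrank F V₁ = 1 := by omega
  obtain ⟨v₁, hv₁⟩ : ∃ v₁ : V₁, v₁ ≠ 0 := Module.finrank_pos_iff_exists_ne_zero.mp (by rw [hdV]; norm_num)
  obtain ⟨w, hw, hw0⟩ := Submodule.exists_mem_ne_zero_of_ne_bot hWne
  have hv₁0 : (v₁ : Fin n → F) ≠ 0 := fun h => hv₁ (Subtype.ext h)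
  have hpw : ∀ m : ℕ, (A ^ m) *ᵥ w ∈ W := by
    intro m
    induction m with
    | zero => rw [pow_zero, Matrix.one_mulVec]; exact hw
    | succ m ih => rw [pow_succ', ← Matrix.mulVec_mulVec]; exact hWinv _ ih
  have hcw_le : cyc A w ≤ W := by
    unfold cyc
    rw [Submodule.span_le]
    rintro _ ⟨m, rfl⟩
    exact hpw m
  have hcw : cyc A w = W := by
    apply Submodule.eq_of_le_of_finrank_le hcw_le
    have h1 := order_dvd_finrank A n hA (cyc A w) (fun u hu => cyc_invariant A w hu)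
      (fun u hu => hWfix u (hcw_le hu))
    rw [hord] at h1
    have h2 : 0 < Module.finrank F (cyc A w) := Module.finrank_pos_iff_exists_ne_zero.mpr
      ⟨⟨w, self_mem_cyc A w⟩, fun h => hw0 (congrArg Subtype.val h)⟩
    rw [hdW]
    exact Nat.le_of_dvd h2 h1
  refine ⟨v₁ + w, ?_⟩
  set S := cyc A ((v₁ : Fin n → F) + w) with hS
  have hNv : N *ᵥ ((v₁ : Fin n → F) + w) = (n : F) • (v₁ : Fin n → F) := by
    rw [Matrix.mulVec_add, (hW w).mp hw, add_zero, hNfix _ ((hV₁ _).mp v₁.2)]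
  have hNmem : N *ᵥ ((v₁ : Fin n → F) + w) ∈ S := by
    rw [hN, Matrix.sum_mulVec]
    exact Submodule.sum_mem _ (fun i _ => pow_mem_cyc A _ i)
  have hv₁S : (v₁ : Fin n → F) ∈ S := by
    rw [hNv] at hNmem
    have := S.smul_mem (n : F)⁻¹ hNmem
    rwa [smul_smul, inv_mul_cancel₀ hnF, one_smul] at this
  have hwS : w ∈ S := by
    have := S.sub_mem (self_mem_cyc A ((v₁ : Fin n → F) + w)) hv₁S
    rwa [add_sub_cancel_left] at this
  have hWS : W ≤ S := by
    rw [← hcw]; exact cyc_le_of_mem A hwS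
  have hV₁S : V₁ ≤ S := by
    intro x hx
    obtain ⟨c, hc⟩ := (finrank_eq_one_iff_of_nonzero' v₁ hv₁).mp hdV ⟨x, hx⟩
    have : x = c • (v₁ : Fin n → F) := by
      have := congrArg Subtype.val hc
      simpa using this.symm
    rw [this]
    exact S.smul_mem c hv₁S
  rw [eq_top_iff, ← hsup]
  exact sup_le hV₁S hWS

end main

variable {F : Type*} [Field F] {n : ℕ}

lemma pow_mod_eq (A : Matrix (Fin n) (Fin n) F) (hA : A ^ n = 1) (m : ℕ) : A ^ m = A ^ (m % n) := by
  conv_lhs => rw [← Nat.div_add_mod m n, pow_add, pow_mul, hA, one_pow, one_mul]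

theorem conj_of_cyclic (hn : 0 < n) (A B : Matrix (Fin n) (Fin n) F) (hA : A ^ n = 1)
    (hB : B ^ n = 1) (v v' : Fin n → F) (hv : cyc A v = ⊤) (hv' : cyc B v' = ⊤) :
    ∃ P : GL (Fin n) F, (P : Matrix (Fin n) (Fin n) F) * A = B * (P : Matrix (Fin n) (Fin n) F) := by
  have hcard : Fintype.card (Fin n) = Module.finrank F (Fin n → F) := by
    rw [Fintype.card_fin, Module.finrank_fin_fun]
  have hsA : ⊤ ≤ Submodule.span F (Set.range fun i : Fin n => (A ^ (i : ℕ)) *ᵥ v) := by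
    rw [← cyc_eq_span_fin A hn hA v, hv]
  have hsB : ⊤ ≤ Submodule.span F (Set.range fun i : Fin n => (B ^ (i : ℕ)) *ᵥ v') := by
    rw [← cyc_eq_span_fin B hn hB v', hv']
  let bA : Module.Basis (Fin n) F (Fin n → F) := basisOfTopLeSpanOfCardEqFinrank _ hsA hcard
  let bB : Module.Basis (Fin n) F (Fin n → F) := basisOfTopLeSpanOfCardEqFinrank _ hsB hcard
  have hbA : ∀ i : Fin n, bA i = (A ^ (i : ℕ)) *ᵥ v := by
    intro i
    simp [bA]
  have hbB : ∀ i : Fin n, bB i = (B ^ (i : ℕ)) *ᵥ v' := by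
    intro i
    simp [bB]
  let E : (Fin n → F) ≃ₗ[F] (Fin n → F) := bA.equiv bB (Equiv.refl _)
  have hE : ∀ i : Fin n, E (bA i) = bB i := by
    intro i
    simp [E]
  have hEpow : ∀ m : ℕ, E ((A ^ m) *ᵥ v) = (B ^ m) *ᵥ v' := by
    intro m
    rw [pow_mod_eq A hA m, pow_mod_eq B hB m]
    have := hE ⟨m % n, Nat.mod_lt m hn⟩
    rwa [hbA, hbB] at this
  have hcomm : ∀ w : Fin n → F, E (A *ᵥ w) = B *ᵥ (E w) := by
    intro w
    have h1 : (E.toLinearMap ∘ₗ Matrix.toLin' A) = (Matrix.toLin' B ∘ₗ E.toLinearMap) := by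
      apply bA.ext
      intro i
      simp only [LinearMap.comp_apply, LinearEquiv.coe_coe, Matrix.toLin'_apply]
      rw [hE, hbA, hbB, Matrix.mulVec_mulVec, ← pow_succ', hEpow, pow_succ', Matrix.mulVec_mulVec]
    have := LinearMap.congr_fun h1 w
    simpa using this
  set P : Matrix (Fin n) (Fin n) F := LinearMap.toMatrix' E.toLinearMap with hP
  set P' : Matrix (Fin n) (Fin n) F := LinearMap.toMatrix' E.symm.toLinearMap with hP'
  have h1 : P * P' = 1 := by
    rw [hP, hP', ← LinearMap.toMatrix'_comp]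
    have : E.toLinearMap ∘ₗ E.symm.toLinearMap = LinearMap.id := by
      ext w; simp
    rw [this, LinearMap.toMatrix'_id]
  have h2 : P' * P = 1 := by
    rw [hP, hP', ← LinearMap.toMatrix'_comp]
    have : E.symm.toLinearMap ∘ₗ E.toLinearMap = LinearMap.id := by
      ext w; simp
    rw [this, LinearMap.toMatrix'_id]
  refine ⟨⟨P, P', h1, h2⟩, ?_⟩
  show P * A = B * P
  apply mat_ext_mulVec
  intro w
  rw [← Matrix.mulVec_mulVec, ← Matrix.mulVec_mulVec, hP, LinearMap.toMatrix'_mulVec,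
    LinearMap.toMatrix'_mulVec]
  exact hcomm w

end Cfsg.Agent.Lib.helper15.SN
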