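import Mathlib
import Cfsg.Agent.Lib.helper15.SN1

set_option autoImplicit false

namespace Cfsg.Agent.Lib.helper15.SN

open Matrix Polynomial

variable {F : Type*} [Field F]

lemma fromBlocks_diag_pow {a b : Type*} [Fintype a] [Fintype b] [DecidableEq a] [DecidableEq b]
    (A : Matrix a a F) (D : Matrix b b F) (m : ℕ) :
    (Matrix.fromBlocks A 0 0 D) ^ m = Matrix.fromBlocks (A ^ m) 0 0 (D ^ m) := by
  induction m with
  | zero => simp [Matrix.fromBlocks_one]
  | succ m ih =>
    rw [pow_succ, ih, Matrix.fromBlocks_multiply]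
    simp [pow_succ]

theorem exists_order_GL [Fintype F] (r : ℕ) [Fact r.Prime] (c : ℕ) (hc : 1 ≤ c)
    (hdvd : r ∣ Fintype.card F ^ c - 1) :
    ∃ y : GL (Fin c) F, orderOf y = r := by
  have : Finite (GL (Fin c) F) := inferInstance
  have : Fintype (GL (Fin c) F) := Fintype.ofFinite _
  apply exists_prime_orderOf_dvd_card' r
  rw [Matrix.card_GL_field]
  have h0 : (⟨0, by omega⟩ : Fin c) ∈ (Finset.univ : Finset (Fin c)) := Finset.mem_univ _
  refine dvd_trans ?_ (Finset.dvd_prod_of_mem _ h0)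
  simpa using hdvd

variable {F : Type*} [Field F]

theorem exists_bad [Fintype F] {n : ℕ} (r : ℕ) [Fact r.Prime] (c : ℕ) (hc : 1 ≤ c)
    (hk : c + 3 ≤ n) (hdvd : r ∣ Fintype.card F ^ c - 1) :
    ∃ x : Matrix.SpecialLinearGroup (Fin n) F, x ^ r = 1 ∧ x ≠ 1 ∧
      ∃ v v' : Fin n → F, v ≠ 0 ∧ (x : Matrix (Fin n) (Fin n) F) *ᵥ v = v ∧
        (x : Matrix (Fin n) (Fin n) F) *ᵥ v' = v' ∧ ¬ ∃ a : F, v' = a • v := by
  obtain ⟨y, hy⟩ := exists_order_GL (F := F) r c hc hdvd
  obtain ⟨k, hck⟩ : ∃ k, c + k = n := ⟨n - c, by omega⟩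
  have hk3 : 3 ≤ k := by omega
  have hyr : (y : Matrix (Fin c) (Fin c) F) ^ r = 1 := by
    have h1 : y ^ r = 1 := by rw [← hy]; exact pow_orderOf_eq_one y
    have h2 := congrArg Units.val h1
    rwa [Units.val_pow_eq_pow_val, Units.val_one] at h2
  have hdet0 : (y : Matrix (Fin c) (Fin c) F).det ≠ 0 := by
    intro h0
    have := congrArg Matrix.det hyr
    rw [Matrix.det_pow, h0, Matrix.det_one, zero_pow (Fact.out : r.Prime).ne_zero] at this
    exact zero_ne_one this
  have hdetr : ((y : Matrix (Fin c) (Fin c) F).det)⁻¹ ^ r = 1 := by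
    rw [inv_pow, ← Matrix.det_pow, hyr, Matrix.det_one, inv_one]
  let i0 : Fin k := ⟨0, by omega⟩
  let i1 : Fin k := ⟨1, by omega⟩
  let i2 : Fin k := ⟨2, by omega⟩
  have h10 : i1 ≠ i0 := by simp [i0, i1, Fin.ext_iff]
  have h20 : i2 ≠ i0 := by simp [i0, i2, Fin.ext_iff]
  have h21 : i2 ≠ i1 := by simp [i1, i2, Fin.ext_iff]
  let d : Fin k → F := Function.update (fun _ => (1 : F)) i0 ((y : Matrix (Fin c) (Fin c) F).det)⁻¹
  have hd0 : d i0 = ((y : Matrix (Fin c) (Fin c) F).det)⁻¹ := by simp [d]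
  have hd1 : ∀ j, j ≠ i0 → d j = 1 := by
    intro j hj; simp [d, hj]
  have hdprod : ∏ j, d j = ((y : Matrix (Fin c) (Fin c) F).det)⁻¹ := by
    rw [Finset.prod_update_of_mem (Finset.mem_univ i0)]
    simp
  have hdr : ∀ j, d j ^ r = 1 := by
    intro j
    by_cases hj : j = i0
    · rw [hj, hd0, hdetr]
    · rw [hd1 j hj, one_pow]
  let B : Matrix (Fin c ⊕ Fin k) (Fin c ⊕ Fin k) F :=
    Matrix.fromBlocks (y : Matrix (Fin c) (Fin c) F) 0 0 (Matrix.diagonal d)
  let e : Fin c ⊕ Fin k ≃ Fin n := finSumFinEquiv.trans (finCongr hck)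
  let X : Matrix (Fin n) (Fin n) F := Matrix.reindexAlgEquiv F F e B
  have hXdet : X.det = 1 := by
    show (Matrix.reindexAlgEquiv F F e B).det = 1
    rw [Matrix.det_reindexAlgEquiv, Matrix.det_fromBlocks_zero₂₁, Matrix.det_diagonal, hdprod,
      mul_inv_cancel₀ hdet0]
  have hBr : B ^ r = 1 := by
    show (Matrix.fromBlocks (y : Matrix (Fin c) (Fin c) F) 0 0 (Matrix.diagonal d)) ^ r = 1
    rw [fromBlocks_diag_pow, hyr, Matrix.diagonal_pow]
    have : d ^ r = 1 := by funext j; exact hdr j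
    rw [this]
    have h1 : (Matrix.diagonal (1 : Fin k → F)) = 1 := Matrix.diagonal_one
    rw [h1, Matrix.fromBlocks_one]
  have hXr : X ^ r = 1 := by
    show (Matrix.reindexAlgEquiv F F e B) ^ r = 1
    rw [← map_pow, hBr, map_one]
  have hXmv : ∀ u : Fin k → F, X *ᵥ (fun i => Sum.elim (0 : Fin c → F) u (e.symm i)) =
      fun i => Sum.elim (0 : Fin c → F) (fun j => d j * u j) (e.symm i) := by
    intro u
    show (Matrix.reindexAlgEquiv F F e B) *ᵥ _ = _
    rw [Matrix.coe_reindexAlgEquiv, Matrix.reindex_apply, Matrix.submatrix_mulVec_equiv]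
    funext i
    simp only [Function.comp_apply, Equiv.symm_symm]
    have h1 : ((fun i => Sum.elim (0 : Fin c → F) u (e.symm i)) ∘ e) = Sum.elim (0 : Fin c → F) u := by
      funext s; simp
    rw [h1]
    show (Matrix.fromBlocks (y : Matrix (Fin c) (Fin c) F) 0 0 (Matrix.diagonal d) *ᵥ
      Sum.elim (0 : Fin c → F) u) (e.symm i) = _
    rw [Matrix.fromBlocks_mulVec]
    rcases e.symm i with a | b
    · simp
    · simp [Matrix.mulVec_diagonal]
  have hfix : ∀ j : Fin k, j ≠ i0 → X *ᵥ (fun i => Sum.elim (0 : Fin c → F) (Pi.single j 1) (e.symm i)) =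
      fun i => Sum.elim (0 : Fin c → F) (Pi.single j 1) (e.symm i) := by
    intro j hj
    rw [hXmv]
    have : (fun l => d l * (Pi.single j (1 : F) : Fin k → F) l) = Pi.single j 1 := by
      funext l
      by_cases hl : l = j
      · subst hl; simp [hd1 l hj]
      · simp [hl]
    rw [this]
  let x : Matrix.SpecialLinearGroup (Fin n) F := ⟨X, hXdet⟩
  have hxX : (x : Matrix (Fin n) (Fin n) F) = X := rfl
  refine ⟨x, ?_, ?_, fun i => Sum.elim (0 : Fin c → F) (Pi.single i1 1) (e.symm i),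
    fun i => Sum.elim (0 : Fin c → F) (Pi.single i2 1) (e.symm i), ?_, hfix i1 h10, hfix i2 h20, ?_⟩
  · apply Subtype.ext
    rw [Matrix.SpecialLinearGroup.coe_pow, hxX]
    exact hXr
  · intro h1
    have h2 : X = 1 := by rw [← hxX, h1]; rfl
    have h3 : B = 1 := by
      have : (Matrix.reindexAlgEquiv F F e) B = (Matrix.reindexAlgEquiv F F e) 1 := by
        rw [map_one]; exact h2
      exact (Matrix.reindexAlgEquiv F F e).injective this
    have h4 : (y : Matrix (Fin c) (Fin c) F) = 1 := by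
      have h5 := congrArg Matrix.toBlocks₁₁ h3
      rw [Matrix.toBlocks_fromBlocks₁₁] at h5
      rw [h5]
      ext a b
      simp [Matrix.toBlocks₁₁, Matrix.one_apply]
    have h5 : y = 1 := Units.ext h4
    rw [h5, orderOf_one] at hy
    exact (Fact.out : r.Prime).one_lt.ne hy
  · intro h0
    have := congrFun h0 (e (Sum.inr i1))
    simp at this
  · rintro ⟨a, ha⟩
    have := congrFun ha (e (Sum.inr i2))
    simp [h21] at this

end Cfsg.Agent.Lib.helper15.SN
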