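import Mathlib
import Cfsg.Agent.Lib.helper15.SN2
import Cfsg.Agent.Lib.helper15.SN3
import Cfsg.Agent.Lib.helper15.SN4

set_option autoImplicit false

namespace Cfsg.Agent.Lib.helper15.SN

open Matrix Polynomial

variable {F : Type*} [Field F] [Fintype F] {n : ℕ}

theorem not_conj_of_fixed {K : Subalgebra F (Matrix (Fin n) (Fin n) F)}
    (hK : Cfsg.Geo.IsFieldSubalgebra n K) (hnp : n.Prime)
    (x : Matrix.SpecialLinearGroup (Fin n) F) (lam : F) (v v' : Fin n → F) (hv : v ≠ 0)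
    (h1 : (x : Matrix (Fin n) (Fin n) F) *ᵥ v = lam • v)
    (h2 : (x : Matrix (Fin n) (Fin n) F) *ᵥ v' = lam • v')
    (hind : ¬ ∃ a : F, v' = a • v) (hns : (x : Matrix (Fin n) (Fin n) F) ≠ lam • 1)
    (P : Matrix.SpecialLinearGroup (Fin n) F) :
    P⁻¹ * x * P ∉ ((Cfsg.Geo.subalgebraNormalizer K).comap
      (Matrix.SpecialLinearGroup.toGL : Matrix.SpecialLinearGroup (Fin n) F →* GL (Fin n) F)) := by
  intro hmem
  rw [Subgroup.mem_comap] at hmem
  set g : GL (Fin n) F := Matrix.SpecialLinearGroup.toGL (P⁻¹ * x * P) with hg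
  have hgval : (g : Matrix (Fin n) (Fin n) F) = (P⁻¹ : Matrix.SpecialLinearGroup (Fin n) F).1 * x.1 * P.1 := by
    rw [hg, Matrix.SpecialLinearGroup.coe_GL_coe_matrix]
    simp [Matrix.SpecialLinearGroup.coe_mul]
  have hPP : P.1 * (P⁻¹ : Matrix.SpecialLinearGroup (Fin n) F).1 = 1 := by
    rw [← Matrix.SpecialLinearGroup.coe_mul, mul_inv_cancel]; rfl
  have hPP' : (P⁻¹ : Matrix.SpecialLinearGroup (Fin n) F).1 * P.1 = 1 := by
    rw [← Matrix.SpecialLinearGroup.coe_mul, inv_mul_cancel]; rfl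
  have hu : ∀ w : Fin n → F, x.1 *ᵥ w = lam • w →
      (g : Matrix (Fin n) (Fin n) F) *ᵥ ((P⁻¹ : Matrix.SpecialLinearGroup (Fin n) F).1 *ᵥ w) =
        lam • ((P⁻¹ : Matrix.SpecialLinearGroup (Fin n) F).1 *ᵥ w) := by
    intro w hw
    rw [hgval, Matrix.mulVec_mulVec, mul_assoc, mul_assoc, hPP, mul_one, ← Matrix.mulVec_mulVec, hw,
      Matrix.mulVec_smul]
  have hinj : ∀ w : Fin n → F, (P⁻¹ : Matrix.SpecialLinearGroup (Fin n) F).1 *ᵥ w = 0 → w = 0 := by
    intro w hw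
    calc w = (P.1 * (P⁻¹ : Matrix.SpecialLinearGroup (Fin n) F).1) *ᵥ w := by
          rw [hPP, Matrix.one_mulVec]
      _ = 0 := by rw [← Matrix.mulVec_mulVec, hw, Matrix.mulVec_zero]
  have hv0 : (P⁻¹ : Matrix.SpecialLinearGroup (Fin n) F).1 *ᵥ v ≠ 0 := fun h => hv (hinj v h)
  rcases eigen_le_one hK hnp g hmem lam _ _ hv0 (hu v h1) (hu v' h2) with h | ⟨a, ha⟩
  · apply hns
    rw [hgval] at h
    calc x.1 = P.1 * ((P⁻¹ : Matrix.SpecialLinearGroup (Fin n) F).1 * x.1 * P.1) *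
          (P⁻¹ : Matrix.SpecialLinearGroup (Fin n) F).1 := by
          simp only [← mul_assoc, hPP, one_mul]
          rw [mul_assoc, hPP, mul_one]
      _ = lam • 1 := by
          rw [h, Matrix.mul_smul, mul_one, Matrix.smul_mul, hPP]
  · apply hind
    refine ⟨a, ?_⟩
    have h3 : (P⁻¹ : Matrix.SpecialLinearGroup (Fin n) F).1 *ᵥ (v' - a • v) = 0 := by
      rw [Matrix.mulVec_sub, Matrix.mulVec_smul, ha, sub_self]
    exact sub_eq_zero.mp (hinj _ h3)

variable {F : Type*} [Field F] [Fintype F] {n : ℕ}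

omit [Fintype F] in
lemma scalar_mul_mem_normalizer (K : Subalgebra F (Matrix (Fin n) (Fin n) F)) (g s : GL (Fin n) F)
    (hs : s ∈ Cfsg.Geo.subalgebraNormalizer K) (c : F) (hc : c ≠ 0)
    (hg : (g : Matrix (Fin n) (Fin n) F) = c • (s : Matrix (Fin n) (Fin n) F)) :
    g ∈ Cfsg.Geo.subalgebraNormalizer K := by
  let t : GL (Fin n) F := ⟨c • 1, c⁻¹ • 1, by
    rw [Matrix.smul_mul, Matrix.mul_smul, mul_one, smul_smul, mul_inv_cancel₀ hc, one_smul], by
    rw [Matrix.smul_mul, Matrix.mul_smul, mul_one, smul_smul, inv_mul_cancel₀ hc, one_smul]⟩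
  have ht : t ∈ Cfsg.Geo.subalgebraNormalizer K := by
    apply mem_normalizer_of_forall
    intro κ hκ
    show (c • (1 : Matrix (Fin n) (Fin n) F)) * κ * (c⁻¹ • (1 : Matrix (Fin n) (Fin n) F)) ∈ K
    rw [Matrix.smul_mul, one_mul, Matrix.mul_smul, mul_one, smul_smul, inv_mul_cancel₀ hc, one_smul]
    exact hκ
  have e : g = t * s := by
    apply Units.ext
    rw [Units.val_mul, hg]
    show c • (s : Matrix (Fin n) (Fin n) F) = (c • (1 : Matrix (Fin n) (Fin n) F)) * s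
    rw [Matrix.smul_mul, one_mul]
  rw [e]
  exact Subgroup.mul_mem _ ht hs

lemma exists_root_of_coprime (r : ℕ) (hcop : Nat.Coprime (Fintype.card F - 1) r) (z : F) (hz : z ≠ 0) :
    ∃ c : F, c ≠ 0 ∧ c ^ r = z := by
  have h1 : (Nat.card Fˣ).Coprime r := by
    rw [Nat.card_units, Nat.card_eq_fintype_card]; exact hcop
  obtain ⟨u, hu⟩ := (powCoprime h1).surjective (Units.mk0 z hz)
  refine ⟨u, u.ne_zero, ?_⟩
  have := congrArg Units.val hu
  simpa using this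

theorem all_conj {K : Subalgebra F (Matrix (Fin n) (Fin n) F)}
    (hK : Cfsg.Geo.IsFieldSubalgebra n K) (hnp : n.Prime) (hn3 : 3 ≤ n) (hnF : (n : F) ≠ 0)
    (hord : orderOf ((Fintype.card F : ℕ) : ZMod n) = n - 1)
    (x : Matrix.SpecialLinearGroup (Fin n) F) (z : F)
    (hxz : (x : Matrix (Fin n) (Fin n) F) ^ n = z • (1 : Matrix (Fin n) (Fin n) F))
    (hns : ∀ c : F, (x : Matrix (Fin n) (Fin n) F) ≠ c • (1 : Matrix (Fin n) (Fin n) F)) :
    ∃ P : Matrix.SpecialLinearGroup (Fin n) F, P⁻¹ * x * P ∈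
      ((Cfsg.Geo.subalgebraNormalizer K).comap
        (Matrix.SpecialLinearGroup.toGL : Matrix.SpecialLinearGroup (Fin n) F →* GL (Fin n) F)) := by
  have hn : 0 < n := hnp.pos
  have : Fact n.Prime := ⟨hnp⟩
  have hq1 : 1 < Fintype.card F := Fintype.one_lt_card
  have hcop : Nat.Coprime (Fintype.card F - 1) n := by
    rw [Nat.coprime_comm, Nat.Prime.coprime_iff_not_dvd hnp]
    intro hdvd
    have h1 : ((Fintype.card F : ℕ) : ZMod n) = 1 := by
      have h2 : ((Fintype.card F - 1 : ℕ) : ZMod n) = 0 := (ZMod.natCast_eq_zero_iff _ _).mpr hdvd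
      rw [Nat.cast_sub hq1.le, Nat.cast_one, sub_eq_zero] at h2
      exact h2
    rw [h1, orderOf_one] at hord
    omega
  have hz : z ≠ 0 := by
    have : Nonempty (Fin n) := ⟨⟨0, hn⟩⟩
    intro h0
    have := congrArg Matrix.det hxz
    rw [Matrix.det_pow, x.2, one_pow, h0, zero_smul, Matrix.det_zero] at this
    exact one_ne_zero this
  obtain ⟨lam, hlam0, hlam⟩ := exists_root_of_coprime n hcop z hz
  set y : Matrix (Fin n) (Fin n) F := lam⁻¹ • (x : Matrix (Fin n) (Fin n) F) with hy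
  have hyn : y ^ n = 1 := by
    rw [hy, _root_.smul_pow, hxz, smul_smul, inv_pow, hlam, inv_mul_cancel₀ hz, one_smul]
  have hy1 : y ≠ 1 := by
    intro h1
    apply hns lam
    have : lam • y = lam • (1 : Matrix (Fin n) (Fin n) F) := by rw [h1]
    rwa [hy, smul_smul, mul_inv_cancel₀ hlam0, one_smul] at this
  obtain ⟨s, hsN, hsn, hs1⟩ := exists_frob_matrix hK (by omega : 2 ≤ n)
  have hsn' : (s : Matrix (Fin n) (Fin n) F) ^ n = 1 := by
    have := congrArg Units.val hsn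
    rwa [Units.val_pow_eq_pow_val, Units.val_one] at this
  have hs1' : (s : Matrix (Fin n) (Fin n) F) ≠ 1 := fun h => hs1 (Units.ext h)
  obtain ⟨v, hv⟩ := cyclic_vector hnp hn3 hnF hord y hyn hy1
  obtain ⟨v', hv'⟩ := cyclic_vector hnp hn3 hnF hord (s : Matrix (Fin n) (Fin n) F) hsn' hs1'
  obtain ⟨P₀, hP₀⟩ := conj_of_cyclic hn y (s : Matrix (Fin n) (Fin n) F) hyn hsn' v v' hv hv'
  have hP₀i : ((P₀⁻¹ : GL (Fin n) F) : Matrix (Fin n) (Fin n) F) * (P₀ : Matrix (Fin n) (Fin n) F) = 1 := by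
    rw [← Units.val_mul, inv_mul_cancel, Units.val_one]
  have hP₀i' : (P₀ : Matrix (Fin n) (Fin n) F) * ((P₀⁻¹ : GL (Fin n) F) : Matrix (Fin n) (Fin n) F) = 1 := by
    rw [← Units.val_mul, mul_inv_cancel, Units.val_one]
  have hdet0 : (P₀ : Matrix (Fin n) (Fin n) F).det ≠ 0 := by
    intro h0
    have := congrArg Matrix.det hP₀i
    rw [Matrix.det_mul, h0, mul_zero, Matrix.det_one] at this
    exact zero_ne_one this
  have hdeti : ((P₀⁻¹ : GL (Fin n) F) : Matrix (Fin n) (Fin n) F).det * (P₀ : Matrix (Fin n) (Fin n) F).det = 1 := by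
    rw [← Matrix.det_mul, hP₀i, Matrix.det_one]
  obtain ⟨mu, hmu0, hmu⟩ := exists_root_of_coprime n hcop _ hdet0
  have hQdet : (mu • ((P₀⁻¹ : GL (Fin n) F) : Matrix (Fin n) (Fin n) F)).det = 1 := by
    rw [Matrix.det_smul, Fintype.card_fin, hmu, mul_comm, hdeti]
  let Q : Matrix.SpecialLinearGroup (Fin n) F :=
    ⟨mu • ((P₀⁻¹ : GL (Fin n) F) : Matrix (Fin n) (Fin n) F), hQdet⟩
  have hQval : (Q : Matrix (Fin n) (Fin n) F) = mu • ((P₀⁻¹ : GL (Fin n) F) : Matrix (Fin n) (Fin n) F) := rfl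
  refine ⟨Q, ?_⟩
  rw [Subgroup.mem_comap]
  apply scalar_mul_mem_normalizer K _ s hsN lam hlam0
  rw [Matrix.SpecialLinearGroup.coe_GL_coe_matrix]
  have hQQ : (Q⁻¹ : Matrix.SpecialLinearGroup (Fin n) F).1 * Q.1 = 1 := by
    rw [← Matrix.SpecialLinearGroup.coe_mul, inv_mul_cancel]; rfl
  have hkey : Q.1 * (lam • (s : Matrix (Fin n) (Fin n) F)) = x.1 * Q.1 := by
    have h1 : y * ((P₀⁻¹ : GL (Fin n) F) : Matrix (Fin n) (Fin n) F) =
        ((P₀⁻¹ : GL (Fin n) F) : Matrix (Fin n) (Fin n) F) * (s : Matrix (Fin n) (Fin n) F) := by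
      calc y * ((P₀⁻¹ : GL (Fin n) F) : Matrix (Fin n) (Fin n) F)
          = ((P₀⁻¹ : GL (Fin n) F) : Matrix (Fin n) (Fin n) F) * ((P₀ : Matrix (Fin n) (Fin n) F) * y) *
            ((P₀⁻¹ : GL (Fin n) F) : Matrix (Fin n) (Fin n) F) := by
              rw [← mul_assoc, hP₀i, one_mul]
        _ = ((P₀⁻¹ : GL (Fin n) F) : Matrix (Fin n) (Fin n) F) * (s : Matrix (Fin n) (Fin n) F) := by
              rw [hP₀, mul_assoc, mul_assoc, hP₀i', mul_one]
    have hx : x.1 = lam • y := by rw [hy, smul_smul, mul_inv_cancel₀ hlam0, one_smul]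
    rw [hQval, hx, Matrix.smul_mul, Matrix.mul_smul, Matrix.smul_mul, Matrix.mul_smul, h1, smul_comm]
  calc ((Q⁻¹ * x * Q : Matrix.SpecialLinearGroup (Fin n) F) : Matrix (Fin n) (Fin n) F)
      = (Q⁻¹ : Matrix.SpecialLinearGroup (Fin n) F).1 * (x.1 * Q.1) := by
        simp [Matrix.SpecialLinearGroup.coe_mul, mul_assoc]
    _ = lam • (s : Matrix (Fin n) (Fin n) F) := by
        rw [← hkey, ← mul_assoc, hQQ, one_mul]

end Cfsg.Agent.Lib.helper15.SN
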