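import Mathlib
import Cfsg.Agent.Lib.helper15.SN5

set_option autoImplicit false

namespace Cfsg.Agent.Lib.helper15.SN

open Matrix Polynomial

variable {F : Type*} [Field F] {n : ℕ}

lemma omega_facts (w : F) (hw : w ^ 2 + w + 1 = 0) (h3 : (3 : F) ≠ 0) :
    w ^ 3 = 1 ∧ w ≠ 1 ∧ w ^ 2 ≠ 1 ∧ w ^ 2 ≠ w ∧ w ≠ 0 := by
  have hw3 : w ^ 3 = 1 := by linear_combination (w - 1) * hw
  have hw1 : w ≠ 1 := by
    intro h; rw [h] at hw; apply h3; linear_combination hw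
  have hw0 : w ≠ 0 := by
    intro h; rw [h] at hw3; simp at hw3
  refine ⟨hw3, hw1, ?_, ?_, hw0⟩
  · intro h
    apply hw1
    have : w * w ^ 2 = 1 := by rw [← hw3]; ring
    rw [h, mul_one] at this
    exact this
  · intro h
    apply hw1
    have h1 : w * (w - 1) = 0 := by linear_combination h
    rcases mul_eq_zero.mp h1 with h2 | h2
    · exact absurd h2 hw0
    · exact sub_eq_zero.mp h2

theorem eig_decomp (y : Matrix (Fin n) (Fin n) F) (w : F) (hw : w ^ 2 + w + 1 = 0)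
    (h3 : (3 : F) ≠ 0) (hy : y ^ 3 = 1) (v : Fin n → F) :
    ∃ p0 p1 p2 : Fin n → F, y *ᵥ p0 = p0 ∧ y *ᵥ p1 = w • p1 ∧ y *ᵥ p2 = w ^ 2 • p2 ∧
      v = p0 + p1 + p2 := by
  obtain ⟨hw3, -, -, -, hw0⟩ := omega_facts w hw h3
  set b := y *ᵥ v with hb
  set c := y *ᵥ (y *ᵥ v) with hc
  have hyc : y *ᵥ c = v := by
    rw [hc, Matrix.mulVec_mulVec, Matrix.mulVec_mulVec, ← pow_two, ← pow_succ, hy, Matrix.one_mulVec]
  have hyb : y *ᵥ b = c := rfl
  refine ⟨(3 : F)⁻¹ • (v + b + c), (3 : F)⁻¹ • (v + w ^ 2 • b + w • c),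
    (3 : F)⁻¹ • (v + w • b + w ^ 2 • c), ?_, ?_, ?_, ?_⟩
  · rw [Matrix.mulVec_smul, Matrix.mulVec_add, Matrix.mulVec_add, hyc, hyb]
    congr 1
    abel
  · rw [Matrix.mulVec_smul, Matrix.mulVec_add, Matrix.mulVec_add, Matrix.mulVec_smul,
      Matrix.mulVec_smul, hyc, hyb, smul_comm w]
    congr 1
    have e : (b + w ^ 2 • c + w • v) - w • (v + w ^ 2 • b + w • c) = (1 - w ^ 3) • b := by module
    rw [hw3, sub_self, zero_smul, sub_eq_zero] at e
    exact e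
  · rw [Matrix.mulVec_smul, Matrix.mulVec_add, Matrix.mulVec_add, Matrix.mulVec_smul,
      Matrix.mulVec_smul, hyc, hyb, smul_comm (w ^ 2)]
    congr 1
    have e : (b + w • c + w ^ 2 • v) - w ^ 2 • (v + w • b + w ^ 2 • c) =
        (1 - w ^ 3) • b + (w * (1 - w ^ 3)) • c := by module
    rw [hw3, sub_self, mul_zero, zero_smul, zero_smul, add_zero, sub_eq_zero] at e
    exact e
  · have e : (3 : F)⁻¹ • (v + b + c) + (3 : F)⁻¹ • (v + w ^ 2 • b + w • c) +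
        (3 : F)⁻¹ • (v + w • b + w ^ 2 • c) - v =
        ((3 : F)⁻¹ * 3 - 1) • v + ((3 : F)⁻¹ * (w ^ 2 + w + 1)) • b +
          ((3 : F)⁻¹ * (w ^ 2 + w + 1)) • c := by module
    rw [hw, mul_zero, zero_smul, zero_smul, inv_mul_cancel₀ h3, sub_self, zero_smul, add_zero,
      add_zero, sub_eq_zero] at e
    exact e.symm

variable {F : Type*} [Field F] {n : ℕ}

def eigS (y : Matrix (Fin n) (Fin n) F) (lam : F) : Submodule F (Fin n → F) where
  carrier := {v | y *ᵥ v = lam • v}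
  add_mem' := by
    intro a b ha hb
    show y *ᵥ (a + b) = lam • (a + b)
    rw [Matrix.mulVec_add, ha, hb, smul_add]
  zero_mem' := by
    show y *ᵥ 0 = lam • (0 : Fin n → F)
    rw [Matrix.mulVec_zero, smul_zero]
  smul_mem' := by
    intro c a ha
    show y *ᵥ (c • a) = lam • (c • a)
    rw [Matrix.mulVec_smul, ha, smul_comm]

lemma mem_eigS (y : Matrix (Fin n) (Fin n) F) (lam : F) (v : Fin n → F) :
    v ∈ eigS y lam ↔ y *ᵥ v = lam • v := Iff.rfl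

lemma finrank_eigS_le_one (y : Matrix (Fin n) (Fin n) F) (lam : F)
    (hdim : ∀ v v' : Fin n → F, v ≠ 0 → y *ᵥ v = lam • v → y *ᵥ v' = lam • v' → ∃ a : F, v' = a • v) :
    Module.finrank F (eigS y lam) ≤ 1 := by
  by_cases hbot : eigS y lam = ⊥
  · rw [hbot, finrank_bot]; exact Nat.zero_le 1
  · obtain ⟨v, hv, hv0⟩ := Submodule.exists_mem_ne_zero_of_ne_bot hbot
    apply finrank_le_one (⟨v, hv⟩ : eigS y lam)
    rintro ⟨v', hv'⟩
    obtain ⟨a, ha⟩ := hdim v v' hv0 hv hv'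
    exact ⟨a, Subtype.ext ha.symm⟩

theorem three_eigvecs (y : Matrix (Fin 3) (Fin 3) F) (w : F) (hw : w ^ 2 + w + 1 = 0)
    (h3 : (3 : F) ≠ 0) (hy : y ^ 3 = 1)
    (hdim : ∀ (lam : F) (v v' : Fin 3 → F), v ≠ 0 → y *ᵥ v = lam • v → y *ᵥ v' = lam • v' →
      ∃ a : F, v' = a • v) :
    ∃ v0 v1 v2 : Fin 3 → F, v0 ≠ 0 ∧ v1 ≠ 0 ∧ v2 ≠ 0 ∧ y *ᵥ v0 = (1 : F) • v0 ∧ y *ᵥ v1 = w • v1 ∧
      y *ᵥ v2 = w ^ 2 • v2 := by
  have htop : (⊤ : Submodule F (Fin 3 → F)) ≤ eigS y 1 ⊔ eigS y w ⊔ eigS y (w ^ 2) := by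
    intro v _
    obtain ⟨p0, p1, p2, h0, h1, h2, rfl⟩ := eig_decomp y w hw h3 hy v
    apply Submodule.add_mem_sup
    · apply Submodule.add_mem_sup
      · rw [mem_eigS, h0, one_smul]
      · exact h1
    · exact h2
  have h1 := Submodule.finrank_mono htop
  rw [finrank_top, Module.finrank_fin_fun] at h1
  have h2 := Submodule.finrank_add_le_finrank_add_finrank (eigS y 1 ⊔ eigS y w) (eigS y (w ^ 2))
  have h3' := Submodule.finrank_add_le_finrank_add_finrank (eigS y 1) (eigS y w)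
  have ha := finrank_eigS_le_one y 1 (hdim 1)
  have hb := finrank_eigS_le_one y w (hdim w)
  have hc := finrank_eigS_le_one y (w ^ 2) (hdim (w ^ 2))
  have ea : 0 < Module.finrank F (eigS y 1) := by omega
  have eb : 0 < Module.finrank F (eigS y w) := by omega
  have ec : 0 < Module.finrank F (eigS y (w ^ 2)) := by omega
  obtain ⟨v0, hv0⟩ := Module.finrank_pos_iff_exists_ne_zero.mp ea
  obtain ⟨v1, hv1⟩ := Module.finrank_pos_iff_exists_ne_zero.mp eb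
  obtain ⟨v2, hv2⟩ := Module.finrank_pos_iff_exists_ne_zero.mp ec
  exact ⟨v0.1, v1.1, v2.1, fun h => hv0 (Subtype.ext h), fun h => hv1 (Subtype.ext h),
    fun h => hv2 (Subtype.ext h), v0.2, v1.2, v2.2⟩

end Cfsg.Agent.Lib.helper15.SN
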