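import Mathlib
import Cfsg.Agent.Lib.helper15.SN7

set_option autoImplicit false

namespace Cfsg.Agent.Lib.helper15.SN

open Matrix Polynomial

variable {F : Type*} [Field F] {n : ℕ}

lemma mul_cols (y : Matrix (Fin n) (Fin n) F) (vs : Fin n → Fin n → F) (d : Fin n → F)
    (h : ∀ j, y *ᵥ vs j = d j • vs j) :
    y * (Matrix.of vs)ᵀ = (Matrix.of vs)ᵀ * Matrix.diagonal d := by
  ext i j
  rw [Matrix.mul_diagonal, Matrix.mul_apply]
  have := congrFun (h j) i
  simp only [Matrix.mulVec, dotProduct, Pi.smul_apply, smul_eq_mul] at this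
  simp only [Matrix.transpose_apply, Matrix.of_apply]
  rw [this]; ring

lemma isUnit_cols (vs : Fin n → Fin n → F) (h : LinearIndependent F vs) :
    IsUnit ((Matrix.of vs)ᵀ).det := by
  rw [Matrix.det_transpose, ← Matrix.isUnit_iff_isUnit_det, ← Matrix.linearIndependent_rows_iff_isUnit]
  exact h

lemma indep_three (y : Matrix (Fin 3) (Fin 3) F) (α β : F) (hαβ : α ≠ β) (v v' u : Fin 3 → F)
    (hv : v ≠ 0) (hind : ¬ ∃ a : F, v' = a • v) (hu : u ≠ 0)
    (h1 : y *ᵥ v = α • v) (h2 : y *ᵥ v' = α • v') (h3 : y *ᵥ u = β • u) :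
    LinearIndependent F ![v, v', u] := by
  rw [Fintype.linearIndependent_iff]
  intro g hg
  rw [Fin.sum_univ_three] at hg
  simp only [Matrix.cons_val_zero, Matrix.cons_val_one, Matrix.cons_val_two, Matrix.head_cons,
    Matrix.tail_cons] at hg
  have hy := congrArg (fun t => y *ᵥ t) hg
  simp only [Matrix.mulVec_add, Matrix.mulVec_smul, h1, h2, h3, Matrix.mulVec_zero] at hy
  have e : ((β - α) * g 2) • u = 0 := by
    have : ((β - α) * g 2) • u = (g 0 • α • v + g 1 • α • v' + g 2 • β • u) -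
      α • (g 0 • v + g 1 • v' + g 2 • u) := by module
    rw [this, hy, hg, smul_zero, sub_zero]
  have hg2 : g 2 = 0 := by
    rcases smul_eq_zero.mp e with h | h
    · rcases mul_eq_zero.mp h with h' | h'
      · exact absurd (sub_eq_zero.mp h').symm hαβ
      · exact h'
    · exact absurd h hu
  rw [hg2, zero_smul, add_zero] at hg
  have hg1 : g 1 = 0 := by
    by_contra hne
    apply hind
    refine ⟨-(g 1)⁻¹ * g 0, ?_⟩
    have : v' = (g 1)⁻¹ • (g 0 • v + g 1 • v') + (-(g 1)⁻¹ * g 0) • v := by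
      have e2 : (g 1)⁻¹ • (g 0 • v + g 1 • v') + (-(g 1)⁻¹ * g 0) • v = ((g 1)⁻¹ * g 1) • v' := by module
      rw [e2, inv_mul_cancel₀ hne, one_smul]
    rw [hg, smul_zero, zero_add] at this
    exact this
  rw [hg1, zero_smul, add_zero] at hg
  have hg0 : g 0 = 0 := by
    rcases smul_eq_zero.mp hg with h | h
    · exact h
    · exact absurd h hv
  intro i
  fin_cases i
  · exact hg0
  · exact hg1
  · exact hg2

theorem det_of_eigen (y : Matrix (Fin 3) (Fin 3) F) (α β : F) (hαβ : α ≠ β) (v v' u : Fin 3 → F)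
    (hv : v ≠ 0) (hind : ¬ ∃ a : F, v' = a • v) (hu : u ≠ 0)
    (h1 : y *ᵥ v = α • v) (h2 : y *ᵥ v' = α • v') (h3 : y *ᵥ u = β • u) :
    y.det = α ^ 2 * β := by
  have hli := indep_three y α β hαβ v v' u hv hind hu h1 h2 h3
  have hunit := isUnit_cols _ hli
  have hmul := mul_cols y ![v, v', u] ![α, α, β] (by
    intro j
    fin_cases j
    · exact h1
    · exact h2
    · exact h3)
  have hd := congrArg Matrix.det hmul
  rw [Matrix.det_mul, Matrix.det_mul, Matrix.det_diagonal, Fin.prod_univ_three, mul_comm] at hd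
  have := mul_left_cancel₀ hunit.ne_zero hd
  rw [this]
  simp only [Matrix.cons_val_zero, Matrix.cons_val_one, Matrix.cons_val_two, Matrix.head_cons,
    Matrix.tail_cons]
  ring

variable {F : Type*} [Field F] {n : ℕ}

lemma eig_indep (y : Matrix (Fin n) (Fin n) F) (d : Fin n → F) (hd : Function.Injective d)
    (vs : Fin n → Fin n → F) (hvs0 : ∀ j, vs j ≠ 0) (hvs : ∀ j, y *ᵥ vs j = d j • vs j) :
    LinearIndependent F vs := by
  apply Module.End.eigenvectors_linearIndependent' (Matrix.mulVecLin y) d hd vs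
  intro j
  refine ⟨?_, hvs0 j⟩
  rw [Module.End.mem_eigenspace_iff, Matrix.mulVecLin_apply]
  exact hvs j

theorem conj_of_eigenbasis (y s : Matrix (Fin 3) (Fin 3) F) (d : Fin 3 → F)
    (hd : Function.Injective d)
    (vs us : Fin 3 → Fin 3 → F) (hvs0 : ∀ j, vs j ≠ 0) (hus0 : ∀ j, us j ≠ 0)
    (hvs : ∀ j, y *ᵥ vs j = d j • vs j) (hus : ∀ j, s *ᵥ us j = d j • us j) :
    ∃ P : Matrix.SpecialLinearGroup (Fin 3) F, P.1 * y = s * P.1 := by
  have hV := isUnit_cols vs (eig_indep y d hd vs hvs0 hvs)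
  have hU := isUnit_cols us (eig_indep s d hd us hus0 hus)
  have hyV := mul_cols y vs d hvs
  have hsU := mul_cols s us d hus
  set Vm : Matrix (Fin 3) (Fin 3) F := (Matrix.of vs)ᵀ with hVm
  set Um : Matrix (Fin 3) (Fin 3) F := (Matrix.of us)ᵀ with hUm
  set D : Matrix (Fin 3) (Fin 3) F := Matrix.diagonal d with hD
  set c : F := Vm.det / Um.det with hc
  set C : Matrix (Fin 3) (Fin 3) F := Matrix.diagonal ![c, 1, 1] with hC
  have hCD : C * D = D * C := by
    rw [hC, hD, Matrix.diagonal_mul_diagonal, Matrix.diagonal_mul_diagonal]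
    congr 1
    ext i
    rw [mul_comm]
  have hVy : Vm⁻¹ * y = D * Vm⁻¹ := by
    calc Vm⁻¹ * y = Vm⁻¹ * (y * Vm) * Vm⁻¹ := by
          rw [Matrix.mul_assoc, Matrix.mul_assoc, Matrix.mul_nonsing_inv _ hV, Matrix.mul_one]
      _ = D * Vm⁻¹ := by
          rw [hyV, ← Matrix.mul_assoc, Matrix.nonsing_inv_mul _ hV, Matrix.one_mul]
  have hdet : (Um * C * Vm⁻¹).det = 1 := by
    rw [Matrix.det_mul, Matrix.det_mul, Matrix.det_nonsing_inv, hC, Matrix.det_diagonal,
      Fin.prod_univ_three]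
    simp only [Matrix.cons_val_zero, Matrix.cons_val_one, Matrix.cons_val_two, Matrix.head_cons,
      Matrix.tail_cons]
    rw [hc, Ring.inverse_eq_inv']
    field_simp [hV.ne_zero, hU.ne_zero]
  refine ⟨⟨Um * C * Vm⁻¹, hdet⟩, ?_⟩
  show Um * C * Vm⁻¹ * y = s * (Um * C * Vm⁻¹)
  calc Um * C * Vm⁻¹ * y = Um * C * (Vm⁻¹ * y) := by rw [Matrix.mul_assoc]
    _ = Um * (C * D) * Vm⁻¹ := by rw [hVy]; simp only [Matrix.mul_assoc]
    _ = (Um * D) * C * Vm⁻¹ := by rw [hCD]; simp only [Matrix.mul_assoc]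
    _ = s * (Um * C * Vm⁻¹) := by rw [← hsU]; simp only [Matrix.mul_assoc]

variable {F : Type*} [Field F]

lemma det_of_cube_irred (x : Matrix (Fin 3) (Fin 3) F) (z : F)
    (hxz : x ^ 3 = z • (1 : Matrix (Fin 3) (Fin 3) F)) (hno : ∀ a : F, a ^ 3 ≠ z) :
    x.det = z := by
  have hmon : (X ^ 3 - C z : F[X]).Monic := monic_X_pow_sub_C z (by norm_num)
  have hdeg : (X ^ 3 - C z : F[X]).natDegree = 3 := natDegree_X_pow_sub_C
  have hirr : Irreducible (X ^ 3 - C z : F[X]) := by
    apply Polynomial.irreducible_of_degree_le_three_of_not_isRoot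
    · rw [hdeg]; decide
    · intro a ha
      rw [IsRoot.def, eval_sub, eval_pow, eval_X, eval_C, sub_eq_zero] at ha
      exact hno a ha
  have hroot : Polynomial.aeval x (X ^ 3 - C z : F[X]) = 0 := by
    rw [map_sub, map_pow, aeval_X, aeval_C, hxz, Algebra.algebraMap_eq_smul_one, sub_self]
  have hdvd : minpoly F x ∣ X ^ 3 - C z := minpoly.dvd F x hroot
  have hint : IsIntegral F x := Algebra.IsIntegral.isIntegral x
  have hmin : minpoly F x = X ^ 3 - C z := by
    have hassoc : Associated (minpoly F x) (X ^ 3 - C z) :=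
      (hirr.dvd_iff.mp hdvd).resolve_left (minpoly.not_isUnit F x) |>.symm
    exact eq_of_monic_of_associated (minpoly.monic hint) hmon hassoc
  have hchar : x.charpoly = X ^ 3 - C z := by
    have h1 : X ^ 3 - C z ∣ x.charpoly := by rw [← hmin]; exact Matrix.minpoly_dvd_charpoly x
    have h2 := Polynomial.eq_of_monic_of_dvd_of_natDegree_le hmon (Matrix.charpoly_monic x) h1
      (by rw [hdeg, Matrix.charpoly_natDegree_eq_dim, Fintype.card_fin])
    exact h2
  rw [Matrix.det_eq_sign_charpoly_coeff, hchar, Fintype.card_fin]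
  simp
  ring

lemma z_eq_one [Fintype F] (h9 : ¬ 9 ∣ Fintype.card F - 1)
    (x : Matrix.SpecialLinearGroup (Fin 3) F) (z : F)
    (hxz : (x : Matrix (Fin 3) (Fin 3) F) ^ 3 = z • (1 : Matrix (Fin 3) (Fin 3) F)) : z = 1 := by
  classical
  have hz3 : z ^ 3 = 1 := by
    have := congrArg Matrix.det hxz
    rw [Matrix.det_pow, x.2, one_pow, Matrix.det_smul, Matrix.det_one, mul_one, Fintype.card_fin] at this
    exact this.symm
  by_contra hz1
  by_cases h : ∃ a : F, a ^ 3 = z
  · obtain ⟨a, ha⟩ := h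
    have ha9 : a ^ 9 = 1 := by
      have : a ^ 9 = (a ^ 3) ^ 3 := by ring
      rw [this, ha, hz3]
    have ha0 : a ≠ 0 := by
      intro h0; rw [h0] at ha9; simp at ha9
    let u : Fˣ := Units.mk0 a ha0
    have hu9 : u ^ 9 = 1 := Units.ext (by simpa [u] using ha9)
    have hu3 : u ^ 3 ≠ 1 := by
      intro h3
      apply hz1
      have := congrArg Units.val h3
      rw [← ha]
      simpa [u] using this
    have hord : orderOf u = 9 := by
      have hd : orderOf u ∣ 3 ^ 2 := orderOf_dvd_of_pow_eq_one hu9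
      obtain ⟨k, hk, hk'⟩ := (Nat.dvd_prime_pow Nat.prime_three).mp hd
      interval_cases k
      · exfalso; apply hu3
        rw [pow_zero, orderOf_eq_one_iff] at hk'
        rw [hk', one_pow]
      · exfalso; apply hu3
        rw [pow_one] at hk'
        rw [← hk']; exact pow_orderOf_eq_one u
      · rw [hk']; norm_num
    apply h9
    have := orderOf_dvd_card (x := u)
    rwa [hord, Fintype.card_units] at this
  · have hdet := det_of_cube_irred x.1 z hxz (fun a ha => h ⟨a, ha⟩)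
    rw [x.2] at hdet
    exact hz1 hdet.symm

variable {F : Type*} [Field F]

lemma hdim_of_cube_one (w : F) (hw : w ^ 2 + w + 1 = 0) (h3 : (3 : F) ≠ 0)
    (x : Matrix.SpecialLinearGroup (Fin 3) F)
    (hx3 : (x : Matrix (Fin 3) (Fin 3) F) ^ 3 = 1)
    (hns : ∀ c : F, (x : Matrix (Fin 3) (Fin 3) F) ≠ c • (1 : Matrix (Fin 3) (Fin 3) F))
    (lam : F) (v v' : Fin 3 → F) (hv : v ≠ 0)
    (h1 : (x : Matrix (Fin 3) (Fin 3) F) *ᵥ v = lam • v)
    (h2 : (x : Matrix (Fin 3) (Fin 3) F) *ᵥ v' = lam • v') :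
    ∃ a : F, v' = a • v := by
  by_contra hind
  have hlam3 : lam ^ 3 = 1 := by
    have e : ((x : Matrix (Fin 3) (Fin 3) F) ^ 3) *ᵥ v = lam ^ 3 • v := by
      rw [pow_succ, pow_succ, pow_one, ← Matrix.mulVec_mulVec, ← Matrix.mulVec_mulVec, h1,
        Matrix.mulVec_smul, h1, Matrix.mulVec_smul, Matrix.mulVec_smul, h1, smul_smul, smul_smul]
      congr 1
      ring
    rw [hx3, Matrix.one_mulVec] at e
    have e2 : (lam ^ 3 - 1) • v = 0 := by
      rw [sub_smul, one_smul, ← e, sub_self]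
    rcases smul_eq_zero.mp e2 with h | h
    · exact sub_eq_zero.mp h
    · exact absurd h hv
  have hlam0 : lam ≠ 0 := by
    intro h0; rw [h0] at hlam3; simp at hlam3
  have hex : ∃ (β : F) (u : Fin 3 → F), β ≠ lam ∧ u ≠ 0 ∧
      (x : Matrix (Fin 3) (Fin 3) F) *ᵥ u = β • u := by
    by_contra hno
    have key : ∀ (β : F) (u : Fin 3 → F), (x : Matrix (Fin 3) (Fin 3) F) *ᵥ u = β • u →
        (x : Matrix (Fin 3) (Fin 3) F) *ᵥ u = lam • u := by
      intro β u hu
      by_cases hβ : β = lam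
      · rw [hu, hβ]
      · by_cases hu0 : u = 0
        · rw [hu0, Matrix.mulVec_zero, smul_zero]
        · exact absurd ⟨β, u, hβ, hu0, hu⟩ hno
    apply hns lam
    apply mat_ext_mulVec
    intro t
    obtain ⟨p0, p1, p2, h0, h1', h2', rfl⟩ := eig_decomp (x : Matrix (Fin 3) (Fin 3) F) w hw h3 hx3 t
    have k0 := key 1 p0 (by rw [h0, one_smul])
    have k1 := key w p1 h1'
    have k2 := key (w ^ 2) p2 h2'
    rw [Matrix.mulVec_add, Matrix.mulVec_add, k0, k1, k2, Matrix.smul_mulVec, Matrix.one_mulVec,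
      smul_add, smul_add]
  obtain ⟨β, u, hβ, hu0, hu⟩ := hex
  have hdet := det_of_eigen (x : Matrix (Fin 3) (Fin 3) F) lam β (Ne.symm hβ) v v' u hv hind hu0 h1 h2 hu
  rw [x.2] at hdet
  apply hβ
  have : lam ^ 2 * β = lam ^ 2 * lam := by
    rw [← hdet, ← hlam3]; ring
  exact mul_left_cancel₀ (pow_ne_zero 2 hlam0) this

theorem all_conj_three [Fintype F] {K : Subalgebra F (Matrix (Fin 3) (Fin 3) F)}
    (hK : Cfsg.Geo.IsFieldSubalgebra 3 K) (w : F) (hw : w ^ 2 + w + 1 = 0) (h3 : (3 : F) ≠ 0)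
    (h9 : ¬ 9 ∣ Fintype.card F - 1)
    (x : Matrix.SpecialLinearGroup (Fin 3) F) (z : F)
    (hxz : (x : Matrix (Fin 3) (Fin 3) F) ^ 3 = z • (1 : Matrix (Fin 3) (Fin 3) F))
    (hns : ∀ c : F, (x : Matrix (Fin 3) (Fin 3) F) ≠ c • (1 : Matrix (Fin 3) (Fin 3) F)) :
    ∃ P : Matrix.SpecialLinearGroup (Fin 3) F, P⁻¹ * x * P ∈
      ((Cfsg.Geo.subalgebraNormalizer K).comap
        (Matrix.SpecialLinearGroup.toGL : Matrix.SpecialLinearGroup (Fin 3) F →* GL (Fin 3) F)) := by
  have hz := z_eq_one h9 x z hxz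
  rw [hz, one_smul] at hxz
  obtain ⟨s, hsN, hsn, hsns⟩ := exists_frob_matrix_strong hK (by norm_num : 2 ≤ 3)
  have hsn' : (s : Matrix (Fin 3) (Fin 3) F) ^ 3 = 1 := by
    have := congrArg Units.val hsn
    rwa [Units.val_pow_eq_pow_val, Units.val_one] at this
  obtain ⟨hw3, hw1, hw21, hw2w, hw0⟩ := omega_facts w hw h3
  obtain ⟨v0, v1, v2, hv0, hv1, hv2, e0, e1, e2⟩ :=
    three_eigvecs (x : Matrix (Fin 3) (Fin 3) F) w hw h3 hxz
      (fun lam v v' hv a b => hdim_of_cube_one w hw h3 x hxz hns lam v v' hv a b)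
  obtain ⟨u0, u1, u2, hu0, hu1, hu2, f0, f1, f2⟩ :=
    three_eigvecs (s : Matrix (Fin 3) (Fin 3) F) w hw h3 hsn'
      (fun lam v v' hv a b =>
        (eigen_le_one hK Nat.prime_three s hsN lam v v' hv a b).resolve_left (hsns lam))
  have hd : Function.Injective (![1, w, w ^ 2] : Fin 3 → F) := by
    intro i j hij
    fin_cases i <;> fin_cases j <;>
      simp only [Matrix.cons_val_zero, Matrix.cons_val_one, Matrix.cons_val_two, Matrix.head_cons,
        Matrix.tail_cons, Fin.zero_eta, Fin.mk_one, Fin.reduceFinMk] at hij <;>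
      first
        | rfl
        | exact absurd hij hw1
        | exact absurd hij.symm hw1
        | exact absurd hij hw21
        | exact absurd hij.symm hw21
        | exact absurd hij hw2w
        | exact absurd hij.symm hw2w
  obtain ⟨P, hP⟩ := conj_of_eigenbasis (x : Matrix (Fin 3) (Fin 3) F) (s : Matrix (Fin 3) (Fin 3) F)
    ![1, w, w ^ 2] hd ![v0, v1, v2] ![u0, u1, u2]
    (by intro j; fin_cases j <;> assumption) (by intro j; fin_cases j <;> assumption)
    (by intro j; fin_cases j <;> assumption) (by intro j; fin_cases j <;> assumption)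
  refine ⟨P⁻¹, ?_⟩
  rw [Subgroup.mem_comap]
  have : Matrix.SpecialLinearGroup.toGL (P⁻¹⁻¹ * x * P⁻¹) = s := by
    apply Units.ext
    rw [Matrix.SpecialLinearGroup.coe_GL_coe_matrix, inv_inv]
    have hPP : P.1 * (P⁻¹ : Matrix.SpecialLinearGroup (Fin 3) F).1 = 1 := by
      rw [← Matrix.SpecialLinearGroup.coe_mul, mul_inv_cancel]; rfl
    calc ((P * x * P⁻¹ : Matrix.SpecialLinearGroup (Fin 3) F) : Matrix (Fin 3) (Fin 3) F)
        = (P.1 * x.1) * (P⁻¹ : Matrix.SpecialLinearGroup (Fin 3) F).1 := by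
          simp [Matrix.SpecialLinearGroup.coe_mul]
      _ = (s : Matrix (Fin 3) (Fin 3) F) := by
          rw [hP, Matrix.mul_assoc, hPP, Matrix.mul_one]
  rw [this]
  exact hsN

end Cfsg.Agent.Lib.helper15.SN
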