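import Mathlib
import Cfsg.Agent.Lib.helper15.SN8

set_option autoImplicit false

namespace Cfsg.Agent.Lib.helper15.ES

open Matrix Cfsg.Agent.Lib.helper15.SN

variable {F : Type*} [Field F]

lemma common_eig (X : Matrix (Fin 3) (Fin 3) F) (w : F) (hw : w ^ 2 + w + 1 = 0) (h3 : (3 : F) ≠ 0)
    (hX : X ^ 3 = 1) (q : Fin 3 → F) (hq : q ≠ 0) :
    ∃ (α a b : F), α ^ 3 = 1 ∧ (q + a • X *ᵥ q + b • X *ᵥ (X *ᵥ q)) ≠ 0 ∧
      X *ᵥ (q + a • X *ᵥ q + b • X *ᵥ (X *ᵥ q)) = α • (q + a • X *ᵥ q + b • X *ᵥ (X *ᵥ q)) := by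
  obtain ⟨hw3, -, -, -, hw0⟩ := omega_facts w hw h3
  have hX3 : X *ᵥ (X *ᵥ (X *ᵥ q)) = q := by
    rw [Matrix.mulVec_mulVec, Matrix.mulVec_mulVec, ← pow_two, ← pow_succ, hX, Matrix.one_mulVec]
  set b1 := X *ᵥ q with hb1
  set b2 := X *ᵥ (X *ᵥ q) with hb2
  have e0 : X *ᵥ (q + (1 : F) • b1 + (1 : F) • b2) = (1 : F) • (q + (1 : F) • b1 + (1 : F) • b2) := by
    rw [Matrix.mulVec_add, Matrix.mulVec_add, Matrix.mulVec_smul, Matrix.mulVec_smul, hX3]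
    module
  have e1 : X *ᵥ (q + (w ^ 2) • b1 + w • b2) = w • (q + (w ^ 2) • b1 + w • b2) := by
    rw [Matrix.mulVec_add, Matrix.mulVec_add, Matrix.mulVec_smul, Matrix.mulVec_smul, hX3]
    have e : (b1 + w ^ 2 • b2 + w • q) - w • (q + w ^ 2 • b1 + w • b2) = (1 - w ^ 3) • b1 := by
      module
    rw [hw3, sub_self, zero_smul, sub_eq_zero] at e
    exact e
  have e2 : X *ᵥ (q + w • b1 + (w ^ 2) • b2) = (w ^ 2) • (q + w • b1 + (w ^ 2) • b2) := by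
    rw [Matrix.mulVec_add, Matrix.mulVec_add, Matrix.mulVec_smul, Matrix.mulVec_smul, hX3]
    have e : (b1 + w • b2 + w ^ 2 • q) - w ^ 2 • (q + w • b1 + w ^ 2 • b2) =
        (1 - w ^ 3) • b1 + (w * (1 - w ^ 3)) • b2 := by module
    rw [hw3, sub_self, mul_zero, zero_smul, zero_smul, add_zero, sub_eq_zero] at e
    exact e
  by_cases h0 : q + (1 : F) • b1 + (1 : F) • b2 = 0
  · by_cases h1 : q + (w ^ 2) • b1 + w • b2 = 0
    · refine ⟨w ^ 2, w, w ^ 2, by rw [← pow_mul]; calc w ^ (2 * 3) = (w ^ 3) ^ 2 := by ring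
        _ = 1 := by rw [hw3, one_pow], ?_, e2⟩
      intro h2
      apply hq
      have e : (q + (1 : F) • b1 + (1 : F) • b2) + (q + (w ^ 2) • b1 + w • b2) +
          (q + w • b1 + (w ^ 2) • b2) = (3 : F) • q + (w ^ 2 + w + 1) • b1 + (w ^ 2 + w + 1) • b2 := by
        module
      rw [h0, h1, h2, hw, zero_smul, zero_smul, add_zero, add_zero, add_zero, add_zero] at e
      exact (smul_eq_zero.mp e.symm).resolve_left h3
    · exact ⟨w, w ^ 2, w, hw3, h1, e1⟩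
  · exact ⟨1, 1, 1, one_pow 3, h0, e0⟩

variable {F : Type*} [Field F]

theorem standard_form (X Y Z : Matrix (Fin 3) (Fin 3) F) (w : F) (hw : w ^ 2 + w + 1 = 0)
    (h3 : (3 : F) ≠ 0) (hX : X ^ 3 = 1) (hY : Y ^ 3 = 1) (hZ : Z ^ 3 = 1) (hZ1 : Z ≠ 1)
    (hZX : Z * X = X * Z) (hZY : Z * Y = Y * Z) (hXY : X * Y = Z * Y * X) :
    ∃ (ζ α : F) (v : Fin 3 → F), ζ ^ 2 + ζ + 1 = 0 ∧ α ^ 3 = 1 ∧ Z = ζ • (1 : Matrix (Fin 3) (Fin 3) F) ∧
      LinearIndependent F ![v, Y *ᵥ v, Y *ᵥ (Y *ᵥ v)] ∧ X *ᵥ v = α • v ∧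
      X *ᵥ (Y *ᵥ v) = (α * ζ) • (Y *ᵥ v) ∧ X *ᵥ (Y *ᵥ (Y *ᵥ v)) = (α * ζ ^ 2) • (Y *ᵥ (Y *ᵥ v)) := by
  obtain ⟨hw3, hw1, hw21, hw2w, hw0⟩ := omega_facts w hw h3
  have hex : ∃ (ζ : F) (q : Fin 3 → F), ζ ^ 2 + ζ + 1 = 0 ∧ q ≠ 0 ∧ Z *ᵥ q = ζ • q := by
    by_contra hno
    apply hZ1
    apply mat_ext_mulVec
    intro t
    obtain ⟨p0, p1, p2, h0, h1, h2, rfl⟩ := eig_decomp Z w hw h3 hZ t
    have k1 : p1 = 0 := by
      by_contra hne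
      exact hno ⟨w, p1, hw, hne, h1⟩
    have k2 : p2 = 0 := by
      by_contra hne
      refine hno ⟨w ^ 2, p2, ?_, hne, h2⟩
      have : (w ^ 2) ^ 2 = w := by
        calc (w ^ 2) ^ 2 = w ^ 3 * w := by ring
          _ = w := by rw [hw3, one_mul]
      rw [this]
      linear_combination hw
    rw [k1, k2, add_zero, add_zero, h0, Matrix.one_mulVec]
  obtain ⟨ζ, q, hζ, hq0, hZq⟩ := hex
  obtain ⟨hζ3, hζ1, hζ21, hζ2ζ, hζ0⟩ := omega_facts ζ hζ h3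
  obtain ⟨α, a, b, hα3, hv0, hXv⟩ := common_eig X w hw h3 hX q hq0
  set v := q + a • X *ᵥ q + b • X *ᵥ (X *ᵥ q) with hv
  have hα0 : α ≠ 0 := by
    intro h0; rw [h0] at hα3; simp at hα3
  have hZXv : ∀ u : Fin 3 → F, Z *ᵥ (X *ᵥ u) = X *ᵥ (Z *ᵥ u) := by
    intro u
    rw [Matrix.mulVec_mulVec, Matrix.mulVec_mulVec, hZX]
  have hZYv : ∀ u : Fin 3 → F, Z *ᵥ (Y *ᵥ u) = Y *ᵥ (Z *ᵥ u) := by
    intro u
    rw [Matrix.mulVec_mulVec, Matrix.mulVec_mulVec, hZY]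
  have hXYv : ∀ u : Fin 3 → F, X *ᵥ (Y *ᵥ u) = Z *ᵥ (Y *ᵥ (X *ᵥ u)) := by
    intro u
    rw [Matrix.mulVec_mulVec, Matrix.mulVec_mulVec, Matrix.mulVec_mulVec, hXY]
  have hZv : Z *ᵥ v = ζ • v := by
    rw [hv, Matrix.mulVec_add, Matrix.mulVec_add, Matrix.mulVec_smul, Matrix.mulVec_smul, hZXv, hZXv,
      hZXv, hZq]
    simp only [Matrix.mulVec_smul]
    module
  have hZ1v : Z *ᵥ (Y *ᵥ v) = ζ • (Y *ᵥ v) := by
    rw [hZYv, hZv, Matrix.mulVec_smul]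
  have hZ2v : Z *ᵥ (Y *ᵥ (Y *ᵥ v)) = ζ • (Y *ᵥ (Y *ᵥ v)) := by
    rw [hZYv, hZ1v, Matrix.mulVec_smul]
  have hX1 : X *ᵥ (Y *ᵥ v) = (α * ζ) • (Y *ᵥ v) := by
    rw [hXYv, hXv, Matrix.mulVec_smul, Matrix.mulVec_smul, hZ1v, smul_smul]
  have hX2 : X *ᵥ (Y *ᵥ (Y *ᵥ v)) = (α * ζ ^ 2) • (Y *ᵥ (Y *ᵥ v)) := by
    rw [hXYv, hX1, Matrix.mulVec_smul, Matrix.mulVec_smul, hZ2v, smul_smul]
    congr 1
    ring
  have hY3 : ∀ u : Fin 3 → F, Y *ᵥ (Y *ᵥ (Y *ᵥ u)) = u := by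
    intro u
    rw [Matrix.mulVec_mulVec, Matrix.mulVec_mulVec, ← pow_two, ← pow_succ, hY, Matrix.one_mulVec]
  have hYv0 : Y *ᵥ v ≠ 0 := by
    intro h0
    apply hv0
    rw [← hY3 v, h0, Matrix.mulVec_zero, Matrix.mulVec_zero]
  have hYYv0 : Y *ᵥ (Y *ᵥ v) ≠ 0 := by
    intro h0
    apply hv0
    rw [← hY3 v, h0, Matrix.mulVec_zero]
  have hd : Function.Injective (![α, α * ζ, α * ζ ^ 2] : Fin 3 → F) := by
    intro i j hij
    fin_cases i <;> fin_cases j <;>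
      simp only [Matrix.cons_val_zero, Matrix.cons_val_one, Matrix.cons_val_two, Matrix.head_cons,
        Matrix.tail_cons, Fin.zero_eta, Fin.mk_one, Fin.reduceFinMk] at hij <;>
      first
        | rfl
        | (exfalso
           have h1 : α * 1 = α * ζ := by rw [mul_one]; exact hij
           exact hζ1 (mul_left_cancel₀ hα0 h1).symm)
        | (exfalso
           have h1 : α * ζ = α * 1 := by rw [mul_one]; exact hij
           exact hζ1 (mul_left_cancel₀ hα0 h1))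
        | (exfalso
           have h1 : α * 1 = α * ζ ^ 2 := by rw [mul_one]; exact hij
           exact hζ21 (mul_left_cancel₀ hα0 h1).symm)
        | (exfalso
           have h1 : α * ζ ^ 2 = α * 1 := by rw [mul_one]; exact hij
           exact hζ21 (mul_left_cancel₀ hα0 h1))
        | (exfalso
           exact hζ2ζ (mul_left_cancel₀ hα0 hij))
        | (exfalso
           exact hζ2ζ (mul_left_cancel₀ hα0 hij).symm)
  have hli : LinearIndependent F ![v, Y *ᵥ v, Y *ᵥ (Y *ᵥ v)] := by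
    apply eig_indep X ![α, α * ζ, α * ζ ^ 2] hd
    · intro j; fin_cases j
      · exact hv0
      · exact hYv0
      · exact hYYv0
    · intro j; fin_cases j
      · exact hXv
      · exact hX1
      · exact hX2
  refine ⟨ζ, α, v, hζ, hα3, ?_, hli, hXv, hX1, hX2⟩
  have hunit := isUnit_cols _ hli
  have hmul := mul_cols Z ![v, Y *ᵥ v, Y *ᵥ (Y *ᵥ v)] (fun _ => ζ) (by
    intro j; fin_cases j
    · exact hZv
    · exact hZ1v
    · exact hZ2v)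
  set Vm : Matrix (Fin 3) (Fin 3) F := (Matrix.of ![v, Y *ᵥ v, Y *ᵥ (Y *ᵥ v)])ᵀ with hVm
  have hdiag : Matrix.diagonal (fun _ : Fin 3 => ζ) = ζ • (1 : Matrix (Fin 3) (Fin 3) F) := by
    rw [← Matrix.diagonal_one, ← Matrix.diagonal_smul]
    congr 1
    ext i
    simp
  rw [hdiag, Matrix.mul_smul, Matrix.mul_one] at hmul
  calc Z = Z * Vm * Vm⁻¹ := by rw [Matrix.mul_assoc, Matrix.mul_nonsing_inv _ hunit, Matrix.mul_one]
    _ = ζ • (1 : Matrix (Fin 3) (Fin 3) F) := by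
      rw [hmul, Matrix.smul_mul, Matrix.mul_nonsing_inv _ hunit]

end Cfsg.Agent.Lib.helper15.ES
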