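import Mathlib
import Cfsg.Agent.Lib.helper15.SN8
import Cfsg.Agent.Lib.helper15.ES1

set_option autoImplicit false

namespace Cfsg.Agent.Lib.helper15.ES

open Matrix Cfsg.Agent.Lib.helper15.SN

variable {F : Type*} [Field F]

def X0 (ω : F) : Matrix (Fin 3) (Fin 3) F := !![1, 0, 0; 0, ω, 0; 0, 0, ω ^ 2]

def Y0 : Matrix (Fin 3) (Fin 3) F := !![0, 0, 1; 1, 0, 0; 0, 1, 0]

def D0 (ω : F) : Matrix (Fin 3) (Fin 3) F := !![1, 0, 0; 0, 1, 0; 0, 0, ω]

def J0 : Matrix (Fin 3) (Fin 3) F := !![-1, 0, 0; 0, 0, -1; 0, -1, 0]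

lemma X0_Y0 (ω : F) (hω : ω ^ 3 = 1) : X0 ω * Y0 = ω • (Y0 * X0 ω) := by
  ext i j
  fin_cases i <;> fin_cases j <;>
    simp [X0, Y0, Matrix.mul_apply, Fin.sum_univ_three] <;>
    first | ring1 | linear_combination (-1 : F) * hω | linear_combination hω

lemma D0_X0 (ω : F) : D0 ω * X0 ω = X0 ω * D0 ω := by
  ext i j
  fin_cases i <;> fin_cases j <;>
    simp [X0, D0, Matrix.mul_apply, Fin.sum_univ_three] <;> ring1

lemma D0_Y0 (ω : F) (hω : ω ^ 3 = 1) : D0 ω * Y0 = (ω ^ 2) • (X0 ω * Y0 * D0 ω) := by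
  ext i j
  fin_cases i <;> fin_cases j <;>
    simp [X0, Y0, D0, Matrix.mul_apply, Fin.sum_univ_three] <;>
    first | ring1 | linear_combination (-1 : F) * hω | linear_combination hω |
      linear_combination (-ω : F) * hω | linear_combination (ω : F) * hω |
      linear_combination (-ω ^ 2 : F) * hω | linear_combination (ω ^ 2 : F) * hω

lemma J0_X0 (ω : F) (hω : ω ^ 3 = 1) : J0 * X0 ω = X0 ω * X0 ω * J0 := by
  ext i j
  fin_cases i <;> fin_cases j <;>
    simp [X0, J0, Matrix.mul_apply, Fin.sum_univ_three] <;>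
    first | ring1 | linear_combination (-1 : F) * hω | linear_combination hω |
      linear_combination (-ω : F) * hω | linear_combination (ω : F) * hω |
      linear_combination (-ω ^ 2 : F) * hω | linear_combination (ω ^ 2 : F) * hω

lemma J0_Y0 : (J0 : Matrix (Fin 3) (Fin 3) F) * Y0 = Y0 * Y0 * J0 := by
  ext i j
  fin_cases i <;> fin_cases j <;>
    simp [Y0, J0, Matrix.mul_apply, Fin.sum_univ_three]

lemma J0_J0 : (J0 : Matrix (Fin 3) (Fin 3) F) * J0 = 1 := by
  ext i j
  fin_cases i <;> fin_cases j <;>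
    simp [J0, Matrix.mul_apply, Fin.sum_univ_three]

lemma Y0_pow : (Y0 : Matrix (Fin 3) (Fin 3) F) ^ 3 = 1 := by
  rw [pow_succ, pow_two]
  ext i j
  fin_cases i <;> fin_cases j <;>
    simp [Y0, Matrix.mul_apply, Fin.sum_univ_three]

lemma X0_pow (ω : F) (hω : ω ^ 3 = 1) : X0 ω ^ 3 = 1 := by
  rw [pow_succ, pow_two]
  ext i j
  fin_cases i <;> fin_cases j <;>
    simp [X0, Matrix.mul_apply, Fin.sum_univ_three] <;>
    first | ring1 | linear_combination hω | linear_combination (ω ^ 3 + 1) * hω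

lemma det_X0 (ω : F) (hω : ω ^ 3 = 1) : (X0 ω).det = 1 := by
  rw [Matrix.det_fin_three]
  simp [X0]
  linear_combination hω

lemma det_D0 (ω : F) : (D0 ω).det = ω := by
  rw [Matrix.det_fin_three]
  simp [D0]

lemma det_Y0 : (Y0 : Matrix (Fin 3) (Fin 3) F).det = 1 := by
  rw [Matrix.det_fin_three]
  simp [Y0]

lemma det_J0 : (J0 : Matrix (Fin 3) (Fin 3) F).det = 1 := by
  rw [Matrix.det_fin_three]
  simp [J0]

variable {F : Type*} [Field F]

lemma central_of_commute (M : Matrix (Fin 3) (Fin 3) F) (ω : F) (h1 : ω ≠ 1) (h2 : ω ^ 2 ≠ 1)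
    (h3 : ω ^ 2 ≠ ω) (hX : M * X0 ω = X0 ω * M) (hY : M * Y0 = Y0 * M) :
    M = (M 0 0) • (1 : Matrix (Fin 3) (Fin 3) F) := by
  have e01 := congrFun (congrFun hX 0) 1
  have e02 := congrFun (congrFun hX 0) 2
  have e10 := congrFun (congrFun hX 1) 0
  have e12 := congrFun (congrFun hX 1) 2
  have e20 := congrFun (congrFun hX 2) 0
  have e21 := congrFun (congrFun hX 2) 1
  have f00 := congrFun (congrFun hY 1) 0
  have f11 := congrFun (congrFun hY 2) 1
  simp [X0, Matrix.mul_apply, Fin.sum_univ_three] at e01 e02 e10 e12 e20 e21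
  simp [Y0, Matrix.mul_apply, Fin.sum_univ_three] at f00 f11
  have key : ∀ (m c : F), c ≠ 1 → m * c = m → m = 0 := by
    intro m c hc hm
    have : m * (c - 1) = 0 := by linear_combination hm
    rcases mul_eq_zero.mp this with h | h
    · exact h
    · exact absurd (sub_eq_zero.mp h) hc
  have z01 : M 0 1 = 0 := key _ ω h1 e01
  have z02 : M 0 2 = 0 := key _ (ω ^ 2) h2 e02
  have z10 : M 1 0 = 0 := key _ ω h1 (by linear_combination -e10)
  have z12 : M 1 2 = 0 := by
    have : M 1 2 * (ω ^ 2 - ω) = 0 := by linear_combination e12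
    rcases mul_eq_zero.mp this with h | h
    · exact h
    · exact absurd (sub_eq_zero.mp h) h3
  have z20 : M 2 0 = 0 := key _ (ω ^ 2) h2 (by linear_combination -e20)
  have z21 : M 2 1 = 0 := by
    have : M 2 1 * (ω ^ 2 - ω) = 0 := by linear_combination -e21
    rcases mul_eq_zero.mp this with h | h
    · exact h
    · exact absurd (sub_eq_zero.mp h) h3
  ext i j
  fin_cases i <;> fin_cases j <;> simp [z01, z02, z10, z12, z20, z21, f00, f11]

end Cfsg.Agent.Lib.helper15.ES
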