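import Mathlib
import Cfsg.Agent.Lib.helper15.ES3

set_option autoImplicit false

namespace Cfsg.Agent.Lib.helper15.ES

open Matrix Cfsg.Agent.Lib.helper15.SN

variable {F : Type*} [Field F]

structure IsStd (ω : F) (R : Subgroup (GL (Fin 3) F)) (gx gy : GL (Fin 3) F) : Prop where
  hω : ω ^ 2 + ω + 1 = 0
  h3 : (3 : F) ≠ 0
  card : Nat.card R = 27
  gx_mem : gx ∈ R
  gy_mem : gy ∈ R
  gx_val : (gx : Matrix (Fin 3) (Fin 3) F) = X0 ω
  gy_val : (gy : Matrix (Fin 3) (Fin 3) F) = Y0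

namespace IsStd

variable {ω : F} {R : Subgroup (GL (Fin 3) F)} {gx gy : GL (Fin 3) F}

lemma ω_pow (h : IsStd ω R gx gy) : ω ^ 3 = 1 := (omega_facts ω h.hω h.h3).1

lemma ne_comm (h : IsStd ω R gx gy) : gx * gy ≠ gy * gx := by
  intro he
  have h1 := congrArg Units.val he
  rw [Units.val_mul, Units.val_mul, h.gx_val, h.gy_val, X0_Y0 ω h.ω_pow] at h1
  have h2 := congrFun (congrFun h1 1) 0
  simp [X0, Y0, Matrix.mul_apply, Fin.sum_univ_three] at h2
  exact (omega_facts ω h.hω h.h3).2.1 h2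

lemma closure_eq (h : IsStd ω R gx gy) : Subgroup.closure {gx, gy} = R :=
  closure_eq_of_noncomm R h.card gx gy h.gx_mem h.gy_mem h.ne_comm

lemma finite (h : IsStd ω R gx gy) : Finite R :=
  Nat.finite_of_card_ne_zero (by rw [h.card]; norm_num)

lemma scalar_mem (h : IsStd ω R gx gy) (gz : GL (Fin 3) F)
    (hz : (gz : Matrix (Fin 3) (Fin 3) F) = ω • (1 : Matrix (Fin 3) (Fin 3) F)) : gz ∈ R := by
  have e : gz = gx * gy * gx⁻¹ * gy⁻¹ := by
    rw [eq_mul_inv_iff_mul_eq, eq_mul_inv_iff_mul_eq]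
    apply Units.ext
    rw [Units.val_mul, Units.val_mul, Units.val_mul, hz, h.gx_val, h.gy_val, X0_Y0 ω h.ω_pow,
      Matrix.smul_mul, Matrix.one_mul, Matrix.smul_mul]
  rw [e]
  exact R.mul_mem (R.mul_mem (R.mul_mem h.gx_mem h.gy_mem) (R.inv_mem h.gx_mem)) (R.inv_mem h.gy_mem)

lemma mem_normalizer (h : IsStd ω R gx gy) (n a b : GL (Fin 3) F) (ha : a ∈ R) (hb : b ∈ R)
    (h1 : n * gx = a * n) (h2 : n * gy = b * n) : n ∈ Subgroup.normalizer (R : Set (GL (Fin 3) F)) := by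
  have := h.finite
  apply mem_normalizer_of_gens R gx gy h.closure_eq n
  · rw [h1, mul_inv_cancel_right]; exact ha
  · rw [h2, mul_inv_cancel_right]; exact hb

lemma scalar_mem_normalizer (S : Subgroup (GL (Fin 3) F)) (n : GL (Fin 3) F) (c : F)
    (hn : (n : Matrix (Fin 3) (Fin 3) F) = c • (1 : Matrix (Fin 3) (Fin 3) F)) :
    n ∈ Subgroup.normalizer (S : Set (GL (Fin 3) F)) := by
  rw [Subgroup.mem_normalizer_iff]
  intro g
  have : n * g * n⁻¹ = g := by
    rw [mul_inv_eq_iff_eq_mul]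
    apply Units.ext
    rw [Units.val_mul, Units.val_mul, hn, Matrix.smul_mul, Matrix.mul_smul, Matrix.one_mul,
      Matrix.mul_one]
  rw [this]

lemma smul_mem_normalizer (S : Subgroup (GL (Fin 3) F)) (n n' : GL (Fin 3) F) (c : F) (hc : c ≠ 0)
    (hn : n ∈ Subgroup.normalizer (S : Set (GL (Fin 3) F)))
    (hn' : (n' : Matrix (Fin 3) (Fin 3) F) = c • (n : Matrix (Fin 3) (Fin 3) F)) :
    n' ∈ Subgroup.normalizer (S : Set (GL (Fin 3) F)) := by
  have hdet : (c • (1 : Matrix (Fin 3) (Fin 3) F)).det ≠ 0 := by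
    rw [Matrix.det_smul, Matrix.det_one, mul_one]
    exact pow_ne_zero _ hc
  have e : n' = Matrix.GeneralLinearGroup.mkOfDetNeZero _ hdet * n := by
    apply Units.ext
    rw [Units.val_mul, Matrix.GeneralLinearGroup.val_mkOfDetNeZero, hn', Matrix.smul_mul,
      Matrix.one_mul]
  rw [e]
  exact Subgroup.mul_mem _ (scalar_mem_normalizer S _ c (Matrix.GeneralLinearGroup.val_mkOfDetNeZero _ _)) hn

lemma D0_mem (h : IsStd ω R gx gy) (n : GL (Fin 3) F)
    (hn : (n : Matrix (Fin 3) (Fin 3) F) = D0 ω) : n ∈ Subgroup.normalizer (R : Set (GL (Fin 3) F)) := by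
  have hω0 : ω ≠ 0 := (omega_facts ω h.hω h.h3).2.2.2.2
  have hdet : ((ω ^ 2) • (1 : Matrix (Fin 3) (Fin 3) F)).det ≠ 0 := by
    rw [Matrix.det_smul, Matrix.det_one, mul_one]
    exact pow_ne_zero _ (pow_ne_zero _ hω0)
  set sc : GL (Fin 3) F := Matrix.GeneralLinearGroup.mkOfDetNeZero _ hdet with hsc
  have hscv : (sc : Matrix (Fin 3) (Fin 3) F) = (ω ^ 2) • (1 : Matrix (Fin 3) (Fin 3) F) :=
    Matrix.GeneralLinearGroup.val_mkOfDetNeZero _ _
  have hscR : sc ∈ R := by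
    have hdet1 : (ω • (1 : Matrix (Fin 3) (Fin 3) F)).det ≠ 0 := by
      rw [Matrix.det_smul, Matrix.det_one, mul_one]
      exact pow_ne_zero _ hω0
    have h1 := h.scalar_mem (Matrix.GeneralLinearGroup.mkOfDetNeZero _ hdet1)
      (Matrix.GeneralLinearGroup.val_mkOfDetNeZero _ _)
    have e : sc = Matrix.GeneralLinearGroup.mkOfDetNeZero _ hdet1 *
        Matrix.GeneralLinearGroup.mkOfDetNeZero _ hdet1 := by
      apply Units.ext
      rw [Units.val_mul, hscv, Matrix.GeneralLinearGroup.val_mkOfDetNeZero, Matrix.smul_mul,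
        Matrix.one_mul, smul_smul, pow_two]
    rw [e]
    exact R.mul_mem h1 h1
  apply h.mem_normalizer n gx (sc * gx * gy) h.gx_mem (R.mul_mem (R.mul_mem hscR h.gx_mem) h.gy_mem)
  · apply Units.ext
    rw [Units.val_mul, Units.val_mul, hn, h.gx_val, D0_X0]
  · apply Units.ext
    rw [Units.val_mul, Units.val_mul, Units.val_mul, Units.val_mul, hn, h.gx_val, h.gy_val, hscv,
      D0_Y0 ω h.ω_pow, Matrix.smul_mul, Matrix.one_mul, Matrix.smul_mul, Matrix.smul_mul]

lemma J0_mem (h : IsStd ω R gx gy) (n : GL (Fin 3) F)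
    (hn : (n : Matrix (Fin 3) (Fin 3) F) = J0) : n ∈ Subgroup.normalizer (R : Set (GL (Fin 3) F)) := by
  apply h.mem_normalizer n (gx * gx) (gy * gy) (R.mul_mem h.gx_mem h.gx_mem)
    (R.mul_mem h.gy_mem h.gy_mem)
  · apply Units.ext
    rw [Units.val_mul, Units.val_mul, Units.val_mul, hn, h.gx_val, J0_X0 ω h.ω_pow]
  · apply Units.ext
    rw [Units.val_mul, Units.val_mul, Units.val_mul, hn, h.gy_val, J0_Y0]

lemma central (h : IsStd ω R gx gy) (n : GL (Fin 3) F) (hc : ∀ g ∈ R, n * g = g * n) :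
    ∃ c : F, (n : Matrix (Fin 3) (Fin 3) F) = c • (1 : Matrix (Fin 3) (Fin 3) F) := by
  obtain ⟨-, hw1, hw21, hw2w, -⟩ := omega_facts ω h.hω h.h3
  refine ⟨(n : Matrix (Fin 3) (Fin 3) F) 0 0, ?_⟩
  apply central_of_commute _ ω hw1 hw21 hw2w
  · have := congrArg Units.val (hc gx h.gx_mem)
    rwa [Units.val_mul, Units.val_mul, h.gx_val] at this
  · have := congrArg Units.val (hc gy h.gy_mem)
    rwa [Units.val_mul, Units.val_mul, h.gy_val] at this

lemma det_eq_one (h : IsStd ω R gx gy) (g : GL (Fin 3) F) (hg : g ∈ R) :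
    (g : Matrix (Fin 3) (Fin 3) F).det = 1 := by
  have hle : R ≤ (Matrix.GeneralLinearGroup.det : GL (Fin 3) F →* Fˣ).ker := by
    rw [← h.closure_eq, Subgroup.closure_le]
    intro t ht
    rw [SetLike.mem_coe, MonoidHom.mem_ker]
    apply Units.ext
    rw [Matrix.GeneralLinearGroup.val_det_apply, Units.val_one]
    rcases ht with rfl | rfl
    · rw [h.gx_val, det_X0 ω h.ω_pow]
    · rw [h.gy_val, det_Y0]
  have := hle hg
  rw [MonoidHom.mem_ker] at this
  have h2 := congrArg Units.val this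
  rwa [Matrix.GeneralLinearGroup.val_det_apply, Units.val_one] at h2

end IsStd

end Cfsg.Agent.Lib.helper15.ES
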