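import Mathlib
import Cfsg.Agent.Lib.helper15.SN8

set_option autoImplicit false

namespace Cfsg.Agent.Lib.helper15.ES

open Matrix Cfsg.Agent.Lib.helper15.SN

variable {F : Type*} [Field F]

theorem conj_of_diag (y s Vm Um : Matrix (Fin 3) (Fin 3) F) (d : Fin 3 → F)
    (hV : IsUnit Vm.det) (hU : IsUnit Um.det)
    (hyV : y * Vm = Vm * Matrix.diagonal d) (hsU : s * Um = Um * Matrix.diagonal d)
    (δ : F) :
    ∃ P : Matrix (Fin 3) (Fin 3) F, P.det = δ ∧ P * y = s * P := by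
  set D : Matrix (Fin 3) (Fin 3) F := Matrix.diagonal d with hD
  set c : F := δ * Vm.det / Um.det with hc
  set C : Matrix (Fin 3) (Fin 3) F := Matrix.diagonal ![c, 1, 1] with hC
  have hCD : C * D = D * C := by
    rw [hC, hD, Matrix.diagonal_mul_diagonal, Matrix.diagonal_mul_diagonal]
    congr 1
    ext i
    rw [mul_comm]
  have hVy : Vm⁻¹ * y = D * Vm⁻¹ := by
    calc Vm⁻¹ * y = Vm⁻¹ * (y * Vm) * Vm⁻¹ := by
          rw [Matrix.mul_assoc, Matrix.mul_assoc, Matrix.mul_nonsing_inv _ hV, Matrix.mul_one]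
      _ = D * Vm⁻¹ := by
          rw [hyV, ← Matrix.mul_assoc, Matrix.nonsing_inv_mul _ hV, Matrix.one_mul]
  have hdet : (Um * C * Vm⁻¹).det = δ := by
    rw [Matrix.det_mul, Matrix.det_mul, Matrix.det_nonsing_inv, hC, Matrix.det_diagonal,
      Fin.prod_univ_three]
    simp only [Matrix.cons_val_zero, Matrix.cons_val_one, Matrix.cons_val_two, Matrix.head_cons,
      Matrix.tail_cons]
    rw [hc, Ring.inverse_eq_inv']
    field_simp [hV.ne_zero, hU.ne_zero]
  refine ⟨Um * C * Vm⁻¹, hdet, ?_⟩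
  calc Um * C * Vm⁻¹ * y = Um * C * (Vm⁻¹ * y) := by rw [Matrix.mul_assoc]
    _ = Um * (C * D) * Vm⁻¹ := by rw [hVy]; simp only [Matrix.mul_assoc]
    _ = (Um * D) * C * Vm⁻¹ := by rw [hCD]; simp only [Matrix.mul_assoc]
    _ = s * (Um * C * Vm⁻¹) := by rw [← hsU]; simp only [Matrix.mul_assoc]

lemma exists_other_eig (w : F) (hw : w ^ 2 + w + 1 = 0) (h3 : (3 : F) ≠ 0)
    (y : Matrix (Fin 3) (Fin 3) F) (hy3 : y ^ 3 = 1)
    (hns : ∀ c : F, y ≠ c • (1 : Matrix (Fin 3) (Fin 3) F)) (lam : F) :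
    ∃ (β : F) (u : Fin 3 → F), β ≠ lam ∧ u ≠ 0 ∧ y *ᵥ u = β • u := by
  by_contra hno
  have key : ∀ (β : F) (u : Fin 3 → F), y *ᵥ u = β • u → y *ᵥ u = lam • u := by
    intro β u hu
    by_cases hβ : β = lam
    · rw [hu, hβ]
    · by_cases hu0 : u = 0
      · rw [hu0, Matrix.mulVec_zero, smul_zero]
      · exact absurd ⟨β, u, hβ, hu0, hu⟩ hno
  apply hns lam
  apply mat_ext_mulVec
  intro t
  obtain ⟨p0, p1, p2, h0, h1', h2', rfl⟩ := eig_decomp y w hw h3 hy3 t
  have k0 := key 1 p0 (by rw [h0, one_smul])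
  have k1 := key w p1 h1'
  have k2 := key (w ^ 2) p2 h2'
  rw [Matrix.mulVec_add, Matrix.mulVec_add, k0, k1, k2, Matrix.smul_mulVec, Matrix.one_mulVec,
    smul_add, smul_add]

lemma cube_of_eig (y : Matrix (Fin 3) (Fin 3) F) (hy3 : y ^ 3 = 1) (lam : F) (v : Fin 3 → F)
    (hv : v ≠ 0) (h1 : y *ᵥ v = lam • v) : lam ^ 3 = 1 := by
  have e : (y ^ 3) *ᵥ v = lam ^ 3 • v := by
    rw [pow_succ, pow_succ, pow_one, ← Matrix.mulVec_mulVec, ← Matrix.mulVec_mulVec, h1,
      Matrix.mulVec_smul, h1, Matrix.mulVec_smul, Matrix.mulVec_smul, h1, smul_smul, smul_smul]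
    congr 1
    ring
  rw [hy3, Matrix.one_mulVec] at e
  have e2 : (lam ^ 3 - 1) • v = 0 := by
    rw [sub_smul, one_smul, ← e, sub_self]
  rcases smul_eq_zero.mp e2 with h | h
  · exact sub_eq_zero.mp h
  · exact absurd h hv

theorem cube_basis (w : F) (hw : w ^ 2 + w + 1 = 0) (h3 : (3 : F) ≠ 0)
    (y : Matrix (Fin 3) (Fin 3) F) (hy3 : y ^ 3 = 1)
    (hns : ∀ c : F, y ≠ c • (1 : Matrix (Fin 3) (Fin 3) F)) :
    (∃ Vm : Matrix (Fin 3) (Fin 3) F, IsUnit Vm.det ∧ y * Vm = Vm * Matrix.diagonal ![1, w, w ^ 2]) ∨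
    (∃ (Vm : Matrix (Fin 3) (Fin 3) F) (lam β : F), IsUnit Vm.det ∧ lam ^ 3 = 1 ∧ β ^ 3 = 1 ∧ lam ≠ β ∧
      y * Vm = Vm * Matrix.diagonal ![lam, lam, β]) := by
  obtain ⟨hw3, hw1, hw21, hw2w, hw0⟩ := omega_facts w hw h3
  by_cases hdim : ∀ (lam : F) (v v' : Fin 3 → F), v ≠ 0 → y *ᵥ v = lam • v → y *ᵥ v' = lam • v' →
      ∃ a : F, v' = a • v
  · left
    obtain ⟨v0, v1, v2, hv0, hv1, hv2, e0, e1, e2⟩ := three_eigvecs y w hw h3 hy3 hdim
    have hd : Function.Injective (![1, w, w ^ 2] : Fin 3 → F) := by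
      intro i j hij
      fin_cases i <;> fin_cases j <;>
        simp only [Matrix.cons_val_zero, Matrix.cons_val_one, Matrix.cons_val_two, Matrix.head_cons,
          Matrix.tail_cons, Fin.zero_eta, Fin.mk_one, Fin.reduceFinMk] at hij <;>
        first
          | rfl
          | exact absurd hij hw1
          | exact absurd hij.symm hw1
          | exact absurd hij hw21
          | exact absurd hij.symm hw21
          | exact absurd hij hw2w
          | exact absurd hij.symm hw2w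
    have hvs : ∀ j, y *ᵥ (![v0, v1, v2] j) = (![1, w, w ^ 2] : Fin 3 → F) j • (![v0, v1, v2] j) := by
      intro j; fin_cases j <;> assumption
    have hli := eig_indep y ![1, w, w ^ 2] hd ![v0, v1, v2]
      (by intro j; fin_cases j <;> assumption) hvs
    exact ⟨_, isUnit_cols _ hli, mul_cols y _ _ hvs⟩
  · right
    have hex : ∃ (lam : F) (v v' : Fin 3 → F), v ≠ 0 ∧ y *ᵥ v = lam • v ∧ y *ᵥ v' = lam • v' ∧
        ¬ ∃ a : F, v' = a • v := by
      by_contra hno
      apply hdim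
      intro lam v v' hv h1 h2
      by_contra hne
      exact hno ⟨lam, v, v', hv, h1, h2, hne⟩
    obtain ⟨lam, v, v', hv, h1, h2, hind⟩ := hex
    obtain ⟨β, u, hβ, hu0, hu⟩ := exists_other_eig w hw h3 y hy3 hns lam
    have hli := indep_three y lam β (Ne.symm hβ) v v' u hv hind hu0 h1 h2 hu
    have hvs : ∀ j, y *ᵥ (![v, v', u] j) = (![lam, lam, β] : Fin 3 → F) j • (![v, v', u] j) := by
      intro j; fin_cases j
      · exact h1
      · exact h2
      · exact hu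
    exact ⟨_, lam, β, isUnit_cols _ hli, cube_of_eig y hy3 lam v hv h1, cube_of_eig y hy3 β u hu0 hu,
      Ne.symm hβ, mul_cols y _ _ hvs⟩

variable {F : Type*} [Field F]

theorem invol_basis (h2 : (2 : F) ≠ 0) (A : Matrix (Fin 3) (Fin 3) F) (hA : A * A = 1)
    (hdet : A.det = 1) (hA1 : A ≠ 1) :
    ∃ Vm : Matrix (Fin 3) (Fin 3) F, IsUnit Vm.det ∧ A * Vm = Vm * Matrix.diagonal ![-1, -1, 1] := by
  have hAA : ∀ t : Fin 3 → F, A *ᵥ (A *ᵥ t) = t := by
    intro t
    rw [Matrix.mulVec_mulVec, hA, Matrix.one_mulVec]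
  have hm1 : (-1 : F) ≠ 1 := by
    intro h
    apply h2
    have : (2 : F) = 1 - (-1) := by ring
    rw [this, h, sub_self]
  obtain ⟨a, ha0, haA⟩ : ∃ a : Fin 3 → F, a ≠ 0 ∧ A *ᵥ a = (-1 : F) • a := by
    by_contra hno
    apply hA1
    apply mat_ext_mulVec
    intro t
    rw [Matrix.one_mulVec]
    by_contra hne
    apply hno
    refine ⟨t - A *ᵥ t, ?_, ?_⟩
    · intro h0
      exact hne (sub_eq_zero.mp h0).symm
    · rw [Matrix.mulVec_sub, hAA]
      module
  obtain ⟨b, hb0, hbA⟩ : ∃ b : Fin 3 → F, b ≠ 0 ∧ A *ᵥ b = (1 : F) • b := by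
    by_contra hno
    have hAm : A = (-1 : F) • (1 : Matrix (Fin 3) (Fin 3) F) := by
      apply mat_ext_mulVec
      intro t
      rw [Matrix.smul_mulVec, Matrix.one_mulVec]
      by_contra hne
      apply hno
      refine ⟨t + A *ᵥ t, ?_, ?_⟩
      · intro h0
        apply hne
        have : A *ᵥ t = (t + A *ᵥ t) - t := by abel
        rw [this, h0]
        module
      · rw [Matrix.mulVec_add, hAA]
        module
    rw [hAm, Matrix.det_smul, Matrix.det_one, Fintype.card_fin] at hdet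
    apply hm1
    have : (-1 : F) ^ 3 * 1 = -1 := by ring
    rw [this] at hdet
    exact hdet
  by_cases hpm : ∃ a1 a2 : Fin 3 → F, a1 ≠ 0 ∧ A *ᵥ a1 = (-1 : F) • a1 ∧ A *ᵥ a2 = (-1 : F) • a2 ∧
      ¬ ∃ c : F, a2 = c • a1
  · obtain ⟨a1, a2, h10, h1A, h2A, hind⟩ := hpm
    have hli := indep_three A (-1) 1 hm1 a1 a2 b h10 hind hb0 h1A h2A hbA
    have hvs : ∀ j, A *ᵥ (![a1, a2, b] j) = (![-1, -1, 1] : Fin 3 → F) j • (![a1, a2, b] j) := by
      intro j; fin_cases j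
      · exact h1A
      · exact h2A
      · exact hbA
    exact ⟨_, isUnit_cols _ hli, mul_cols A _ _ hvs⟩
  · exfalso
    have hdm : ∀ v v' : Fin 3 → F, v ≠ 0 → A *ᵥ v = (-1 : F) • v → A *ᵥ v' = (-1 : F) • v' →
        ∃ c : F, v' = c • v := by
      intro v v' hv h1 h2'
      by_contra hne
      exact hpm ⟨v, v', hv, h1, h2', hne⟩
    by_cases hpp : ∃ b1 b2 : Fin 3 → F, b1 ≠ 0 ∧ A *ᵥ b1 = (1 : F) • b1 ∧ A *ᵥ b2 = (1 : F) • b2 ∧
        ¬ ∃ c : F, b2 = c • b1
    · obtain ⟨b1, b2, h10, h1A, h2A, hind⟩ := hpp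
      have := det_of_eigen A 1 (-1) (Ne.symm hm1) b1 b2 a h10 hind ha0 h1A h2A haA
      rw [hdet] at this
      apply hm1
      rw [one_pow, one_mul] at this
      exact this.symm
    · have hdp : ∀ v v' : Fin 3 → F, v ≠ 0 → A *ᵥ v = (1 : F) • v → A *ᵥ v' = (1 : F) • v' →
          ∃ c : F, v' = c • v := by
        intro v v' hv h1 h2'
        by_contra hne
        exact hpp ⟨v, v', hv, h1, h2', hne⟩
      have htop : (⊤ : Submodule F (Fin 3 → F)) ≤ eigS A 1 ⊔ eigS A (-1) := by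
        intro v _
        have e : v = (2 : F)⁻¹ • (v + A *ᵥ v) + (2 : F)⁻¹ • (v - A *ᵥ v) := by
          have : (2 : F)⁻¹ • (v + A *ᵥ v) + (2 : F)⁻¹ • (v - A *ᵥ v) = ((2 : F)⁻¹ * 2) • v := by
            module
          rw [this, inv_mul_cancel₀ h2, one_smul]
        rw [e]
        apply Submodule.add_mem_sup
        · apply Submodule.smul_mem
          rw [mem_eigS, Matrix.mulVec_add, hAA]
          module
        · apply Submodule.smul_mem
          rw [mem_eigS, Matrix.mulVec_sub, hAA]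
          module
      have h1 := Submodule.finrank_mono htop
      rw [finrank_top, Module.finrank_fin_fun] at h1
      have h2' := Submodule.finrank_add_le_finrank_add_finrank (eigS A 1) (eigS A (-1))
      have ha := finrank_eigS_le_one A 1 hdp
      have hb := finrank_eigS_le_one A (-1) hdm
      omega

end Cfsg.Agent.Lib.helper15.ES
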