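import Mathlib
import Cfsg.Agent.Lib.helper15.ES4
import Cfsg.Agent.Lib.helper15.ES5

set_option autoImplicit false

namespace Cfsg.Agent.Lib.helper15.ES

open Matrix Cfsg.Agent.Lib.helper15.SN

variable {F : Type*} [Field F]

theorem conj_into (R : Subgroup (GL (Fin 3) F)) (x : GL (Fin 3) F)
    (Vm Um : Matrix (Fin 3) (Fin 3) F) (d : Fin 3 → F) (c : F) (hc : c ≠ 0)
    (hV : IsUnit Vm.det) (hU : IsUnit Um.det)
    (hx : (x : Matrix (Fin 3) (Fin 3) F) * Vm = c • (Vm * Matrix.diagonal d))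
    (s₀ : GL (Fin 3) F) (hs : s₀ ∈ Subgroup.normalizer (R : Set (GL (Fin 3) F)))
    (hsU : (s₀ : Matrix (Fin 3) (Fin 3) F) * Um = Um * Matrix.diagonal d) (δ : F) (hδ : δ ≠ 0) :
    ∃ Q : GL (Fin 3) F, (Q : Matrix (Fin 3) (Fin 3) F).det = δ ∧
      Q⁻¹ * x * Q ∈ Subgroup.normalizer (R : Set (GL (Fin 3) F)) := by
  have hy : (c⁻¹ • (x : Matrix (Fin 3) (Fin 3) F)) * Vm = Vm * Matrix.diagonal d := by
    rw [Matrix.smul_mul, hx, smul_smul, inv_mul_cancel₀ hc, one_smul]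
  obtain ⟨P, hPdet, hP⟩ := conj_of_diag (s₀ : Matrix (Fin 3) (Fin 3) F)
    (c⁻¹ • (x : Matrix (Fin 3) (Fin 3) F)) Um Vm d hU hV hsU hy δ
  have hdet0 : P.det ≠ 0 := by rw [hPdet]; exact hδ
  have hsdet : (c • (s₀ : Matrix (Fin 3) (Fin 3) F)).det ≠ 0 := by
    rw [Matrix.det_smul]
    apply mul_ne_zero (pow_ne_zero _ hc)
    have := (Matrix.isUnit_iff_isUnit_det _).mp s₀.isUnit
    exact this.ne_zero
  set Q : GL (Fin 3) F := Matrix.GeneralLinearGroup.mkOfDetNeZero P hdet0 with hQ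
  set s' : GL (Fin 3) F := Matrix.GeneralLinearGroup.mkOfDetNeZero _ hsdet with hs'
  have hs'N : s' ∈ Subgroup.normalizer (R : Set (GL (Fin 3) F)) :=
    IsStd.smul_mem_normalizer R s₀ s' c hc hs (Matrix.GeneralLinearGroup.val_mkOfDetNeZero _ _)
  refine ⟨Q, by rw [hQ, Matrix.GeneralLinearGroup.val_mkOfDetNeZero]; exact hPdet, ?_⟩
  have e : Q⁻¹ * x * Q = s' := by
    rw [mul_assoc, inv_mul_eq_iff_eq_mul]
    apply Units.ext
    rw [Units.val_mul, Units.val_mul, hQ, hs', Matrix.GeneralLinearGroup.val_mkOfDetNeZero,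
      Matrix.GeneralLinearGroup.val_mkOfDetNeZero, Matrix.mul_smul, hP, Matrix.smul_mul, smul_smul,
      mul_inv_cancel₀ hc, one_smul]
  rw [e]
  exact hs'N

variable {F : Type*} [Field F]

lemma J0_eig : (J0 : Matrix (Fin 3) (Fin 3) F) * !![1, 0, 0; 0, 1, 1; 0, 1, -1] =
    !![1, 0, 0; 0, 1, 1; 0, 1, -1] * Matrix.diagonal ![-1, -1, 1] := by
  ext i j
  fin_cases i <;> fin_cases j <;>
    simp [J0, Matrix.mul_apply, Fin.sum_univ_three, Matrix.diagonal]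

lemma det_UJ : (!![1, 0, 0; 0, 1, 1; 0, 1, -1] : Matrix (Fin 3) (Fin 3) F).det = -2 := by
  rw [Matrix.det_fin_three]
  simp
  ring

theorem std_r2 {ω : F} {R : Subgroup (GL (Fin 3) F)} {gx gy : GL (Fin 3) F} (h : IsStd ω R gx gy)
    (h2 : (2 : F) ≠ 0) (x : GL (Fin 3) F) (hdet : (x : Matrix (Fin 3) (Fin 3) F).det = 1) (z : F)
    (hx2 : (x : Matrix (Fin 3) (Fin 3) F) * (x : Matrix (Fin 3) (Fin 3) F) =
      z • (1 : Matrix (Fin 3) (Fin 3) F))
    (hns : ∀ c : F, (x : Matrix (Fin 3) (Fin 3) F) ≠ c • (1 : Matrix (Fin 3) (Fin 3) F))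
    (δ : F) (hδ : δ ≠ 0) :
    ∃ Q : GL (Fin 3) F, (Q : Matrix (Fin 3) (Fin 3) F).det = δ ∧
      Q⁻¹ * x * Q ∈ Subgroup.normalizer (R : Set (GL (Fin 3) F)) := by
  have hz3 : z ^ 3 = 1 := by
    have := congrArg Matrix.det hx2
    rw [Matrix.det_mul, hdet, one_mul, Matrix.det_smul, Matrix.det_one, mul_one, Fintype.card_fin] at this
    exact this.symm
  have hz0 : z ≠ 0 := by
    intro h0; rw [h0] at hz3; simp at hz3
  set A : Matrix (Fin 3) (Fin 3) F := z • (x : Matrix (Fin 3) (Fin 3) F) with hA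
  have hAA : A * A = 1 := by
    rw [hA, Matrix.smul_mul, Matrix.mul_smul, hx2, smul_smul, smul_smul]
    have : z * z * z = z ^ 3 := by ring
    rw [this, hz3, one_smul]
  have hAdet : A.det = 1 := by
    rw [hA, Matrix.det_smul, hdet, mul_one, Fintype.card_fin, hz3]
  have hA1 : A ≠ 1 := by
    intro h1
    apply hns z⁻¹
    have : z⁻¹ • A = z⁻¹ • (1 : Matrix (Fin 3) (Fin 3) F) := by rw [h1]
    rwa [hA, smul_smul, inv_mul_cancel₀ hz0, one_smul] at this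
  obtain ⟨Vm, hV, hAV⟩ := invol_basis h2 A hAA hAdet hA1
  have hJdet : (J0 : Matrix (Fin 3) (Fin 3) F).det ≠ 0 := by rw [det_J0]; exact one_ne_zero
  set gJ : GL (Fin 3) F := Matrix.GeneralLinearGroup.mkOfDetNeZero J0 hJdet with hgJ
  have hgJv : (gJ : Matrix (Fin 3) (Fin 3) F) = J0 := Matrix.GeneralLinearGroup.val_mkOfDetNeZero _ _
  have hU : IsUnit (!![1, 0, 0; 0, 1, 1; 0, 1, -1] : Matrix (Fin 3) (Fin 3) F).det := by
    rw [det_UJ]
    exact (neg_ne_zero.mpr h2).isUnit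
  apply conj_into R x Vm _ ![-1, -1, 1] z⁻¹ (inv_ne_zero hz0) hV hU _ gJ (h.J0_mem gJ hgJv)
    (by rw [hgJv]; exact J0_eig) δ hδ
  rw [← hAV, hA, Matrix.smul_mul, smul_smul, inv_mul_cancel₀ hz0, one_smul]

variable {F : Type*} [Field F]

lemma X0_diag (ω : F) : X0 ω * 1 = 1 * Matrix.diagonal ![1, ω, ω ^ 2] := by
  rw [Matrix.mul_one, Matrix.one_mul]
  ext i j
  fin_cases i <;> fin_cases j <;> simp [X0, Matrix.diagonal]

lemma D0_diag (ω : F) : D0 ω * 1 = 1 * Matrix.diagonal ![1, 1, ω] := by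
  rw [Matrix.mul_one, Matrix.one_mul]
  ext i j
  fin_cases i <;> fin_cases j <;> simp [D0, Matrix.diagonal]

lemma D0_sq_diag (ω : F) : D0 ω * D0 ω * 1 = 1 * Matrix.diagonal ![1, 1, ω ^ 2] := by
  rw [Matrix.mul_one, Matrix.one_mul]
  ext i j
  fin_cases i <;> fin_cases j <;>
    simp [D0, Matrix.diagonal, Matrix.mul_apply, Fin.sum_univ_three, pow_two]

lemma cube_root_cases (ω κ : F) (hω : ω ^ 2 + ω + 1 = 0) (hκ3 : κ ^ 3 = 1) (hκ1 : κ ≠ 1) :
    κ = ω ∨ κ = ω ^ 2 := by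
  have h1 : (κ - 1) * (κ ^ 2 + κ + 1) = 0 := by
    have : (κ - 1) * (κ ^ 2 + κ + 1) = κ ^ 3 - 1 := by ring
    rw [this, hκ3, sub_self]
  have h2 : κ ^ 2 + κ + 1 = 0 := (mul_eq_zero.mp h1).resolve_left (sub_ne_zero.mpr hκ1)
  have h3 : (κ - ω) * (κ - ω ^ 2) = 0 := by
    have hω3 : ω ^ 3 = 1 := by linear_combination (ω - 1) * hω
    linear_combination h2 - κ * hω + hω3
  rcases mul_eq_zero.mp h3 with h | h
  · left; exact sub_eq_zero.mp h
  · right; exact sub_eq_zero.mp h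

theorem std_r3 {ω : F} {R : Subgroup (GL (Fin 3) F)} {gx gy : GL (Fin 3) F} (h : IsStd ω R gx gy)
    (η : F) (hη9 : η ^ 9 = 1) (hη3 : η ^ 3 ≠ 1)
    (x : GL (Fin 3) F) (hdet : (x : Matrix (Fin 3) (Fin 3) F).det = 1) (z : F)
    (hx3 : (x : Matrix (Fin 3) (Fin 3) F) ^ 3 = z • (1 : Matrix (Fin 3) (Fin 3) F))
    (hns : ∀ c : F, (x : Matrix (Fin 3) (Fin 3) F) ≠ c • (1 : Matrix (Fin 3) (Fin 3) F))
    (δ : F) (hδ : δ ≠ 0) :
    ∃ Q : GL (Fin 3) F, (Q : Matrix (Fin 3) (Fin 3) F).det = δ ∧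
      Q⁻¹ * x * Q ∈ Subgroup.normalizer (R : Set (GL (Fin 3) F)) := by
  obtain ⟨hω3, hω1, hω21, hω2ω, hω0⟩ := omega_facts ω h.hω h.h3
  have hz3 : z ^ 3 = 1 := by
    have := congrArg Matrix.det hx3
    rw [Matrix.det_pow, hdet, one_pow, Matrix.det_smul, Matrix.det_one, mul_one, Fintype.card_fin] at this
    exact this.symm
  have hη0 : η ≠ 0 := by
    intro h0; rw [h0] at hη9; simp at hη9
  have hρ3 : (η ^ 3) ^ 3 = 1 := by rw [← pow_mul]; exact hη9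
  obtain ⟨a, ha0, ha3⟩ : ∃ a : F, a ≠ 0 ∧ a ^ 3 = z := by
    by_cases hz1 : z = 1
    · exact ⟨1, one_ne_zero, by rw [hz1, one_pow]⟩
    · have hρω : η ^ 3 = ω ∨ η ^ 3 = ω ^ 2 := cube_root_cases ω (η ^ 3) h.hω hρ3 hη3
      rcases cube_root_cases ω z h.hω hz3 hz1 with hz | hz
      · rcases hρω with hr | hr
        · exact ⟨η, hη0, by rw [hr, hz]⟩
        · refine ⟨η ^ 2, pow_ne_zero _ hη0, ?_⟩
          have : (η ^ 2) ^ 3 = (η ^ 3) ^ 2 := by ring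
          rw [this, hr, hz]
          calc (ω ^ 2) ^ 2 = ω ^ 3 * ω := by ring
            _ = ω := by rw [hω3, one_mul]
      · rcases hρω with hr | hr
        · refine ⟨η ^ 2, pow_ne_zero _ hη0, ?_⟩
          have : (η ^ 2) ^ 3 = (η ^ 3) ^ 2 := by ring
          rw [this, hr, hz]
        · exact ⟨η, hη0, by rw [hr, hz]⟩
  set A : Matrix (Fin 3) (Fin 3) F := a⁻¹ • (x : Matrix (Fin 3) (Fin 3) F) with hA
  have hxA : (x : Matrix (Fin 3) (Fin 3) F) = a • A := by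
    rw [hA, smul_smul, mul_inv_cancel₀ ha0, one_smul]
  have hA3 : A ^ 3 = 1 := by
    rw [hA, smul_pow, hx3, smul_smul, inv_pow, ha3, inv_mul_cancel₀, one_smul]
    intro h0; rw [h0] at hz3; simp at hz3
  have hAns : ∀ c : F, A ≠ c • (1 : Matrix (Fin 3) (Fin 3) F) := by
    intro c hc
    apply hns (a * c)
    rw [hxA, hc, smul_smul]
  have h1U : IsUnit (1 : Matrix (Fin 3) (Fin 3) F).det := by
    rw [Matrix.det_one]; exact isUnit_one
  rcases cube_basis ω h.hω h.h3 A hA3 hAns with ⟨Vm, hV, hAV⟩ | ⟨Vm, lam, β, hV, hl3, hb3, hlb, hAV⟩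
  · apply conj_into R x Vm 1 ![1, ω, ω ^ 2] a ha0 hV h1U _ gx
      (Subgroup.le_normalizer h.gx_mem) (by rw [h.gx_val]; exact X0_diag ω) δ hδ
    rw [hxA, Matrix.smul_mul, hAV]
  · have hl0 : lam ≠ 0 := by
      intro h0; rw [h0] at hl3; simp at hl3
    set κ := β * lam⁻¹ with hκ
    have hκ3 : κ ^ 3 = 1 := by
      rw [hκ, mul_pow, inv_pow, hb3, hl3, inv_one, mul_one]
    have hκ1 : κ ≠ 1 := by
      intro h1
      apply hlb
      have : β = κ * lam := by rw [hκ, mul_assoc, inv_mul_cancel₀ hl0, mul_one]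
      rw [this, h1, one_mul]
    have hdiag : Matrix.diagonal ![lam, lam, β] = lam • Matrix.diagonal ![1, 1, κ] := by
      rw [← Matrix.diagonal_smul]
      congr 1
      ext i
      fin_cases i
      · simp
      · simp
      · simp only [Pi.smul_apply, smul_eq_mul]
        show β = lam * κ
        rw [hκ, mul_comm β, ← mul_assoc, mul_inv_cancel₀ hl0, one_mul]
    have hxV : (x : Matrix (Fin 3) (Fin 3) F) * Vm = (a * lam) • (Vm * Matrix.diagonal ![1, 1, κ]) := by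
      rw [hxA, Matrix.smul_mul, hAV, hdiag, Matrix.mul_smul, smul_smul]
    have hDdet : (D0 ω).det ≠ 0 := by rw [det_D0]; exact hω0
    set gD : GL (Fin 3) F := Matrix.GeneralLinearGroup.mkOfDetNeZero (D0 ω) hDdet with hgD
    have hgDv : (gD : Matrix (Fin 3) (Fin 3) F) = D0 ω := Matrix.GeneralLinearGroup.val_mkOfDetNeZero _ _
    have hgDN := h.D0_mem gD hgDv
    rcases cube_root_cases ω κ h.hω hκ3 hκ1 with hk | hk
    · apply conj_into R x Vm 1 ![1, 1, κ] (a * lam) (mul_ne_zero ha0 hl0) hV h1U hxV gD hgDN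
        (by rw [hgDv, hk]; exact D0_diag ω) δ hδ
    · apply conj_into R x Vm 1 ![1, 1, κ] (a * lam) (mul_ne_zero ha0 hl0) hV h1U hxV (gD * gD)
        (Subgroup.mul_mem _ hgDN hgDN)
        (by rw [Units.val_mul, hgDv, hk]; exact D0_sq_diag ω) δ hδ

end Cfsg.Agent.Lib.helper15.ES
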