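import Mathlib
import Cfsg.Agent.Lib.helper15.ES2
import Cfsg.Agent.Lib.helper15.ES6

set_option autoImplicit false

namespace Cfsg.Agent.Lib.helper15.ES

open Matrix Cfsg.Agent.Lib.helper15.SN

variable {F : Type*} [Field F]

lemma Y0_cols (Y : Matrix (Fin 3) (Fin 3) F) (hY : Y ^ 3 = 1) (v : Fin 3 → F) :
    Y * (Matrix.of ![v, Y *ᵥ v, Y *ᵥ (Y *ᵥ v)])ᵀ = (Matrix.of ![v, Y *ᵥ v, Y *ᵥ (Y *ᵥ v)])ᵀ * Y0 := by
  have hY3 : Y *ᵥ (Y *ᵥ (Y *ᵥ v)) = v := by
    rw [Matrix.mulVec_mulVec, Matrix.mulVec_mulVec, ← pow_two, ← pow_succ, hY, Matrix.one_mulVec]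
  ext i j
  have e : (Y * (Matrix.of ![v, Y *ᵥ v, Y *ᵥ (Y *ᵥ v)])ᵀ) i j =
      (Y *ᵥ (![v, Y *ᵥ v, Y *ᵥ (Y *ᵥ v)] j)) i := by
    simp [Matrix.mul_apply, Matrix.mulVec, dotProduct]
  rw [e]
  fin_cases j
  · simp [Y0, Matrix.mul_apply, Fin.sum_univ_three]
  · simp [Y0, Matrix.mul_apply, Fin.sum_univ_three]
  · simp only [Fin.reduceFinMk, Matrix.cons_val_two, Matrix.tail_cons, Matrix.head_cons]
    rw [hY3]
    simp [Y0, Matrix.mul_apply, Fin.sum_univ_three]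

lemma X0_cols (X : Matrix (Fin 3) (Fin 3) F) (vs : Fin 3 → Fin 3 → F) (α ζ : F) (hα : α ≠ 0)
    (h : ∀ j, X *ᵥ vs j = (![α, α * ζ, α * ζ ^ 2] : Fin 3 → F) j • vs j) :
    (α⁻¹ • X) * (Matrix.of vs)ᵀ = (Matrix.of vs)ᵀ * X0 ζ := by
  have := mul_cols X vs _ h
  rw [Matrix.smul_mul, this, ← Matrix.mul_smul]
  congr 1
  ext i j
  fin_cases i <;> fin_cases j <;> simp [X0, Matrix.diagonal, hα]

variable {F : Type*} [Field F]

theorem exists_std (w : F) (hw : w ^ 2 + w + 1 = 0) (h3 : (3 : F) ≠ 0)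
    (R : Subgroup (GL (Fin 3) F)) (hR : Nat.card R = 27)
    (hRe : Monoid.exponent R = 3) (hRna : ¬ IsMulCommutative R) :
    ∃ (B : GL (Fin 3) F) (ω : F) (gx gy : GL (Fin 3) F),
      IsStd ω (R.map (MulAut.conj B⁻¹).toMonoidHom) gx gy := by
  have hfin : Finite R := Nat.finite_of_card_ne_zero (by rw [hR]; norm_num)
  obtain ⟨x, y, hz1, hzc⟩ := exists_pair R hR hRna
  set z : R := x * y * x⁻¹ * y⁻¹ with hz
  have hpow : ∀ g : R, g ^ 3 = 1 := fun g => by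
    have := Monoid.pow_exponent_eq_one g
    rwa [hRe] at this
  have hval3 : ∀ g : R, ((g : GL (Fin 3) F) : Matrix (Fin 3) (Fin 3) F) ^ 3 = 1 := by
    intro g
    have := congrArg (fun t : R => ((t : GL (Fin 3) F) : Matrix (Fin 3) (Fin 3) F)) (hpow g)
    simpa using this
  set X : Matrix (Fin 3) (Fin 3) F := ((x : GL (Fin 3) F) : Matrix (Fin 3) (Fin 3) F) with hXdef
  set Y : Matrix (Fin 3) (Fin 3) F := ((y : GL (Fin 3) F) : Matrix (Fin 3) (Fin 3) F) with hYdef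
  set Z : Matrix (Fin 3) (Fin 3) F := ((z : GL (Fin 3) F) : Matrix (Fin 3) (Fin 3) F) with hZdef
  have hZX : Z * X = X * Z := by
    have := congrArg (fun t : R => ((t : GL (Fin 3) F) : Matrix (Fin 3) (Fin 3) F))
      (Subgroup.mem_center_iff.mp hzc x)
    simpa using this.symm
  have hZY : Z * Y = Y * Z := by
    have := congrArg (fun t : R => ((t : GL (Fin 3) F) : Matrix (Fin 3) (Fin 3) F))
      (Subgroup.mem_center_iff.mp hzc y)
    simpa using this.symm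
  have hXY : X * Y = Z * Y * X := by
    have e : x * y = z * y * x := by rw [hz]; group
    have := congrArg (fun t : R => ((t : GL (Fin 3) F) : Matrix (Fin 3) (Fin 3) F)) e
    simpa using this
  have hZ1 : Z ≠ 1 := by
    intro h1
    apply hz1
    apply Subtype.ext
    apply Units.ext
    exact h1
  obtain ⟨ζ, α, v, hζ, hα3, hZζ, hli, hXv, hX1, hX2⟩ :=
    standard_form X Y Z w hw h3 (hval3 x) (hval3 y) (hval3 z) hZ1 hZX hZY hXY
  obtain ⟨hζ3, hζ1, hζ21, hζ2ζ, hζ0⟩ := omega_facts ζ hζ h3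
  have hα0 : α ≠ 0 := by
    intro h0; rw [h0] at hα3; simp at hα3
  set B₀ : Matrix (Fin 3) (Fin 3) F := (Matrix.of ![v, Y *ᵥ v, Y *ᵥ (Y *ᵥ v)])ᵀ with hB₀
  have hB : IsUnit B₀.det := isUnit_cols _ hli
  set B : GL (Fin 3) F := Matrix.GeneralLinearGroup.mkOfDetNeZero B₀ hB.ne_zero with hBdef
  have hBv : (B : Matrix (Fin 3) (Fin 3) F) = B₀ := Matrix.GeneralLinearGroup.val_mkOfDetNeZero _ _
  have hXB : (α⁻¹ • X) * B₀ = B₀ * X0 ζ := by
    apply X0_cols X _ α ζ hα0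
    intro j; fin_cases j
    · exact hXv
    · exact hX1
    · exact hX2
  have hYB : Y * B₀ = B₀ * Y0 := Y0_cols Y (hval3 y) v
  have hconj : ∀ (g : GL (Fin 3) F) (M : Matrix (Fin 3) (Fin 3) F),
      (g : Matrix (Fin 3) (Fin 3) F) * B₀ = B₀ * M →
      (((MulAut.conj B⁻¹).toMonoidHom g : GL (Fin 3) F) : Matrix (Fin 3) (Fin 3) F) = M := by
    intro g M hg
    have e : (MulAut.conj B⁻¹).toMonoidHom g = B⁻¹ * g * B := by
      simp
    rw [e, Units.val_mul, Units.val_mul, hBv, Matrix.mul_assoc, hg, ← Matrix.mul_assoc, ← hBv,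
      ← Units.val_mul, inv_mul_cancel, Units.val_one, Matrix.one_mul]
  have hdetx : (α⁻¹ • X).det ≠ 0 := by
    rw [Matrix.det_smul]
    apply mul_ne_zero (pow_ne_zero _ (inv_ne_zero hα0))
    exact ((Matrix.isUnit_iff_isUnit_det _).mp (x : GL (Fin 3) F).isUnit).ne_zero
  set gx₁ : GL (Fin 3) F := Matrix.GeneralLinearGroup.mkOfDetNeZero (α⁻¹ • X) hdetx with hgx₁
  have hgx₁v : (gx₁ : Matrix (Fin 3) (Fin 3) F) = α⁻¹ • X :=
    Matrix.GeneralLinearGroup.val_mkOfDetNeZero _ _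
  have hgx₁R : gx₁ ∈ R := by
    have hcases : α = 1 ∨ α = ζ ∨ α = ζ ^ 2 := by
      by_cases h1 : α = 1
      · left; exact h1
      · right; exact cube_root_cases ζ α hζ hα3 h1
    have key : ∀ e : R, ((e : GL (Fin 3) F) : Matrix (Fin 3) (Fin 3) F) =
        α • (1 : Matrix (Fin 3) (Fin 3) F) → gx₁ ∈ R := by
      intro e he
      have : gx₁ = (e : GL (Fin 3) F)⁻¹ * (x : GL (Fin 3) F) := by
        rw [eq_inv_mul_iff_mul_eq]
        apply Units.ext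
        rw [Units.val_mul, he, hgx₁v, Matrix.smul_mul, Matrix.one_mul, smul_smul,
          mul_inv_cancel₀ hα0, one_smul]
      rw [this]
      exact R.mul_mem (R.inv_mem e.2) x.2
    rcases hcases with h1 | h1 | h1
    · apply key 1
      rw [h1, one_smul]; rfl
    · apply key z
      rw [h1]; exact hZζ
    · apply key (z * z)
      rw [h1]
      show Z * Z = _
      rw [hZζ, Matrix.smul_mul, Matrix.one_mul, smul_smul, pow_two]
  refine ⟨B, ζ, (MulAut.conj B⁻¹).toMonoidHom gx₁, (MulAut.conj B⁻¹).toMonoidHom (y : GL (Fin 3) F), ?_⟩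
  exact {
    hω := hζ
    h3 := h3
    card := by
      rw [Subgroup.card_map_of_injective (MulAut.conj B⁻¹).injective, hR]
    gx_mem := Subgroup.mem_map_of_mem _ hgx₁R
    gy_mem := Subgroup.mem_map_of_mem _ y.2
    gx_val := hconj gx₁ (X0 ζ) (by rw [hgx₁v]; exact hXB)
    gy_val := hconj (y : GL (Fin 3) F) Y0 hYB }

lemma normalizer_transport (R : Subgroup (GL (Fin 3) F)) (B Q x : GL (Fin 3) F)
    (h : Q⁻¹ * x * Q ∈ Subgroup.normalizer ((R.map (MulAut.conj B⁻¹).toMonoidHom : Subgroup (GL (Fin 3) F)) :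
      Set (GL (Fin 3) F))) :
    (Q * B⁻¹)⁻¹ * x * (Q * B⁻¹) ∈ Subgroup.normalizer (R : Set (GL (Fin 3) F)) := by
  rw [← Subgroup.map_equiv_normalizer_eq] at h
  obtain ⟨m, hm, hmq⟩ := h
  have e : (MulAut.conj B⁻¹).toMonoidHom m = B⁻¹ * m * B := by
    simp
  rw [e] at hmq
  have : (Q * B⁻¹)⁻¹ * x * (Q * B⁻¹) = m := by
    have h1 : m = B * (B⁻¹ * m * B) * B⁻¹ := by group
    rw [h1, hmq]
    group
  rw [this]
  exact hm

end Cfsg.Agent.Lib.helper15.ES
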