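import Mathlib
import Cfsg.Agent.Lib.helper15.ES7

set_option autoImplicit false

namespace Cfsg.Agent.Lib.helper15.ES

lemma prime_dvd_24 (r : ℕ) (hr : r.Prime) (hr2 : r ≠ 2) (hr3 : r ≠ 3) (h : r ∣ 24) : False := by
  have hle : r ≤ 24 := Nat.le_of_dvd (by norm_num) h
  interval_cases r <;> first | omega | (exact absurd hr (by norm_num))

lemma prime_dvd_18 (r : ℕ) (hr : r.Prime) (hr2 : r ≠ 2) (hr3 : r ≠ 3) (h : r ∣ 18) : False := by
  have hle : r ≤ 18 := Nat.le_of_dvd (by norm_num) h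
  interval_cases r <;> first | omega | (exact absurd hr (by norm_num))

lemma fix_all {G : Type*} [Group G] (R : Subgroup G) (hR : Nat.card R = 27) (T : G)
    (hT : T ∈ Subgroup.normalizer (R : Set G)) (r : ℕ) [hrp : Fact r.Prime] (hr2 : r ≠ 2) (hr3 : r ≠ 3)
    (hTr : ∀ a ∈ R, T ^ r * a = a * T ^ r) (gz : G) (hzR : gz ∈ R) (hz1 : gz ≠ 1) (hz3 : gz ^ 3 = 1)
    (hzT : T * gz = gz * T) : ∀ a ∈ R, T * a = a * T := by
  classical
  have hfin : Finite R := Nat.finite_of_card_ne_zero (by rw [hR]; norm_num)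
  let _ : Fintype R := Fintype.ofFinite R
  let f : Function.End R := fun a => ⟨T * a * T⁻¹, (Subgroup.mem_normalizer_iff.mp hT a).mp a.2⟩
  have hfpow : ∀ (k : ℕ) (a : R), (((f ^ k) a : R) : G) = T ^ k * a * (T ^ k)⁻¹ := by
    intro k
    induction k with
    | zero =>
      intro a
      rw [pow_zero, pow_zero, one_mul, inv_one, mul_one]
      rfl
    | succ k ih =>
      intro a
      rw [pow_succ]
      show (((f ^ k) (f a) : R) : G) = _
      rw [ih (f a)]
      show T ^ k * (T * a * T⁻¹) * (T ^ k)⁻¹ = _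
      rw [pow_succ, mul_inv_rev]
      group
  have hfr : f ^ r ^ 1 = 1 := by
    rw [pow_one]
    funext a
    apply Subtype.ext
    rw [hfpow r a]
    show T ^ r * a * (T ^ r)⁻¹ = a
    rw [hTr a a.2, mul_inv_cancel_right]
  have hmod := Equiv.Perm.card_fixedPoints_modEq (p := r) (n := 1) hfr
  set C : Subgroup R := (Subgroup.centralizer ({T} : Set G)).subgroupOf R with hC
  have hmemC : ∀ a : R, a ∈ C ↔ T * a = a * T := by
    intro a
    rw [hC, Subgroup.mem_subgroupOf, Subgroup.mem_centralizer_iff]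
    constructor
    · intro h; exact h T rfl
    · intro h t ht
      rw [Set.mem_singleton_iff] at ht
      rw [ht]; exact h
  have hfix : Function.fixedPoints f = (C : Set R) := by
    ext a
    rw [Function.mem_fixedPoints, Function.IsFixedPt, SetLike.mem_coe, hmemC]
    constructor
    · intro h
      have := congrArg Subtype.val h
      have h2 : T * a * T⁻¹ = a := this
      calc T * (a : G) = T * a * T⁻¹ * T := by group
        _ = a * T := by rw [h2]
    · intro h
      apply Subtype.ext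
      show T * a * T⁻¹ = a
      rw [h, mul_inv_cancel_right]
  have hcardfix : Fintype.card (Function.fixedPoints f) = Nat.card C := by
    rw [← Nat.card_eq_fintype_card]
    exact Nat.card_congr (Equiv.setCongr hfix)
  rw [hcardfix, ← Nat.card_eq_fintype_card, hR] at hmod
  have hdvd : Nat.card C ∣ 3 ^ 3 := by
    have := Subgroup.card_subgroup_dvd_card C
    rwa [hR] at this
  have h3dvd : 3 ∣ Nat.card C := by
    have hzC : (⟨gz, hzR⟩ : R) ∈ C := by rw [hmemC]; exact hzT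
    have : Fact (Nat.Prime 3) := ⟨Nat.prime_three⟩
    have hord : orderOf (⟨⟨gz, hzR⟩, hzC⟩ : C) = 3 := by
      apply orderOf_eq_prime
      · apply Subtype.ext
        apply Subtype.ext
        exact hz3
      · intro h
        apply hz1
        have := congrArg (fun t : C => ((t : R) : G)) h
        exact this
    rw [← hord]
    exact orderOf_dvd_natCard _
  obtain ⟨k, hk, hk'⟩ := (Nat.dvd_prime_pow Nat.prime_three).mp hdvd
  have hCtop : Nat.card C = 27 := by
    interval_cases k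
    · rw [hk'] at h3dvd; norm_num at h3dvd
    · exfalso
      rw [hk'] at hmod
      have : r ∣ 27 - 3 ^ 1 := (Nat.modEq_iff_dvd' (by norm_num)).mp hmod.symm
      exact prime_dvd_24 r hrp.out hr2 hr3 (by simpa using this)
    · exfalso
      rw [hk'] at hmod
      have : r ∣ 27 - 3 ^ 2 := (Nat.modEq_iff_dvd' (by norm_num)).mp hmod.symm
      exact prime_dvd_18 r hrp.out hr2 hr3 (by simpa using this)
    · rw [hk']; norm_num
  have htop : C = ⊤ := by
    apply Subgroup.eq_top_of_card_eq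
    rw [hCtop, hR]
  intro a ha
  have : (⟨a, ha⟩ : R) ∈ C := by rw [htop]; trivial
  exact (hmemC ⟨a, ha⟩).mp this

open Matrix Cfsg.Agent.Lib.helper15.SN

variable {F : Type*} [Field F]

lemma conj_scalar (g n : GL (Fin 3) F) (c : F)
    (hn : (n : Matrix (Fin 3) (Fin 3) F) = c • (1 : Matrix (Fin 3) (Fin 3) F)) :
    ((g * n * g⁻¹ : GL (Fin 3) F) : Matrix (Fin 3) (Fin 3) F) = c • (1 : Matrix (Fin 3) (Fin 3) F) := by
  have : g * n * g⁻¹ = n := by
    rw [mul_inv_eq_iff_eq_mul]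
    apply Units.ext
    rw [Units.val_mul, Units.val_mul, hn, Matrix.smul_mul, Matrix.mul_smul, Matrix.one_mul,
      Matrix.mul_one]
  rw [this, hn]

theorem std_no_big_prime {ω : F} {R : Subgroup (GL (Fin 3) F)} {gx gy : GL (Fin 3) F}
    (h : IsStd ω R gx gy) (r : ℕ) [Fact r.Prime] (hr2 : r ≠ 2) (hr3 : r ≠ 3) (T : GL (Fin 3) F)
    (hT : T ∈ Subgroup.normalizer (R : Set (GL (Fin 3) F))) (c : F)
    (hTr : ((T ^ r : GL (Fin 3) F) : Matrix (Fin 3) (Fin 3) F) = c • (1 : Matrix (Fin 3) (Fin 3) F)) :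
    ∃ c' : F, (T : Matrix (Fin 3) (Fin 3) F) = c' • (1 : Matrix (Fin 3) (Fin 3) F) := by
  obtain ⟨hω3, hω1, -, -, hω0⟩ := omega_facts ω h.hω h.h3
  have hdet1 : (ω • (1 : Matrix (Fin 3) (Fin 3) F)).det ≠ 0 := by
    rw [Matrix.det_smul, Matrix.det_one, mul_one]
    exact pow_ne_zero _ hω0
  set gz : GL (Fin 3) F := Matrix.GeneralLinearGroup.mkOfDetNeZero _ hdet1 with hgz
  have hgzv : (gz : Matrix (Fin 3) (Fin 3) F) = ω • (1 : Matrix (Fin 3) (Fin 3) F) :=
    Matrix.GeneralLinearGroup.val_mkOfDetNeZero _ _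
  have hcomm_scalar : ∀ (s a : GL (Fin 3) F) (t : F),
      (s : Matrix (Fin 3) (Fin 3) F) = t • (1 : Matrix (Fin 3) (Fin 3) F) → s * a = a * s := by
    intro s a t hs
    apply Units.ext
    rw [Units.val_mul, Units.val_mul, hs, Matrix.smul_mul, Matrix.mul_smul, Matrix.one_mul,
      Matrix.mul_one]
  have hzR := h.scalar_mem gz hgzv
  have hz1 : gz ≠ 1 := by
    intro h1
    have := congrArg Units.val h1
    rw [hgzv, Units.val_one] at this
    have h00 := congrFun (congrFun this 0) 0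
    simp at h00
    exact hω1 h00
  have hz3 : gz ^ 3 = 1 := by
    apply Units.ext
    rw [Units.val_pow_eq_pow_val, hgzv, smul_pow, one_pow, hω3, one_smul, Units.val_one]
  have hall := fix_all R h.card T hT r hr2 hr3 (fun a _ => hcomm_scalar (T ^ r) a c hTr) gz hzR hz1 hz3
    (hcomm_scalar gz T ω hgzv).symm
  exact h.central T hall

lemma not_243_dvd (p : ℕ) (hp : p % 9 = 4 ∨ p % 9 = 7) :
    ¬ 243 ∣ (p ^ 3 - 1) * (p ^ 3 - p) * (p ^ 3 - p ^ 2) := by
  obtain ⟨m, rfl⟩ : ∃ m, p = 3 * m + 1 := ⟨p / 3, by omega⟩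
  have hm : m % 3 ≠ 0 := by omega
  have e1 : (3 * m + 1) ^ 3 - 1 = 9 * (m * (3 * m ^ 2 + 3 * m + 1)) := by
    apply Nat.sub_eq_of_eq_add
    ring
  have e2 : (3 * m + 1) ^ 3 - (3 * m + 1) = 3 * (m * (3 * m + 1) * (3 * m + 2)) := by
    apply Nat.sub_eq_of_eq_add
    ring
  have e3 : (3 * m + 1) ^ 3 - (3 * m + 1) ^ 2 = 3 * (m * (3 * m + 1) ^ 2) := by
    apply Nat.sub_eq_of_eq_add
    ring
  rw [e1, e2, e3]
  intro hdvd
  have e : 9 * (m * (3 * m ^ 2 + 3 * m + 1)) * (3 * (m * (3 * m + 1) * (3 * m + 2))) *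
      (3 * (m * (3 * m + 1) ^ 2)) =
      81 * (m ^ 3 * (3 * m ^ 2 + 3 * m + 1) * (3 * m + 1) ^ 3 * (3 * m + 2)) := by ring
  rw [e] at hdvd
  have h3 : 3 ∣ m ^ 3 * (3 * m ^ 2 + 3 * m + 1) * (3 * m + 1) ^ 3 * (3 * m + 2) := by
    have : (243 : ℕ) = 81 * 3 := by norm_num
    rw [this] at hdvd
    exact Nat.dvd_of_mul_dvd_mul_left (by norm_num) hdvd
  have hp3 := Nat.prime_three
  rcases (Nat.Prime.dvd_mul hp3).mp h3 with h | h
  · rcases (Nat.Prime.dvd_mul hp3).mp h with h | h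
    · rcases (Nat.Prime.dvd_mul hp3).mp h with h | h
      · have := hp3.dvd_of_dvd_pow h
        omega
      · have e4 : 3 * m ^ 2 + 3 * m + 1 = 3 * (m ^ 2 + m) + 1 := by ring
        rw [e4] at h
        omega
    · have := hp3.dvd_of_dvd_pow h
      omega
  · omega

end Cfsg.Agent.Lib.helper15.ES
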