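import Mathlib
import Cfsg.Prelude.Def_GeometricClasses
import Cfsg.Agent.Lib.helper15.ES8

set_option autoImplicit false

namespace Cfsg.Agent.Lib.helper15.ES

open Matrix Cfsg.Agent.Lib.helper15.SN

variable {F : Type*} [Field F] [Fintype F]

lemma card_SL_mul' : Nat.card (Cfsg.Geo.specialLinear (Fin 3) F) * (Fintype.card F - 1) =
    Nat.card (GL (Fin 3) F) := by
  have h1 := Subgroup.card_mul_index (Matrix.GeneralLinearGroup.det : GL (Fin 3) F →* Fˣ).ker
  rw [Subgroup.index_ker, MonoidHom.range_eq_top.mpr Matrix.GeneralLinearGroup.det_surjective,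
    Nat.card_congr Subgroup.topEquiv.toEquiv, Nat.card_units, Nat.card_eq_fintype_card (α := F)] at h1
  exact h1

theorem index_contra3 (R : Subgroup (GL (Fin 3) F)) (hR : Nat.card R = 27)
    (hRSL : R ≤ Cfsg.Geo.specialLinear (Fin 3) F)
    (hq : Fintype.card F % 9 = 4 ∨ Fintype.card F % 9 = 7)
    (hΩ : 3 ∣ (Cfsg.Geo.subgroupNormalizer R).relIndex (Cfsg.Geo.specialLinear (Fin 3) F)) : False := by
  set K := Cfsg.Geo.specialLinear (Fin 3) F with hK
  set N := Cfsg.Geo.subgroupNormalizer R with hN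
  have hRN : R ≤ N := Subgroup.le_normalizer
  have h27 : 27 ∣ Nat.card (N.subgroupOf K) := by
    have h1 : R.subgroupOf K ≤ N.subgroupOf K := Subgroup.subgroupOf_mono K hRN
    have h2 := Subgroup.card_dvd_of_le h1
    rwa [Nat.card_congr (Subgroup.subgroupOfEquivOfLe hRSL).toEquiv, hR] at h2
  have h81 : 81 ∣ Nat.card K := by
    rw [← Subgroup.card_mul_index (N.subgroupOf K)]
    have : (81 : ℕ) = 27 * 3 := by norm_num
    rw [this]
    exact Nat.mul_dvd_mul h27 hΩ
  have h3 : 3 ∣ Fintype.card F - 1 := by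
    have := Fintype.card_pos (α := F)
    omega
  have h243 : 243 ∣ Nat.card (GL (Fin 3) F) := by
    rw [← card_SL_mul']
    have : (243 : ℕ) = 81 * 3 := by norm_num
    rw [this]
    exact Nat.mul_dvd_mul h81 h3
  rw [Matrix.card_GL_field, Fin.prod_univ_three] at h243
  simp only [Fin.val_zero, Fin.val_one, Fin.val_two, pow_zero, pow_one] at h243
  exact not_243_dvd _ hq h243

end Cfsg.Agent.Lib.helper15.ES
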