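import Mathlib
import Cfsg.Agent.Lib.helper15.ES7

set_option autoImplicit false

namespace Cfsg.Agent.Lib.helper15.ES

open Matrix Cfsg.Agent.Lib.helper15.SN

variable {F : Type*} [Field F]

theorem conj_into' (R : Subgroup (GL (Fin 3) F)) (x : GL (Fin 3) F)
    (Vm Um : Matrix (Fin 3) (Fin 3) F) (d : Fin 3 → F) (c : F) (hc : c ≠ 0)
    (hV : IsUnit Vm.det) (hU : IsUnit Um.det)
    (hx : (x : Matrix (Fin 3) (Fin 3) F) * Vm = c • (Vm * Matrix.diagonal d))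
    (s₀ : GL (Fin 3) F) (hs : s₀ ∈ Subgroup.normalizer (R : Set (GL (Fin 3) F)))
    (hsU : (s₀ : Matrix (Fin 3) (Fin 3) F) * Um = Um * Matrix.diagonal d) :
    ∃ Q s' : GL (Fin 3) F, (s' : Matrix (Fin 3) (Fin 3) F) = c • (s₀ : Matrix (Fin 3) (Fin 3) F) ∧
      s' ∈ Subgroup.normalizer (R : Set (GL (Fin 3) F)) ∧ Q⁻¹ * x * Q = s' := by
  have hy : (c⁻¹ • (x : Matrix (Fin 3) (Fin 3) F)) * Vm = Vm * Matrix.diagonal d := by
    rw [Matrix.smul_mul, hx, smul_smul, inv_mul_cancel₀ hc, one_smul]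
  obtain ⟨P, hPdet, hP⟩ := conj_of_diag (s₀ : Matrix (Fin 3) (Fin 3) F)
    (c⁻¹ • (x : Matrix (Fin 3) (Fin 3) F)) Um Vm d hU hV hsU hy 1
  have hdet0 : P.det ≠ 0 := by rw [hPdet]; exact one_ne_zero
  have hsdet : (c • (s₀ : Matrix (Fin 3) (Fin 3) F)).det ≠ 0 := by
    rw [Matrix.det_smul]
    apply mul_ne_zero (pow_ne_zero _ hc)
    have := (Matrix.isUnit_iff_isUnit_det _).mp s₀.isUnit
    exact this.ne_zero
  set Q : GL (Fin 3) F := Matrix.GeneralLinearGroup.mkOfDetNeZero P hdet0 with hQ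
  set s' : GL (Fin 3) F := Matrix.GeneralLinearGroup.mkOfDetNeZero _ hsdet with hs'
  have hs'N : s' ∈ Subgroup.normalizer (R : Set (GL (Fin 3) F)) :=
    IsStd.smul_mem_normalizer R s₀ s' c hc hs (Matrix.GeneralLinearGroup.val_mkOfDetNeZero _ _)
  refine ⟨Q, s', Matrix.GeneralLinearGroup.val_mkOfDetNeZero _ _, hs'N, ?_⟩
  rw [mul_assoc, inv_mul_eq_iff_eq_mul]
  apply Units.ext
  rw [Units.val_mul, Units.val_mul, hQ, hs', Matrix.GeneralLinearGroup.val_mkOfDetNeZero,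
    Matrix.GeneralLinearGroup.val_mkOfDetNeZero, Matrix.mul_smul, hP, Matrix.smul_mul, smul_smul,
    mul_inv_cancel₀ hc, one_smul]

theorem std_r2' {ω : F} {R : Subgroup (GL (Fin 3) F)} {gx gy : GL (Fin 3) F} (h : IsStd ω R gx gy)
    (h2 : (2 : F) ≠ 0) (x : GL (Fin 3) F) (hdet : (x : Matrix (Fin 3) (Fin 3) F).det = 1) (z : F)
    (hx2 : (x : Matrix (Fin 3) (Fin 3) F) * (x : Matrix (Fin 3) (Fin 3) F) =
      z • (1 : Matrix (Fin 3) (Fin 3) F))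
    (hns : ∀ c : F, (x : Matrix (Fin 3) (Fin 3) F) ≠ c • (1 : Matrix (Fin 3) (Fin 3) F)) :
    ∃ (Q s' : GL (Fin 3) F) (c : F), c ^ 3 = 1 ∧
      (s' : Matrix (Fin 3) (Fin 3) F) = c • (J0 : Matrix (Fin 3) (Fin 3) F) ∧
      s' ∈ Subgroup.normalizer (R : Set (GL (Fin 3) F)) ∧ Q⁻¹ * x * Q = s' := by
  have hz3 : z ^ 3 = 1 := by
    have := congrArg Matrix.det hx2
    rw [Matrix.det_mul, hdet, one_mul, Matrix.det_smul, Matrix.det_one, mul_one, Fintype.card_fin] at this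
    exact this.symm
  have hz0 : z ≠ 0 := by
    intro h0; rw [h0] at hz3; simp at hz3
  set A : Matrix (Fin 3) (Fin 3) F := z • (x : Matrix (Fin 3) (Fin 3) F) with hA
  have hAA : A * A = 1 := by
    rw [hA, Matrix.smul_mul, Matrix.mul_smul, hx2, smul_smul, smul_smul]
    have : z * z * z = z ^ 3 := by ring
    rw [this, hz3, one_smul]
  have hAdet : A.det = 1 := by
    rw [hA, Matrix.det_smul, hdet, mul_one, Fintype.card_fin, hz3]
  have hA1 : A ≠ 1 := by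
    intro h1
    apply hns z⁻¹
    have : z⁻¹ • A = z⁻¹ • (1 : Matrix (Fin 3) (Fin 3) F) := by rw [h1]
    rwa [hA, smul_smul, inv_mul_cancel₀ hz0, one_smul] at this
  obtain ⟨Vm, hV, hAV⟩ := invol_basis h2 A hAA hAdet hA1
  have hJdet : (J0 : Matrix (Fin 3) (Fin 3) F).det ≠ 0 := by rw [det_J0]; exact one_ne_zero
  set gJ : GL (Fin 3) F := Matrix.GeneralLinearGroup.mkOfDetNeZero J0 hJdet with hgJ
  have hgJv : (gJ : Matrix (Fin 3) (Fin 3) F) = J0 := Matrix.GeneralLinearGroup.val_mkOfDetNeZero _ _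
  have hU : IsUnit (!![1, 0, 0; 0, 1, 1; 0, 1, -1] : Matrix (Fin 3) (Fin 3) F).det := by
    rw [det_UJ]
    exact (neg_ne_zero.mpr h2).isUnit
  obtain ⟨Q, s', hs'v, hs'N, hQ⟩ := conj_into' R x Vm _ ![-1, -1, 1] z⁻¹ (inv_ne_zero hz0) hV hU
    (by rw [← hAV, hA, Matrix.smul_mul, smul_smul, inv_mul_cancel₀ hz0, one_smul])
    gJ (h.J0_mem gJ hgJv) (by rw [hgJv]; exact J0_eig)
  refine ⟨Q, s', z⁻¹, by rw [inv_pow, hz3, inv_one], by rw [hs'v, hgJv], hs'N, hQ⟩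

theorem std_r3' {ω : F} {R : Subgroup (GL (Fin 3) F)} {gx gy : GL (Fin 3) F} (h : IsStd ω R gx gy)
    (η : F) (hη9 : η ^ 9 = 1) (hη3 : η ^ 3 ≠ 1)
    (x : GL (Fin 3) F) (hdet : (x : Matrix (Fin 3) (Fin 3) F).det = 1) (z : F)
    (hx3 : (x : Matrix (Fin 3) (Fin 3) F) ^ 3 = z • (1 : Matrix (Fin 3) (Fin 3) F))
    (hns : ∀ c : F, (x : Matrix (Fin 3) (Fin 3) F) ≠ c • (1 : Matrix (Fin 3) (Fin 3) F)) :
    ∃ (Q s' : GL (Fin 3) F) (c : F) (M : Matrix (Fin 3) (Fin 3) F), c ^ 9 = 1 ∧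
      (s' : Matrix (Fin 3) (Fin 3) F) = c • M ∧ (M = X0 ω ∨ M = D0 ω ∨ M = D0 ω * D0 ω) ∧
      s' ∈ Subgroup.normalizer (R : Set (GL (Fin 3) F)) ∧ Q⁻¹ * x * Q = s' := by
  obtain ⟨hω3, hω1, hω21, hω2ω, hω0⟩ := omega_facts ω h.hω h.h3
  have hz3 : z ^ 3 = 1 := by
    have := congrArg Matrix.det hx3
    rw [Matrix.det_pow, hdet, one_pow, Matrix.det_smul, Matrix.det_one, mul_one, Fintype.card_fin] at this
    exact this.symm
  have hη0 : η ≠ 0 := by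
    intro h0; rw [h0] at hη9; simp at hη9
  have hρ3 : (η ^ 3) ^ 3 = 1 := by rw [← pow_mul]; exact hη9
  obtain ⟨a, ha0, ha3, ha9⟩ : ∃ a : F, a ≠ 0 ∧ a ^ 3 = z ∧ a ^ 9 = 1 := by
    by_cases hz1 : z = 1
    · exact ⟨1, one_ne_zero, by rw [hz1, one_pow], one_pow _⟩
    · have hρω : η ^ 3 = ω ∨ η ^ 3 = ω ^ 2 := cube_root_cases ω (η ^ 3) h.hω hρ3 hη3
      have h29 : (η ^ 2) ^ 9 = 1 := by
        rw [← pow_mul, mul_comm, pow_mul, hη9, one_pow]
      rcases cube_root_cases ω z h.hω hz3 hz1 with hz | hz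
      · rcases hρω with hr | hr
        · exact ⟨η, hη0, by rw [hr, hz], hη9⟩
        · refine ⟨η ^ 2, pow_ne_zero _ hη0, ?_, h29⟩
          have : (η ^ 2) ^ 3 = (η ^ 3) ^ 2 := by ring
          rw [this, hr, hz]
          calc (ω ^ 2) ^ 2 = ω ^ 3 * ω := by ring
            _ = ω := by rw [hω3, one_mul]
      · rcases hρω with hr | hr
        · refine ⟨η ^ 2, pow_ne_zero _ hη0, ?_, h29⟩
          have : (η ^ 2) ^ 3 = (η ^ 3) ^ 2 := by ring
          rw [this, hr, hz]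
        · exact ⟨η, hη0, by rw [hr, hz], hη9⟩
  set A : Matrix (Fin 3) (Fin 3) F := a⁻¹ • (x : Matrix (Fin 3) (Fin 3) F) with hA
  have hxA : (x : Matrix (Fin 3) (Fin 3) F) = a • A := by
    rw [hA, smul_smul, mul_inv_cancel₀ ha0, one_smul]
  have hA3 : A ^ 3 = 1 := by
    rw [hA, smul_pow, hx3, smul_smul, inv_pow, ha3, inv_mul_cancel₀, one_smul]
    intro h0; rw [h0] at hz3; simp at hz3
  have hAns : ∀ c : F, A ≠ c • (1 : Matrix (Fin 3) (Fin 3) F) := by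
    intro c hc
    apply hns (a * c)
    rw [hxA, hc, smul_smul]
  have h1U : IsUnit (1 : Matrix (Fin 3) (Fin 3) F).det := by
    rw [Matrix.det_one]; exact isUnit_one
  rcases cube_basis ω h.hω h.h3 A hA3 hAns with ⟨Vm, hV, hAV⟩ | ⟨Vm, lam, β, hV, hl3, hb3, hlb, hAV⟩
  · obtain ⟨Q, s', hs'v, hs'N, hQ⟩ := conj_into' R x Vm 1 ![1, ω, ω ^ 2] a ha0 hV h1U
      (by rw [hxA, Matrix.smul_mul, hAV]) gx
      (Subgroup.le_normalizer h.gx_mem) (by rw [h.gx_val]; exact X0_diag ω)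
    exact ⟨Q, s', a, X0 ω, ha9, by rw [hs'v, h.gx_val], Or.inl rfl, hs'N, hQ⟩
  · have hl0 : lam ≠ 0 := by
      intro h0; rw [h0] at hl3; simp at hl3
    set κ := β * lam⁻¹ with hκ
    have hκ3 : κ ^ 3 = 1 := by
      rw [hκ, mul_pow, inv_pow, hb3, hl3, inv_one, mul_one]
    have hκ1 : κ ≠ 1 := by
      intro h1
      apply hlb
      have : β = κ * lam := by rw [hκ, mul_assoc, inv_mul_cancel₀ hl0, mul_one]
      rw [this, h1, one_mul]
    have hdiag : Matrix.diagonal ![lam, lam, β] = lam • Matrix.diagonal ![1, 1, κ] := by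
      rw [← Matrix.diagonal_smul]
      congr 1
      ext i
      fin_cases i
      · simp
      · simp
      · simp only [Pi.smul_apply, smul_eq_mul]
        show β = lam * κ
        rw [hκ, mul_comm β, ← mul_assoc, mul_inv_cancel₀ hl0, one_mul]
    have hxV : (x : Matrix (Fin 3) (Fin 3) F) * Vm = (a * lam) • (Vm * Matrix.diagonal ![1, 1, κ]) := by
      rw [hxA, Matrix.smul_mul, hAV, hdiag, Matrix.mul_smul, smul_smul]
    have hal9 : (a * lam) ^ 9 = 1 := by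
      rw [mul_pow, ha9, one_mul]
      have : lam ^ 9 = (lam ^ 3) ^ 3 := by ring
      rw [this, hl3, one_pow]
    have hDdet : (D0 ω).det ≠ 0 := by rw [det_D0]; exact hω0
    set gD : GL (Fin 3) F := Matrix.GeneralLinearGroup.mkOfDetNeZero (D0 ω) hDdet with hgD
    have hgDv : (gD : Matrix (Fin 3) (Fin 3) F) = D0 ω := Matrix.GeneralLinearGroup.val_mkOfDetNeZero _ _
    have hgDN := h.D0_mem gD hgDv
    rcases cube_root_cases ω κ h.hω hκ3 hκ1 with hk | hk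
    · obtain ⟨Q, s', hs'v, hs'N, hQ⟩ := conj_into' R x Vm 1 ![1, 1, κ] (a * lam)
        (mul_ne_zero ha0 hl0) hV h1U hxV gD hgDN (by rw [hgDv, hk]; exact D0_diag ω)
      exact ⟨Q, s', a * lam, D0 ω, hal9, by rw [hs'v, hgDv], Or.inr (Or.inl rfl), hs'N, hQ⟩
    · obtain ⟨Q, s', hs'v, hs'N, hQ⟩ := conj_into' R x Vm 1 ![1, 1, κ] (a * lam)
        (mul_ne_zero ha0 hl0) hV h1U hxV (gD * gD)
        (Subgroup.mul_mem _ hgDN hgDN)
        (by rw [Units.val_mul, hgDv, hk]; exact D0_sq_diag ω)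
      exact ⟨Q, s', a * lam, D0 ω * D0 ω, hal9, by rw [hs'v, Units.val_mul, hgDv],
        Or.inr (Or.inr rfl), hs'N, hQ⟩

end Cfsg.Agent.Lib.helper15.ES
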