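import Mathlib
import Cfsg.Prelude.Def_LieClassical
import Cfsg.Prelude.Def_GeometricClasses
import Cfsg.Agent.Lib.Lead.Unitary
import Cfsg.Agent.Lib.helper15.ESU1
import Cfsg.Agent.Lib.Helper16.GUConj

set_option autoImplicit false
set_option linter.unusedSimpArgs false
set_option linter.unusedSectionVars false

namespace Cfsg.Agent.Lib.helper15.ES

open Cfsg.Agent.Lib.helper15.SN

variable {F : Type*} [Field F] (σ : F →+* F)

def IsU (M : Matrix (Fin 3) (Fin 3) F) : Prop := M.transpose * M.map σ = 1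

lemma isU_mul {M N : Matrix (Fin 3) (Fin 3) F} (hM : IsU σ M) (hN : IsU σ N) : IsU σ (M * N) := by
  unfold IsU at *
  rw [Matrix.transpose_mul, Matrix.map_mul, Matrix.mul_assoc, ← Matrix.mul_assoc M.transpose, hM,
    Matrix.one_mul, hN]

lemma isU_smul {M : Matrix (Fin 3) (Fin 3) F} (hM : IsU σ M) (c : F) (hc : c * σ c = 1) :
    IsU σ (c • M) := by
  unfold IsU at *
  have e : (c • M).map σ = σ c • M.map σ := by
    ext i j
    simp
  rw [Matrix.transpose_smul, e, Matrix.smul_mul, Matrix.mul_smul, smul_smul, hM, hc, one_smul]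

lemma isU_X0 (ω : F) (hω : ω * σ ω = 1) : IsU σ (X0 ω) := by
  unfold IsU
  ext i j
  fin_cases i <;> fin_cases j <;>
    simp [X0, Matrix.mul_apply, Fin.sum_univ_three, Matrix.one_apply, hω, ← mul_pow]

lemma isU_D0 (ω : F) (hω : ω * σ ω = 1) : IsU σ (D0 ω) := by
  unfold IsU
  ext i j
  fin_cases i <;> fin_cases j <;>
    simp [D0, Matrix.mul_apply, Fin.sum_univ_three, Matrix.one_apply, hω]

lemma isU_J0 : IsU σ (J0 : Matrix (Fin 3) (Fin 3) F) := by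
  unfold IsU
  ext i j
  fin_cases i <;> fin_cases j <;>
    simp [J0, Matrix.mul_apply, Fin.sum_univ_three, Matrix.one_apply]

lemma isU_diagC (t : F) (ht : t * σ t = 1) : IsU σ (Matrix.diagonal ![t, 1, 1]) := by
  unfold IsU
  ext i j
  fin_cases i <;> fin_cases j <;>
    simp [Matrix.mul_apply, Fin.sum_univ_three, Matrix.one_apply, Matrix.diagonal, ht]

lemma isU_det {M : Matrix (Fin 3) (Fin 3) F} (hM : IsU σ M) : M.det * σ M.det = 1 := by
  unfold IsU at hM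
  have := congrArg Matrix.det hM
  rw [Matrix.det_mul, Matrix.det_transpose, Matrix.det_one] at this
  rw [← this]
  congr 1
  exact RingHom.map_det σ M

lemma comm_X0 (ω t : F) : X0 ω * Matrix.diagonal ![t, 1, 1] = Matrix.diagonal ![t, 1, 1] * X0 ω := by
  ext i j
  fin_cases i <;> fin_cases j <;>
    simp [X0, Matrix.mul_apply, Fin.sum_univ_three, Matrix.diagonal]

lemma comm_D0 (ω t : F) : D0 ω * Matrix.diagonal ![t, 1, 1] = Matrix.diagonal ![t, 1, 1] * D0 ω := by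
  ext i j
  fin_cases i <;> fin_cases j <;>
    simp [D0, Matrix.mul_apply, Fin.sum_univ_three, Matrix.diagonal]

lemma comm_J0 (t : F) : (J0 : Matrix (Fin 3) (Fin 3) F) * Matrix.diagonal ![t, 1, 1] =
    Matrix.diagonal ![t, 1, 1] * J0 := by
  ext i j
  fin_cases i <;> fin_cases j <;>
    simp [J0, Matrix.mul_apply, Fin.sum_univ_three, Matrix.diagonal]

section grp
variable {F : Type*} [Field F] [Fintype F] {q : ℕ} (σ : F →+* F)

lemma mem_GU_iff_isU (hσ : ∀ x, σ x = x ^ q) (g : GL (Fin 3) F) :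
    g ∈ Cfsg.GU 3 F q ↔ IsU σ (g : Matrix (Fin 3) (Fin 3) F) :=
  Iff.trans Iff.rfl (Cfsg.Agent.Lib.Lead.preserves_iff σ hσ _)

theorem finish (hF : Fintype.card F = q ^ 2) (hσ : ∀ x, σ x = x ^ q)
    (R : Subgroup (GL (Fin 3) F)) (B x s' Q : GL (Fin 3) F)
    (hB : B ∈ Cfsg.GU 3 F q) (hx : x ∈ Cfsg.GU 3 F q) (hs'U : s' ∈ Cfsg.GU 3 F q)
    (hs'N : s' ∈ Subgroup.normalizer
      ((R.map (MulAut.conj B⁻¹).toMonoidHom : Subgroup (GL (Fin 3) F)) : Set (GL (Fin 3) F)))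
    (hconj : Q⁻¹ * x * Q = s')
    (hcomm : ∀ t : F, (s' : Matrix (Fin 3) (Fin 3) F) * Matrix.diagonal ![t, 1, 1] =
      Matrix.diagonal ![t, 1, 1] * (s' : Matrix (Fin 3) (Fin 3) F)) :
    ∃ g ∈ Cfsg.GU 3 F q ⊓ Cfsg.Geo.specialLinear (Fin 3) F,
      g⁻¹ * x * g ∈ Cfsg.Geo.subgroupNormalizer R := by
  set n : GL (Fin 3) F := B * s' * B⁻¹ with hn
  have hnU : n ∈ Cfsg.GU 3 F q :=
    Subgroup.mul_mem _ (Subgroup.mul_mem _ hB hs'U) (Subgroup.inv_mem _ hB)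
  have hnN : n ∈ Subgroup.normalizer (R : Set (GL (Fin 3) F)) := by
    have h1 : (1 : GL (Fin 3) F)⁻¹ * s' * 1 ∈ Subgroup.normalizer
        ((R.map (MulAut.conj B⁻¹).toMonoidHom : Subgroup (GL (Fin 3) F)) : Set (GL (Fin 3) F)) := by
      rw [inv_one, one_mul, mul_one]; exact hs'N
    have h2 := normalizer_transport R B 1 s' h1
    have e : (1 * B⁻¹)⁻¹ * s' * (1 * B⁻¹) = n := by
      rw [hn]; group
    rwa [e] at h2
  have hc1 : IsConj x n := by
    rw [isConj_iff]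
    refine ⟨B * Q⁻¹, ?_⟩
    rw [hn, ← hconj]
    group
  have hc2 : IsConj (⟨x, hx⟩ : Cfsg.GU 3 F q) ⟨n, hnU⟩ :=
    (Cfsg.Agent.Lib.Helper16.FCR.gu_conj_iff hF ⟨x, hx⟩ ⟨n, hnU⟩).mpr hc1
  obtain ⟨g₀, hg₀⟩ := isConj_iff.mp hc2
  have hg₀' : (g₀ : GL (Fin 3) F) * x * (g₀ : GL (Fin 3) F)⁻¹ = n := by
    have := congrArg Subtype.val hg₀
    simpa using this
  set t : F := ((g₀ : GL (Fin 3) F) : Matrix (Fin 3) (Fin 3) F).det with ht
  have htU : t * σ t = 1 := isU_det σ ((mem_GU_iff_isU σ hσ _).mp g₀.2)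
  have ht0 : t ≠ 0 := by
    intro h0; rw [h0, zero_mul] at htU; exact zero_ne_one htU
  have hCdet : (Matrix.diagonal ![t, 1, 1] : Matrix (Fin 3) (Fin 3) F).det = t := by
    rw [Matrix.det_diagonal, Fin.prod_univ_three]
    simp
  have hCdet0 : (Matrix.diagonal ![t, 1, 1] : Matrix (Fin 3) (Fin 3) F).det ≠ 0 := by
    rw [hCdet]; exact ht0
  set C : GL (Fin 3) F := Matrix.GeneralLinearGroup.mkOfDetNeZero _ hCdet0 with hC
  have hCv : (C : Matrix (Fin 3) (Fin 3) F) = Matrix.diagonal ![t, 1, 1] :=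
    Matrix.GeneralLinearGroup.val_mkOfDetNeZero _ _
  have hCU : C ∈ Cfsg.GU 3 F q := by
    rw [mem_GU_iff_isU σ hσ, hCv]
    exact isU_diagC σ t htU
  have hCs : s' * C = C * s' := by
    apply Units.ext
    rw [Units.val_mul, Units.val_mul, hCv]
    exact hcomm t
  set g : GL (Fin 3) F := (g₀ : GL (Fin 3) F)⁻¹ * B * C * B⁻¹ with hg
  have hgU : g ∈ Cfsg.GU 3 F q :=
    Subgroup.mul_mem _ (Subgroup.mul_mem _ (Subgroup.mul_mem _ (Subgroup.inv_mem _ g₀.2) hB) hCU)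
      (Subgroup.inv_mem _ hB)
  have hgdet : g ∈ Cfsg.Geo.specialLinear (Fin 3) F := by
    show Matrix.GeneralLinearGroup.det g = 1
    have hdC : Matrix.GeneralLinearGroup.det C = Matrix.GeneralLinearGroup.det (g₀ : GL (Fin 3) F) := by
      apply Units.ext
      rw [Matrix.GeneralLinearGroup.val_det_apply, Matrix.GeneralLinearGroup.val_det_apply, hCv, hCdet]
    rw [hg, map_mul, map_mul, map_mul, map_inv, map_inv, hdC]
    rw [mul_comm (Matrix.GeneralLinearGroup.det (g₀ : GL (Fin 3) F))⁻¹, mul_assoc, mul_assoc]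
    simp
  refine ⟨g, ⟨hgU, hgdet⟩, ?_⟩
  have e : g⁻¹ * x * g = n := by
    have e1 : x = (g₀ : GL (Fin 3) F)⁻¹ * n * (g₀ : GL (Fin 3) F) := by
      rw [← hg₀']; group
    have e2 : C⁻¹ * s' * C = s' := by
      rw [mul_assoc, hCs, ← mul_assoc, inv_mul_cancel, one_mul]
    rw [e1, hg, hn]
    calc ((g₀ : GL (Fin 3) F)⁻¹ * B * C * B⁻¹)⁻¹ * ((g₀ : GL (Fin 3) F)⁻¹ * (B * s' * B⁻¹) *
          (g₀ : GL (Fin 3) F)) * ((g₀ : GL (Fin 3) F)⁻¹ * B * C * B⁻¹)
        = B * (C⁻¹ * s' * C) * B⁻¹ := by group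
      _ = B * s' * B⁻¹ := by rw [e2]
  show g⁻¹ * x * g ∈ Subgroup.normalizer (R : Set (GL (Fin 3) F))
  rw [e]
  exact hnN

end grp

end Cfsg.Agent.Lib.helper15.ES
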