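import Mathlib
import Cfsg.Prelude.Def_Classical
import Cfsg.Agent.Lib.Lead.Unitary
import Cfsg.Agent.S0278
import Cfsg.Agent.S0279

set_option autoImplicit false

namespace Cfsg.Agent.Lib.helper15.SU3Inv

open Matrix Finset Cfsg.Agent.Lib.Lead

section alg
variable {F : Type*} [Field F] (σ : F →+* F)

def hd (u v : Fin 3 → F) : F := u ⬝ᵥ (σ ∘ v)

def proj (w : Fin 3 → F) : Matrix (Fin 3) (Fin 3) F := vecMulVec w (σ ∘ w)

def rfl3 (w : Fin 3 → F) : Matrix (Fin 3) (Fin 3) F := (2 : F) • proj σ w - 1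

theorem hd_conj (hσσ : ∀ x, σ (σ x) = x) (u v : Fin 3 → F) : σ (hd σ u v) = hd σ v u := by
  simp only [hd, dotProduct, Function.comp, map_sum, map_mul, hσσ]
  exact Finset.sum_congr rfl (fun i _ => mul_comm _ _)

theorem hd_smul_left (a : F) (u v : Fin 3 → F) : hd σ (a • u) v = a * hd σ u v := by
  simp only [hd, smul_dotProduct, smul_eq_mul]

theorem hd_smul_right (a : F) (u v : Fin 3 → F) : hd σ u (a • v) = σ a * hd σ u v := by
  simp only [hd, dotProduct, Function.comp, Pi.smul_apply, smul_eq_mul, map_mul, Finset.mul_sum]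
  exact Finset.sum_congr rfl (fun i _ => by ring)

theorem proj_mul_proj (u w : Fin 3 → F) :
    proj σ u * proj σ w = hd σ w u • vecMulVec u (σ ∘ w) := by
  rw [proj, proj, vecMulVec_mul_vecMulVec, vecMulVec_smul, hd, dotProduct_comm]

theorem proj_mul_self (w : Fin 3 → F) (hw : hd σ w w = 1) : proj σ w * proj σ w = proj σ w := by
  rw [proj_mul_proj, hw, one_smul, proj]

theorem proj_mulVec (w v : Fin 3 → F) : proj σ w *ᵥ v = hd σ v w • w := by
  rw [proj, vecMulVec_mulVec, hd, dotProduct_comm]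
  ext i
  simp [mul_comm]

theorem rfl3_mul_self (w : Fin 3 → F) (hw : hd σ w w = 1) : rfl3 σ w * rfl3 σ w = 1 := by
  have h := proj_mul_self σ w hw
  simp only [rfl3, sub_mul, mul_sub, smul_mul_assoc, mul_smul_comm, h, one_mul, mul_one]
  ext i j
  simp only [Matrix.sub_apply, Matrix.smul_apply, smul_eq_mul]
  ring

theorem proj_transpose (hσσ : ∀ x, σ (σ x) = x) (w : Fin 3 → F) :
    (proj σ w)ᵀ = (proj σ w).map σ := by
  ext i j
  simp [proj, vecMulVec_apply, hσσ, mul_comm]

theorem rfl3_transpose (hσσ : ∀ x, σ (σ x) = x) (w : Fin 3 → F) :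
    (rfl3 σ w)ᵀ = (rfl3 σ w).map σ := by
  ext i j
  have h := congrFun (congrFun (proj_transpose σ hσσ w) i) j
  simp only [transpose_apply, map_apply] at h
  simp only [rfl3, transpose_apply, map_apply, Matrix.sub_apply, Matrix.smul_apply, smul_eq_mul,
    one_apply, map_sub, map_mul, map_ofNat, h]
  by_cases hij : i = j
  · subst hij; simp
  · simp [hij, Ne.symm hij]

theorem rfl3_unitary (hσσ : ∀ x, σ (σ x) = x) (w : Fin 3 → F) (hw : hd σ w w = 1) :
    (rfl3 σ w)ᵀ * (rfl3 σ w).map σ = 1 := by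
  rw [← rfl3_transpose σ hσσ]
  have h := congrArg Matrix.transpose (rfl3_mul_self σ w hw)
  rwa [transpose_mul, transpose_one] at h

theorem rfl3_det (w : Fin 3 → F) (hw : hd σ w w = 1) : (rfl3 σ w).det = 1 := by
  have hw' : w 0 * σ (w 0) + w 1 * σ (w 1) + w 2 * σ (w 2) = 1 := by
    simpa [hd, dotProduct, Fin.sum_univ_three] using hw
  rw [det_fin_three]
  simp only [rfl3, proj, Matrix.sub_apply, Matrix.smul_apply, vecMulVec_apply, Function.comp,
    smul_eq_mul, one_apply]
  simp
  linear_combination (2 : F) * hw'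

end alg

section alg2
variable {F : Type*} [Field F] (σ : F →+* F)

theorem hd_self_fixed (hσσ : ∀ x, σ (σ x) = x) (w : Fin 3 → F) : σ (hd σ w w) = hd σ w w :=
  hd_conj σ hσσ w w

theorem proj_smul (a : F) (w : Fin 3 → F) : proj σ (a • w) = (a * σ a) • proj σ w := by
  ext i j
  simp only [proj, vecMulVec_apply, Function.comp, Pi.smul_apply, smul_eq_mul, map_mul,
    Matrix.smul_apply]
  ring

theorem proj_ne_one (w : Fin 3 → F) : proj σ w ≠ 1 := by
  intro h
  have := congrArg Matrix.det h
  rw [proj, det_vecMulVec, det_one] at this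
  exact zero_ne_one this

theorem rfl3_ne_one (h2 : (2 : F) ≠ 0) (w : Fin 3 → F) : rfl3 σ w ≠ 1 := by
  intro h
  apply proj_ne_one σ w
  have h' : (2 : F) • proj σ w = (2 : F) • (1 : Matrix (Fin 3) (Fin 3) F) := by
    rw [rfl3, sub_eq_iff_eq_add] at h
    rw [h, two_smul]
  ext i j
  have := congrFun (congrFun h' i) j
  simp only [Matrix.smul_apply, smul_eq_mul] at this
  exact mul_left_cancel₀ h2 this

theorem rfl3_inj (h2 : (2 : F) ≠ 0) (u w : Fin 3 → F) (h : rfl3 σ u = rfl3 σ w) :
    proj σ u = proj σ w := by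
  ext i j
  have := congrFun (congrFun h i) j
  simp only [rfl3, Matrix.sub_apply, Matrix.smul_apply, smul_eq_mul] at this
  exact mul_left_cancel₀ h2 (sub_left_injective this)

theorem eq_smul_of_proj_eq (u w : Fin 3 → F) (hu : hd σ u u = 1) (h : proj σ u = proj σ w) :
    u = hd σ u w • w := by
  have h1 := proj_mulVec σ u u
  rw [hu, one_smul, h, proj_mulVec] at h1
  exact h1.symm

theorem proj_eq_of_smul (a : F) (ha : a * σ a = 1) (w : Fin 3 → F) :
    proj σ (a • w) = proj σ w := by
  rw [proj_smul, ha, one_smul]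

theorem hd_smul_smul (a : F) (u v : Fin 3 → F) : hd σ (a • u) (a • v) = a * σ a * hd σ u v := by
  rw [hd_smul_left, hd_smul_right]; ring

theorem norm_coef_eq_one (hσσ : ∀ x, σ (σ x) = x) (u w : Fin 3 → F) (hu : hd σ u u = 1)
    (hw : hd σ w w = 1) (h : proj σ u = proj σ w) : hd σ u w * σ (hd σ u w) = 1 := by
  have h1 := eq_smul_of_proj_eq σ u w hu h
  have h2 : hd σ u u = hd σ u w * σ (hd σ u w) * hd σ w w := by
    conv_lhs => rw [h1]
    rw [hd_smul_smul]
  rw [hu, hw, mul_one] at h2
  exact h2.symm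

theorem commute_iff (hσσ : ∀ x, σ (σ x) = x) (h2 : (2 : F) ≠ 0) (u w : Fin 3 → F)
    (hu : hd σ u u = 1) (hw : hd σ w w = 1) :
    rfl3 σ u * rfl3 σ w = rfl3 σ w * rfl3 σ u ↔ hd σ w u = 0 ∨ rfl3 σ u = rfl3 σ w := by
  have hP : rfl3 σ u * rfl3 σ w = rfl3 σ w * rfl3 σ u ↔
      proj σ u * proj σ w = proj σ w * proj σ u := by
    constructor
    · intro h
      have h4 : (4 : F) ≠ 0 := by
        have : (4 : F) = 2 * 2 := by norm_num
        rw [this]; exact mul_ne_zero h2 h2
      have e : (4 : F) • (proj σ u * proj σ w) = (4 : F) • (proj σ w * proj σ u) := by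
        simp only [rfl3, sub_mul, mul_sub, smul_mul_assoc, mul_smul_comm, one_mul, mul_one,
          smul_smul] at h
        have e2 : ((2 : F) * 2) • (proj σ u * proj σ w) = ((2 : F) * 2) • (proj σ w * proj σ u) := by
          have := h
          ext i j
          have := congrFun (congrFun h i) j
          simp only [Matrix.sub_apply, Matrix.smul_apply, smul_eq_mul, one_apply] at this ⊢
          linear_combination this
        have h22 : (2 : F) * 2 = 4 := by norm_num
        rwa [h22] at e2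
      ext i j
      have := congrFun (congrFun e i) j
      simp only [Matrix.smul_apply, smul_eq_mul] at this
      exact mul_left_cancel₀ h4 this
    · intro h
      simp only [rfl3, sub_mul, mul_sub, smul_mul_assoc, mul_smul_comm, one_mul, mul_one]
      ext i j
      have := congrFun (congrFun h i) j
      simp only [Matrix.sub_apply, Matrix.smul_apply, smul_eq_mul, one_apply] at this ⊢
      linear_combination (4 : F) * this
  rw [hP]
  constructor
  · intro h
    by_cases hb : hd σ w u = 0
    · exact Or.inl hb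
    · right
      rw [proj_mul_proj, proj_mul_proj] at h
      have h1 := congrArg (fun M => M *ᵥ w) h
      simp only [smul_mulVec, vecMulVec_mulVec] at h1
      have e1 : (σ ∘ w) ⬝ᵥ w = 1 := by rw [dotProduct_comm]; exact hw
      have e2 : (σ ∘ u) ⬝ᵥ w = hd σ w u := by rw [dotProduct_comm]; rfl
      rw [e1, e2] at h1
      have h3 : hd σ w u • u = (hd σ u w * hd σ w u) • w := by
        ext i
        have := congrFun h1 i
        simp only [Pi.smul_apply, smul_eq_mul, MulOpposite.smul_eq_mul_unop,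
          MulOpposite.unop_op, MulOpposite.unop_one, mul_one] at this ⊢
        linear_combination this
      have h4 : u = hd σ u w • w := by
        have := congrArg (fun v => (hd σ w u)⁻¹ • v) h3
        simp only [smul_smul] at this
        rw [inv_mul_cancel₀ hb, one_smul] at this
        have hc : (hd σ w u)⁻¹ * (hd σ u w * hd σ w u) = hd σ u w := by field_simp
        rw [hc] at this
        exact this
      have h5 : hd σ u w * σ (hd σ u w) = 1 := by
        have h6 : hd σ u u = hd σ u w * σ (hd σ u w) * hd σ w w := by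
          conv_lhs => rw [h4]
          rw [hd_smul_smul]
        rw [hu, hw, mul_one] at h6
        exact h6.symm
      have : proj σ u = proj σ w := by
        rw [h4, proj_eq_of_smul σ _ h5]
      rw [rfl3, rfl3, this]
  · rintro (hb | he)
    · have hb' : hd σ u w = 0 := by rw [← hd_conj σ hσσ, hb, map_zero]
      rw [proj_mul_proj, proj_mul_proj, hb, hb', zero_smul, zero_smul]
    · rw [rfl3_inj σ h2 u w he]

theorem mul_proj_of_unitary (hσσ : ∀ x, σ (σ x) = x) (g : Matrix (Fin 3) (Fin 3) F)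
    (hg : gᵀ * g.map σ = 1) (w : Fin 3 → F) :
    g * proj σ w = proj σ (g *ᵥ w) * g := by
  rw [proj, proj, mul_vecMulVec, vecMulVec_mul]
  congr 1
  have h1 : σ ∘ (g *ᵥ w) = g.map σ *ᵥ (σ ∘ w) := by
    funext i
    exact RingHom.map_mulVec σ g w i
  rw [h1, ← vecMul_transpose, vecMul_vecMul]
  have hg' : (g.map σ)ᵀ * g = 1 := by
    have := congrArg Matrix.transpose hg
    rw [transpose_mul, transpose_transpose, transpose_one] at this
    exact this
  rw [hg', vecMul_one]

theorem mul_rfl3_of_unitary (hσσ : ∀ x, σ (σ x) = x) (g : Matrix (Fin 3) (Fin 3) F)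
    (hg : gᵀ * g.map σ = 1) (w : Fin 3 → F) :
    g * rfl3 σ w = rfl3 σ (g *ᵥ w) * g := by
  rw [rfl3, rfl3, mul_sub, sub_mul, mul_smul_comm, smul_mul_assoc,
    mul_proj_of_unitary σ hσσ g hg, mul_one, one_mul]

theorem hd_mulVec (g : Matrix (Fin 3) (Fin 3) F)
    (hg : gᵀ * g.map σ = 1) (u w : Fin 3 → F) : hd σ (g *ᵥ u) (g *ᵥ w) = hd σ u w := by
  have h1 : σ ∘ (g *ᵥ w) = g.map σ *ᵥ (σ ∘ w) := by
    funext i
    exact RingHom.map_mulVec σ g w i
  have hg' : (g.map σ)ᵀ * g = 1 := by
    have := congrArg Matrix.transpose hg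
    rw [transpose_mul, transpose_transpose, transpose_one] at this
    exact this
  rw [hd, h1, Matrix.dotProduct_mulVec, ← Matrix.mulVec_transpose, mulVec_mulVec, hg', one_mulVec]
  rfl

end alg2

section key
variable {F : Type*} [Field F] (σ : F →+* F)

theorem adjugate_fin_three_eq (M : Matrix (Fin 3) (Fin 3) F) :
    M.adjugate = M * M - M.trace • M + M.adjugate.trace • (1 : Matrix (Fin 3) (Fin 3) F) := by
  rw [Matrix.adjugate_fin_three]
  ext i j
  fin_cases i <;> fin_cases j <;>
    simp [Matrix.mul_apply, Fin.sum_univ_three, Matrix.trace_fin_three] <;> ring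

theorem trace_of_invol (M : Matrix (Fin 3) (Fin 3) F) (h2 : M * M = 1) (hdet : M.det = 1)
    (h1 : M ≠ 1) : M.trace = -1 := by
  have hadj : M.adjugate = M := by
    have h := Matrix.mul_adjugate M
    rw [hdet, one_smul] at h
    calc M.adjugate = (M * M) * M.adjugate := by rw [h2, one_mul]
      _ = M * (M * M.adjugate) := by rw [mul_assoc]
      _ = M := by rw [h, mul_one]
  have h := adjugate_fin_three_eq M
  rw [hadj, h2] at h
  by_contra hne
  apply h1
  have hne' : 1 + M.trace ≠ 0 := by
    intro h0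
    apply hne
    linear_combination h0
  ext i j
  have := congrFun (congrFun h i) j
  simp only [Matrix.sub_apply, Matrix.add_apply, Matrix.smul_apply, smul_eq_mul] at this
  have e : (1 + M.trace) * M i j = (1 + M.trace) * (1 : Matrix (Fin 3) (Fin 3) F) i j := by
    linear_combination this
  exact mul_left_cancel₀ hne' e

theorem map_eq_transpose_of_invol (t : Matrix (Fin 3) (Fin 3) F) (ht2 : t * t = 1)
    (hU : tᵀ * t.map σ = 1) : t.map σ = tᵀ := by
  have h : tᵀ * tᵀ = 1 := by rw [← transpose_mul, ht2, transpose_one]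
  calc t.map σ = (tᵀ * tᵀ) * t.map σ := by rw [h, one_mul]
    _ = tᵀ * (tᵀ * t.map σ) := by rw [mul_assoc]
    _ = tᵀ := by rw [hU, mul_one]

theorem exists_rfl3 (hσσ : ∀ x, σ (σ x) = x) (h2 : (2 : F) ≠ 0)
    (hN : ∀ c : F, c ≠ 0 → σ c = c → ∃ a, a * σ a = c)
    (t : Matrix (Fin 3) (Fin 3) F) (ht2 : t * t = 1) (hdet : t.det = 1) (ht1 : t ≠ 1)
    (hU : tᵀ * t.map σ = 1) : ∃ w, hd σ w w = 1 ∧ t = rfl3 σ w := by
  have htr := trace_of_invol t ht2 hdet ht1
  have hH := map_eq_transpose_of_invol σ t ht2 hU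
  have hHe : ∀ i j, σ (t i j) = t j i := by
    intro i j
    have := congrFun (congrFun hH i) j
    simpa using this
  set S : Matrix (Fin 3) (Fin 3) F := 1 + t with hS
  have hSS : S * S = (2 : F) • S := by
    rw [hS, two_smul, add_mul, mul_add, mul_add, ht2, one_mul, mul_one, one_mul]
    abel
  have htS : t * S = S := by
    rw [hS, mul_add, ht2, mul_one, add_comm]
  have hSH : ∀ i j, σ (S i j) = S j i := by
    intro i j
    simp only [hS, Matrix.add_apply, map_add, hHe, one_apply]
    by_cases hij : i = j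
    · subst hij; simp
    · simp [hij, Ne.symm hij]
  have hStr : S.trace = 2 := by
    rw [hS, trace_add, htr, trace_one, Fintype.card_fin]
    norm_num
  obtain ⟨j, hj⟩ : ∃ j, S j j ≠ 0 := by
    by_contra hcon
    push Not at hcon
    have : S.trace = 0 := by
      rw [Matrix.trace]
      exact Finset.sum_eq_zero (fun i _ => hcon i)
    rw [hStr] at this
    exact h2 this
  set c : Fin 3 → F := fun i => S i j with hc
  have hcN : hd σ c c = 2 * S j j := by
    have := congrFun (congrFun hSS j) j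
    simp only [Matrix.mul_apply, Matrix.smul_apply, smul_eq_mul] at this
    rw [← this, hd, dotProduct]
    refine Finset.sum_congr rfl (fun i _ => ?_)
    simp only [hc, Function.comp, hSH]
    ring
  have htc : t *ᵥ c = c := by
    funext i
    have := congrFun (congrFun htS i) j
    simpa [Matrix.mul_apply, mulVec, dotProduct, hc] using this
  have hfix : σ (2 * S j j)⁻¹ = (2 * S j j)⁻¹ := by
    rw [map_inv₀, map_mul, map_ofNat, hSH]
  have hne : (2 * S j j)⁻¹ ≠ 0 := inv_ne_zero (mul_ne_zero h2 hj)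
  obtain ⟨a, ha⟩ := hN _ hne hfix
  set w : Fin 3 → F := a • c with hw
  have hwN : hd σ w w = 1 := by
    rw [hw, hd_smul_smul, ha, hcN, inv_mul_cancel₀ (mul_ne_zero h2 hj)]
  have htw : t *ᵥ w = w := by
    rw [hw, mulVec_smul, htc]
  refine ⟨w, hwN, ?_⟩
  have hcomm : t * rfl3 σ w = rfl3 σ w * t := by
    rw [mul_rfl3_of_unitary σ hσσ t hU, htw]
  set s := rfl3 σ w * t with hs
  have hs2 : s * s = 1 := by
    rw [hs]
    calc rfl3 σ w * t * (rfl3 σ w * t) = rfl3 σ w * (t * rfl3 σ w) * t := by
          simp only [mul_assoc]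
      _ = rfl3 σ w * (rfl3 σ w * t) * t := by rw [hcomm]
      _ = (rfl3 σ w * rfl3 σ w) * (t * t) := by simp only [mul_assoc]
      _ = 1 := by rw [rfl3_mul_self σ w hwN, ht2, one_mul]
  have hsdet : s.det = 1 := by
    rw [hs, det_mul, rfl3_det σ w hwN, hdet, one_mul]
  have hPt : proj σ w * t = proj σ w := by
    rw [proj, vecMulVec_mul]
    congr 1
    funext k
    have := congrArg σ (congrFun htw k)
    simp only [mulVec, dotProduct, map_sum, map_mul, hHe] at this
    simp only [vecMul, dotProduct, Function.comp]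
    rw [← this]
    exact Finset.sum_congr rfl (fun i _ => mul_comm _ _)
  have hstr : s.trace = 3 := by
    rw [hs, rfl3, sub_mul, smul_mul_assoc, hPt, one_mul, trace_sub, trace_smul, htr, proj,
      trace_vecMulVec]
    have : w ⬝ᵥ (σ ∘ w) = 1 := hwN
    rw [this]
    norm_num
  by_cases hs1 : s = 1
  · have : rfl3 σ w * s = rfl3 σ w := by rw [hs1, mul_one]
    rw [hs, ← mul_assoc, rfl3_mul_self σ w hwN, one_mul] at this
    exact this
  · exfalso
    have := trace_of_invol s hs2 hsdet hs1
    rw [hstr] at this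
    have h4 : (2 : F) * 2 = 0 := by linear_combination this
    rcases mul_eq_zero.mp h4 with h | h <;> exact h2 h

end key

section frame
variable {F : Type*} [Field F] (σ : F →+* F)

theorem hd_expand (u v : Fin 3 → F) :
    hd σ u v = u 0 * σ (v 0) + u 1 * σ (v 1) + u 2 * σ (v 2) := by
  simp [hd, dotProduct, Fin.sum_univ_three]

theorem exists_frame (hσσ : ∀ x, σ (σ x) = x) (w u : Fin 3 → F) (hw : hd σ w w = 1)
    (hu : hd σ u u = 1) (huw : hd σ u w = 0) :
    ∃ g : Matrix (Fin 3) (Fin 3) F, g.det = 1 ∧ gᵀ * g.map σ = 1 ∧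
      g *ᵥ (Pi.single 0 1) = w ∧ g *ᵥ (Pi.single 1 1) = u := by
  have hwu : hd σ w u = 0 := by rw [← hd_conj σ hσσ, huw, map_zero]
  rw [hd_expand] at hw hu huw hwu
  refine ⟨!![w 0, u 0, σ (w 1 * u 2 - w 2 * u 1); w 1, u 1, σ (w 2 * u 0 - w 0 * u 2);
    w 2, u 2, σ (w 0 * u 1 - w 1 * u 0)], ?_, ?_, ?_, ?_⟩
  · rw [det_fin_three]
    simp [map_sub, map_mul]
    linear_combination (u 0 * σ (u 0) + u 1 * σ (u 1) + u 2 * σ (u 2)) * hw + hu -
      (u 0 * σ (w 0) + u 1 * σ (w 1) + u 2 * σ (w 2)) * hwu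
  · ext i j
    fin_cases i <;> fin_cases j
    · simp [Matrix.mul_apply, Fin.sum_univ_three]
      linear_combination hw
    · simp [Matrix.mul_apply, Fin.sum_univ_three]
      linear_combination hwu
    · simp [Matrix.mul_apply, Fin.sum_univ_three, hσσ]
      ring
    · simp [Matrix.mul_apply, Fin.sum_univ_three]
      linear_combination huw
    · simp [Matrix.mul_apply, Fin.sum_univ_three]
      linear_combination hu
    · simp [Matrix.mul_apply, Fin.sum_univ_three, hσσ]
      ring
    · simp [Matrix.mul_apply, Fin.sum_univ_three]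
      ring
    · simp [Matrix.mul_apply, Fin.sum_univ_three]
      ring
    · simp [Matrix.mul_apply, Fin.sum_univ_three, hσσ]
      linear_combination (u 0 * σ (u 0) + u 1 * σ (u 1) + u 2 * σ (u 2)) * hw + hu -
        (u 0 * σ (w 0) + u 1 * σ (w 1) + u 2 * σ (w 2)) * hwu
  · funext i
    fin_cases i <;> simp [mulVec, dotProduct, Fin.sum_univ_three]
  · funext i
    fin_cases i <;> simp [mulVec, dotProduct, Fin.sum_univ_three]

end frame

end Cfsg.Agent.Lib.helper15.SU3Inv
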