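import Mathlib
import Cfsg.Prelude.Def_Classical
import Cfsg.Agent.Lib.Lead.Unitary
import Cfsg.Agent.S0278
import Cfsg.Agent.S0279
import Cfsg.Agent.Lib.helper15.SU3Inv

set_option autoImplicit false

namespace Cfsg.Agent.Lib.helper15.SU3Inv

open Matrix Finset Cfsg.Agent.Lib.Lead

section grp
variable {F : Type*} [Field F] [Fintype F] {q : ℕ}

theorem two_ne_zero_of_odd (hq : Odd q) (hF : Fintype.card F = q ^ 2) : (2 : F) ≠ 0 := by
  apply Ring.two_ne_zero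
  intro h
  have := FiniteField.even_card_iff_char_two.mp h
  rw [hF] at this
  have : Odd (q ^ 2) := hq.pow
  rw [Nat.odd_iff] at this
  omega

theorem norm_surj (hF : Fintype.card F = q ^ 2) (σ : F →+* F) (hσ : ∀ x, σ x = x ^ q)
    (c : F) (hc0 : c ≠ 0) (hc : σ c = c) : ∃ a, a * σ a = c := by
  classical
  have h := card_norm_fiber hF c hc0 (by rw [← hσ]; exact hc)
  have hpos : 0 < (univ.filter (fun t : F => t ^ (q + 1) = c)).card := by rw [h]; omega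
  obtain ⟨a, ha⟩ := Finset.card_pos.mp hpos
  simp only [Finset.mem_filter, Finset.mem_univ, true_and] at ha
  exact ⟨a, by rw [hσ, ← pow_succ']; exact ha⟩

variable (σ : F →+* F)

def invSU (hσ : ∀ x, σ x = x ^ q) (hσσ : ∀ x, σ (σ x) = x) (w : Fin 3 → F) (hw : hd σ w w = 1) :
    Cfsg.SU 3 F q :=
  ⟨⟨rfl3 σ w, rfl3_det σ w hw⟩,
    (Cfsg.Agent.S0279.mem_SU_iff' σ hσ _).mpr (rfl3_unitary σ hσσ w hw)⟩

theorem coe_invSU (hσ : ∀ x, σ x = x ^ q) (hσσ : ∀ x, σ (σ x) = x) (w : Fin 3 → F)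
    (hw : hd σ w w = 1) :
    ((invSU σ hσ hσσ w hw : Cfsg.SU 3 F q) : Matrix.SpecialLinearGroup (Fin 3) F).1 = rfl3 σ w :=
  rfl

theorem SU_ext (a b : Cfsg.SU 3 F q)
    (h : (a : Matrix.SpecialLinearGroup (Fin 3) F).1 = (b : Matrix.SpecialLinearGroup (Fin 3) F).1) :
    a = b := Subtype.ext (Subtype.ext h)

theorem coe_mul_SU (a b : Cfsg.SU 3 F q) :
    ((a * b : Cfsg.SU 3 F q) : Matrix.SpecialLinearGroup (Fin 3) F).1 =
      (a : Matrix.SpecialLinearGroup (Fin 3) F).1 * (b : Matrix.SpecialLinearGroup (Fin 3) F).1 :=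
  rfl

theorem coe_one_SU :
    ((1 : Cfsg.SU 3 F q) : Matrix.SpecialLinearGroup (Fin 3) F).1 = 1 := rfl

theorem invSU_mul_self (hσ : ∀ x, σ x = x ^ q) (hσσ : ∀ x, σ (σ x) = x) (w : Fin 3 → F)
    (hw : hd σ w w = 1) : invSU σ hσ hσσ w hw * invSU σ hσ hσσ w hw = 1 := by
  apply SU_ext
  rw [coe_mul_SU, coe_invSU, coe_one_SU, rfl3_mul_self σ w hw]

theorem invSU_ne_one (h2 : (2 : F) ≠ 0) (hσ : ∀ x, σ x = x ^ q) (hσσ : ∀ x, σ (σ x) = x)
    (w : Fin 3 → F) (hw : hd σ w w = 1) : invSU σ hσ hσσ w hw ≠ 1 := by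
  intro h
  have := congrArg (fun a : Cfsg.SU 3 F q => (a : Matrix.SpecialLinearGroup (Fin 3) F).1) h
  simp only [coe_invSU, coe_one_SU] at this
  exact rfl3_ne_one σ h2 w this

theorem exists_invSU (hF : Fintype.card F = q ^ 2) (h2 : (2 : F) ≠ 0) (hσ : ∀ x, σ x = x ^ q)
    (hσσ : ∀ x, σ (σ x) = x) (t : Cfsg.SU 3 F q) (ht : t ≠ 1) (ht2 : t * t = 1) :
    ∃ (w : Fin 3 → F) (hw : hd σ w w = 1), t = invSU σ hσ hσσ w hw := by
  have hU := (Cfsg.Agent.S0279.mem_SU_iff' σ hσ _).mp t.2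
  have hm2 : (t : Matrix.SpecialLinearGroup (Fin 3) F).1 * (t : Matrix.SpecialLinearGroup (Fin 3) F).1 = 1 := by
    rw [← coe_mul_SU, ht2, coe_one_SU]
  have hm1 : (t : Matrix.SpecialLinearGroup (Fin 3) F).1 ≠ 1 := by
    intro h
    apply ht
    apply SU_ext
    rw [h, coe_one_SU]
  obtain ⟨w, hw, hwt⟩ := exists_rfl3 σ hσσ h2 (norm_surj hF σ hσ) _ hm2 t.1.2 hm1 hU
  exact ⟨w, hw, SU_ext _ _ (by rw [hwt, coe_invSU])⟩

theorem invSU_eq_iff (h2 : (2 : F) ≠ 0) (hσ : ∀ x, σ x = x ^ q) (hσσ : ∀ x, σ (σ x) = x)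
    (u w : Fin 3 → F) (hu : hd σ u u = 1) (hw : hd σ w w = 1) :
    invSU σ hσ hσσ u hu = invSU σ hσ hσσ w hw ↔ proj σ u = proj σ w := by
  constructor
  · intro h
    have := congrArg (fun a : Cfsg.SU 3 F q => (a : Matrix.SpecialLinearGroup (Fin 3) F).1) h
    simp only [coe_invSU] at this
    exact rfl3_inj σ h2 u w this
  · intro h
    apply SU_ext
    rw [coe_invSU, coe_invSU, rfl3, rfl3, h]

theorem commute_invSU_iff (h2 : (2 : F) ≠ 0) (hσ : ∀ x, σ x = x ^ q) (hσσ : ∀ x, σ (σ x) = x)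
    (u w : Fin 3 → F) (hu : hd σ u u = 1) (hw : hd σ w w = 1) :
    Commute (invSU σ hσ hσσ u hu) (invSU σ hσ hσσ w hw) ↔
      hd σ w u = 0 ∨ invSU σ hσ hσσ u hu = invSU σ hσ hσσ w hw := by
  have h := commute_iff σ hσσ h2 u w hu hw
  constructor
  · intro hc
    have := congrArg (fun a : Cfsg.SU 3 F q => (a : Matrix.SpecialLinearGroup (Fin 3) F).1) hc.eq
    simp only [coe_mul_SU, coe_invSU] at this
    rcases h.mp this with h0 | h1
    · exact Or.inl h0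
    · exact Or.inr (SU_ext _ _ (by rw [coe_invSU, coe_invSU, h1]))
  · intro hc
    apply SU_ext
    rw [coe_mul_SU, coe_mul_SU, coe_invSU, coe_invSU]
    apply h.mpr
    rcases hc with h0 | h1
    · exact Or.inl h0
    · right
      have := congrArg (fun a : Cfsg.SU 3 F q => (a : Matrix.SpecialLinearGroup (Fin 3) F).1) h1
      simpa only [coe_invSU] using this

def e1 : Fin 3 → F := Pi.single 0 1

omit [Fintype F] in
theorem hd_e1 : hd σ (e1 : Fin 3 → F) e1 = 1 := by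
  simp [hd_expand, e1]

omit [Fintype F] in
theorem hd_e1_right (w : Fin 3 → F) : hd σ w e1 = w 0 := by
  simp [hd_expand, e1]

omit [Fintype F] in
theorem hd_eq_herm (hσ : ∀ x, σ x = x ^ q) (u v : Fin 3 → F) :
    hd σ u v = Cfsg.hermForm 3 F q u v := (hermForm_eq_dot σ hσ u v).symm

theorem hermAB_two (hq : 2 ≤ q) :
    (hermAB q 2).1 = q ^ 3 + q ^ 2 - q ∧ (hermAB q 2).2 = q ^ 3 - q := by
  obtain ⟨h1, h2⟩ := hermAB_closed q hq 2
  have hq0 : (q : ℤ) ≠ 0 := by exact_mod_cast (by omega : q ≠ 0)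
  have hle1 : q ≤ q ^ 3 + q ^ 2 := by nlinarith
  have hle2 : q ≤ q ^ 3 := by nlinarith
  constructor
  · zify [hle1]
    apply mul_left_cancel₀ hq0
    rw [h1]; ring
  · zify [hle2]
    apply mul_left_cancel₀ hq0
    rw [h2]; ring

theorem hermAB_three (hq : 2 ≤ q) : (hermAB q 3).2 = q ^ 5 + q ^ 2 := by
  obtain ⟨-, h2⟩ := hermAB_closed q hq 3
  have hq0 : (q : ℤ) ≠ 0 := by exact_mod_cast (by omega : q ≠ 0)
  zify
  apply mul_left_cancel₀ hq0
  rw [h2]; ring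

theorem exists_orth_unit (hF : Fintype.card F = q ^ 2) (hσ : ∀ x, σ x = x ^ q) (w : Fin 3 → F)
    (hw : hd σ w w = 1) : ∃ u : Fin 3 → F, hd σ u u = 1 ∧ hd σ u w = 0 := by
  classical
  have hq := two_le_q hF
  have hf : ∀ a b : Fin 1, Cfsg.hermForm 3 F q ((fun _ => w : Fin 1 → Fin 3 → F) a)
      ((fun _ => w : Fin 1 → Fin 3 → F) b) = if a = b then 1 else 0 := by
    intro a b
    rw [if_pos (Subsingleton.elim a b), ← hd_eq_herm σ hσ]
    exact hw
  have h := NW_one_eq hF σ hσ (by omega : 1 ≤ 3) (fun _ => w : Fin 1 → Fin 3 → F) hf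
  have hpos : 0 < NW q σ (fun _ => w : Fin 1 → Fin 3 → F) 1 := by
    rw [h, (hermAB_two hq).2]
    have : q < q ^ 3 := by nlinarith
    omega
  obtain ⟨u, hu⟩ := Finset.card_pos.mp hpos
  simp only [Finset.mem_filter, Finset.mem_univ, true_and] at hu
  refine ⟨u, by rw [hd_eq_herm σ hσ]; exact hu.2, ?_⟩
  have := congrFun hu.1 0
  rw [coef_apply σ hσ] at this
  rw [hd_eq_herm σ hσ]
  exact this

theorem exists_conj (hF : Fintype.card F = q ^ 2) (hσ : ∀ x, σ x = x ^ q)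
    (hσσ : ∀ x, σ (σ x) = x) (w : Fin 3 → F) (hw : hd σ w w = 1) :
    ∃ g : Cfsg.SU 3 F q, g * invSU σ hσ hσσ e1 (hd_e1 σ) * g⁻¹ = invSU σ hσ hσσ w hw := by
  obtain ⟨u, hu, huw⟩ := exists_orth_unit σ hF hσ w hw
  obtain ⟨g, hdet, hU, hg1, -⟩ := exists_frame σ hσσ w u hw hu huw
  refine ⟨⟨⟨g, hdet⟩, (Cfsg.Agent.S0279.mem_SU_iff' σ hσ _).mpr hU⟩, ?_⟩
  rw [mul_inv_eq_iff_eq_mul]
  apply SU_ext
  rw [coe_mul_SU, coe_mul_SU, coe_invSU, coe_invSU]
  show g * rfl3 σ e1 = rfl3 σ w * g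
  rw [mul_rfl3_of_unitary σ hσσ g hU, e1, hg1]

open Classical in
noncomputable def invSU' (hσ : ∀ x, σ x = x ^ q) (hσσ : ∀ x, σ (σ x) = x) (w : Fin 3 → F) :
    Cfsg.SU 3 F q :=
  if hw : hd σ w w = 1 then invSU σ hσ hσσ w hw else 1

theorem invSU'_unit (hσ : ∀ x, σ x = x ^ q) (hσσ : ∀ x, σ (σ x) = x) (w : Fin 3 → F)
    (hw : hd σ w w = 1) : invSU' σ hσ hσσ w = invSU σ hσ hσσ w hw := by
  rw [invSU', dif_pos hw]

theorem invSU'_not_unit (hσ : ∀ x, σ x = x ^ q) (hσσ : ∀ x, σ (σ x) = x) (w : Fin 3 → F)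
    (hw : ¬ hd σ w w = 1) : invSU' σ hσ hσσ w = 1 := by
  rw [invSU', dif_neg hw]

theorem unit_of_invSU'_ne_one (hσ : ∀ x, σ x = x ^ q) (hσσ : ∀ x, σ (σ x) = x) (w : Fin 3 → F)
    (h : invSU' σ hσ hσσ w ≠ 1) : hd σ w w = 1 := by
  by_contra hw
  exact h (invSU'_not_unit σ hσ hσσ w hw)

theorem card_norm_one (hF : Fintype.card F = q ^ 2) (hσ : ∀ x, σ x = x ^ q) :
    Nat.card {a : F // a * σ a = 1} = q + 1 := by
  classical
  rw [Nat.card_eq_fintype_card, Fintype.card_subtype, ← card_norm_fiber hF 1 one_ne_zero (one_pow q)]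
  congr 1
  ext a
  simp only [Finset.mem_filter, Finset.mem_univ, true_and, hσ, ← pow_succ']

theorem card_fiber (hF : Fintype.card F = q ^ 2) (h2 : (2 : F) ≠ 0) (hσ : ∀ x, σ x = x ^ q)
    (hσσ : ∀ x, σ (σ x) = x) (Q : Cfsg.SU 3 F q → Prop) (hQ : ∀ x, Q x → x ≠ 1 ∧ x * x = 1) :
    Nat.card {w : Fin 3 → F // Q (invSU' σ hσ hσσ w)} = (q + 1) * Nat.card {x // Q x} := by
  classical
  let f : {w : Fin 3 → F // Q (invSU' σ hσ hσσ w)} → {x // Q x} :=
    fun w => ⟨invSU' σ hσ hσσ w.1, w.2⟩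
  have hfib : ∀ y : {x // Q x}, Nat.card {a // f a = y} = q + 1 := by
    intro y
    obtain ⟨w0, hw0, hy⟩ := exists_invSU σ hF h2 hσ hσσ y.1 (hQ y.1 y.2).1 (hQ y.1 y.2).2
    have hw00 : w0 ≠ 0 := by
      rintro rfl
      simp [hd] at hw0
    have hsm : ∀ a : F, a * σ a = 1 → hd σ (a • w0) (a • w0) = 1 := by
      intro a ha
      rw [hd_smul_smul, ha, hw0, mul_one]
    have hval : ∀ a : F, a * σ a = 1 → invSU' σ hσ hσσ (a • w0) = y.1 := by
      intro a ha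
      rw [invSU'_unit σ hσ hσσ _ (hsm a ha), hy, invSU_eq_iff σ h2 hσ hσσ]
      exact proj_eq_of_smul σ a ha w0
    rw [← card_norm_one σ hF hσ]
    symm
    refine Nat.card_congr (Equiv.ofBijective
      (fun a : {a : F // a * σ a = 1} =>
        (⟨⟨a.1 • w0, by rw [hval a.1 a.2]; exact y.2⟩, Subtype.ext (hval a.1 a.2)⟩ :
          {b // f b = y})) ⟨?_, ?_⟩)
    · intro a b hab
      have h1 : a.1 • w0 = b.1 • w0 := congrArg (fun z : {b // f b = y} => z.1.1) hab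
      obtain ⟨i, hi⟩ : ∃ i, w0 i ≠ 0 := by
        by_contra hcon
        push Not at hcon
        exact hw00 (funext hcon)
      have := congrFun h1 i
      simp only [Pi.smul_apply, smul_eq_mul] at this
      exact Subtype.ext (mul_right_cancel₀ hi this)
    · rintro ⟨⟨w, hwQ⟩, hwy⟩
      have hwy' : invSU' σ hσ hσσ w = y.1 := congrArg Subtype.val hwy
      have hw1 : hd σ w w = 1 := by
        apply unit_of_invSU'_ne_one σ hσ hσσ
        rw [hwy']
        exact (hQ y.1 y.2).1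
      rw [invSU'_unit σ hσ hσσ w hw1, hy, invSU_eq_iff σ h2 hσ hσσ] at hwy'
      refine ⟨⟨hd σ w w0, norm_coef_eq_one σ hσσ w w0 hw1 hw0 hwy'⟩, ?_⟩
      apply Subtype.ext
      apply Subtype.ext
      exact (eq_smul_of_proj_eq σ w w0 hw1 hwy').symm
  rw [← Nat.card_congr (Equiv.sigmaFiberEquiv f), Nat.card_sigma]
  simp only [hfib, Finset.sum_const, Finset.card_univ, smul_eq_mul]
  rw [Nat.card_eq_fintype_card, mul_comm]

theorem card_unit3 (hF : Fintype.card F = q ^ 2) (hσ : ∀ x, σ x = x ^ q) :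
    Nat.card {w : Fin 3 → F // hd σ w w = 1} = q ^ 5 + q ^ 2 := by
  classical
  have hq := two_le_q hF
  have h := card_herm hF 3 (1 : F) (one_pow q)
  rw [if_neg one_ne_zero, hermAB_three hq] at h
  rw [Nat.card_eq_fintype_card, Fintype.card_subtype, ← h]
  congr 1
  ext w
  simp only [Finset.mem_filter, Finset.mem_univ, true_and, hd, dotProduct, Function.comp, hσ]

theorem card_unit_orth_e1 (hF : Fintype.card F = q ^ 2) (hσ : ∀ x, σ x = x ^ q) :
    Nat.card {w : Fin 3 → F // hd σ w w = 1 ∧ w 0 = 0} = q ^ 3 - q := by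
  classical
  have hq := two_le_q hF
  have hf : ∀ a b : Fin 1, Cfsg.hermForm 3 F q ((fun _ => e1 : Fin 1 → Fin 3 → F) a)
      ((fun _ => e1 : Fin 1 → Fin 3 → F) b) = if a = b then 1 else 0 := by
    intro a b
    rw [if_pos (Subsingleton.elim a b), ← hd_eq_herm σ hσ]
    exact hd_e1 σ
  have h := NW_one_eq hF σ hσ (by omega : 1 ≤ 3) (fun _ => e1 : Fin 1 → Fin 3 → F) hf
  rw [(hermAB_two hq).2] at h
  rw [Nat.card_eq_fintype_card, Fintype.card_subtype, ← h, NW]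
  congr 1
  ext w
  simp only [Finset.mem_filter, Finset.mem_univ, true_and]
  rw [← hd_eq_herm σ hσ]
  constructor
  · rintro ⟨h1, h0⟩
    refine ⟨?_, h1⟩
    funext a
    rw [coef_apply σ hσ, ← hd_eq_herm σ hσ, hd_e1_right, h0]
    rfl
  · rintro ⟨h0, h1⟩
    refine ⟨h1, ?_⟩
    have := congrFun h0 0
    rw [coef_apply σ hσ, ← hd_eq_herm σ hσ, hd_e1_right] at this
    exact this

theorem card_iso2 (hF : Fintype.card F = q ^ 2) (hσ : ∀ x, σ x = x ^ q) :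
    Nat.card {v : Fin 2 → F // v ≠ 0 ∧ v 0 * σ (v 0) + v 1 * σ (v 1) = 0} = q ^ 3 + q ^ 2 - q - 1 := by
  classical
  have hq := two_le_q hF
  have h := card_herm hF 2 (0 : F) (zero_pow (by omega))
  rw [if_pos rfl, (hermAB_two hq).1] at h
  rw [Nat.card_eq_fintype_card, Fintype.card_subtype, ← h]
  have : (univ.filter (fun v : Fin 2 → F => ∑ i, v i * v i ^ q = 0)) =
      insert 0 (univ.filter (fun v : Fin 2 → F => v ≠ 0 ∧ v 0 * σ (v 0) + v 1 * σ (v 1) = 0)) := by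
    ext v
    simp only [Finset.mem_filter, Finset.mem_univ, true_and, Finset.mem_insert, Fin.sum_univ_two,
      hσ]
    constructor
    · intro hv
      by_cases h0 : v = 0
      · exact Or.inl h0
      · exact Or.inr ⟨h0, hv⟩
    · rintro (rfl | ⟨-, hv⟩)
      · simp [zero_pow (by omega : q ≠ 0)]
      · exact hv
  rw [this, Finset.card_insert_of_notMem (by simp)]
  omega

theorem card_type3 (hF : Fintype.card F = q ^ 2) (hσ : ∀ x, σ x = x ^ q) :
    Nat.card {w : Fin 3 → F // w 0 * σ (w 0) = 1 ∧ ¬ (w 1 = 0 ∧ w 2 = 0) ∧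
      w 1 * σ (w 1) + w 2 * σ (w 2) = 0} = (q + 1) * (q ^ 3 + q ^ 2 - q - 1) := by
  rw [← card_norm_one σ hF hσ, ← card_iso2 σ hF hσ, ← Nat.card_prod]
  refine Nat.card_congr ⟨fun w => (⟨w.1 0, w.2.1⟩, ⟨![w.1 1, w.1 2], ?_, ?_⟩),
    fun p => ⟨![p.1.1, p.2.1 0, p.2.1 1], ?_, ?_, ?_⟩, ?_, ?_⟩
  · intro h
    apply w.2.2.1
    have h0 := congrFun h 0
    have h1 := congrFun h 1
    simp at h0 h1
    exact ⟨h0, h1⟩
  · simpa using w.2.2.2
  · simpa using p.1.2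
  · intro h
    apply p.2.2.1
    funext i
    fin_cases i
    · simpa using h.1
    · simpa using h.2
  · simpa using p.2.2.2
  · intro w
    apply Subtype.ext
    funext i
    fin_cases i <;> rfl
  · intro p
    refine Prod.ext (Subtype.ext rfl) (Subtype.ext ?_)
    funext i
    fin_cases i <;> rfl

end grp

end Cfsg.Agent.Lib.helper15.SU3Inv
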