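import Mathlib
import Cfsg.Agent.Lib.helper15.ESU2
import Cfsg.Agent.Lib.helper15.SU3InvG

set_option autoImplicit false
set_option linter.unusedSimpArgs false
set_option linter.unusedSectionVars false

namespace Cfsg.Agent.Lib.helper15.ES

open Cfsg.Agent.Lib.helper15.SN

section form
variable {F : Type*} [Field F] (σ : F →+* F)

lemma form_transport (g M₀ B₀ : Matrix (Fin 3) (Fin 3) F) (hg : IsU σ g) (h : g * B₀ = B₀ * M₀) :
    M₀.transpose * (B₀.transpose * B₀.map σ) * M₀.map σ = B₀.transpose * B₀.map σ := by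
  unfold IsU at hg
  calc M₀.transpose * (B₀.transpose * B₀.map σ) * M₀.map σ
      = (B₀ * M₀).transpose * (B₀ * M₀).map σ := by
        rw [Matrix.transpose_mul, Matrix.map_mul]; simp only [Matrix.mul_assoc]
    _ = B₀.transpose * (g.transpose * g.map σ) * B₀.map σ := by
        rw [← h, Matrix.transpose_mul, Matrix.map_mul]; simp only [Matrix.mul_assoc]
    _ = B₀.transpose * B₀.map σ := by rw [hg, Matrix.mul_one]

lemma scalar_of_inv (ω : F) (h1 : ω ≠ 1) (h2 : ω ^ 2 ≠ 1) (hω3 : ω ^ 3 = 1) (hσω : σ ω = ω ^ 2)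
    (M : Matrix (Fin 3) (Fin 3) F)
    (hX : (X0 ω).transpose * M * (X0 ω).map σ = M)
    (hY : (Y0 : Matrix (Fin 3) (Fin 3) F).transpose * M * (Y0 : Matrix (Fin 3) (Fin 3) F).map σ = M) :
    M = M 0 0 • (1 : Matrix (Fin 3) (Fin 3) F) := by
  have hω0 : ω ≠ 0 := by
    intro h0; rw [h0] at hω3; simp at hω3
  have hX' : ∀ i j, ((X0 ω).transpose * M * (X0 ω).map σ) i j = M i j := fun i j => by rw [hX]
  have hY' : ∀ i j, ((Y0 : Matrix (Fin 3) (Fin 3) F).transpose * M *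
      (Y0 : Matrix (Fin 3) (Fin 3) F).map σ) i j = M i j := fun i j => by rw [hY]
  have a01 := hX' 0 1
  have a02 := hX' 0 2
  have a10 := hX' 1 0
  have a12 := hX' 1 2
  have a20 := hX' 2 0
  have a21 := hX' 2 1
  have b00 := hY' 0 0
  have b11 := hY' 1 1
  simp [X0, Y0, Matrix.mul_apply, Fin.sum_univ_three, hσω] at a01 a02 a10 a12 a20 a21 b00 b11
  have hω4 : ω ^ 4 = ω := by
    calc ω ^ 4 = ω ^ 3 * ω := by ring
      _ = ω := by rw [hω3, one_mul]
  have z01 : M 0 1 = 0 := by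
    have : M 0 1 * (ω ^ 2 - 1) = 0 := by linear_combination a01
    exact (mul_eq_zero.mp this).resolve_right (sub_ne_zero.mpr h2)
  have z02 : M 0 2 = 0 := by
    have : M 0 2 * (ω - 1) = 0 := by linear_combination a02 - M 0 2 * hω4
    exact (mul_eq_zero.mp this).resolve_right (sub_ne_zero.mpr h1)
  have z10 : M 1 0 = 0 := by
    have : M 1 0 * (ω - 1) = 0 := by linear_combination a10
    exact (mul_eq_zero.mp this).resolve_right (sub_ne_zero.mpr h1)
  have z12 : M 1 2 = 0 := by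
    have : M 1 2 * (ω ^ 2 - 1) = 0 := by linear_combination a12 - M 1 2 * ω ^ 2 * hω3
    exact (mul_eq_zero.mp this).resolve_right (sub_ne_zero.mpr h2)
  have z20 : M 2 0 = 0 := by
    have : M 2 0 * (ω ^ 2 - 1) = 0 := by linear_combination a20
    exact (mul_eq_zero.mp this).resolve_right (sub_ne_zero.mpr h2)
  have z21 : M 2 1 = 0 := by
    have : M 2 1 * (ω - 1) = 0 := by linear_combination a21 - M 2 1 * hω4
    exact (mul_eq_zero.mp this).resolve_right (sub_ne_zero.mpr h1)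
  ext i j
  fin_cases i <;> fin_cases j <;> simp [z01, z02, z10, z12, z20, z21, b00, b11]

end form

section grp
variable {F : Type*} [Field F] [Fintype F] {q : ℕ} (σ : F →+* F)

lemma conj_eq_of_smul (B B₀ : GL (Fin 3) F) (a : F)
    (h : (B : Matrix (Fin 3) (Fin 3) F) = a • (B₀ : Matrix (Fin 3) (Fin 3) F)) :
    MulAut.conj B⁻¹ = MulAut.conj B₀⁻¹ := by
  obtain ⟨S, hS⟩ : ∃ S : GL (Fin 3) F, S = B * B₀⁻¹ := ⟨_, rfl⟩
  have hSv : (S : Matrix (Fin 3) (Fin 3) F) = a • (1 : Matrix (Fin 3) (Fin 3) F) := by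
    rw [hS, Units.val_mul, h, Matrix.smul_mul, ← Units.val_mul, mul_inv_cancel, Units.val_one]
  have hSc : ∀ g : GL (Fin 3) F, S * g = g * S := by
    intro g
    apply Units.ext
    rw [Units.val_mul, Units.val_mul, hSv, Matrix.smul_mul, Matrix.mul_smul, Matrix.one_mul,
      Matrix.mul_one]
  have hB : B = S * B₀ := by rw [hS]; group
  ext g : 1
  show B⁻¹ * g * B⁻¹⁻¹ = B₀⁻¹ * g * B₀⁻¹⁻¹
  rw [inv_inv, inv_inv, hB]
  calc (S * B₀)⁻¹ * g * (S * B₀) = B₀⁻¹ * (S⁻¹ * (g * S)) * B₀ := by group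
    _ = B₀⁻¹ * g * B₀ := by rw [← hSc g, inv_mul_cancel_left]

theorem exists_std_U (hF : Fintype.card F = q ^ 2) (hσ : ∀ x, σ x = x ^ q) (hσσ : ∀ x, σ (σ x) = x)
    (w : F) (hw : w ^ 2 + w + 1 = 0) (h3 : (3 : F) ≠ 0)
    (hσ3 : ∀ c : F, c ^ 3 = 1 → σ c = c ^ 2)
    (R : Subgroup (GL (Fin 3) F)) (hRU : R ≤ Cfsg.GU 3 F q) (hR : Nat.card R = 27)
    (hRe : Monoid.exponent R = 3) (hRna : ¬ IsMulCommutative R) :
    ∃ (B : GL (Fin 3) F) (ω : F) (gx gy : GL (Fin 3) F), B ∈ Cfsg.GU 3 F q ∧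
      IsStd ω (R.map (MulAut.conj B⁻¹).toMonoidHom) gx gy := by
  obtain ⟨B₀, ω, gx, gy, hstd⟩ := exists_std w hw h3 R hR hRe hRna
  obtain ⟨hω3, hω1, hω21, hω2ω, hω0⟩ := omega_facts ω hstd.hω hstd.h3
  set Bm : Matrix (Fin 3) (Fin 3) F := (B₀ : Matrix (Fin 3) (Fin 3) F) with hBm
  set M : Matrix (Fin 3) (Fin 3) F := Bm.transpose * Bm.map σ with hM
  have key : ∀ (g' : GL (Fin 3) F), g' ∈ R.map (MulAut.conj B₀⁻¹).toMonoidHom →
      (g' : Matrix (Fin 3) (Fin 3) F).transpose * M * (g' : Matrix (Fin 3) (Fin 3) F).map σ = M := by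
    rintro g' ⟨g, hg, rfl⟩
    apply form_transport σ (g : Matrix (Fin 3) (Fin 3) F) _ Bm ((mem_GU_iff_isU σ hσ g).mp (hRU hg))
    have e : (MulAut.conj B₀⁻¹).toMonoidHom g = B₀⁻¹ * g * B₀ := by simp
    rw [e, hBm, ← Units.val_mul, ← Units.val_mul]
    congr 1
    group
  have hX := key gx hstd.gx_mem
  have hY := key gy hstd.gy_mem
  rw [hstd.gx_val] at hX
  rw [hstd.gy_val] at hY
  have hMs := scalar_of_inv σ ω hω1 hω21 hω3 (hσ3 ω hω3) M hX hY
  set m : F := M 0 0 with hm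
  have hdetM : M.det = Bm.det * σ Bm.det := by
    rw [hM, Matrix.det_mul, Matrix.det_transpose]
    congr 1
    exact (RingHom.map_det σ Bm).symm
  have hBdet : Bm.det ≠ 0 := ((Matrix.isUnit_iff_isUnit_det _).mp B₀.isUnit).ne_zero
  have hm0 : m ≠ 0 := by
    intro h0
    rw [hMs, h0, zero_smul, Matrix.det_zero] at hdetM
    rcases mul_eq_zero.mp hdetM.symm with h | h
    · exact hBdet h
    · exact hBdet ((map_eq_zero σ).mp h)
  have hσm : σ m = m := by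
    rw [hm, hM]
    simp [Matrix.mul_apply, Fin.sum_univ_three, hσσ]
    ring
  obtain ⟨a, ha⟩ := Cfsg.Agent.Lib.helper15.SU3Inv.norm_surj hF σ hσ m hm0 hσm
  have ha0 : a ≠ 0 := by
    intro h0; rw [h0, zero_mul] at ha; exact hm0 ha.symm
  have hdetB : (a⁻¹ • Bm).det ≠ 0 := by
    rw [Matrix.det_smul]
    exact mul_ne_zero (pow_ne_zero _ (inv_ne_zero ha0)) hBdet
  set B : GL (Fin 3) F := Matrix.GeneralLinearGroup.mkOfDetNeZero (a⁻¹ • Bm) hdetB with hB
  have hBv : (B : Matrix (Fin 3) (Fin 3) F) = a⁻¹ • (B₀ : Matrix (Fin 3) (Fin 3) F) :=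
    Matrix.GeneralLinearGroup.val_mkOfDetNeZero _ _
  have hBU : B ∈ Cfsg.GU 3 F q := by
    rw [mem_GU_iff_isU σ hσ, hBv]
    unfold IsU
    have e : (a⁻¹ • Bm).map σ = σ a⁻¹ • Bm.map σ := by
      ext i j
      simp
    rw [← hBm, Matrix.transpose_smul, e, Matrix.smul_mul, Matrix.mul_smul, smul_smul, ← hM, hMs,
      smul_smul, map_inv₀, ← mul_inv, ha, inv_mul_cancel₀ hm0, one_smul]
  refine ⟨B, ω, gx, gy, hBU, ?_⟩
  rw [conj_eq_of_smul B B₀ a⁻¹ hBv]
  exact hstd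

end grp

end Cfsg.Agent.Lib.helper15.ES
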