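import Mathlib
import Cfsg.Prelude.Def_Classical
import Cfsg.Agent.Lib.Lead.Unitary
import Cfsg.Agent.S0278
import Cfsg.Agent.S0279
import Cfsg.Agent.Lib.helper15.SU3Inv
import Cfsg.Agent.Lib.helper15.SU3InvG

set_option autoImplicit false

namespace Cfsg.Agent.Lib.helper15.SU3Inv

open Matrix Finset Cfsg.Agent.Lib.Lead

theorem card_conj_mul_card_centralizer {G : Type*} [Group G] [Finite G] (t : G) :
    Nat.card {x : G // ∃ g : G, g * t * g⁻¹ = x} *
      Nat.card (Subgroup.centralizer ({t} : Set G)) = Nat.card G := by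
  have h1 := MulAction.index_stabilizer (ConjAct G) t
  have h2 := Subgroup.index_mul_card (MulAction.stabilizer (ConjAct G) t)
  rw [Subgroup.nat_card_centralizer_nat_card_stabilizer]
  have h3 : Nat.card (ConjAct G) = Nat.card G := rfl
  rw [← h3, ← h2, h1, ← Nat.card_coe_set_eq]
  congr 1

section alg3
variable {F : Type*} [Field F] (σ : F →+* F)

theorem sum_proj (hσσ : ∀ x, σ (σ x) = x) (w u v : Fin 3 → F) (hw : hd σ w w = 1)
    (hu : hd σ u u = 1) (hv : hd σ v v = 1) (huw : hd σ u w = 0) (hvw : hd σ v w = 0)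
    (hvu : hd σ v u = 0) : proj σ w + proj σ u + proj σ v = 1 := by
  have hwu : hd σ w u = 0 := by rw [← hd_conj σ hσσ, huw, map_zero]
  have hwv : hd σ w v = 0 := by rw [← hd_conj σ hσσ, hvw, map_zero]
  have huv : hd σ u v = 0 := by rw [← hd_conj σ hσσ, hvu, map_zero]
  rw [hd_expand] at hw hu hv huw hvw hvu hwu hwv huv
  have h1 : (!![w 0, u 0, v 0; w 1, u 1, v 1; w 2, u 2, v 2] : Matrix (Fin 3) (Fin 3) F)ᵀ *
      (!![w 0, u 0, v 0; w 1, u 1, v 1; w 2, u 2, v 2] : Matrix (Fin 3) (Fin 3) F).map σ = 1 := by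
    ext i j
    fin_cases i <;> fin_cases j
    · simp [Matrix.mul_apply, Fin.sum_univ_three]; linear_combination hw
    · simp [Matrix.mul_apply, Fin.sum_univ_three]; linear_combination hwu
    · simp [Matrix.mul_apply, Fin.sum_univ_three]; linear_combination hwv
    · simp [Matrix.mul_apply, Fin.sum_univ_three]; linear_combination huw
    · simp [Matrix.mul_apply, Fin.sum_univ_three]; linear_combination hu
    · simp [Matrix.mul_apply, Fin.sum_univ_three]; linear_combination huv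
    · simp [Matrix.mul_apply, Fin.sum_univ_three]; linear_combination hvw
    · simp [Matrix.mul_apply, Fin.sum_univ_three]; linear_combination hvu
    · simp [Matrix.mul_apply, Fin.sum_univ_three]; linear_combination hv
  have h2 := mul_eq_one_comm.mp h1
  ext i j
  have := congrFun (congrFun h2 j) i
  fin_cases i <;> fin_cases j <;>
    simp [Matrix.mul_apply, Fin.sum_univ_three, proj, vecMulVec_apply] at this ⊢ <;>
    linear_combination this

theorem rfl3_mul_of_orth (hσσ : ∀ x, σ (σ x) = x) (w u v : Fin 3 → F) (hw : hd σ w w = 1)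
    (hu : hd σ u u = 1) (hv : hd σ v v = 1) (huw : hd σ u w = 0) (hvw : hd σ v w = 0)
    (hvu : hd σ v u = 0) : rfl3 σ v = rfl3 σ w * rfl3 σ u := by
  have hs := sum_proj σ hσσ w u v hw hu hv huw hvw hvu
  have hP : proj σ w * proj σ u = 0 := by rw [proj_mul_proj, huw, zero_smul]
  have hv' : proj σ v = 1 - proj σ w - proj σ u := by rw [← hs]; abel
  simp only [rfl3, hv', sub_mul, mul_sub, smul_mul_assoc, mul_smul_comm, hP, one_mul, mul_one,
    smul_zero]
  ext i j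
  simp only [Matrix.sub_apply, Matrix.smul_apply, smul_eq_mul, Matrix.zero_apply]
  ring

end alg3

section grp2
variable {F : Type*} [Field F] [Fintype F] {q : ℕ} (σ : F →+* F)

theorem invol_conj_e1 (hF : Fintype.card F = q ^ 2) (h2 : (2 : F) ≠ 0) (hσ : ∀ x, σ x = x ^ q)
    (hσσ : ∀ x, σ (σ x) = x) (t : Cfsg.SU 3 F q) (ht : t ≠ 1) (ht2 : t * t = 1) :
    ∃ g : Cfsg.SU 3 F q, g * invSU σ hσ hσσ e1 (hd_e1 σ) * g⁻¹ = t := by
  obtain ⟨w, hw, rfl⟩ := exists_invSU σ hF h2 hσ hσσ t ht ht2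
  exact exists_conj σ hF hσ hσσ w hw

theorem invol_conj (hF : Fintype.card F = q ^ 2) (h2 : (2 : F) ≠ 0) (hσ : ∀ x, σ x = x ^ q)
    (hσσ : ∀ x, σ (σ x) = x) (t x : Cfsg.SU 3 F q) (ht : t ≠ 1) (ht2 : t * t = 1)
    (hx : x ≠ 1) (hx2 : x * x = 1) : ∃ g : Cfsg.SU 3 F q, g * t * g⁻¹ = x := by
  obtain ⟨g1, hg1⟩ := invol_conj_e1 σ hF h2 hσ hσσ t ht ht2
  obtain ⟨g2, hg2⟩ := invol_conj_e1 σ hF h2 hσ hσσ x hx hx2
  refine ⟨g2 * g1⁻¹, ?_⟩
  rw [← hg1, ← hg2]
  group

theorem card_invol (hF : Fintype.card F = q ^ 2) (h2 : (2 : F) ≠ 0) (hσ : ∀ x, σ x = x ^ q)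
    (hσσ : ∀ x, σ (σ x) = x) :
    Nat.card {x : Cfsg.SU 3 F q // x ≠ 1 ∧ x * x = 1} = q ^ 2 * (q ^ 2 - q + 1) := by
  have hq := two_le_q hF
  have h := card_fiber σ hF h2 hσ hσσ (fun x => x ≠ 1 ∧ x * x = 1) (fun x hx => hx)
  have h3 : Nat.card {w : Fin 3 → F // (fun x : Cfsg.SU 3 F q => x ≠ 1 ∧ x * x = 1)
      (invSU' σ hσ hσσ w)} = q ^ 5 + q ^ 2 := by
    rw [← card_unit3 σ hF hσ]
    apply Nat.card_congr
    apply Equiv.subtypeEquivRight
    intro w
    constructor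
    · intro hw
      exact unit_of_invSU'_ne_one σ hσ hσσ w hw.1
    · intro hw
      rw [invSU'_unit σ hσ hσσ w hw]
      exact ⟨invSU_ne_one σ h2 hσ hσσ w hw, invSU_mul_self σ hσ hσσ w hw⟩
  rw [h3] at h
  have hle : q ≤ q ^ 2 := by nlinarith
  have e : q ^ 5 + q ^ 2 = (q + 1) * (q ^ 2 * (q ^ 2 - q + 1)) := by
    zify [hle]; ring
  rw [e] at h
  exact (Nat.eq_of_mul_eq_mul_left (by omega) h).symm

theorem card_SU3 (hF : Fintype.card F = q ^ 2) :
    Nat.card (Cfsg.SU 3 F q) = q ^ 3 * (q ^ 2 - 1) * (q ^ 3 + 1) := by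
  have h := Cfsg.Agent.S0278.result hF 3 (by omega)
  have e : q ^ (3 * (3 - 1) / 2) * ∏ i ∈ Finset.range 3,
      (if Even i then q ^ (i + 1) + 1 else q ^ (i + 1) - 1) =
      (q + 1) * (q ^ 3 * (q ^ 2 - 1) * (q ^ 3 + 1)) := by
    simp [Finset.prod_range_succ]
    ring
  rw [e] at h
  exact Nat.eq_of_mul_eq_mul_left (by omega) h

end grp2

end Cfsg.Agent.Lib.helper15.SU3Inv
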