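import Mathlib
import Cfsg.Prelude.Def_LieClassical
import Cfsg.Prelude.Def_GeometricClasses
import Cfsg.Agent.Lib.helper15.SU3InvH

set_option autoImplicit false
set_option linter.unusedSimpArgs false
set_option linter.unusedSectionVars false

namespace Cfsg.Agent.Lib.helper15.ES

variable {F : Type*} [Field F] [Fintype F] {q : ℕ}

lemma map_SU_eq : (Cfsg.SU 3 F q).map (Matrix.SpecialLinearGroup.toGL (n := Fin 3) (R := F)) =
    Cfsg.GU 3 F q ⊓ Cfsg.Geo.specialLinear (Fin 3) F := by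
  ext g
  constructor
  · rintro ⟨A, hA, rfl⟩
    refine ⟨hA, ?_⟩
    show Matrix.GeneralLinearGroup.det (Matrix.SpecialLinearGroup.toGL A) = 1
    apply Units.ext
    rw [Matrix.GeneralLinearGroup.val_det_apply, Units.val_one]
    exact A.2
  · rintro ⟨hg, hdet⟩
    have hd : (g : Matrix (Fin 3) (Fin 3) F).det = 1 := by
      have h1 : Matrix.GeneralLinearGroup.det g = 1 := hdet
      have := congrArg Units.val h1
      rwa [Matrix.GeneralLinearGroup.val_det_apply, Units.val_one] at this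
    refine ⟨⟨(g : Matrix (Fin 3) (Fin 3) F), hd⟩, ?_, ?_⟩
    · exact hg
    · apply Units.ext
      rfl

lemma card_GU_inf_SL (hF : Fintype.card F = q ^ 2) :
    Nat.card (Cfsg.GU 3 F q ⊓ Cfsg.Geo.specialLinear (Fin 3) F : Subgroup (GL (Fin 3) F)) =
      q ^ 3 * (q ^ 2 - 1) * (q ^ 3 + 1) := by
  rw [← map_SU_eq, Subgroup.card_map_of_injective, Cfsg.Agent.Lib.helper15.SU3Inv.card_SU3 hF]
  intro A A' h
  apply Subtype.ext
  have := congrArg Units.val h
  exact this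

lemma not_81_dvd (p : ℕ) (hp : p % 9 = 2 ∨ p % 9 = 5) :
    ¬ 81 ∣ p ^ 3 * (p ^ 2 - 1) * (p ^ 3 + 1) := by
  obtain ⟨m, rfl⟩ : ∃ m, p = 3 * m + 2 := ⟨p / 3, by omega⟩
  have hm : m % 3 ≠ 2 := by omega
  have e1 : (3 * m + 2) ^ 2 - 1 = 3 * ((3 * m + 1) * (m + 1)) := by
    apply Nat.sub_eq_of_eq_add
    ring
  have e2 : (3 * m + 2) ^ 3 + 1 = 9 * ((m + 1) * (3 * m ^ 2 + 3 * m + 1)) := by ring
  rw [e1, e2]
  intro hdvd
  have e : (3 * m + 2) ^ 3 * (3 * ((3 * m + 1) * (m + 1))) * (9 * ((m + 1) * (3 * m ^ 2 + 3 * m + 1))) =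
      27 * ((3 * m + 2) ^ 3 * (3 * m + 1) * (m + 1) ^ 2 * (3 * m ^ 2 + 3 * m + 1)) := by ring
  rw [e] at hdvd
  have h3 : 3 ∣ (3 * m + 2) ^ 3 * (3 * m + 1) * (m + 1) ^ 2 * (3 * m ^ 2 + 3 * m + 1) := by
    have : (81 : ℕ) = 27 * 3 := by norm_num
    rw [this] at hdvd
    exact Nat.dvd_of_mul_dvd_mul_left (by norm_num) hdvd
  have hp3 := Nat.prime_three
  rcases (Nat.Prime.dvd_mul hp3).mp h3 with h | h
  · rcases (Nat.Prime.dvd_mul hp3).mp h with h | h
    · rcases (Nat.Prime.dvd_mul hp3).mp h with h | h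
      · have := hp3.dvd_of_dvd_pow h
        omega
      · omega
    · have := hp3.dvd_of_dvd_pow h
      omega
  · have e4 : 3 * m ^ 2 + 3 * m + 1 = 3 * (m ^ 2 + m) + 1 := by ring
    rw [e4] at h
    omega

theorem index_contra3U (hF : Fintype.card F = q ^ 2) (R : Subgroup (GL (Fin 3) F)) (hR : Nat.card R = 27)
    (hRK : R ≤ Cfsg.GU 3 F q ⊓ Cfsg.Geo.specialLinear (Fin 3) F)
    (hq : q % 9 = 2 ∨ q % 9 = 5)
    (hΩ : 3 ∣ (Cfsg.Geo.subgroupNormalizer R).relIndex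
      (Cfsg.GU 3 F q ⊓ Cfsg.Geo.specialLinear (Fin 3) F)) : False := by
  set K := Cfsg.GU 3 F q ⊓ Cfsg.Geo.specialLinear (Fin 3) F with hK
  set N := Cfsg.Geo.subgroupNormalizer R with hN
  have hRN : R ≤ N := Subgroup.le_normalizer
  have h27 : 27 ∣ Nat.card (N.subgroupOf K) := by
    have h1 : R.subgroupOf K ≤ N.subgroupOf K := Subgroup.subgroupOf_mono K hRN
    have h2 := Subgroup.card_dvd_of_le h1
    rwa [Nat.card_congr (Subgroup.subgroupOfEquivOfLe hRK).toEquiv, hR] at h2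
  have h81 : 81 ∣ Nat.card K := by
    rw [← Subgroup.card_mul_index (N.subgroupOf K)]
    have : (81 : ℕ) = 27 * 3 := by norm_num
    rw [this]
    exact Nat.mul_dvd_mul h27 hΩ
  rw [hK, card_GU_inf_SL hF] at h81
  exact not_81_dvd q hq h81

end Cfsg.Agent.Lib.helper15.ES
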