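import Mathlib

namespace Cfsg.Agent.Lib.helper15.LU3

open Matrix

variable {F : Type*} [Field F]


def dmat (t : F) : Matrix (Fin 3) (Fin 3) F := !![1, 0, 0; 0, t, 0; 0, 0, t⁻¹]

theorem det_dmat {t : F} (ht : t ≠ 0) : (dmat t).det = 1 := by
  simp [dmat, Matrix.det_fin_three, ht]

theorem diagL (t a b c : F) (ht : t ≠ 0) (ht1 : t ≠ 1) (ht2 : t ^ 2 ≠ 1) :
    ∃ P P' : Matrix (Fin 3) (Fin 3) F, P.det = 1 ∧ P * P' = 1 ∧
      !![1, 0, 0; a, t, 0; b, c, t⁻¹] = P * dmat t * P' := by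
  have h1 : (1 : F) - t ≠ 0 := fun h => ht1 (by linear_combination -h)
  have h2 : t - t⁻¹ ≠ 0 := by
    intro h
    apply ht2
    field_simp at h
    linear_combination h
  have h3 : (1 : F) - t⁻¹ ≠ 0 := by
    intro h
    rw [sub_eq_zero] at h
    exact ht1 (inv_eq_one.mp h.symm)
  refine ⟨!![1, 0, 0; a / (1 - t), 1, 0; (b + c * (a / (1 - t))) / (1 - t⁻¹), c / (t - t⁻¹), 1],
    !![1, 0, 0; -(a / (1 - t)), 1, 0;
      (a / (1 - t)) * (c / (t - t⁻¹)) - (b + c * (a / (1 - t))) / (1 - t⁻¹), -(c / (t - t⁻¹)), 1],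
    ?_, ?_, ?_⟩
  · simp [Matrix.det_fin_three]
  · ext i j
    fin_cases i <;> fin_cases j <;> simp [Matrix.mul_apply, Fin.sum_univ_three] <;> ring
  · ext i j
    fin_cases i <;> fin_cases j <;>
      simp [dmat, Matrix.mul_apply, Fin.sum_univ_three] <;> field_simp <;> ring

theorem dmat_transpose (t : F) : (dmat t)ᵀ = dmat t := by
  ext i j
  fin_cases i <;> fin_cases j <;> simp [dmat]

theorem diagU (t a b c : F) (ht : t ≠ 0) (ht1 : t ≠ 1) (ht2 : t ^ 2 ≠ 1) :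
    ∃ Q Q' : Matrix (Fin 3) (Fin 3) F, Q.det = 1 ∧ Q * Q' = 1 ∧
      !![1, a, b; 0, t, c; 0, 0, t⁻¹] = Q * dmat t * Q' := by
  obtain ⟨P, P', hP, hPP, hL⟩ := diagL t a b c ht ht1 ht2
  have hP' : P'.det = 1 := by
    have := congrArg Matrix.det hPP
    rw [Matrix.det_mul, hP, one_mul, Matrix.det_one] at this
    exact this
  refine ⟨P'ᵀ, Pᵀ, by rw [Matrix.det_transpose, hP'], ?_, ?_⟩
  · rw [← Matrix.transpose_mul, hPP, Matrix.transpose_one]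
  · have := congrArg Matrix.transpose hL
    rw [Matrix.transpose_mul, Matrix.transpose_mul, dmat_transpose, ← Matrix.mul_assoc] at this
    rw [← this]
    ext i j
    fin_cases i <;> fin_cases j <;> simp

theorem lu_split (t : F) (ht : t ≠ 0) (M : Matrix (Fin 3) (Fin 3) F) (hdet : M.det = 1)
    (h00 : M 0 0 = 1) (hmin : M 0 0 * M 1 1 - M 0 1 * M 1 0 = t ^ 2) :
    M = !![1, 0, 0; M 1 0, t, 0; M 2 0, (M 2 1 - M 2 0 * M 0 1) / t, t⁻¹] *
      !![1, M 0 1, M 0 2; 0, t, (M 1 2 - M 1 0 * M 0 2) / t; 0, 0, t⁻¹] := by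
  rw [Matrix.det_fin_three] at hdet
  rw [h00] at hmin hdet
  ext i j
  fin_cases i <;> fin_cases j <;> simp [Matrix.mul_apply, Fin.sum_univ_three, h00]
  · linear_combination hmin
  · field_simp
    ring
  · field_simp
    ring
  · field_simp
    linear_combination hdet - (M 2 2 - M 2 0 * M 0 2) * hmin

theorem m_split (t : F) (ht : t ≠ 0) (ht1 : t ≠ 1) (ht2 : t ^ 2 ≠ 1)
    (M : Matrix (Fin 3) (Fin 3) F) (hdet : M.det = 1)
    (h00 : M 0 0 = 1) (hmin : M 0 0 * M 1 1 - M 0 1 * M 1 0 = t ^ 2) :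
    ∃ P P' Q Q' : Matrix (Fin 3) (Fin 3) F, P.det = 1 ∧ P * P' = 1 ∧ Q.det = 1 ∧ Q * Q' = 1 ∧
      M = P * dmat t * P' * (Q * dmat t * Q') := by
  obtain ⟨P, P', hP, hPP, hL⟩ := diagL t (M 1 0) (M 2 0) ((M 2 1 - M 2 0 * M 0 1) / t) ht ht1 ht2
  obtain ⟨Q, Q', hQ, hQQ, hU⟩ := diagU t (M 0 1) (M 0 2) ((M 1 2 - M 1 0 * M 0 2) / t) ht ht1 ht2
  refine ⟨P, P', Q, Q', hP, hPP, hQ, hQQ, ?_⟩
  rw [← hL, ← hU]
  exact lu_split t ht M hdet h00 hmin



theorem step_cyc (d1 d2 a b c x y z : F) (hc : c ≠ 0) :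
    ∃ S S' M : Matrix (Fin 3) (Fin 3) F, S * S' = 1 ∧
      !![0, a, x; 1, b, y; 0, c, z] * S = S * M ∧ M 0 0 = d1 ∧
      M 0 0 * M 1 1 - M 0 1 * M 1 0 = d1 * d2 := by
  refine ⟨!![1, -d1, a + d1 * d2; 0, 1, 0; 0, 0, c],
    !![1, d1, -(a + d1 * d2) / c; 0, 1, 0; 0, 0, 1 / c],
    !![1, d1, -(a + d1 * d2) / c; 0, 1, 0; 0, 0, 1 / c] * !![0, a, x; 1, b, y; 0, c, z] *
      !![1, -d1, a + d1 * d2; 0, 1, 0; 0, 0, c], ?_, ?_, ?_, ?_⟩
  · ext i j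
    fin_cases i <;> fin_cases j <;> simp [Matrix.mul_apply, Fin.sum_univ_three] <;> field_simp <;> ring
  · ext i j
    fin_cases i <;> fin_cases j <;> simp [Matrix.mul_apply, Fin.sum_univ_three] <;> field_simp <;> ring
  · simp [Matrix.mul_apply, Fin.sum_univ_three]
  · simp [Matrix.mul_apply, Fin.sum_univ_three]
    field_simp
    ring

theorem step_inv (d1 d2 a b x y z : F) (hdet : -(a * z) = 1) :
    ∃ S S' M : Matrix (Fin 3) (Fin 3) F, S * S' = 1 ∧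
      !![0, a, x; 1, b, y; 0, 0, z] * S = S * M ∧ M 0 0 = d1 ∧
      M 0 0 * M 1 1 - M 0 1 * M 1 0 = d1 * d2 := by
  have hz : z ≠ 0 := by
    rintro rfl
    simp at hdet
  have ha : a = -(1 / z) := by
    field_simp
    linear_combination -hdet
  subst ha
  refine ⟨!![1, d1 * (d1 * d2) - (d1 - x) / z * (z * (d1 * d2) - 1), x; 0, -(d1 * d2), -1;
      0, z * (d1 * d2) - 1, z],
    !![1, (d1 * (d1 * d2) - (d1 - x) / z * (z * (d1 * d2) - 1)) * z - x * (z * (d1 * d2) - 1),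
        (d1 * (d1 * d2) - (d1 - x) / z * (z * (d1 * d2) - 1)) - x * (d1 * d2);
      0, -z, -1; 0, z * (d1 * d2) - 1, d1 * d2],
    !![1, (d1 * (d1 * d2) - (d1 - x) / z * (z * (d1 * d2) - 1)) * z - x * (z * (d1 * d2) - 1),
        (d1 * (d1 * d2) - (d1 - x) / z * (z * (d1 * d2) - 1)) - x * (d1 * d2);
      0, -z, -1; 0, z * (d1 * d2) - 1, d1 * d2] * !![0, -(1 / z), x; 1, b, y; 0, 0, z] *
    !![1, d1 * (d1 * d2) - (d1 - x) / z * (z * (d1 * d2) - 1), x; 0, -(d1 * d2), -1;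
      0, z * (d1 * d2) - 1, z], ?_, ?_, ?_, ?_⟩
  · ext i j
    fin_cases i <;> fin_cases j <;> simp [Matrix.mul_apply, Fin.sum_univ_three] <;> field_simp <;> ring
  · ext i j
    fin_cases i <;> fin_cases j <;> simp [Matrix.mul_apply, Fin.sum_univ_three] <;> field_simp <;> ring
  · simp [Matrix.mul_apply, Fin.sum_univ_three]
    field_simp
    ring
  · simp [Matrix.mul_apply, Fin.sum_univ_three]
    field_simp
    ring



def smat (g : Matrix (Fin 3) (Fin 3) F) (v : Fin 3 → F) (k : Fin 3) : Matrix (Fin 3) (Fin 3) F :=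
  Matrix.of fun r c => ![v r, (g *ᵥ v) r, (Pi.single k 1 : Fin 3 → F) r] c

theorem exists_vk (g : Matrix (Fin 3) (Fin 3) F) (hns : ∀ r : F, Matrix.scalar (Fin 3) r ≠ g) :
    ∃ v : Fin 3 → F, ∃ k : Fin 3, (smat g v k).det ≠ 0 := by
  by_contra h
  push Not at h
  have h10 := h ![1, 0, 0] 2
  have h20 := h ![1, 0, 0] 1
  have h01 := h ![0, 1, 0] 2
  have h21 := h ![0, 1, 0] 0
  have h02 := h ![0, 0, 1] 1
  have h12 := h ![0, 0, 1] 0
  have ha := h ![1, 1, 0] 2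
  have hb := h ![0, 1, 1] 0
  simp [smat, Matrix.det_fin_three, Matrix.mulVec, dotProduct, Fin.sum_univ_three] at h10 h20 h01 h21 h02 h12 ha hb
  rw [h10, h01] at ha
  rw [h21, h12] at hb
  have h11 : g 1 1 = g 0 0 := by linear_combination ha
  have h22 : g 2 2 = g 0 0 := by linear_combination hb + ha
  apply hns (g 0 0)
  ext i j
  fin_cases i <;> fin_cases j <;> simp [Matrix.scalar_apply, *]

theorem normal_form (g : Matrix (Fin 3) (Fin 3) F) (hns : ∀ r : F, Matrix.scalar (Fin 3) r ≠ g) :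
    ∃ S S' N : Matrix (Fin 3) (Fin 3) F, S * S' = 1 ∧ g * S = S * N ∧
      N 0 0 = 0 ∧ N 1 0 = 1 ∧ N 2 0 = 0 := by
  obtain ⟨v, k, hdet⟩ := exists_vk g hns
  have hu : IsUnit (smat g v k).det := isUnit_iff_ne_zero.mpr hdet
  have hcol : ∀ r, (g * smat g v k) r 0 = smat g v k r 1 := by
    intro r
    simp [smat, Matrix.mul_apply, Matrix.mulVec, dotProduct]
  have hN : ∀ i, ((smat g v k)⁻¹ * g * smat g v k) i 0 = (1 : Matrix (Fin 3) (Fin 3) F) i 1 := by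
    intro i
    rw [← Matrix.nonsing_inv_mul _ hu, Matrix.mul_assoc, Matrix.mul_apply, Matrix.mul_apply]
    exact Finset.sum_congr rfl fun r _ => by rw [hcol]
  refine ⟨smat g v k, (smat g v k)⁻¹, (smat g v k)⁻¹ * g * smat g v k,
    Matrix.mul_nonsing_inv _ hu, ?_, ?_, ?_, ?_⟩
  · rw [Matrix.mul_assoc, ← Matrix.mul_assoc (smat g v k), Matrix.mul_nonsing_inv _ hu, Matrix.one_mul]
  · rw [hN]; simp
  · rw [hN]; simp
  · rw [hN]; simp

theorem det_ne_zero_of_mul_eq_one {S S' : Matrix (Fin 3) (Fin 3) F} (h : S * S' = 1) : S.det ≠ 0 := by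
  have := congrArg Matrix.det h
  rw [Matrix.det_mul, Matrix.det_one] at this
  exact left_ne_zero_of_mul_eq_one this

theorem det_eq_of_conj {g S S' N : Matrix (Fin 3) (Fin 3) F} (h : S * S' = 1) (hg : g * S = S * N) :
    N.det = g.det := by
  have h1 := congrArg Matrix.det hg
  rw [Matrix.det_mul, Matrix.det_mul, mul_comm] at h1
  exact (mul_left_cancel₀ (det_ne_zero_of_mul_eq_one h) h1).symm

theorem exists_similar (t : F) (g : Matrix (Fin 3) (Fin 3) F) (hdet : g.det = 1)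
    (hns : ∀ r : F, Matrix.scalar (Fin 3) r ≠ g) :
    ∃ T T' M : Matrix (Fin 3) (Fin 3) F, T * T' = 1 ∧ g * T = T * M ∧ M 0 0 = 1 ∧
      M 0 0 * M 1 1 - M 0 1 * M 1 0 = t ^ 2 := by
  obtain ⟨S, S', N, hSS, hgS, hN0, hN1, hN2⟩ := normal_form g hns
  have hNdet : N.det = 1 := by rw [det_eq_of_conj hSS hgS, hdet]
  have hNeta : N = !![0, N 0 1, N 0 2; 1, N 1 1, N 1 2; 0, N 2 1, N 2 2] := by
    conv_lhs => rw [Matrix.eta_fin_three N, hN0, hN1, hN2]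
  have key : ∃ S₁ S₁' M : Matrix (Fin 3) (Fin 3) F, S₁ * S₁' = 1 ∧ N * S₁ = S₁ * M ∧ M 0 0 = 1 ∧
      M 0 0 * M 1 1 - M 0 1 * M 1 0 = 1 * t ^ 2 := by
    by_cases hc : N 2 1 = 0
    · rw [hNeta, hc]
      apply step_inv
      rw [hNeta, hc, Matrix.det_fin_three] at hNdet
      simp at hNdet
      linear_combination hNdet
    · rw [hNeta]
      exact step_cyc _ _ _ _ _ _ _ _ hc
  obtain ⟨S₁, S₁', M, hS₁, hNS, hM0, hMm⟩ := key
  refine ⟨S * S₁, S₁' * S', M, ?_, ?_, hM0, by rw [hMm, one_mul]⟩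
  · rw [Matrix.mul_assoc, ← Matrix.mul_assoc S₁, hS₁, Matrix.one_mul, hSS]
  · rw [← Matrix.mul_assoc, hgS, Matrix.mul_assoc, hNS, Matrix.mul_assoc]

theorem main_split (t : F) (ht : t ≠ 0) (ht1 : t ≠ 1) (ht2 : t ^ 2 ≠ 1)
    (g : Matrix (Fin 3) (Fin 3) F) (hdet : g.det = 1)
    (hns : ∀ r : F, Matrix.scalar (Fin 3) r ≠ g) :
    ∃ P P' Q Q' : Matrix (Fin 3) (Fin 3) F, P.det = 1 ∧ P * P' = 1 ∧ Q.det = 1 ∧ Q * Q' = 1 ∧
      g = P * dmat t * P' * (Q * dmat t * Q') := by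
  obtain ⟨T, T', M, hTT, hgT, hM0, hMm⟩ := exists_similar t g hdet hns
  have hMdet : M.det = 1 := by rw [det_eq_of_conj hTT hgT, hdet]
  obtain ⟨P, P', Q, Q', hP, hPP, hQ, hQQ, hM⟩ := m_split t ht ht1 ht2 M hMdet hM0 hMm
  have hd : T.det ≠ 0 := det_ne_zero_of_mul_eq_one hTT
  have hT'T : T' * T = 1 := mul_eq_one_comm.mp hTT
  have hEE : (!![1, 0, 0; 0, 1, 0; 0, 0, T.det⁻¹] : Matrix (Fin 3) (Fin 3) F) *
      !![1, 0, 0; 0, 1, 0; 0, 0, T.det] = 1 := by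
    ext i j
    fin_cases i <;> fin_cases j <;> simp [Matrix.mul_apply, Fin.sum_univ_three, hd]
  have hEDE : (!![1, 0, 0; 0, 1, 0; 0, 0, T.det⁻¹] : Matrix (Fin 3) (Fin 3) F) * dmat t *
      !![1, 0, 0; 0, 1, 0; 0, 0, T.det] = dmat t := by
    ext i j
    fin_cases i <;> fin_cases j <;> simp [dmat, Matrix.mul_apply, Fin.sum_univ_three, hd]
    field_simp
  have hEdet : (!![1, 0, 0; 0, 1, 0; 0, 0, T.det⁻¹] : Matrix (Fin 3) (Fin 3) F).det = T.det⁻¹ := by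
    simp [Matrix.det_fin_three]
  have hgM : g = T * M * T' := by
    rw [← hgT, Matrix.mul_assoc, hTT, Matrix.mul_one]
  have conj_eq : ∀ X X' : Matrix (Fin 3) (Fin 3) F,
      T * X * !![1, 0, 0; 0, 1, 0; 0, 0, T.det⁻¹] * dmat t *
        (!![1, 0, 0; 0, 1, 0; 0, 0, T.det] * X' * T') = T * (X * dmat t * X') * T' := by
    intro X X'
    calc T * X * !![1, 0, 0; 0, 1, 0; 0, 0, T.det⁻¹] * dmat t *
        (!![1, 0, 0; 0, 1, 0; 0, 0, T.det] * X' * T')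
        = T * X * (!![1, 0, 0; 0, 1, 0; 0, 0, T.det⁻¹] * dmat t *
          !![1, 0, 0; 0, 1, 0; 0, 0, T.det]) * X' * T' := by simp only [Matrix.mul_assoc]
      _ = T * (X * dmat t * X') * T' := by rw [hEDE]; simp only [Matrix.mul_assoc]
  have inv_eq : ∀ X X' : Matrix (Fin 3) (Fin 3) F, X * X' = 1 →
      T * X * !![1, 0, 0; 0, 1, 0; 0, 0, T.det⁻¹] *
        (!![1, 0, 0; 0, 1, 0; 0, 0, T.det] * X' * T') = 1 := by
    intro X X' hXX
    calc T * X * !![1, 0, 0; 0, 1, 0; 0, 0, T.det⁻¹] *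
        (!![1, 0, 0; 0, 1, 0; 0, 0, T.det] * X' * T')
        = T * X * (!![1, 0, 0; 0, 1, 0; 0, 0, T.det⁻¹] *
          !![1, 0, 0; 0, 1, 0; 0, 0, T.det]) * X' * T' := by simp only [Matrix.mul_assoc]
      _ = T * (X * X') * T' := by rw [hEE]; simp only [Matrix.mul_assoc, Matrix.one_mul]
      _ = 1 := by rw [hXX, Matrix.mul_one, hTT]
  have det_eq : ∀ X : Matrix (Fin 3) (Fin 3) F, X.det = 1 →
      (T * X * !![1, 0, 0; 0, 1, 0; 0, 0, T.det⁻¹]).det = 1 := by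
    intro X hX
    rw [Matrix.det_mul, Matrix.det_mul, hX, hEdet, mul_one, mul_inv_cancel₀ hd]
  refine ⟨T * P * !![1, 0, 0; 0, 1, 0; 0, 0, T.det⁻¹], !![1, 0, 0; 0, 1, 0; 0, 0, T.det] * P' * T',
    T * Q * !![1, 0, 0; 0, 1, 0; 0, 0, T.det⁻¹], !![1, 0, 0; 0, 1, 0; 0, 0, T.det] * Q' * T',
    det_eq P hP, inv_eq P P' hPP, det_eq Q hQ, inv_eq Q Q' hQQ, ?_⟩
  rw [conj_eq, conj_eq, hgM, hM]
  calc T * (P * dmat t * P' * (Q * dmat t * Q')) * T'
      = T * (P * dmat t * P') * (1 : Matrix (Fin 3) (Fin 3) F) * (Q * dmat t * Q') * T' := by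
        simp only [Matrix.mul_assoc, Matrix.one_mul]
    _ = T * (P * dmat t * P') * T' * (T * (Q * dmat t * Q') * T') := by
        rw [← hT'T]; simp only [Matrix.mul_assoc]

end Cfsg.Agent.Lib.helper15.LU3
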