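import Mathlib
import Cfsg.Agent.Lib.helper15.LU3
import Cfsg.Agent.Lib.helper15.LU3T

namespace Cfsg.Agent.Lib.helper15.LU3

open Matrix

theorem mul3_eq (A B : Matrix (Fin 3) (Fin 3) (ZMod 3)) : A * B = Matrix.of (mul3 A B) := by
  ext i j
  simp [mul3, Matrix.mul_apply, Fin.sum_univ_three]

theorem det3_eq (A : Matrix (Fin 3) (Fin 3) (ZMod 3)) : A.det = det3 A := by
  rw [Matrix.det_fin_three]
  rfl

theorem mul_adj3 (A : Matrix (Fin 3) (Fin 3) (ZMod 3)) (h : det3 A = 1) :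
    A * Matrix.of (adj3 A) = 1 := by
  unfold det3 at h
  ext i j
  fin_cases i <;> fin_cases j <;> simp [adj3, Matrix.mul_apply, Fin.sum_univ_three] <;>
    first | (linear_combination h) | ring

def x0 : Matrix (Fin 3) (Fin 3) (ZMod 3) := Matrix.of x0f

theorem det_x0 : x0.det = 1 := by
  rw [det3_eq]; decide

theorem main_q3 (g : Matrix (Fin 3) (Fin 3) (ZMod 3)) (hdet : g.det = 1) (hg : g ≠ 1) :
    ∃ P P' Q Q' : Matrix (Fin 3) (Fin 3) (ZMod 3), P.det = 1 ∧ P * P' = 1 ∧ Q.det = 1 ∧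
      Q * Q' = 1 ∧ g = P * x0 * P' * (Q * x0 * Q') := by
  have hns : ∀ r : ZMod 3, Matrix.scalar (Fin 3) r ≠ g := by
    intro r hr
    have h1 : r ^ 3 = 1 := by
      have := hdet
      rw [← hr] at this
      simpa using this
    have h2 : ∀ r : ZMod 3, r ^ 3 = 1 → r = 1 := by decide
    rw [h2 r h1] at hr
    exact hg (by rw [← hr]; simp)
  obtain ⟨S, S', N, hSS, hgS, hN0, hN1, hN2⟩ := normal_form g hns
  have hNdet : N.det = 1 := by rw [det_eq_of_conj hSS hgS, hdet]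
  have hNeta : N = Matrix.of (nf3 (N 0 1) (N 1 1) (N 2 1) (N 0 2) (N 1 2) (N 2 2)) := by
    ext i j
    fin_cases i <;> fin_cases j <;> simp [nf3, hN0, hN1, hN2]
  have hd3 : det3 (nf3 (N 0 1) (N 1 1) (N 2 1) (N 0 2) (N 1 2) (N 2 2)) = 1 := by
    rw [hNeta, det3_eq] at hNdet
    exact hNdet
  obtain ⟨hU, hV, hT⟩ := tbl3_ok _ _ _ _ _ _ hd3
  set u : Matrix (Fin 3) (Fin 3) (ZMod 3) :=
    Matrix.of (tblU (N 0 1) (N 1 1) (N 2 1) (N 0 2) (N 1 2) (N 2 2)) with hu
  set v : Matrix (Fin 3) (Fin 3) (ZMod 3) :=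
    Matrix.of (tblV (N 0 1) (N 1 1) (N 2 1) (N 0 2) (N 1 2) (N 2 2)) with hv
  have hNuv : N = u * x0 * Matrix.of (adj3 u) * (v * x0 * Matrix.of (adj3 v)) := by
    rw [hNeta]
    ext i j
    rw [Matrix.of_apply, hT i j]
    simp only [mul3_eq, x0]
    rfl
  have huu : u * Matrix.of (adj3 u) = 1 := mul_adj3 u hU
  have hvv : v * Matrix.of (adj3 v) = 1 := mul_adj3 v hV
  have hud : u.det = 1 := by rw [det3_eq]; exact hU
  have hvd : v.det = 1 := by rw [det3_eq]; exact hV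
  have hS'S : S' * S = 1 := mul_eq_one_comm.mp hSS
  have he : S.det ≠ 0 := det_ne_zero_of_mul_eq_one hSS
  have he2 : ∀ e : ZMod 3, e ≠ 0 → e * e = 1 := by decide
  have hee := he2 _ he
  have hgN : g = S * N * S' := by
    rw [← hgS, Matrix.mul_assoc, hSS, Matrix.mul_one]
  have det_eq : ∀ X : Matrix (Fin 3) (Fin 3) (ZMod 3), X.det = 1 → (S.det • (S * X)).det = 1 := by
    intro X hX
    rw [Matrix.det_smul, Matrix.det_mul, hX, mul_one, Fintype.card_fin]
    linear_combination (S.det * S.det + 1) * hee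
  have inv_eq : ∀ X X' : Matrix (Fin 3) (Fin 3) (ZMod 3), X * X' = 1 →
      (S.det • (S * X)) * (S.det • (X' * S')) = 1 := by
    intro X X' hXX
    rw [Matrix.smul_mul, Matrix.mul_smul, smul_smul, hee, one_smul]
    calc S * X * (X' * S') = S * (X * X') * S' := by simp only [Matrix.mul_assoc]
      _ = 1 := by rw [hXX, Matrix.mul_one, hSS]
  have conj_eq : ∀ X X' : Matrix (Fin 3) (Fin 3) (ZMod 3),
      (S.det • (S * X)) * x0 * (S.det • (X' * S')) = S * (X * x0 * X') * S' := by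
    intro X X'
    rw [Matrix.smul_mul, Matrix.smul_mul, Matrix.mul_smul, smul_smul, hee, one_smul]
    simp only [Matrix.mul_assoc]
  refine ⟨S.det • (S * u), S.det • (Matrix.of (adj3 u) * S'), S.det • (S * v),
    S.det • (Matrix.of (adj3 v) * S'), det_eq u hud, inv_eq _ _ huu, det_eq v hvd, inv_eq _ _ hvv, ?_⟩
  rw [conj_eq, conj_eq, hgN, hNuv]
  calc S * (u * x0 * Matrix.of (adj3 u) * (v * x0 * Matrix.of (adj3 v))) * S'
      = S * (u * x0 * Matrix.of (adj3 u)) * (1 : Matrix (Fin 3) (Fin 3) (ZMod 3)) *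
          (v * x0 * Matrix.of (adj3 v)) * S' := by
        simp only [Matrix.mul_assoc, Matrix.one_mul]
    _ = S * (u * x0 * Matrix.of (adj3 u)) * S' * (S * (v * x0 * Matrix.of (adj3 v)) * S') := by
        rw [← hS'S]; simp only [Matrix.mul_assoc]

end Cfsg.Agent.Lib.helper15.LU3
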