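import Mathlib
import Cfsg.Agent.Lib.helper2.MI2.Defs

/-!
# MI2 row S2 (helper15), VERBATIM: `card_ff_pair` — two independent functionals, each fibre has `2^(2m-2)` elements
-/

set_option autoImplicit false
set_option linter.unusedVariables false
set_option linter.unusedSectionVars false

namespace Cfsg.Agent.Lib.helper2.MI2

open Matrix

variable {m : ℕ}

/-- the pair of functionals is onto -/
theorem mi2s2_surj {x y : V m} (hx : x ≠ 0) (hy : y ≠ 0) (hxy : x ≠ y) (a b : ZMod 2) :
    ∃ z : V m, ff x z = a ∧ ff y z = b := by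
  obtain ⟨z₁, h₁⟩ := exists_ff_eq_one hx
  obtain ⟨z₂, h₂⟩ := exists_ff_eq_one hy
  have hxy' : x + y ≠ 0 := by
    intro h
    apply hxy
    have h2 : x + y + y = y := by rw [h, zero_add]
    rw [add_assoc, v_add_self, add_zero] at h2
    exact h2
  obtain ⟨z₃, h₃⟩ := exists_ff_eq_one hxy'
  rw [ff_add_left] at h₃
  have key : ∀ p q r s a b : ZMod 2, r + s = 1 →
      ∃ c₁ c₂ c₃ : ZMod 2, c₁ * 1 + c₂ * q + c₃ * r = a ∧ c₁ * p + c₂ * 1 + c₃ * s = b := by decide
  obtain ⟨c₁, c₂, c₃, e₁, e₂⟩ := key (ff y z₁) (ff x z₂) (ff x z₃) (ff y z₃) a b h₃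
  refine ⟨c₁ • z₁ + c₂ • z₂ + c₃ • z₃, ?_, ?_⟩
  · rw [ff_add_right, ff_add_right, ff_smul_right, ff_smul_right, ff_smul_right, h₁]
    exact e₁
  · rw [ff_add_right, ff_add_right, ff_smul_right, ff_smul_right, ff_smul_right, h₂]
    exact e₂

/-- the number of vectors -/
theorem mi2s2_card_V : Fintype.card (V m) = 2 ^ (2 * m) := by
  rw [Fintype.card_fun, ZMod.card, Fintype.card_sum, Fintype.card_fin, two_mul]

/-- **S2** [M] Two independent functionals: each fibre of `z ↦ (ff x z, ff y z)` has `2^(2m-2)` elements. -/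
theorem card_ff_pair {x y : V m} (hx : x ≠ 0) (hy : y ≠ 0) (hxy : x ≠ y) (a b : ZMod 2) :
    Nat.card {z : V m | ff x z = a ∧ ff y z = b} = 2 ^ (2 * m - 2) := by
  classical
  have hm : 1 ≤ m := by
    rcases Nat.eq_zero_or_pos m with h0 | h0
    · subst h0
      exfalso
      apply hx
      funext i
      rcases i with i | i <;> exact i.elim0
    · exact h0
  let φ : V m →+ ZMod 2 × ZMod 2 :=
    { toFun := fun z => (ff x z, ff y z)
      map_zero' := by simp
      map_add' := fun z w => by simp [ff_add_right] }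
  have hφ : ∀ z, φ z = (ff x z, ff y z) := fun z => rfl
  have hsurj : ∀ p : ZMod 2 × ZMod 2, p ∈ Set.range φ := fun p => by
    obtain ⟨z, h1, h2⟩ := mi2s2_surj hx hy hxy p.1 p.2
    exact ⟨z, Prod.ext h1 h2⟩
  have hfib : ∀ p : ZMod 2 × ZMod 2,
      (Finset.univ.filter (fun z => φ z = p)).card = (Finset.univ.filter (fun z => φ z = (a, b))).card :=
    fun p => AddMonoidHom.card_fiber_eq_of_mem_range φ (hsurj p) (hsurj (a, b))
  have htot : Fintype.card (V m) = ∑ p : ZMod 2 × ZMod 2, (Finset.univ.filter (fun z => φ z = p)).card := by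
    rw [← Finset.card_univ]
    exact Finset.card_eq_sum_card_fiberwise (fun z _ => Finset.mem_univ (φ z))
  rw [Finset.sum_congr rfl (fun p _ => hfib p), Finset.sum_const, Finset.card_univ, mi2s2_card_V, smul_eq_mul,
    Fintype.card_prod, ZMod.card] at htot
  have hset : Nat.card {z : V m | ff x z = a ∧ ff y z = b} = (Finset.univ.filter (fun z => φ z = (a, b))).card := by
    rw [Nat.card_eq_fintype_card, Fintype.card_subtype]
    congr 1
    ext z
    simp only [Finset.mem_filter, Finset.mem_univ, true_and, hφ, Prod.mk.injEq, Set.mem_ofPred_eq]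
  rw [hset]
  have h2 : 2 ^ (2 * m) = 2 * 2 * 2 ^ (2 * m - 2) := by
    rw [← pow_two, ← pow_add]
    congr 1
    omega
  rw [h2] at htot
  omega

end Cfsg.Agent.Lib.helper2.MI2
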