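import Mathlib
import Cfsg.Agent.Lib.Helper24.MNP.Defs
import Cfsg.Agent.Lib.Helper1.MNPF7
import Cfsg.Agent.Lib.helper17.MNPF3
import Cfsg.Agent.Lib.Helper26.MNPT3core
import Cfsg.Agent.Lib.helper15.MNPT5core

/-!
# Project MNP (S4395, designer helper24), row T5 (`schAct_UT`), verbatim: `mnpt5_core` on helper1's F7,
helper17's F3 and helper26's T3 core.
-/

set_option autoImplicit false

namespace Cfsg.Agent.Lib.Helper24.MNP

open scoped commutatorElement
open Cfsg.Agent.Lib.Helper24.SCH (SchAct)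

universe u

section T

variable {K : Type u} [Field K] [Finite K] {p q : ℕ} [Fact p.Prime] [Fact q.Prime] [CharP K p]

variable {σ : InvHom K}

/-- T5 [M]. -/
theorem schAct_UT (hpq : p ≠ q) {m : ℕ} (hm : 1 ≤ m) (hK : Nat.card K = p ^ (2 * m))
    (ha : 2 * m = orderOf (p : ZMod q)) (ζ : K) (hζ : orderOf ζ = q)
    (hσ : ∀ x, σ.s x = x ^ (p ^ m)) (hζσ : σ.s ζ * ζ = 1) :
    SchAct p q (UT K σ) (alphaU σ ζ hζσ) :=
  mnpt5_core hpq ζ hζ hζσ (mnpt3_core hK (half_structure hm hK σ hσ))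
    (fun S hS => inv_addSubgroup hpq hK ha ζ hζ S hS)
    (half_structure hm hK σ hσ).2.1 (half_structure hm hK σ hσ).2.2

end T

end Cfsg.Agent.Lib.Helper24.MNP
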