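import Mathlib
import Cfsg.Agent.Lib.helper7.NCV.Defs
import Cfsg.Agent.Lib.helper7.NCVB1

/-!
# Project NCV (S3894, designer helper7), row B4 (`uJ'_eig`), verbatim: transport of B2 `uJ_eig`.
-/

set_option autoImplicit false

namespace Cfsg.Agent.Lib.helper7.NCV

open Matrix

universe u

variable {F : Type u} [Field F] {n : ℕ}

/-- transport of `mulVec` along the swap: `uJ' *ᵥ w = (uJ *ᵥ (w ∘ (sw m).symm)) ∘ sw m`. -/
theorem ncvb4_mulVec (m : ℕ) (w : Fin (m + 3) → F) :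
    (uJ' m : Matrix (Fin (m + 3)) (Fin (m + 3)) F) *ᵥ w =
      ((uJ m : Matrix (Fin (m + 3)) (Fin (m + 3)) F) *ᵥ (w ∘ (sw m).symm)) ∘ sw m := by
  unfold uJ'
  exact Matrix.submatrix_mulVec_equiv _ _ _ _

/-- **B4 (EIGU').** Same transport from `uJ_eig`. -/
theorem uJ'_eig (m : ℕ) (c : F) (w : Fin (m + 3) → F) (hw : w ≠ 0) (h : uJ' m *ᵥ w = c • w) :
    c = 1 := by
  rw [ncvb4_mulVec] at h
  have hw' : w ∘ (sw m).symm ≠ 0 := by
    intro h0
    apply hw
    funext i
    have := congrFun h0 (sw m i)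
    simpa using this
  apply uJ_eig m c (w ∘ (sw m).symm) hw'
  funext i
  have := congrFun h ((sw m).symm i)
  simpa using this

end Cfsg.Agent.Lib.helper7.NCV
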