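import Mathlib
import Cfsg.Agent.Lib.helper7.NPC.Defs
import Cfsg.Agent.Lib.helper6.PSL2Index
import Cfsg.Agent.Lib.helper15.SL2Card

/-!
# Project NPC (S3875), piece CARD : the orders of `PSL(2,p)` and `SL(2,2^a)`
-/

set_option autoImplicit false
set_option linter.unusedVariables false
set_option linter.unusedSectionVars false

namespace Cfsg.Agent.Lib.helper7.NPC

universe u

variable {H : Type u} [Group H] [Finite H] {p : ℕ} [Fact p.Prime]

/-- CARD1 : `|PSL(2, F)| = p (p² - 1) / 2` for `|F| = p` odd (`card_PSL2_mul` of `helper6/PSL2Index`). -/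
theorem card_of_psl (hp2 : p ≠ 2) (F : Type) [Field F] [Fintype F] (hF : Fintype.card F = p)
    (e : H ≃* Matrix.ProjectiveSpecialLinearGroup (Fin 2) F) :
    Nat.card H = p * (p ^ 2 - 1) / 2 := by
  have hp : p.Prime := Fact.out
  have h1 := Cfsg.Agent.Lib.helper6.PSL2Index.card_PSL2_mul (F := F)
  rw [hF] at h1
  have hodd : p % 2 = 1 := by
    rcases hp.eq_two_or_odd with h | h
    · exact absurd h hp2
    · exact h
  have hgcd : Nat.gcd 2 (p - 1) = 2 := by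
    apply Nat.gcd_eq_left
    have h2 := hp.two_le
    omega
  rw [hgcd] at h1
  rw [Nat.card_congr e.toEquiv, ← h1, Nat.mul_div_cancel _ (by norm_num : 0 < 2)]

/-- CARD2 : `|SL(2, 2^a)| = (p - 1) p (p - 2) ≥ p (p² - 1) / 2` for `p = 2^a + 1 > 3`
(`card_SL2` of `helper15/SL2Card`). -/
theorem card_of_sl (a : ℕ) (F : Type) [Field F] [Fintype F] (hF : Fintype.card F = 2 ^ a)
    (hpa : p = 2 ^ a + 1) (hp3 : 3 < p) (e : H ≃* Matrix.SpecialLinearGroup (Fin 2) F) :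
    p * (p ^ 2 - 1) / 2 ≤ Nat.card H := by
  have h1 := Cfsg.Agent.Lib.helper15.card_SL2 (F := F)
  rw [hF] at h1
  rw [Nat.card_congr e.toEquiv, h1]
  have hq : 2 ^ a = p - 1 := by omega
  rw [hq]
  apply Nat.div_le_of_le_mul
  obtain ⟨k, rfl⟩ : ∃ k, p = k + 4 := ⟨p - 4, by omega⟩
  have e1 : (k + 4) ^ 2 - 1 = k ^ 2 + 8 * k + 15 := by
    have : (k + 4) ^ 2 = k ^ 2 + 8 * k + 16 := by ring
    omega
  have e2 : k + 4 - 1 = k + 3 := by omega
  have e3 : (k + 3) ^ 2 - 1 = k ^ 2 + 6 * k + 8 := by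
    have : (k + 3) ^ 2 = k ^ 2 + 6 * k + 9 := by ring
    omega
  have hk : 1 ≤ k := by
    rcases Nat.eq_zero_or_pos k with h0 | h0
    · exfalso
      have hp4 : (k + 4).Prime := Fact.out
      rw [h0] at hp4
      norm_num at hp4
    · exact h0
  rw [e1, e2, e3]
  obtain ⟨j, rfl⟩ : ∃ j, k = j + 1 := ⟨k - 1, by omega⟩
  ring_nf
  nlinarith [sq_nonneg j, Nat.zero_le j, Nat.zero_le (j ^ 3)]

end Cfsg.Agent.Lib.helper7.NPC
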