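import Mathlib
import Cfsg.Agent.Lib.helper7.NPC.Defs

/-!
# Project NPC (S3875), piece G1 : `N ⊴ H` a `p`-subgroup with `H ⧸ N` `p`-closed ⟹ `H` is `p`-closed
-/

set_option autoImplicit false
set_option linter.unusedVariables false
set_option linter.unusedSectionVars false

namespace Cfsg.Agent.Lib.helper7.NPC

universe u

variable {H : Type u} [Group H] [Finite H] {p : ℕ} [Fact p.Prime]

/-- a normal `p`-subgroup lies in every Sylow `p`-subgroup -/
theorem npcg1_le_sylow (N : Subgroup H) [N.Normal] (hN : IsPGroup p ↥N) (P : Sylow p H) :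
    N ≤ (P : Subgroup H) := by
  obtain ⟨Q, hQ⟩ := hN.exists_le_sylow
  obtain ⟨g, hg⟩ := MulAction.exists_smul_eq H Q P
  intro n hn
  rw [← hg, Sylow.coe_subgroup_smul, Subgroup.mem_pointwise_smul_iff_inv_smul_mem]
  apply hQ
  have hnorm : N.Normal := inferInstance
  have := hnorm.conj_mem n hn g⁻¹
  simpa [MulAut.smul_def, MulAut.conj_apply] using this

/-- G1 : if `N ⊴ H` is a `p`-subgroup and `H ⧸ N` is `p`-closed then every Sylow `p`-subgroup of `H` is normal
(`N ≤ P`; the image of `P` in `H ⧸ N` is a Sylow `p`-subgroup, normal, with preimage `P N = P`). -/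
theorem normal_of_quot (N : Subgroup H) [N.Normal] (hN : IsPGroup p ↥N)
    (hq : Cfsg.IsPClosed p (H ⧸ N)) (P : Sylow p H) : (P : Subgroup H).Normal := by
  have hsurj : Function.Surjective (QuotientGroup.mk' N) := QuotientGroup.mk'_surjective N
  have hn := hq (P.mapSurjective hsurj)
  have hcoe : ((P.mapSurjective hsurj : Sylow p (H ⧸ N)) : Subgroup (H ⧸ N)) =
      (P : Subgroup H).map (QuotientGroup.mk' N) := rfl
  rw [hcoe] at hn
  have hcm : ((P : Subgroup H).map (QuotientGroup.mk' N)).comap (QuotientGroup.mk' N) =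
      (P : Subgroup H) := by
    rw [Subgroup.comap_map_eq, QuotientGroup.ker_mk']
    exact sup_eq_left.mpr (npcg1_le_sylow N hN P)
  rw [← hcm]
  exact hn.comap _

end Cfsg.Agent.Lib.helper7.NPC
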