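import Mathlib
import Cfsg.Agent.Lib.helper7.NPC.Defs

/-!
# Project NPC (S3875), piece G2 : `K ⊴ H` `p`-closed containing the Sylow `p`-subgroup `P` ⟹ `P ⊴ H`
-/

set_option autoImplicit false
set_option linter.unusedVariables false
set_option linter.unusedSectionVars false

namespace Cfsg.Agent.Lib.helper7.NPC

universe u

variable {H : Type u} [Group H] [Finite H] {p : ℕ} [Fact p.Prime]

/-- G2 : if `K ⊴ H` is `p`-closed and contains the Sylow `p`-subgroup `P` of `H` then `P ⊴ H`
(`P` is the unique Sylow `p`-subgroup of `K`, so characteristic in `K`). -/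
theorem normal_of_sub (K : Subgroup H) [K.Normal] (hK : Cfsg.IsPClosed p ↥K) (P : Sylow p H)
    (hPK : (P : Subgroup H) ≤ K) : (P : Subgroup H).Normal := by
  have hn : ((P.subtype hPK : Sylow p ↥K) : Subgroup ↥K).Normal := hK (P.subtype hPK)
  have hchar : ((P.subtype hPK : Sylow p ↥K) : Subgroup ↥K).Characteristic :=
    Sylow.characteristic_of_normal (P.subtype hPK) hn
  have hmap : ((P.subtype hPK : Sylow p ↥K) : Subgroup ↥K).map K.subtype = (P : Subgroup H) := by
    rw [Sylow.coe_subtype, Subgroup.subgroupOf_map_subtype]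
    exact inf_eq_left.mpr hPK
  rw [← hmap]
  exact ConjAct.normal_of_characteristic_of_normal

end Cfsg.Agent.Lib.helper7.NPC
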