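import Mathlib
import Cfsg.Agent.Lib.helper7.NPC.Defs
import Cfsg.Agent.Lib.helper6.PSL2Index

/-!
# Project NPC (S3875), piece W2 : `PSL(2,p)`, `p ≥ 5`, has order `p (p² - 1) / 2` and is not `p`-closed
-/

set_option autoImplicit false
set_option linter.unusedVariables false
set_option linter.unusedSectionVars false
set_option linter.style.haveILetI false

namespace Cfsg.Agent.Lib.helper7.NPC

universe u

variable {H : Type u} [Group H] [Finite H] {p : ℕ} [Fact p.Prime]

/-- W2 : `PSL(2, p)`, `p ≥ 5`, has order `p (p² - 1)/2` and is not `p`-closed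
(`card_PSL2_mul`, `card_sylow_ge` of `helper6/PSL2Index`). -/
theorem witness_psl (hp5 : 5 ≤ p) :
    ∃ (K : Type) (_ : Group K) (_ : Finite K), Nat.card K = p * (p ^ 2 - 1) / 2 ∧
      ¬ Cfsg.IsPClosed p K := by
  have hp : p.Prime := Fact.out
  haveI : Fintype (ZMod p) := ZMod.fintype p
  haveI : Finite (Matrix.ProjectiveSpecialLinearGroup (Fin 2) (ZMod p)) := by
    unfold Matrix.ProjectiveSpecialLinearGroup
    infer_instance
  refine ⟨Matrix.ProjectiveSpecialLinearGroup (Fin 2) (ZMod p), inferInstance, inferInstance, ?_, ?_⟩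
  · have h1 := Cfsg.Agent.Lib.helper6.PSL2Index.card_PSL2_mul (F := ZMod p)
    rw [ZMod.card p] at h1
    have hodd : p % 2 = 1 := by
      rcases hp.eq_two_or_odd with h | h
      · omega
      · exact h
    have hgcd : Nat.gcd 2 (p - 1) = 2 := by
      apply Nat.gcd_eq_left
      omega
    rw [hgcd] at h1
    rw [← h1, Nat.mul_div_cancel _ (by norm_num : 0 < 2)]
  · intro hcl
    have hge := Cfsg.Agent.Lib.helper6.PSL2Index.card_sylow_ge (F := ZMod p) p
      (by rw [ZMod.card p]; omega)
    rw [ZMod.card p] at hge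
    obtain ⟨P⟩ : Nonempty (Sylow p (Matrix.ProjectiveSpecialLinearGroup (Fin 2) (ZMod p))) :=
      inferInstance
    haveI := Sylow.unique_of_normal P (hcl P)
    rw [Nat.card_unique] at hge
    omega

end Cfsg.Agent.Lib.helper7.NPC
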