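import Mathlib
import Cfsg.Agent.Lib.helper8.OME.Defs
import Cfsg.Agent.Lib.helper17.OPEQPERP
import Cfsg.Agent.Lib.helper17.OPEQTYCLASS
import Cfsg.Agent.Lib.helper17.OPEQTYSUM
import Cfsg.Agent.Lib.helper17.OPEQCTXO

set_option autoImplicit false

/-!
# Project OME, row PERPTY (`q_perp_ty`), verbatim from `helper8/OME/Skel.lean.txt`.
-/

namespace Cfsg.Agent.Lib.helper8.OME

open Polynomial Module Cfsg.Agent.Lib.Helper13.S5955 Cfsg.Agent.Lib.helper15.S5972
  Cfsg.Agent.Lib.Helper18.OPE
open scoped Matrix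

/-- PERPTY [M]: the orthogonal complement of an invariant nondegenerate `W` of type `s` in a space of type `τ` has type `τ s`. -/
theorem q_perp_ty {F : Type*} [Field F] [Fintype F]
    {V : Type*} [AddCommGroup V] [Module F V] [FiniteDimensional F V] {r : ℕ} (hr : 0 < r)
    {Q : QuadraticForm F V} {x : Module.End F V} (h : QCtx r Q x) (hVe : Even (finrank F V))
    (τ : ℤ) (hτ1 : τ = 1 ∨ τ = -1) (hτ : QTy Q (⊤ : Submodule F V) τ)
    (W : Submodule F V) (hW : SInv x W) (hWnd : SND (QuadraticMap.polarBilin Q) W)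
    (hWe : Even (finrank F W)) (s : ℤ) (hs1 : s = 1 ∨ s = -1) (hs : QTy Q W s) :
    SInv x (LinearMap.BilinForm.orthogonal (QuadraticMap.polarBilin Q) W) ∧
      SND (QuadraticMap.polarBilin Q) (LinearMap.BilinForm.orthogonal (QuadraticMap.polarBilin Q) W) ∧
      finrank F W + finrank F ↥(LinearMap.BilinForm.orthogonal (QuadraticMap.polarBilin Q) W) = finrank F V ∧
      QTy Q (LinearMap.BilinForm.orthogonal (QuadraticMap.polarBilin Q) W) (τ * s) := by
  obtain ⟨hinv, hnd, hcompl, horth, hdim⟩ := q_perp hr h W hW hWnd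
  refine ⟨hinv, hnd, hdim, ?_⟩
  have hev' : Even (finrank F ↥(LinearMap.BilinForm.orthogonal (QuadraticMap.polarBilin Q) W)) := by
    have h1 : Even (finrank F W +
        finrank F ↥(LinearMap.BilinForm.orthogonal (QuadraticMap.polarBilin Q) W)) := by
      rw [hdim]; exact hVe
    exact (Nat.even_add.mp h1).mp hWe
  have hsum : ∀ t' : ℤ, QTy Q (LinearMap.BilinForm.orthogonal (QuadraticMap.polarBilin Q) W) t' →
      QTy Q (⊤ : Submodule F V) (s * t') := by
    intro t' ht'
    have := qty_sum Q W _ hWnd hnd horth hWe hev' s t' hs ht'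
    rw [hcompl.sup_eq_top] at this
    exact this
  obtain ⟨-, -, ht⟩ := qty_iff Q _ hnd hev'
  rcases hτ1 with rfl | rfl <;> rcases hs1 with rfl | rfl <;> rcases ht with ht | ht
  · simpa using ht
  · exact (qty_uniq Q ⊤ hτ (by simpa using hsum _ ht)).elim
  · exact (qty_uniq Q ⊤ hτ (by simpa using hsum _ ht)).elim
  · simpa using ht
  · exact (qty_uniq Q ⊤ (by simpa using hsum _ ht) hτ).elim
  · simpa using ht
  · simpa using ht
  · exact (qty_uniq Q ⊤ (by simpa using hsum _ ht) hτ).elim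

end Cfsg.Agent.Lib.helper8.OME
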