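import Mathlib
import Cfsg.Agent.Lib.helper8.OME.Defs
import Cfsg.Agent.Lib.helper14.ODNTWONEC
import Cfsg.Agent.Lib.Helper16.OHelp
import Cfsg.Agent.Lib.Helper16.OCnt2

set_option autoImplicit false

/-!
# Project OME, row SQNEGCOND (`ome_sq_neg_cond`), verbatim from `helper8/OME/Skel.lean.txt`.
Wrapper of helper14's generic `odn_two_nec` (type `ε = -1`).
-/

namespace Cfsg.Agent.Lib.helper8.OME

open Polynomial Module Cfsg.Agent.Lib.Helper13.S5955 Cfsg.Agent.Lib.helper15.S5972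
  Cfsg.Agent.Lib.Helper18.OPE
open scoped Matrix

/-- `2 ≠ 0` in a finite field: the cardinality is odd -/
theorem omesqnegcond_odd {F : Type*} [Field F] [Fintype F] (h2 : (2 : F) ≠ 0) : Odd (Fintype.card F) := by
  rw [Nat.odd_iff]
  apply FiniteField.odd_card_of_char_ne_two
  intro h
  apply h2
  have h1 := ringChar.Nat.cast_ringChar (R := F)
  rw [h] at h1
  exact_mod_cast h1

/-- the cardinality of the index type of the standard minus space -/
theorem omesqnegcond_card (d : ℕ) (hd : 1 ≤ d) : Fintype.card (MI d) = 2 * d := by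
  simp only [Fintype.card_sum, Fintype.card_fin]
  omega

/-- SQNEGCOND [M-L]: `p` odd: an `x ∈ Ω⁻_{2d}(q)` with `x² = -1` forces `q ≡ 7 (mod 8)` and `d` odd. -/
theorem ome_sq_neg_cond {F : Type*} [Field F] [Fintype F] (h2 : (2 : F) ≠ 0) (d : ℕ) (hd : 1 ≤ d)
    (a b : F) (hab : ∀ x y : F, x ^ 2 + a * x * y + b * y ^ 2 = 0 → x = 0 ∧ y = 0)
    (x : GL (MI d) F) (hx : x ∈ Cfsg.Geo.omegaGL (Cfsg.quadFormMinus (d - 1) F a b))
    (hxx : (x : Matrix (MI d) (MI d) F) * (x : Matrix (MI d) (MI d) F) = -1) :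
    Fintype.card F % 8 = 7 ∧ Odd d := by
  have hty : Cfsg.Agent.Lib.Helper16.OSemi.IsType (⇑(Qm d F a b)) d (-1) := by
    have h1 := Cfsg.Agent.Lib.Helper16.OSemi.isType_minus (F := F) (d - 1) a b hab
    have h3 : d - 1 + 1 = d := by omega
    rw [h3] at h1
    exact h1
  have h := Cfsg.Agent.Lib.Helper1.ODN.odn_two_nec (omesqnegcond_odd h2) (Qm d F a b)
    (Cfsg.Agent.Lib.Helper16.OSemi.qfMinus_nondeg (d - 1) a b hab) d hd (omesqnegcond_card d hd) (-1)
    (Or.inr rfl) hty ⟨x, hx, hxx⟩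
  rcases h with ⟨h1, -⟩ | ⟨-, hdo, hq⟩
  · exact absurd h1 (by norm_num)
  · exact ⟨hq, hdo⟩

end Cfsg.Agent.Lib.helper8.OME
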