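import Mathlib
import Cfsg.Agent.Lib.Helper18.OPE.Defs2
import Cfsg.Agent.Lib.helper17.OPEQCTXO
import Cfsg.Agent.Lib.helper17.OPEQPEEL
import Cfsg.Agent.Lib.helper17.OPEQINVOL
import Cfsg.Agent.Lib.Helper28.OPESQPLANE
import Cfsg.Agent.Lib.Helper28.OPESQNEG
import Cfsg.Agent.Lib.helper15.SQMA
import Cfsg.Agent.Lib.helper15.S5972STDCTX

/-!
# Project OPE, rows TWONEC88 / TWOSUFF88: cores.
The only hypothesis taken from an unlanded row is the type of the standard space (STDFACTS: `QTy (qfPlus d F) ⊤ 1`), and only in `opetwosuff88_core`.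
-/

set_option autoImplicit false
set_option linter.unusedVariables false
set_option linter.unusedSectionVars false

namespace Cfsg.Agent.Lib.Helper18.OPE

open Polynomial Module Cfsg.Agent.Lib.Helper13.S5955 Cfsg.Agent.Lib.helper15.S5972
open scoped Matrix

section

variable {F : Type*} [Field F]

/-- the quadratic context of a matrix isometry of the standard hyperbolic space -/
theorem opetwo88_qctx (d r : ℕ) (x : GL (Fin d ⊕ Fin d) F)
    (hx : x ∈ Cfsg.isometryGroup F (Cfsg.quadFormPlus d F))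
    (hpow : (Matrix.toLin' (x : Matrix (Fin d ⊕ Fin d) (Fin d ⊕ Fin d) F)) ^ r = 1) :
    QCtx r (Cfsg.Agent.Lib.Helper16.qfPlus d F)
      (Matrix.toLin' (x : Matrix (Fin d ⊕ Fin d) (Fin d ⊕ Fin d) F)) := by
  refine ⟨?_, ?_, hpow⟩
  · intro u hu
    exact (Cfsg.Agent.Lib.Helper16.qfPlus_nondeg d F).1 u hu
  · intro v
    rw [Matrix.toLin'_apply]
    exact hx v v

/-- `x * x = c • 1` as matrices gives the same for `toLin'` -/
theorem opetwo88_sq (d : ℕ) (x : Matrix (Fin d ⊕ Fin d) (Fin d ⊕ Fin d) F) (hxx : x * x = -1) :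
    Matrix.toLin' x * Matrix.toLin' x = -1 := by
  have h1 : Matrix.toLin' (x * x) = Matrix.toLin' x * Matrix.toLin' x := Matrix.toLin'_mul x x
  rw [← h1, hxx, map_neg, Matrix.toLin'_one]
  rfl

theorem opetwo88_pow4 {V : Type*} [AddCommGroup V] [Module F V] (X : Module.End F V)
    (hXX : X * X = -1) : X ^ 4 = 1 := by
  have : X ^ 4 = (X * X) * (X * X) := by noncomm_ring
  rw [this, hXX]
  simp

/-- from an invariant subspace of the abstract context to `Fix` -/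
theorem opetwo88_fix [Fintype F] (d m : ℕ) (s : ℤ) (x : Matrix (Fin d ⊕ Fin d) (Fin d ⊕ Fin d) F)
    (W : Submodule F (Fin d ⊕ Fin d → F)) (hinv : SInv (Matrix.toLin' x) W)
    (hnd : SND (QuadraticMap.polarBilin (Cfsg.Agent.Lib.Helper16.qfPlus d F)) W)
    (hdim : finrank F W = m) (hty : QTy (Cfsg.Agent.Lib.Helper16.qfPlus d F) W s) : Fix d m s x := by
  refine ⟨W, hdim, hnd, hty, ?_⟩
  rw [Submodule.map_le_iff_le_comap]
  intro w hw
  exact hinv w hw

/-- an isometry with `x * x = -1` (`2 ≠ 0`) is not scalar -/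
theorem opetwo88_not_scalar (h2 : (2 : F) ≠ 0) (d : ℕ) (hd : 1 ≤ d) (x : GL (Fin d ⊕ Fin d) F)
    (hx : x ∈ Cfsg.isometryGroup F (Cfsg.quadFormPlus d F))
    (hxx : (x : Matrix (Fin d ⊕ Fin d) (Fin d ⊕ Fin d) F) * (x : Matrix (Fin d ⊕ Fin d) (Fin d ⊕ Fin d) F) = -1)
    (z : F) : (x : Matrix (Fin d ⊕ Fin d) (Fin d ⊕ Fin d) F) ≠ z • (1 : Matrix (Fin d ⊕ Fin d) (Fin d ⊕ Fin d) F) := by
  intro hz
  -- `z * z = -1`
  have h1 : z * z = -1 := by
    have h3 := hxx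
    rw [hz] at h3
    have h4 := congrFun (congrFun h3 (Sum.inl ⟨0, by omega⟩)) (Sum.inl ⟨0, by omega⟩)
    simpa using h4
  -- `z * z = 1` from the isometry property on `e₀ + f₀`
  set v : Fin d ⊕ Fin d → F := Pi.single (Sum.inl ⟨0, by omega⟩) 1 + Pi.single (Sum.inr ⟨0, by omega⟩) 1
    with hv
  have hQv : (Cfsg.Agent.Lib.Helper16.qfPlus d F) v = 1 := by
    show Cfsg.quadFormPlus d F v = 1
    simp [hv, Cfsg.quadFormPlus, Pi.single_apply]
  have h5 : (Cfsg.Agent.Lib.Helper16.qfPlus d F)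
      ((x : Matrix (Fin d ⊕ Fin d) (Fin d ⊕ Fin d) F) *ᵥ v) = (Cfsg.Agent.Lib.Helper16.qfPlus d F) v :=
    hx v v
  rw [hz, Matrix.smul_mulVec, Matrix.one_mulVec, QuadraticMap.map_smul, hQv, h1, smul_eq_mul, mul_one] at h5
  apply h2
  linear_combination (-1 : F) * h5

/-- `q` odd: `2 ≠ 0` and `q % 4 = 1 ∨ q % 4 = 3` -/
theorem opetwo88_odd [Fintype F] {p : ℕ} [Fact p.Prime] [CharP F p] (hp2 : p ≠ 2) :
    (2 : F) ≠ 0 ∧ (Fintype.card F % 4 = 1 ∨ Fintype.card F % 4 = 3) := by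
  have hch : ringChar F ≠ 2 := by rw [ringChar.eq F p]; exact hp2
  refine ⟨Ring.two_ne_zero hch, ?_⟩
  have := FiniteField.odd_card_of_char_ne_two hch
  omega

/-- in the split case every invariant nondegenerate subspace has type `1` -/
theorem opetwo88_split_ty [Fintype F] (h2 : (2 : F) ≠ 0) (hq : Fintype.card F % 4 = 1) (d : ℕ)
    (x : GL (Fin d ⊕ Fin d) F) (hx : x ∈ Cfsg.isometryGroup F (Cfsg.quadFormPlus d F))
    (hxx : (x : Matrix (Fin d ⊕ Fin d) (Fin d ⊕ Fin d) F) * (x : Matrix (Fin d ⊕ Fin d) (Fin d ⊕ Fin d) F) = -1)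
    (W : Submodule F (Fin d ⊕ Fin d → F))
    (hinv : SInv (Matrix.toLin' (x : Matrix (Fin d ⊕ Fin d) (Fin d ⊕ Fin d) F)) W)
    (hnd : SND (QuadraticMap.polarBilin (Cfsg.Agent.Lib.Helper16.qfPlus d F)) W) :
    QTy (Cfsg.Agent.Lib.Helper16.qfPlus d F) W 1 := by
  have hXX := opetwo88_sq d _ hxx
  have hctx := opetwo88_qctx d 4 x hx (opetwo88_pow4 _ hXX)
  obtain ⟨ι, hι⟩ : IsSquare (-1 : F) := FiniteField.isSquare_neg_one_iff.2 (by omega)
  obtain ⟨_, hty, _⟩ := q_peel (by norm_num) hctx 1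
    (fun N hN hNnd hN0 => q_sq_split_plane h2 hctx hXX ι hι.symm N hN hNnd hN0) W hinv hnd
  rwa [one_pow] at hty

/-- in the nonsplit case every invariant nondegenerate subspace `W` has even dimension and type `(-1)^(dim W / 2)`, with the ladder -/
theorem opetwo88_nonsplit [Fintype F] (h2 : (2 : F) ≠ 0) (hq : Fintype.card F % 4 = 3) (d : ℕ)
    (x : GL (Fin d ⊕ Fin d) F) (hx : x ∈ Cfsg.isometryGroup F (Cfsg.quadFormPlus d F))
    (hxx : (x : Matrix (Fin d ⊕ Fin d) (Fin d ⊕ Fin d) F) * (x : Matrix (Fin d ⊕ Fin d) (Fin d ⊕ Fin d) F) = -1)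
    (W : Submodule F (Fin d ⊕ Fin d → F))
    (hinv : SInv (Matrix.toLin' (x : Matrix (Fin d ⊕ Fin d) (Fin d ⊕ Fin d) F)) W)
    (hnd : SND (QuadraticMap.polarBilin (Cfsg.Agent.Lib.Helper16.qfPlus d F)) W) :
    QTy (Cfsg.Agent.Lib.Helper16.qfPlus d F) W ((-1) ^ (finrank F W / 2)) ∧
      ∀ k : ℕ, 2 * k ≤ finrank F W → ∃ W' : Submodule F (Fin d ⊕ Fin d → F), W' ≤ W ∧
        SInv (Matrix.toLin' (x : Matrix (Fin d ⊕ Fin d) (Fin d ⊕ Fin d) F)) W' ∧
        SND (QuadraticMap.polarBilin (Cfsg.Agent.Lib.Helper16.qfPlus d F)) W' ∧ finrank F W' = 2 * k ∧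
        QTy (Cfsg.Agent.Lib.Helper16.qfPlus d F) W' ((-1) ^ k) := by
  have hXX := opetwo88_sq d _ hxx
  have hctx := opetwo88_qctx d 4 x hx (opetwo88_pow4 _ hXX)
  have hns : ∀ a : F, a * a ≠ -1 := by
    intro a ha
    have : IsSquare (-1 : F) := ⟨a, ha.symm⟩
    rw [FiniteField.isSquare_neg_one_iff] at this
    exact this hq
  obtain ⟨_, hty, hlad⟩ := q_peel (by norm_num) hctx (-1)
    (fun N hN hNnd hN0 => q_sq_nonsplit_plane h2 hctx hXX hns N hN hNnd hN0) W hinv hnd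
  exact ⟨hty, hlad⟩

/-- TWONEC88, core (no unlanded dependency) -/
theorem opetwonec88_core [Fintype F] {p : ℕ} [Fact p.Prime] [CharP F p]
    (hp2 : p ≠ 2) (d m : ℕ) (hd : 4 ≤ d) (hm : 2 ≤ m) (hme : Even m) (hmd : m < d)
    (hall : AllFix F d m (-1) 2) :
    (Even d ∧ Fintype.card F % 4 = 3 ∧ m % 4 = 2) ∨ (Odd d ∧ Fintype.card F % 8 ≠ 1) := by
  obtain ⟨h2, hq4⟩ := opetwo88_odd (F := F) hp2
  by_contra hcon
  rw [not_or] at hcon
  obtain ⟨hc1, hc2⟩ := hcon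
  -- an element `x ∈ Ω` with `x * x = -1`, all of whose invariant nondegenerate `m`-spaces have type `1`
  have key : ∃ x : GL (Fin d ⊕ Fin d) F, x ∈ Cfsg.Geo.omegaGL (Cfsg.quadFormPlus d F) ∧
      (x : Matrix (Fin d ⊕ Fin d) (Fin d ⊕ Fin d) F) * (x : Matrix (Fin d ⊕ Fin d) (Fin d ⊕ Fin d) F) = -1 ∧
      (Fintype.card F % 4 = 1 ∨ (Fintype.card F % 4 = 3 ∧ m % 4 = 0)) := by
    rcases Nat.even_or_odd d with hde | hdo
    · obtain ⟨x, hx, hxx⟩ := sq_neg_ex h2 d hde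
      refine ⟨x, hx, hxx, ?_⟩
      rcases hq4 with h | h
      · exact Or.inl h
      · right
        refine ⟨h, ?_⟩
        have : m % 4 ≠ 2 := fun h' => hc1 ⟨hde, h, h'⟩
        obtain ⟨k, hk⟩ := hme
        omega
    · have hq8 : Fintype.card F % 8 = 1 := by
        by_contra h
        exact hc2 ⟨hdo, h⟩
      obtain ⟨x, hx, hxx⟩ := sq_neg_8 hq8 d (by omega)
      exact ⟨x, hx, hxx, Or.inl (by omega)⟩
  obtain ⟨x, hxΩ, hxx, hcase⟩ := key
  have hxi : x ∈ Cfsg.isometryGroup F (Cfsg.quadFormPlus d F) := by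
    obtain ⟨g, _, rfl⟩ := hxΩ
    exact g.2
  have hx2 : ∃ z : F, ((x ^ 2 : GL (Fin d ⊕ Fin d) F) : Matrix (Fin d ⊕ Fin d) (Fin d ⊕ Fin d) F) =
      z • (1 : Matrix (Fin d ⊕ Fin d) (Fin d ⊕ Fin d) F) := by
    refine ⟨-1, ?_⟩
    rw [Units.val_pow_eq_pow_val, pow_two, hxx, neg_one_smul]
  obtain ⟨W, hdim, hnd, hty, hmap⟩ := hall x hxΩ hx2 (opetwo88_not_scalar h2 d (by omega) x hxi hxx)
  have hinv : SInv (Matrix.toLin' (x : Matrix (Fin d ⊕ Fin d) (Fin d ⊕ Fin d) F)) W := by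
    intro w hw
    exact hmap (Submodule.mem_map_of_mem hw)
  rcases hcase with h | ⟨h, hm4⟩
  · exact qty_uniq _ W (opetwo88_split_ty h2 h d x hxi hxx W hinv hnd) hty
  · have h1 := (opetwo88_nonsplit h2 h d x hxi hxx W hinv hnd).1
    rw [hdim] at h1
    have hev : Even (m / 2) := ⟨m / 4, by omega⟩
    rw [hev.neg_one_pow] at h1
    exact qty_uniq _ W h1 hty

/-- TWOSUFF88, core: the hypothesis `hfacts` is the second component of STDFACTS -/
theorem opetwosuff88_core [Fintype F] {p : ℕ} [Fact p.Prime] [CharP F p]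
    (hp2 : p ≠ 2) (d m : ℕ) (hd : 4 ≤ d) (hm : 2 ≤ m) (hme : Even m) (hmd : m < d)
    (hfacts : QTy (Cfsg.Agent.Lib.Helper16.qfPlus d F) (⊤ : Submodule F (Fin d ⊕ Fin d → F)) 1)
    (hcond : (Even d ∧ Fintype.card F % 4 = 3 ∧ m % 4 = 2) ∨ (Odd d ∧ Fintype.card F % 8 ≠ 1)) :
    AllFix F d m (-1) 2 := by
  obtain ⟨h2, hq4⟩ := opetwo88_odd (F := F) hp2
  intro x hxΩ hx2 hns
  have hxi : x ∈ Cfsg.isometryGroup F (Cfsg.quadFormPlus d F) := by
    obtain ⟨g, _, rfl⟩ := hxΩ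
    exact g.2
  obtain ⟨z, hz⟩ := hx2
  have hfin : finrank F (Fin d ⊕ Fin d → F) = 2 * d := by
    rw [Module.finrank_fintype_fun_eq_card, Fintype.card_sum, Fintype.card_fin]; ring
  have hQne : ∃ v, (Cfsg.Agent.Lib.Helper16.qfPlus d F) v ≠ 0 := by
    refine ⟨Pi.single (Sum.inl ⟨0, by omega⟩) 1 + Pi.single (Sum.inr ⟨0, by omega⟩) 1, ?_⟩
    show Cfsg.quadFormPlus d F _ ≠ 0
    simp [Cfsg.quadFormPlus, Pi.single_apply]
  rcases Cfsg.Agent.Lib.helper15.SQM.sqm_scalar (Cfsg.Agent.Lib.Helper16.qfPlus d F) hQne x hxi z hz with rfl | rfl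
  · -- involution
    have hpow : (Matrix.toLin' (x : Matrix (Fin d ⊕ Fin d) (Fin d ⊕ Fin d) F)) ^ 2 = 1 := by
      rw [s5972stdctx_pow, hz, one_smul, Matrix.toLin'_one]
      rfl
    have hctx := opetwo88_qctx d 2 x hxi hpow
    obtain ⟨W, hinv, hnd, hdim, hty⟩ := q_invol hp2 hctx d m hfin hme (by omega) hmd (-1) (Or.inr rfl)
    exact opetwo88_fix d m (-1) _ W hinv hnd hdim hty
  · -- `x * x = -1`
    have hxx : (x : Matrix (Fin d ⊕ Fin d) (Fin d ⊕ Fin d) F) *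
        (x : Matrix (Fin d ⊕ Fin d) (Fin d ⊕ Fin d) F) = -1 := by
      rw [Units.val_pow_eq_pow_val, pow_two, neg_one_smul] at hz
      exact hz
    have htopinv : SInv (Matrix.toLin' (x : Matrix (Fin d ⊕ Fin d) (Fin d ⊕ Fin d) F))
        (⊤ : Submodule F (Fin d ⊕ Fin d → F)) := fun w _ => Submodule.mem_top
    have htopnd : SND (QuadraticMap.polarBilin (Cfsg.Agent.Lib.Helper16.qfPlus d F))
        (⊤ : Submodule F (Fin d ⊕ Fin d → F)) :=
      fun u _ hu => (Cfsg.Agent.Lib.Helper16.qfPlus_nondeg d F).1 u (fun v => hu v Submodule.mem_top)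
    rcases hcond with ⟨hde, hq3, hm4⟩ | ⟨hdo, hq8⟩
    · obtain ⟨_, hlad⟩ := opetwo88_nonsplit h2 hq3 d x hxi hxx ⊤ htopinv htopnd
      obtain ⟨W, _, hinv, hnd, hdim, hty⟩ := hlad (m / 2) (by rw [finrank_top, hfin]; omega)
      have hodd : Odd (m / 2) := ⟨m / 4, by omega⟩
      rw [hodd.neg_one_pow] at hty
      exact opetwo88_fix d m (-1) _ W hinv hnd (by rw [hdim]; omega) hty
    · exfalso
      rcases hq4 with hq1 | hq3
      · -- `q % 8 = 5`: `ι` is not a square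
        obtain ⟨ι, hι⟩ : IsSquare (-1 : F) := FiniteField.isSquare_neg_one_iff.2 (by omega)
        have hnsq : ∀ a : F, a * a ≠ ι := by
          intro a ha
          have ha0 : a ≠ 0 := by
            rintro rfl
            rw [mul_zero] at ha
            rw [← ha, mul_zero] at hι
            exact neg_ne_zero.2 one_ne_zero hι
          have h2sq : IsSquare (2 : F) := by
            refine ⟨(1 + ι) / a, ?_⟩
            field_simp
            rw [← ha]
            have : ι * ι = -1 := hι.symm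
            rw [← ha] at this
            linear_combination (-1 : F) * this
          rw [FiniteField.isSquare_two_iff] at h2sq
          omega
        exact sq_neg_not h2 ι hι.symm hnsq d hdo x hxΩ hxx
      · have h1 := (opetwo88_nonsplit h2 hq3 d x hxi hxx ⊤ htopinv htopnd).1
        rw [finrank_top, hfin, Nat.mul_div_cancel_left d (by norm_num), hdo.neg_one_pow] at h1
        exact qty_uniq _ ⊤ hfacts h1

end

end Cfsg.Agent.Lib.Helper18.OPE
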