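import Mathlib
import Cfsg.Agent.Lib.helper15.OPETWO88core

/-!
# Project OPE, rows TWONEC88 (`two_nec_88`) and TWOSUFF88 (`two_suff_88`), verbatim from `Helper18/OPE/Skel3.lean.txt`.
-/

set_option autoImplicit false
set_option linter.unusedVariables false
set_option linter.unusedSectionVars false

namespace Cfsg.Agent.Lib.Helper18.OPE

open Polynomial Module Cfsg.Agent.Lib.Helper13.S5955 Cfsg.Agent.Lib.helper15.S5972
open scoped Matrix

/-- the type of the standard hyperbolic space (second component of STDFACTS) -/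
theorem opetwo88_top_ty {F : Type*} [Field F] [Fintype F] (d : ℕ) :
    QTy (Cfsg.Agent.Lib.Helper16.qfPlus d F) (⊤ : Submodule F (Fin d ⊕ Fin d → F)) 1 := by
  unfold QTy
  have hfin : finrank F (⊤ : Submodule F (Fin d ⊕ Fin d → F)) / 2 = d := by
    rw [finrank_top, Module.finrank_fintype_fun_eq_card, Fintype.card_sum, Fintype.card_fin]
    omega
  rw [hfin]
  exact (Cfsg.Agent.Lib.Helper16.OSemi.isType_congr
    (Submodule.topEquiv (R := F) (M := Fin d ⊕ Fin d → F)).toEquiv (Cfsg.quadFormPlus d F)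
    (fun w : ↥(⊤ : Submodule F (Fin d ⊕ Fin d → F)) =>
      (Cfsg.Agent.Lib.Helper16.qfPlus d F) (w : Fin d ⊕ Fin d → F)) (fun _ => rfl) d 1).1
    (Cfsg.Agent.Lib.Helper16.OSemi.isType_plus d)

theorem two_suff_88 {F : Type*} [Field F] [Fintype F] {p : ℕ} [Fact p.Prime] [CharP F p]
    (hp2 : p ≠ 2) (d m : ℕ) (hd : 4 ≤ d) (hm : 2 ≤ m) (hme : Even m) (hmd : m < d)
    (hcond : (Even d ∧ Fintype.card F % 4 = 3 ∧ m % 4 = 2) ∨ (Odd d ∧ Fintype.card F % 8 ≠ 1)) :
    AllFix F d m (-1) 2 :=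
  opetwosuff88_core hp2 d m hd hm hme hmd (opetwo88_top_ty d) hcond

theorem two_nec_88 {F : Type*} [Field F] [Fintype F] {p : ℕ} [Fact p.Prime] [CharP F p]
    (hp2 : p ≠ 2) (d m : ℕ) (hd : 4 ≤ d) (hm : 2 ≤ m) (hme : Even m) (hmd : m < d)
    (hall : AllFix F d m (-1) 2) :
    (Even d ∧ Fintype.card F % 4 = 3 ∧ m % 4 = 2) ∨ (Odd d ∧ Fintype.card F % 8 ≠ 1) :=
  opetwonec88_core hp2 d m hd hm hme hmd hall

end Cfsg.Agent.Lib.Helper18.OPE
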