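import Mathlib
import Cfsg.Agent.Lib.Helper19.ORE.Defs
import Cfsg.Agent.Lib.Helper19.ORE.Defs2
import Cfsg.Agent.Lib.Helper19.ORE.X3
import Cfsg.Agent.Lib.helper4.ORED3
import Cfsg.Agent.Lib.Helper21.ORED4
import Cfsg.Agent.Lib.Helper20.OREA1
import Cfsg.Agent.Lib.Helper20.OREA2

/-!
# Project ORE (S2444, designer helper19), row G4 (`three_all`): the core.

The heavy cited rows D1 (`exists_cyc_summand`), G2 (`three_single`), G3 (`three_pair`) enter as hypotheses
(their statements at `Type`, `F = ZMod 3`); A1, A2, D3, D4, X3 are cited from main.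
-/

set_option autoImplicit false

namespace Cfsg.Agent.Lib.Helper19.ORE

open Polynomial Module

theorem oreg4_unit (u : (ZMod 3)ˣ) : u = 1 ∨ u = -1 := by
  revert u
  decide

theorem oreg4_one_ne : (1 : (ZMod 3)ˣ) ≠ -1 := by decide

theorem oreg4_neg_mul_neg : (-1 : (ZMod 3)ˣ) * -1 = 1 := by decide

/-- solvable with some determinants. -/
def oreg4_Sv {V : Type} [AddCommGroup V] [Module (ZMod 3) V] (g : V ≃ₗ[ZMod 3] V) : Prop :=
  ∃ D E : (ZMod 3)ˣ, SolP g D E 0

theorem oreg4_sv_of_flex {V : Type} [AddCommGroup V] [Module (ZMod 3) V] {g : V ≃ₗ[ZMod 3] V}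
    (h : Flex g) : oreg4_Sv g := ⟨1, 1, h 1 1⟩

theorem oreg4_flex_prod_left {V W : Type} [AddCommGroup V] [Module (ZMod 3) V]
    [AddCommGroup W] [Module (ZMod 3) W] [FiniteDimensional (ZMod 3) V]
    [FiniteDimensional (ZMod 3) W] {g : V ≃ₗ[ZMod 3] V} {h : W ≃ₗ[ZMod 3] W}
    (hg : Flex g) (hh : oreg4_Sv h) : Flex (g.prodCongr h) := by
  intro D E
  obtain ⟨D', E', hs⟩ := hh
  have := solP_prod (hg (D * D'⁻¹) (E * E'⁻¹)) hs
  rwa [inv_mul_cancel_right, inv_mul_cancel_right, mul_zero] at this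

theorem oreg4_flex_prod_right {V W : Type} [AddCommGroup V] [Module (ZMod 3) V]
    [AddCommGroup W] [Module (ZMod 3) W] [FiniteDimensional (ZMod 3) V]
    [FiniteDimensional (ZMod 3) W] {g : V ≃ₗ[ZMod 3] V} {h : W ≃ₗ[ZMod 3] W}
    (hg : oreg4_Sv g) (hh : Flex h) : Flex (g.prodCongr h) := by
  intro D E
  obtain ⟨D', E', hs⟩ := hg
  have := solP_prod hs (hh (D'⁻¹ * D) (E'⁻¹ * E))
  rwa [mul_inv_cancel_left, mul_inv_cancel_left, mul_zero] at this

theorem oreg4_flex_conj {V V' : Type} [AddCommGroup V] [Module (ZMod 3) V]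
    [AddCommGroup V'] [Module (ZMod 3) V'] {e : V ≃ₗ[ZMod 3] V'} {g : V ≃ₗ[ZMod 3] V}
    {g' : V' ≃ₗ[ZMod 3] V'} (h : Conj e g g') (hg : Flex g) : Flex g' :=
  fun D E => solP_conj h (hg D E)

theorem oreg4_conj_refl {V : Type} [AddCommGroup V] [Module (ZMod 3) V] (g : V ≃ₗ[ZMod 3] V) :
    Conj (LinearEquiv.refl (ZMod 3) V) g g := fun _ => rfl

theorem oreg4_det_prod {V W : Type} [AddCommGroup V] [Module (ZMod 3) V]
    [AddCommGroup W] [Module (ZMod 3) W] [FiniteDimensional (ZMod 3) V]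
    [FiniteDimensional (ZMod 3) W] (g : V ≃ₗ[ZMod 3] V) (h : W ≃ₗ[ZMod 3] W) :
    LinearEquiv.det (g.prodCongr h) = LinearEquiv.det g * LinearEquiv.det h := by
  apply Units.ext
  rw [Units.val_mul, LinearEquiv.coe_det, LinearEquiv.coe_det, LinearEquiv.coe_det]
  exact LinearMap.det_prodMap (g : V →ₗ[ZMod 3] V) (h : W →ₗ[ZMod 3] W)

theorem oreg4_det_conj {V V' : Type} [AddCommGroup V] [Module (ZMod 3) V]
    [AddCommGroup V'] [Module (ZMod 3) V'] {e : V ≃ₗ[ZMod 3] V'} {g : V ≃ₗ[ZMod 3] V}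
    {g' : V' ≃ₗ[ZMod 3] V'} (h : Conj e g g') : LinearEquiv.det g = LinearEquiv.det g' := by
  apply Units.ext
  rw [LinearEquiv.coe_det, LinearEquiv.coe_det]
  have : (g' : V' →ₗ[ZMod 3] V') =
      (e : V →ₗ[ZMod 3] V') ∘ₗ (g : V →ₗ[ZMod 3] V) ∘ₗ (e.symm : V' →ₗ[ZMod 3] V) := by
    ext x
    simp only [LinearMap.comp_apply, LinearEquiv.coe_coe]
    rw [h, LinearEquiv.apply_symm_apply]
  rw [this, LinearMap.det_conj]

theorem IsKF_conj {V V' : Type} [AddCommGroup V] [Module (ZMod 3) V]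
    [AddCommGroup V'] [Module (ZMod 3) V'] {e : V ≃ₗ[ZMod 3] V'} {g : V ≃ₗ[ZMod 3] V}
    {g' : V' ≃ₗ[ZMod 3] V'} (h : Conj e g g') (hg : IsK g' ∨ Flex g') :
    IsK g ∨ Flex g := by
  rcases hg with ⟨t, ht, hr⟩ | hF
  · exact Or.inl ⟨t, ht, rep_conj h hr⟩
  · exact Or.inr (oreg4_flex_conj (conj_symm h) hF)

section Core

variable
  (h_cyc : ∀ (V : Type) [AddCommGroup V] [Module (ZMod 3) V] [FiniteDimensional (ZMod 3) V]
    [Nontrivial V] (g : V ≃ₗ[ZMod 3] V),
    ∃ (V₁ V₂ : Submodule (ZMod 3) V) (g₁ : V₁ ≃ₗ[ZMod 3] V₁) (g₂ : V₂ ≃ₗ[ZMod 3] V₂)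
      (e : V ≃ₗ[ZMod 3] V₁ × V₂),
      Conj e g (g₁.prodCongr g₂) ∧ IsCyc g₁ ∧ 0 < finrank (ZMod 3) V₁)
  (h_single : ∀ (V : Type) [AddCommGroup V] [Module (ZMod 3) V] [FiniteDimensional (ZMod 3) V]
    [Nontrivial V] (g : V ≃ₗ[ZMod 3] V), IsCyc g → LinearEquiv.det g = 1 →
      IsK g ∨ Flex g)
  (h_pair : ∀ (V W : Type) [AddCommGroup V] [Module (ZMod 3) V] [FiniteDimensional (ZMod 3) V]
    [AddCommGroup W] [Module (ZMod 3) W] [FiniteDimensional (ZMod 3) W]
    (s : V ≃ₗ[ZMod 3] V) (s' : W ≃ₗ[ZMod 3] W), IsCyc s → IsCyc s' →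
      LinearEquiv.det s = -1 → LinearEquiv.det s' = -1 → Flex (s.prodCongr s'))

theorem oreg4_sv_of_K {V : Type} [AddCommGroup V] [Module (ZMod 3) V] {g : V ≃ₗ[ZMod 3] V}
    (h : IsK g) : oreg4_Sv g := by
  obtain ⟨t, ht, hr⟩ := h
  obtain ⟨D, E, hm⟩ := msol3_K t ht
  exact ⟨D, E, solP_of_msol hr hm⟩

theorem oreg4_sv_of_KF {V : Type} [AddCommGroup V] [Module (ZMod 3) V] {g : V ≃ₗ[ZMod 3] V}
    (h : IsK g ∨ Flex g) : oreg4_Sv g := by
  rcases h with h | h
  · exact oreg4_sv_of_K h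
  · exact oreg4_sv_of_flex h

theorem IsKK {V W : Type} [AddCommGroup V] [Module (ZMod 3) V]
    [AddCommGroup W] [Module (ZMod 3) W] {g : V ≃ₗ[ZMod 3] V} {h : W ≃ₗ[ZMod 3] W}
    (hg : IsK g) (hh : IsK h) : Flex (g.prodCongr h) := by
  obtain ⟨t, ht, hr⟩ := hg
  obtain ⟨t', ht', hr'⟩ := hh
  intro D E
  exact solP_of_msol (rep_prod hr hr') (msol3_KK t t' ht ht' D E)

/-- `K ∨ Flex` on both factors (not both... any): the product is `Flex`. -/
theorem IsKF_prod {V W : Type} [AddCommGroup V] [Module (ZMod 3) V]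
    [AddCommGroup W] [Module (ZMod 3) W] [FiniteDimensional (ZMod 3) V]
    [FiniteDimensional (ZMod 3) W] {g : V ≃ₗ[ZMod 3] V} {h : W ≃ₗ[ZMod 3] W}
    (hg : IsK g ∨ Flex g) (hh : IsK h ∨ Flex h) : Flex (g.prodCongr h) := by
  rcases hg with hg | hg
  · rcases hh with hh | hh
    · exact IsKK hg hh
    · exact oreg4_flex_prod_right (oreg4_sv_of_K hg) hh
  · exact oreg4_flex_prod_left hg (oreg4_sv_of_KF hh)

include h_cyc h_single h_pair in
theorem oreg4_core : ∀ (d : ℕ) (V : Type) [AddCommGroup V] [Module (ZMod 3) V]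
    [FiniteDimensional (ZMod 3) V] (g : V ≃ₗ[ZMod 3] V), finrank (ZMod 3) V = d → Q3 g := by
  intro d
  induction d using Nat.strong_induction_on with
  | _ d ih =>
    intro V _ _ _ g hd
    rcases subsingleton_or_nontrivial V with hsub | hnt
    · have hdet : LinearEquiv.det g = 1 := by
        have : g = 1 := by
          ext x
          exact Subsingleton.elim _ _
        rw [this, map_one]
      exact ⟨fun _ => Or.inl hsub, fun h => absurd (hdet.symm.trans h) oreg4_one_ne⟩
    · obtain ⟨V₁, V₂, g₁, g₂, e, hconj, hcyc, hpos⟩ := h_cyc V g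
      have hnt1 : Nontrivial V₁ := Module.nontrivial_of_finrank_pos hpos
      have hlt : finrank (ZMod 3) V₂ < d := by
        have := LinearEquiv.finrank_eq e
        rw [Module.finrank_prod] at this
        omega
      have ih2 := ih _ hlt V₂ g₂ rfl
      have hdet : LinearEquiv.det g = LinearEquiv.det g₁ * LinearEquiv.det g₂ := by
        rw [oreg4_det_conj hconj, oreg4_det_prod]
      have hconj' := conj_symm hconj
      constructor
      · intro h1
        right
        rcases oreg4_unit (LinearEquiv.det g₁) with h11 | h11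
        · have h21 : LinearEquiv.det g₂ = 1 := by
            rw [h11, one_mul] at hdet
            exact hdet.symm.trans h1
          have hs1 : IsK g₁ ∨ Flex g₁ := h_single V₁ g₁ hcyc h11
          rcases ih2.1 h21 with hsub2 | hKF2
          · have := hsub2
            let _ : Unique V₂ := Unique.mk' V₂
            exact IsKF_conj (conj_trans hconj (conj_prodUnique g₁ g₂)) hs1
          · exact Or.inr (oreg4_flex_conj hconj' (IsKF_prod hs1 hKF2))
        · have h2m : LinearEquiv.det g₂ = -1 := by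
            rcases oreg4_unit (LinearEquiv.det g₂) with h | h
            · exfalso
              rw [h11, h, mul_one] at hdet
              exact oreg4_one_ne (h1.symm.trans hdet)
            · exact h
          have hF : Flex (g₂.prodCongr g₁) := ih2.2 h2m V₁ g₁ hcyc h11
          exact Or.inr (oreg4_flex_conj hconj' (oreg4_flex_conj (conj_prodComm g₂ g₁) hF))
      · intro hm1 W _ _ _ s hs hds
        have hc1 : Conj (e.prodCongr (LinearEquiv.refl (ZMod 3) W)) (g.prodCongr s)
            ((g₁.prodCongr g₂).prodCongr s) := conj_prod hconj (oreg4_conj_refl s)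
        apply oreg4_flex_conj (conj_symm hc1)
        rcases oreg4_unit (LinearEquiv.det g₁) with h11 | h11
        · -- `det g₁ = 1`, `det g₂ = -1`
          have h2m : LinearEquiv.det g₂ = -1 := by
            rw [h11, one_mul] at hdet
            exact hdet.symm.trans hm1
          have hF : Flex (g₂.prodCongr s) := ih2.2 h2m W s hs hds
          have hs1 : IsK g₁ ∨ Flex g₁ := h_single V₁ g₁ hcyc h11
          have hF' : Flex (g₁.prodCongr (g₂.prodCongr s)) :=
            oreg4_flex_prod_right (oreg4_sv_of_KF hs1) hF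
          exact oreg4_flex_conj (conj_symm (conj_prodAssoc g₁ g₂ s)) hF'
        · -- `det g₁ = -1`, `det g₂ = 1`
          have h21 : LinearEquiv.det g₂ = 1 := by
            rcases oreg4_unit (LinearEquiv.det g₂) with h | h
            · exact h
            · exfalso
              rw [h11, h, oreg4_neg_mul_neg] at hdet
              exact oreg4_one_ne (hdet.symm.trans hm1)
          have hp : Flex (g₁.prodCongr s) := h_pair V₁ W g₁ s hcyc hs h11 hds
          have c1 := conj_prodAssoc g₁ g₂ s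
          have c2 := conj_prod (oreg4_conj_refl g₁) (conj_prodComm g₂ s)
          have c3 := conj_symm (conj_prodAssoc g₁ s g₂)
          have R := conj_trans (conj_trans c1 c2) c3
          apply oreg4_flex_conj (conj_symm R)
          rcases ih2.1 h21 with hsub2 | hKF2
          · have := hsub2
            let _ : Unique V₂ := Unique.mk' V₂
            exact oreg4_flex_conj (conj_symm (conj_prodUnique (g₁.prodCongr s) g₂)) hp
          · exact oreg4_flex_prod_left hp (oreg4_sv_of_KF hKF2)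

end Core

end Cfsg.Agent.Lib.Helper19.ORE
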