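import Mathlib
import Cfsg.Agent.Lib.Helper19.ORE.Defs
import Cfsg.Agent.Lib.Helper19.ORE.Defs2
import Cfsg.Agent.Lib.helper15.OREG4core
import Cfsg.Agent.Lib.Helper22.ORED1
import Cfsg.Agent.Lib.Helper22.ORED2
import Cfsg.Agent.Lib.Helper9.OREG2core
import Cfsg.Agent.Lib.helper8.OREC3
import Cfsg.Agent.Lib.helper4.OREC4
import Cfsg.Agent.Lib.Helper21.ORED4
import Cfsg.Agent.Lib.Helper25.OREG3

/-!
# Project ORE (S2444, designer helper19), row G4 (`three_all`), verbatim (wrapper of `oreg4_core`).

G2 (`three_single`) enters through helper9's `oreg2_core` on the landed rows C3 `line_sol`, D2 `rep_two`,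
C4 `cyc_flex`, D4 `solP_of_msol`, so this file does not wait for the verbatim `three_single`.
-/

set_option autoImplicit false

namespace Cfsg.Agent.Lib.Helper19.ORE

open Polynomial Module

/-- **G4** (induction over the pieces). -/
theorem three_all : ∀ (d : ℕ) (V : Type) [AddCommGroup V] [Module (ZMod 3) V]
    [FiniteDimensional (ZMod 3) V] (g : V ≃ₗ[ZMod 3] V), finrank (ZMod 3) V = d → Q3 g :=
  oreg4_core (fun V _ _ _ _ g => exists_cyc_summand g)
    (fun V _ _ _ _ g hg hdet =>
      oreg2_core g (fun h1 hd a e => line_sol g h1 hd a e) (fun hc h2 => rep_two g hc h2)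
        (fun hc h3 hd => cyc_flex g hc h3 hd) (@fun M hr D E hm => solP_of_msol hr hm) hg hdet)
    (fun V W _ _ _ _ _ _ s s' hs hs' hd hd' => three_pair s s' hs hs' hd hd')

end Cfsg.Agent.Lib.Helper19.ORE
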