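import Mathlib

/-!
# Project OTS, row NEGHERM, part a: helper14's `Cfsg.Agent.Lib.helper14.ODNSQa` (`odnsq_dec`) with the universe of `V` freed
(a verbatim copy of helper14's proof; there `V` lives in the universe of `F`).

Abstract decomposition: a nondegenerate symmetric bilinear space (`2 ≠ 0`) with an isometry `X`, `X² = -1`, has an
orthogonal family `e_j, X e_j` (`j < k`) of anisotropic vectors with `2 k = dim V`.
-/

set_option autoImplicit false

namespace Cfsg.Agent.Lib.Helper13.OTS

open Module

universe u v

variable {F : Type u} [Field F]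

theorem otsnegherma_exists_aniso {V : Type v} [AddCommGroup V] [Module F V] (h2 : (2 : F) ≠ 0)
    (B : LinearMap.BilinForm F V) (hsymm : ∀ u v, B u v = B v u) (hnd : B.Nondegenerate)
    [Nontrivial V] : ∃ v : V, B v v ≠ 0 := by
  obtain ⟨u, hu⟩ := exists_ne (0 : V)
  have hex : ∃ w, B u w ≠ 0 := by
    by_contra hcon
    push Not at hcon
    exact hu (hnd.1 u hcon)
  obtain ⟨w, hw⟩ := hex
  by_cases h1 : B u u = 0
  · by_cases h3 : B w w = 0
    · refine ⟨u + w, ?_⟩
      simp only [map_add, LinearMap.add_apply]
      rw [h1, h3, hsymm w u]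
      intro h
      apply hw
      have : (2 : F) * B u w = 0 := by linear_combination h
      exact (mul_eq_zero.1 this).resolve_left h2
    · exact ⟨w, h3⟩
  · exact ⟨u, h1⟩

theorem otsnegherma_dec (h2 : (2 : F) ≠ 0) (n : ℕ) :
    ∀ (V : Type v) [AddCommGroup V] [Module F V] [FiniteDimensional F V]
      (B : LinearMap.BilinForm F V) (X : V →ₗ[F] V), finrank F V = n → (∀ u v, B u v = B v u) →
      B.Nondegenerate → (∀ u v, B (X u) (X v) = B u v) → (∀ v, X (X v) = -v) →
      ∃ (k : ℕ) (e : Fin k → V), n = 2 * k ∧ (∀ j, B (e j) (e j) ≠ 0) ∧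
        (∀ j l, j ≠ l → B (e j) (e l) = 0) ∧ (∀ j l, B (e j) (X (e l)) = 0) := by
  induction n using Nat.strong_induction_on with
  | _ n ih =>
    intro V _ _ _ B X hn hsymm hnd hpres hsq
    by_cases hn0 : n = 0
    · subst hn0
      exact ⟨0, Fin.elim0, rfl, fun j => j.elim0, fun j => j.elim0, fun j => j.elim0⟩
    have hrefl : B.IsRefl := fun x y h => by rw [hsymm]; exact h
    haveI : Nontrivial V := by
      apply Module.nontrivial_of_finrank_pos (R := F)
      omega
    obtain ⟨v, hv⟩ := otsnegherma_exists_aniso h2 B hsymm hnd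
    have hvX : B v (X v) = 0 := by
      have h1 : B v (X v) = B (X v) (X (X v)) := (hpres v (X v)).symm
      rw [hsq, map_neg, hsymm (X v) v] at h1
      have : (2 : F) * B v (X v) = 0 := by linear_combination h1
      exact (mul_eq_zero.1 this).resolve_left h2
    have hXv : B (X v) v = 0 := by rw [hsymm]; exact hvX
    have hXX : B (X v) (X v) = B v v := hpres v v
    set f : Fin 2 → V := ![v, X v] with hf
    have hli : LinearIndependent F f := by
      rw [hf, LinearIndependent.pair_iff]
      intro s t hst
      have e1 : B (s • v + t • X v) v = 0 := by rw [hst]; simp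
      have e2 : B (s • v + t • X v) (X v) = 0 := by rw [hst]; simp
      simp only [map_add, map_smul, LinearMap.add_apply, LinearMap.smul_apply, smul_eq_mul, hXv, hvX, hXX,
        mul_zero, add_zero, zero_add] at e1 e2
      exact ⟨(mul_eq_zero.1 e1).resolve_right hv, (mul_eq_zero.1 e2).resolve_right hv⟩
    set P : Submodule F V := Submodule.span F (Set.range f) with hP
    have hP2 : finrank F P = 2 := by
      rw [hP, finrank_span_eq_card hli]
      simp
    have hPv : v ∈ P := Submodule.subset_span ⟨0, rfl⟩
    have hPXv : X v ∈ P := Submodule.subset_span ⟨1, rfl⟩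
    have hmemP : ∀ x ∈ P, ∃ a b : F, x = a • v + b • X v := by
      intro x hx
      rw [hP, Submodule.mem_span_range_iff_exists_fun] at hx
      obtain ⟨c, hc⟩ := hx
      refine ⟨c 0, c 1, ?_⟩
      rw [← hc, Fin.sum_univ_two]
      rfl
    have hdisj : Disjoint P (B.orthogonal P) := by
      rw [Submodule.disjoint_def]
      intro x hxP hxO
      obtain ⟨a, b, rfl⟩ := hmemP x hxP
      rw [LinearMap.BilinForm.mem_orthogonal_iff] at hxO
      have e1 : B v (a • v + b • X v) = 0 := hxO v hPv
      have e2 : B (X v) (a • v + b • X v) = 0 := hxO (X v) hPXv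
      simp only [map_add, map_smul, smul_eq_mul, hXv, hvX, hXX, mul_zero, add_zero, zero_add] at e1 e2
      rw [(mul_eq_zero.1 e1).resolve_right hv, (mul_eq_zero.1 e2).resolve_right hv, zero_smul, zero_smul,
        add_zero]
    set W : Submodule F V := B.orthogonal P with hW
    have hWdim : finrank F W = n - 2 := by
      rw [hW, LinearMap.BilinForm.finrank_orthogonal hnd P, hn, hP2]
    have hn2 : 2 ≤ n := by
      have := Submodule.finrank_le P
      omega
    have hoo : B.orthogonal W = P := LinearMap.BilinForm.orthogonal_orthogonal hnd hrefl P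
    have hndW : (B.restrict W).Nondegenerate :=
      B.nondegenerate_restrict_of_disjoint_orthogonal hrefl (by rw [hoo]; exact hdisj.symm)
    have hWmem : ∀ w, w ∈ W ↔ B v w = 0 ∧ B (X v) w = 0 := by
      intro w
      rw [hW, LinearMap.BilinForm.mem_orthogonal_iff]
      constructor
      · intro h
        exact ⟨h v hPv, h (X v) hPXv⟩
      · rintro ⟨h1, h3⟩ x hx
        obtain ⟨a, b, rfl⟩ := hmemP x hx
        show B (a • v + b • X v) w = 0
        rw [map_add, map_smul, map_smul, LinearMap.add_apply, LinearMap.smul_apply, LinearMap.smul_apply, h1,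
          h3, smul_zero, smul_zero, add_zero]
    have hinv : ∀ w ∈ W, X w ∈ W := by
      intro w hw
      rw [hWmem] at hw ⊢
      constructor
      · have h1 : B v (X w) = B (X v) (X (X w)) := (hpres v (X w)).symm
        rw [h1, hsq, map_neg, hw.2, neg_zero]
      · rw [hpres]
        exact hw.1
    obtain ⟨k', e', hk', he1, he2, he3⟩ := ih (n - 2) (by omega) ↥W (B.restrict W) (X.restrict hinv) hWdim
      (fun u v => hsymm _ _) hndW (fun u v => hpres _ _)
      (fun w => by
        apply Subtype.ext
        rw [LinearMap.coe_restrict_apply, LinearMap.coe_restrict_apply]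
        exact hsq _)
    refine ⟨k' + 1, Fin.cons v (fun j => ((e' j : W) : V)), by omega, ?_, ?_, ?_⟩
    · intro j
      refine Fin.cases ?_ (fun j' => ?_) j
      · simpa using hv
      · simpa using he1 j'
    · intro j l
      refine Fin.cases ?_ (fun j' => ?_) j <;> refine Fin.cases ?_ (fun l' => ?_) l
      · intro h; exact absurd rfl h
      · intro _
        simp only [Fin.cons_zero, Fin.cons_succ]
        exact ((hWmem _).1 (e' l').2).1
      · intro _
        simp only [Fin.cons_zero, Fin.cons_succ]
        rw [hsymm]
        exact ((hWmem _).1 (e' j').2).1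
      · intro h
        simp only [Fin.cons_succ]
        exact he2 j' l' (fun h' => h (by rw [h']))
    · intro j l
      refine Fin.cases ?_ (fun j' => ?_) j <;> refine Fin.cases ?_ (fun l' => ?_) l
      · simpa using hvX
      · simp only [Fin.cons_zero, Fin.cons_succ]
        exact ((hWmem _).1 (hinv _ (e' l').2)).1
      · simp only [Fin.cons_zero, Fin.cons_succ]
        rw [hsymm]
        exact ((hWmem _).1 (e' j').2).2
      · simp only [Fin.cons_succ]
        exact he3 j' l'

end Cfsg.Agent.Lib.Helper13.OTS
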