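import Mathlib
import Cfsg.Agent.Lib.Helper13.OTS.Defs
import Cfsg.Agent.Lib.helper15.SQMB1
import Cfsg.Agent.Lib.helper15.OTSSTDCTX

/-!
# Project OTS, row NEGSPLIT (`q_neg_split`), verbatim from `Helper13/OTS/SkelR.lean.txt`
(from the abstract eigen-frame `sqmb1_dual` of the SQM block).
-/

set_option autoImplicit false
set_option linter.unusedVariables false
set_option linter.unusedSectionVars false

namespace Cfsg.Agent.Lib.Helper13.OTS

open Polynomial Module Cfsg.Agent.Lib.Helper13.S5955 Cfsg.Agent.Lib.helper15.S5972
  Cfsg.Agent.Lib.helper15.SQM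

/-- a family of vectors paired to the Kronecker delta with another family is linearly independent -/
theorem otsnegsplit_li {F : Type*} [Field F] {V : Type*} [AddCommGroup V] [Module F V]
    (B : LinearMap.BilinForm F V) {m : ℕ} (e f : Fin m → V)
    (hef : ∀ i j, B (e i) (f j) = if i = j then 1 else 0) :
    LinearIndependent F e := by
  rw [Fintype.linearIndependent_iff]
  intro g hg j
  have h1 : B (∑ i, g i • e i) (f j) = 0 := by rw [hg]; simp
  rw [map_sum, LinearMap.sum_apply] at h1
  simp only [map_smul, LinearMap.smul_apply, hef, smul_eq_mul,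
    mul_ite, mul_one, mul_zero, Finset.sum_ite_eq', Finset.mem_univ, if_true] at h1
  exact h1

/-- `Q` vanishes on the span of pairwise orthogonal singular vectors -/
theorem otsnegsplit_ts {F : Type*} [Field F] {V : Type*} [AddCommGroup V] [Module F V]
    (Q : QuadraticForm F V) {κ : Type*} (e : κ → V)
    (hq : ∀ i, Q (e i) = 0) (hee : ∀ i j, QuadraticMap.polar (⇑Q) (e i) (e j) = 0) :
    ∀ w ∈ Submodule.span F (Set.range e), Q w = 0 := by
  have h1 : ∀ w ∈ Submodule.span F (Set.range e), ∀ j, QuadraticMap.polar (⇑Q) w (e j) = 0 := by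
    intro w hw j
    induction hw using Submodule.span_induction with
    | mem u hu => obtain ⟨i, rfl⟩ := hu; exact hee i j
    | zero => simp
    | add u v _ _ hu hv => rw [QuadraticMap.polar_add_left, hu, hv, add_zero]
    | smul a u _ hu => rw [QuadraticMap.polar_smul_left, hu, smul_zero]
  have h2 : ∀ w ∈ Submodule.span F (Set.range e), ∀ u ∈ Submodule.span F (Set.range e),
      QuadraticMap.polar (⇑Q) w u = 0 := by
    intro w hw u hu
    induction hu using Submodule.span_induction with
    | mem u hu => obtain ⟨i, rfl⟩ := hu; exact h1 w hw i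
    | zero => simp
    | add u v _ _ hu hv => rw [QuadraticMap.polar_add_right, hu, hv, add_zero]
    | smul a u _ hu => rw [QuadraticMap.polar_smul_right, hu, smul_zero]
  intro w hw
  induction hw using Submodule.span_induction with
  | mem u hu => obtain ⟨i, rfl⟩ := hu; exact hq i
  | zero => simp
  | add u v hu hv hu' hv' =>
    have h3 : Q (u + v) = Q u + Q v + QuadraticMap.polar (⇑Q) u v := by
      unfold QuadraticMap.polar; ring
    rw [h3, hu', hv', h2 u hu v hv]; simp
  | smul a u _ hu => rw [QuadraticMap.map_smul, hu, smul_zero]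

theorem q_neg_split {F : Type*} [Field F] (h2 : (2 : F) ≠ 0) {V : Type*} [AddCommGroup V] [Module F V]
    [FiniteDimensional F V] (Q : QuadraticForm F V)
    (hnd : ∀ u, (∀ v, QuadraticMap.polar Q u v = 0) → u = 0) (x : Module.End F V)
    (hpres : ∀ v, Q (x v) = Q v) (hx : ∀ v, x (x v) = -v) (ι₀ : F) (hι : ι₀ * ι₀ = -1) (d : ℕ)
    (hV : finrank F V = 2 * d) : ∀ m, m ≤ d → QTd Q x m := by
  intro m hm
  have hB : (QuadraticMap.polarBilin Q).Nondegenerate := by
    constructor
    · intro u hu
      exact hnd u (fun v => by simpa [QuadraticMap.polarBilin_apply_apply] using hu v)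
    · intro v hv
      apply hnd v
      intro u
      rw [QuadraticMap.polar_comm]
      simpa [QuadraticMap.polarBilin_apply_apply] using hv u
  have hX : ∀ u v, QuadraticMap.polarBilin Q (x u) (x v) = QuadraticMap.polarBilin Q u v := by
    intro u v
    rw [QuadraticMap.polarBilin_apply_apply, QuadraticMap.polarBilin_apply_apply]
    exact otsstdctx_polar Q x hpres u v
  obtain ⟨d', e, f, hcard, he, hf, hef⟩ := sqmb1_dual h2 (QuadraticMap.polarBilin Q) hB x hX hx ι₀ hι
  have hdd : d' = d := by omega
  subst hdd
  have hsing : ∀ v, v ∈ sqmb1_eig x ι₀ → Q v = 0 := by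
    intro v hv
    rw [sqmb1_mem_eig] at hv
    have h1 := hpres v
    rw [hv, QuadraticMap.map_smul, hι, smul_eq_mul] at h1
    have h3 : (2 : F) * Q v = 0 := by linear_combination -h1
    exact (mul_eq_zero.1 h3).resolve_left h2
  set e' : Fin m → V := fun i => e (Fin.castLE hm i) with he'
  set f' : Fin m → V := fun i => f (Fin.castLE hm i) with hf'
  have hli : LinearIndependent F e' := by
    apply otsnegsplit_li (QuadraticMap.polarBilin Q) e' f'
    intro i j
    simp only [he', hf', hef]
    by_cases hij : i = j
    · simp [hij]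
    · have : Fin.castLE hm i ≠ Fin.castLE hm j := fun h => hij (Fin.castLE_injective hm h)
      simp [hij, this]
  refine ⟨Submodule.span F (Set.range e'), ?_, ?_, ?_⟩
  · intro w hw
    induction hw using Submodule.span_induction with
    | mem u hu =>
      obtain ⟨i, rfl⟩ := hu
      have := (sqmb1_mem_eig x ι₀ _).1 (he (Fin.castLE hm i))
      rw [this]
      exact Submodule.smul_mem _ _ (Submodule.subset_span ⟨i, rfl⟩)
    | zero => simp
    | add u v _ _ hu hv => rw [map_add]; exact Submodule.add_mem _ hu hv
    | smul a u _ hu => rw [map_smul]; exact Submodule.smul_mem _ _ hu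
  · apply otsnegsplit_ts Q e' (fun i => hsing _ (he _))
    intro i j
    have := sqmb1_orth h2 (QuadraticMap.polarBilin Q) x hX ι₀ hι _ _ (he (Fin.castLE hm i))
      (he (Fin.castLE hm j))
    simpa [QuadraticMap.polarBilin_apply_apply] using this
  · rw [finrank_span_eq_card hli, Fintype.card_fin]

end Cfsg.Agent.Lib.Helper13.OTS
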