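import Mathlib
import Cfsg.Agent.Lib.Helper13.OTS.Defs
import Cfsg.Agent.Lib.helper15.OTSNEGHERMa
import Cfsg.Agent.Lib.helper15.OTSNEGSPLIT

/-!
# Project OTS, row NEGHERM (`q_neg_herm`), verbatim from `Helper13/OTS/SkelR.lean.txt`.

`x² = -1`: `V` is an orthogonal sum of invariant planes `⟨e_l, x e_l⟩` (`otsnegherma_dec`, helper14's decomposition);
on two of them, `u = a e + b x e + e'` with `a² + b² = - Q e' / Q e` is singular, and `⟨u, x u⟩` is invariant and totally singular.
(No hypothesis on `-1` is needed beyond `2 ≠ 0`.)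
-/

set_option autoImplicit false
set_option linter.unusedVariables false
set_option linter.unusedSectionVars false

namespace Cfsg.Agent.Lib.Helper13.OTS

open Polynomial Module Cfsg.Agent.Lib.Helper13.S5955 Cfsg.Agent.Lib.helper15.S5972
  Cfsg.Agent.Lib.helper15.SQM

/-- every element of a finite field with `2 ≠ 0` is a sum of two squares -/
theorem otsnegherm_sq_add_sq {F : Type*} [Field F] [Fintype F] (h2 : (2 : F) ≠ 0) (c : F) :
    ∃ a b : F, a ^ 2 + b ^ 2 = c := by
  have hch : ringChar F ≠ 2 := by
    intro h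
    apply h2
    have := ringChar.Nat.cast_ringChar (R := F)
    rw [h] at this
    exact_mod_cast this
  let f : F[X] := X ^ 2
  let g : F[X] := X ^ 2 - C c
  obtain ⟨a, b, hab⟩ : ∃ a b, f.eval a + g.eval b = 0 :=
    @FiniteField.exists_root_sum_quadratic _ _ _ _ f g (degree_X_pow 2)
      (degree_X_pow_sub_C (by decide) _) (FiniteField.odd_card_of_char_ne_two hch)
  refine ⟨a, b, ?_⟩
  rw [← sub_eq_zero]
  simpa only [f, g, eval_C, eval_X, eval_pow, eval_sub, ← add_sub_assoc] using hab

/-- a family paired to the Kronecker delta with another family is linearly independent (any finite index type) -/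
theorem otsnegherm_li {F : Type*} [Field F] {V : Type*} [AddCommGroup V] [Module F V]
    (B : LinearMap.BilinForm F V) {κ : Type*} [Fintype κ] [DecidableEq κ] (e f : κ → V)
    (hef : ∀ i j, B (e i) (f j) = if i = j then 1 else 0) :
    LinearIndependent F e := by
  rw [Fintype.linearIndependent_iff]
  intro g hg j
  have h1 : B (∑ i, g i • e i) (f j) = 0 := by rw [hg]; simp
  rw [map_sum, LinearMap.sum_apply] at h1
  simp only [map_smul, LinearMap.smul_apply, hef, smul_eq_mul,
    mul_ite, mul_one, mul_zero, Finset.sum_ite_eq', Finset.mem_univ, if_true] at h1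
  exact h1

section core

variable {F : Type*} [Field F] {V : Type*} [AddCommGroup V] [Module F V]
  (Q : QuadraticForm F V) (x : Module.End F V)

/-- `polar (x a) b = - polar a (x b)` -/
theorem otsnegherm_adj (hpres : ∀ v, Q (x v) = Q v) (hx : ∀ v, x (x v) = -v) (a b : V) :
    QuadraticMap.polar Q (x a) b = - QuadraticMap.polar Q a (x b) := by
  have h1 := otsstdctx_polar Q x hpres (x a) b
  rw [hx, QuadraticMap.polar_neg_left] at h1
  rw [← h1]

/-- `polar a (x a) = 0` -/
theorem otsnegherm_self (h2 : (2 : F) ≠ 0) (hpres : ∀ v, Q (x v) = Q v) (hx : ∀ v, x (x v) = -v)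
    (a : V) : QuadraticMap.polar Q a (x a) = 0 := by
  have h1 := otsnegherm_adj Q x hpres hx a a
  rw [QuadraticMap.polar_comm] at h1
  have h3 : (2 : F) * QuadraticMap.polar Q a (x a) = 0 := by linear_combination h1
  exact (mul_eq_zero.1 h3).resolve_left h2

end core

/-- the core: from `2 j` pairwise orthogonal invariant anisotropic planes, an invariant totally singular subspace of dimension `2 j` -/
theorem otsnegherm_core {F : Type*} [Field F] [Fintype F] (h2 : (2 : F) ≠ 0) {V : Type*}
    [AddCommGroup V] [Module F V] [FiniteDimensional F V] (Q : QuadraticForm F V)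
    (x : Module.End F V) (hpres : ∀ v, Q (x v) = Q v) (hx : ∀ v, x (x v) = -v) (j : ℕ)
    (v w : Fin j → V)
    (hvv : ∀ t s, t ≠ s → QuadraticMap.polar Q (v t) (v s) = 0)
    (hww : ∀ t s, t ≠ s → QuadraticMap.polar Q (w t) (w s) = 0)
    (hvw : ∀ t s, QuadraticMap.polar Q (v t) (w s) = 0)
    (hvxv : ∀ t s, QuadraticMap.polar Q (v t) (x (v s)) = 0)
    (hvxw : ∀ t s, QuadraticMap.polar Q (v t) (x (w s)) = 0)
    (hwxv : ∀ t s, QuadraticMap.polar Q (w t) (x (v s)) = 0)
    (hwxw : ∀ t s, QuadraticMap.polar Q (w t) (x (w s)) = 0)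
    (hqv : ∀ t, Q (v t) ≠ 0) (hqw : ∀ t, Q (w t) ≠ 0) : QTd Q x (2 * j) := by
  classical
  have hP1 := otsstdctx_polar Q x hpres
  have hP2 := otsnegherm_adj Q x hpres hx
  have hwv : ∀ t s, QuadraticMap.polar Q (w t) (v s) = 0 := fun t s => by
    rw [QuadraticMap.polar_comm]; exact hvw s t
  choose a b hab using fun t => otsnegherm_sq_add_sq h2 (-(Q (w t)) / Q (v t))
  set u : Fin j → V := fun t => a t • v t + b t • x (v t) + w t with hu
  have hxu : ∀ t, x (u t) = a t • x (v t) + b t • (-(v t)) + x (w t) := by
    intro t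
    simp only [hu, map_add, map_smul, hx]
  -- `Q (u t) = 0`
  have hQu : ∀ t, Q (u t) = 0 := by
    intro t
    have e1 : Q (u t) = Q (a t • v t + b t • x (v t)) + Q (w t) +
        QuadraticMap.polar Q (a t • v t + b t • x (v t)) (w t) := by
      simp only [hu]; unfold QuadraticMap.polar; ring
    have e2 : Q (a t • v t + b t • x (v t)) = Q (a t • v t) + Q (b t • x (v t)) +
        QuadraticMap.polar Q (a t • v t) (b t • x (v t)) := by
      unfold QuadraticMap.polar; ring
    rw [e1, e2, QuadraticMap.map_smul, QuadraticMap.map_smul, hpres, QuadraticMap.polar_smul_left,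
      QuadraticMap.polar_smul_right, hvxv, QuadraticMap.polar_add_left, QuadraticMap.polar_smul_left,
      QuadraticMap.polar_smul_left, hvw, hP2, hvxw]
    simp only [smul_eq_mul, mul_zero, neg_zero, add_zero]
    have h3 := hab t
    have h4 : (a t ^ 2 + b t ^ 2) * Q (v t) = -(Q (w t)) := by
      rw [h3, div_mul_cancel₀ _ (hqv t)]
    linear_combination h4
  -- orthogonality of the four generators of block `s` to those of block `t ≠ s`
  have hgen : ∀ t s, t ≠ s → ∀ z, (z = v s ∨ z = x (v s) ∨ z = w s ∨ z = x (w s)) →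
      QuadraticMap.polar Q (v t) z = 0 ∧ QuadraticMap.polar Q (x (v t)) z = 0 ∧
      QuadraticMap.polar Q (w t) z = 0 ∧ QuadraticMap.polar Q (x (w t)) z = 0 := by
    intro t s hts z hz
    rcases hz with rfl | rfl | rfl | rfl
    · exact ⟨hvv t s hts, by rw [hP2, hvxv, neg_zero], hwv t s, by rw [hP2, hwxv, neg_zero]⟩
    · exact ⟨hvxv t s, by rw [hP1, hvv t s hts], hwxv t s, by rw [hP1, hwv]⟩
    · exact ⟨hvw t s, by rw [hP2, hvxw, neg_zero], hww t s hts, by rw [hP2, hwxw, neg_zero]⟩
    · exact ⟨hvxw t s, by rw [hP1, hvw], hwxw t s, by rw [hP1, hww t s hts]⟩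
  have hblock : ∀ t s, t ≠ s → ∀ z, (z = u s ∨ z = x (u s)) →
      QuadraticMap.polar Q (v t) z = 0 ∧ QuadraticMap.polar Q (x (v t)) z = 0 ∧
      QuadraticMap.polar Q (w t) z = 0 ∧ QuadraticMap.polar Q (x (w t)) z = 0 := by
    intro t s hts z hz
    obtain ⟨g1, g2, g3, g4⟩ := hgen t s hts (v s) (Or.inl rfl)
    obtain ⟨k1, k2, k3, k4⟩ := hgen t s hts (x (v s)) (Or.inr (Or.inl rfl))
    obtain ⟨l1, l2, l3, l4⟩ := hgen t s hts (w s) (Or.inr (Or.inr (Or.inl rfl)))
    obtain ⟨m1, m2, m3, m4⟩ := hgen t s hts (x (w s)) (Or.inr (Or.inr (Or.inr rfl)))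
    rcases hz with rfl | rfl
    · simp only [hu, QuadraticMap.polar_add_right, QuadraticMap.polar_smul_right, g1, g2, g3, g4, k1,
        k2, k3, k4, l1, l2, l3, l4, smul_zero, add_zero, and_self]
    · simp only [hxu, QuadraticMap.polar_add_right, QuadraticMap.polar_smul_right,
        QuadraticMap.polar_neg_right, g1, g2, g3, g4, k1, k2, k3, k4, m1, m2, m3, m4, smul_zero,
        neg_zero, add_zero, and_self]
  have huu : ∀ t s, QuadraticMap.polar Q (u t) (u s) = 0 := by
    intro t s
    by_cases hts : t = s
    · subst hts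
      rw [QuadraticMap.polar_self, hQu, smul_zero]
    · obtain ⟨g1, g2, g3, g4⟩ := hblock t s hts (u s) (Or.inl rfl)
      have : u t = a t • v t + b t • x (v t) + w t := rfl
      rw [this, QuadraticMap.polar_add_left, QuadraticMap.polar_add_left, QuadraticMap.polar_smul_left,
        QuadraticMap.polar_smul_left, g1, g2, g3]
      simp
  have huxu : ∀ t s, QuadraticMap.polar Q (u t) (x (u s)) = 0 := by
    intro t s
    by_cases hts : t = s
    · subst hts
      exact otsnegherm_self Q x h2 hpres hx (u t)
    · obtain ⟨g1, g2, g3, g4⟩ := hblock t s hts (x (u s)) (Or.inr rfl)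
      have : u t = a t • v t + b t • x (v t) + w t := rfl
      rw [this, QuadraticMap.polar_add_left, QuadraticMap.polar_add_left, QuadraticMap.polar_smul_left,
        QuadraticMap.polar_smul_left, g1, g2, g3]
      simp
  -- the generating family and its dual family
  set g : Fin j ⊕ Fin j → V := Sum.elim u (fun t => x (u t)) with hg
  set f : Fin j ⊕ Fin j → V := Sum.elim (fun s => ((2 : F) * Q (w s))⁻¹ • w s)
    (fun s => ((2 : F) * Q (w s))⁻¹ • x (w s)) with hf
  have huw : ∀ t s, QuadraticMap.polar Q (u t) (w s) = if t = s then 2 * Q (w s) else 0 := by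
    intro t s
    have : u t = a t • v t + b t • x (v t) + w t := rfl
    rw [this, QuadraticMap.polar_add_left, QuadraticMap.polar_add_left, QuadraticMap.polar_smul_left,
      QuadraticMap.polar_smul_left, hvw, hP2, hvxw]
    by_cases hts : t = s
    · subst hts
      rw [QuadraticMap.polar_self]
      simp
    · rw [hww t s hts]
      simp [hts]
  have huxw : ∀ t s, QuadraticMap.polar Q (u t) (x (w s)) = 0 := by
    intro t s
    have : u t = a t • v t + b t • x (v t) + w t := rfl
    rw [this, QuadraticMap.polar_add_left, QuadraticMap.polar_add_left, QuadraticMap.polar_smul_left,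
      QuadraticMap.polar_smul_left, hvxw, hP1, hvw, hwxw]
    simp
  have hpair : ∀ i i', QuadraticMap.polarBilin Q (g i) (f i') = if i = i' then 1 else 0 := by
    intro i i'
    rw [QuadraticMap.polarBilin_apply_apply]
    have hne : ∀ s, (2 : F) * Q (w s) ≠ 0 := fun s => mul_ne_zero h2 (hqw s)
    rcases i with t | t <;> rcases i' with s | s
    · show QuadraticMap.polar Q (u t) (((2 : F) * Q (w s))⁻¹ • w s) = _
      rw [QuadraticMap.polar_smul_right, huw]
      by_cases hts : t = s
      · subst hts
        rw [if_pos rfl, if_pos rfl, smul_eq_mul, inv_mul_cancel₀ (hne t)]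
      · rw [if_neg hts, if_neg (fun h => hts (Sum.inl.inj h)), smul_zero]
    · show QuadraticMap.polar Q (u t) (((2 : F) * Q (w s))⁻¹ • x (w s)) = _
      rw [QuadraticMap.polar_smul_right, huxw, smul_zero, if_neg (by simp)]
    · show QuadraticMap.polar Q (x (u t)) (((2 : F) * Q (w s))⁻¹ • w s) = _
      rw [QuadraticMap.polar_smul_right, hP2, huxw, neg_zero, smul_zero, if_neg (by simp)]
    · show QuadraticMap.polar Q (x (u t)) (((2 : F) * Q (w s))⁻¹ • x (w s)) = _
      rw [QuadraticMap.polar_smul_right, hP1, huw]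
      by_cases hts : t = s
      · subst hts
        rw [if_pos rfl, if_pos rfl, smul_eq_mul, inv_mul_cancel₀ (hne t)]
      · rw [if_neg hts, if_neg (fun h => hts (Sum.inr.inj h)), smul_zero]
  have hli : LinearIndependent F g := otsnegherm_li (QuadraticMap.polarBilin Q) g f hpair
  refine ⟨Submodule.span F (Set.range g), ?_, ?_, ?_⟩
  · intro z hz
    induction hz using Submodule.span_induction with
    | mem z hz =>
      obtain ⟨i, rfl⟩ := hz
      rcases i with t | t
      · exact Submodule.subset_span ⟨Sum.inr t, rfl⟩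
      · simp only [hg, Sum.elim_inr]
        rw [hx]
        exact Submodule.neg_mem _ (Submodule.subset_span ⟨Sum.inl t, rfl⟩)
    | zero => simp
    | add y z _ _ hy hz => rw [map_add]; exact Submodule.add_mem _ hy hz
    | smul c y _ hy => rw [map_smul]; exact Submodule.smul_mem _ _ hy
  · apply otsnegsplit_ts Q g
    · intro i
      rcases i with t | t
      · exact hQu t
      · simp only [hg, Sum.elim_inr]; rw [hpres]; exact hQu t
    · intro i i'
      rcases i with t | t <;> rcases i' with s | s
      · exact huu t s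
      · exact huxu t s
      · simp only [hg, Sum.elim_inl, Sum.elim_inr]; rw [QuadraticMap.polar_comm]; exact huxu s t
      · simp only [hg, Sum.elim_inr]; rw [hP1]; exact huu t s
  · rw [finrank_span_eq_card hli, Fintype.card_sum, Fintype.card_fin]
    ring

theorem q_neg_herm {F : Type*} [Field F] [Fintype F] (hns : ¬ IsSquare (-1 : F)) {V : Type*} [AddCommGroup V]
    [Module F V] [FiniteDimensional F V] (Q : QuadraticForm F V)
    (hnd : ∀ u, (∀ v, QuadraticMap.polar Q u v = 0) → u = 0) (x : Module.End F V)
    (hpres : ∀ v, Q (x v) = Q v) (hx : ∀ v, x (x v) = -v) (d : ℕ) (hV : finrank F V = 2 * d) :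
    ∀ j, 2 * j ≤ d → QTd Q x (2 * j) := by
  intro j hj
  have h2 : (2 : F) ≠ 0 := by
    intro h
    apply hns
    refine ⟨1, ?_⟩
    have h1 : (1 : F) + 1 = 0 := by rw [one_add_one_eq_two]; exact h
    linear_combination (-1 : F) * h1
  have hB : (QuadraticMap.polarBilin Q).Nondegenerate := by
    constructor
    · intro u hu
      exact hnd u (fun v => by simpa [QuadraticMap.polarBilin_apply_apply] using hu v)
    · intro v hv
      apply hnd v
      intro u
      rw [QuadraticMap.polar_comm]
      simpa [QuadraticMap.polarBilin_apply_apply] using hv u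
  have hX : ∀ u v, QuadraticMap.polarBilin Q (x u) (x v) = QuadraticMap.polarBilin Q u v := by
    intro u v
    rw [QuadraticMap.polarBilin_apply_apply, QuadraticMap.polarBilin_apply_apply]
    exact otsstdctx_polar Q x hpres u v
  have hsymm : ∀ u v, QuadraticMap.polarBilin Q u v = QuadraticMap.polarBilin Q v u := by
    intro u v
    rw [QuadraticMap.polarBilin_apply_apply, QuadraticMap.polarBilin_apply_apply,
      QuadraticMap.polar_comm]
  obtain ⟨k, e, hk, he1, he2, he3⟩ :=
    otsnegherma_dec h2 (2 * d) V (QuadraticMap.polarBilin Q) x hV hsymm hB hX hx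
  have hkd : k = d := by omega
  subst hkd
  simp only [QuadraticMap.polarBilin_apply_apply] at he1 he2 he3
  have hq : ∀ l, Q (e l) ≠ 0 := by
    intro l h0
    apply he1 l
    rw [QuadraticMap.polar_self, h0, smul_zero]
  set v : Fin j → V := fun t => e ⟨2 * (t : ℕ), by have := t.2; omega⟩ with hv
  set w : Fin j → V := fun t => e ⟨2 * (t : ℕ) + 1, by have := t.2; omega⟩ with hw
  have hne : ∀ t s : Fin j, t ≠ s → (t : ℕ) ≠ (s : ℕ) := fun t s h h' => h (Fin.ext h')
  apply otsnegherm_core h2 Q x hpres hx j v w
  · intro t s hts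
    apply he2
    intro h
    have := congrArg Fin.val h
    simp only at this
    exact hne t s hts (by omega)
  · intro t s hts
    apply he2
    intro h
    have := congrArg Fin.val h
    simp only at this
    exact hne t s hts (by omega)
  · intro t s
    apply he2
    intro h
    have := congrArg Fin.val h
    simp only at this
    omega
  · intro t s; exact he3 _ _
  · intro t s; exact he3 _ _
  · intro t s; exact he3 _ _
  · intro t s; exact he3 _ _
  · intro t; exact hq _
  · intro t; exact hq _

end Cfsg.Agent.Lib.Helper13.OTS
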