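import Mathlib
import Cfsg.Agent.Lib.Helper13.OTS.Defs
import Cfsg.Agent.Lib.Helper25.ODNCNTONE

/-!
# Project OTS, row NEGTY (`q_neg_ty`), verbatim from `Helper13/OTS/SkelR.lean.txt`.
`v ↦ x v` is a permutation of `{Qs = 1}` all of whose cycles have length `4`; helper25's `odn_cnt_one` counts `{Qs = 1}`.
-/

set_option autoImplicit false
set_option linter.unusedVariables false
set_option linter.unusedSectionVars false

namespace Cfsg.Agent.Lib.Helper13.OTS

open Polynomial Module Cfsg.Agent.Lib.Helper13.S5955 Cfsg.Agent.Lib.helper15.S5972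

/-- a permutation with `σ⁴ = 1` and `σ² v ≠ v` for all `v` lives on `4 k` points (first half of helper24's `odn_perm_four`) -/
theorem otsnegty_perm_four {S : Type*} [Fintype S] [DecidableEq S] (σ : Equiv.Perm S)
    (h4 : ∀ v, σ (σ (σ (σ v))) = v) (h2 : ∀ v, σ (σ v) ≠ v) : 4 ∣ Fintype.card S := by
  have hpow : σ ^ 4 = 1 := by
    ext v
    simp [pow_succ, h4]
  have hall : ∀ n ∈ σ.cycleType, n = 4 := by
    intro n hn
    have hdvd : n ∣ 4 :=
      (Equiv.Perm.dvd_of_mem_cycleType hn).trans (orderOf_dvd_of_pow_eq_one hpow)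
    have h2le := Equiv.Perm.two_le_of_mem_cycleType hn
    have hne2 : n ≠ 2 := by
      rintro rfl
      rw [Equiv.Perm.cycleType_def] at hn
      obtain ⟨c, hc, hcard⟩ := Multiset.mem_map.mp hn
      obtain ⟨hcyc, hca⟩ := Equiv.Perm.mem_cycleFactorsFinset_iff.mp hc
      obtain ⟨a, ha⟩ := hcyc.nonempty_support
      have hord : orderOf c = 2 := by
        rw [hcyc.orderOf]
        exact hcard
      have hcc : c (c a) = a := by
        have h1 : c ^ 2 = 1 := by
          rw [← hord]
          exact pow_orderOf_eq_one c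
        have h3 := congrArg (fun f => f a) h1
        simpa [pow_two] using h3
      have h1 : c a = σ a := hca a ha
      have h3 : c (c a) = σ (c a) := hca (c a) (Equiv.Perm.apply_mem_support.mpr ha)
      exact h2 a (by rw [← h1, ← h3, hcc])
    have hle : n ≤ 4 := Nat.le_of_dvd (by norm_num) hdvd
    interval_cases n
    · exact absurd rfl hne2
    · omega
    · rfl
  have hrep : σ.cycleType = Multiset.replicate (Multiset.card σ.cycleType) 4 :=
    Multiset.eq_replicate.mpr ⟨rfl, hall⟩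
  have hsupp : σ.support = Finset.univ := by
    ext v
    simp only [Equiv.Perm.mem_support, Finset.mem_univ, iff_true]
    intro hv
    exact h2 v (by rw [hv, hv])
  have hsum : σ.cycleType.sum = Fintype.card S := by
    rw [Equiv.Perm.sum_cycleType, hsupp, Finset.card_univ]
  generalize Multiset.card σ.cycleType = k at hrep
  rw [hrep] at hsum
  refine ⟨k, ?_⟩
  rw [← hsum]
  simp [mul_comm]

theorem q_neg_ty {F : Type*} [Field F] [Fintype F] (h2 : (2 : F) ≠ 0) {ι : Type} [Fintype ι]
    [DecidableEq ι] (Qs : QuadraticForm F (ι → F)) (d : ℕ) (ε : ℤ) (hs : QStd Qs d ε) (hd : 1 ≤ d)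
    (x : GL ι F) (hx : x ∈ Cfsg.isometryGroup F (⇑Qs))
    (hx2 : (x : Matrix ι ι F) * (x : Matrix ι ι F) = -1) :
    (4 : ℤ) ∣ (Fintype.card F : ℤ) ^ d - ε := by
  classical
  have hcnt := Cfsg.Agent.Lib.Helper1.ODN.odn_cnt_one h2 Qs hs.nd d hd hs.card ε hs.eps hs.ty
  have hxx : ∀ v : ι → F, (x : Matrix ι ι F).mulVec ((x : Matrix ι ι F).mulVec v) = -v := by
    intro v
    rw [Matrix.mulVec_mulVec, hx2, Matrix.neg_mulVec, Matrix.one_mulVec]
  have hQx : ∀ v : ι → F, Qs ((x : Matrix ι ι F).mulVec v) = Qs v := fun v => hx v v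
  let σ : Equiv.Perm {v : ι → F // Qs v = 1} :=
    { toFun := fun v => ⟨(x : Matrix ι ι F).mulVec v.1, by rw [hQx]; exact v.2⟩
      invFun := fun v => ⟨-((x : Matrix ι ι F).mulVec v.1), by
        rw [QuadraticMap.map_neg, hQx]; exact v.2⟩
      left_inv := fun v => by
        apply Subtype.ext
        simp only
        rw [hxx, neg_neg]
      right_inv := fun v => by
        apply Subtype.ext
        simp only
        rw [Matrix.mulVec_neg, hxx, neg_neg] }
  have hσ : ∀ v, ((σ v : {v : ι → F // Qs v = 1}) : ι → F) = (x : Matrix ι ι F).mulVec v.1 :=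
    fun v => rfl
  have h4 : ∀ v, σ (σ (σ (σ v))) = v := by
    intro v
    apply Subtype.ext
    rw [hσ, hσ, hσ, hσ, hxx, hxx, neg_neg]
  have h2' : ∀ v, σ (σ v) ≠ v := by
    intro v hv
    have h1 := congrArg Subtype.val hv
    rw [hσ, hσ, hxx] at h1
    have h3 : (2 : F) • v.1 = 0 := by rw [two_smul]; nth_rewrite 1 [← h1]; exact neg_add_cancel _
    have h5 : v.1 = 0 := (smul_eq_zero.1 h3).resolve_left h2
    have h6 := v.2
    rw [h5, map_zero] at h6
    exact zero_ne_one h6
  have hdvd : 4 ∣ Fintype.card {v : ι → F // Qs v = 1} := otsnegty_perm_four σ h4 h2'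
  rw [← Nat.card_eq_fintype_card] at hdvd
  have hdvdZ : (4 : ℤ) ∣ (Fintype.card F : ℤ) ^ (d - 1) * ((Fintype.card F : ℤ) ^ d - ε) := by
    rw [← hcnt]
    exact_mod_cast hdvd
  have hch : ringChar F ≠ 2 := by
    intro h
    apply h2
    have := ringChar.Nat.cast_ringChar (R := F)
    rw [h] at this
    exact_mod_cast this
  have hqodd : Odd ((Fintype.card F : ℤ) ^ (d - 1)) := by
    apply Odd.pow
    have := FiniteField.odd_card_of_char_ne_two hch
    exact_mod_cast Nat.odd_iff.2 this
  have hcop2 : IsCoprime (2 : ℤ) ((Fintype.card F : ℤ) ^ (d - 1)) := by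
    obtain ⟨k, hk⟩ := hqodd
    exact ⟨-k, 1, by rw [hk]; ring⟩
  have hcop : IsCoprime (4 : ℤ) ((Fintype.card F : ℤ) ^ (d - 1)) := by
    have : (4 : ℤ) = 2 ^ 2 := by norm_num
    rw [this]
    exact hcop2.pow_left
  exact hcop.dvd_of_dvd_mul_left hdvdZ

end Cfsg.Agent.Lib.Helper13.OTS
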