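import Mathlib
import Cfsg.Agent.Lib.Helper13.OTS.Defs
import Cfsg.Agent.Lib.Helper24.S5972TWONEC
import Cfsg.Agent.Lib.Helper16.StabRefl
import Cfsg.Agent.Lib.Helper16.SpinE3
import Cfsg.Agent.Lib.Helper21.OTSTYCLASS
import Cfsg.Agent.Lib.Helper21.OTSWITT
import Cfsg.Agent.Lib.helper17.OTSTYSUM
import Cfsg.Agent.Lib.helper17.OTSQOCTX
import Cfsg.Agent.Lib.helper17.ONENDPERPS
import Cfsg.Agent.Lib.helper17.ONENDSUPS

/-!
# Project OTS, row TWONEC (`q_two_nec_plus`): second copy by helper15 under the names `otstwonec_h15_*`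
(statement verbatim from `Helper13/OTS/SkelR.lean.txt` as `otstwonec_h15`).
-/

set_option autoImplicit false
set_option linter.unusedVariables false
set_option linter.unusedSectionVars false

namespace Cfsg.Agent.Lib.Helper13.OTS

open Polynomial Module Cfsg.Agent.Lib.Helper13.S5955 Cfsg.Agent.Lib.helper15.S5972
open scoped Matrix

/-- the type of the top space of a standard space -/
theorem otstwonec_h15_top {F : Type*} [Field F] [Fintype F] {ι : Type} [Fintype ι] [DecidableEq ι]
    (Qs : QuadraticForm F (ι → F)) (d : ℕ) (ε : ℤ) (hs : QStd Qs d ε) :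
    QTy Qs (⊤ : Submodule F (ι → F)) ε := by
  unfold QTy
  have hfin : finrank F (⊤ : Submodule F (ι → F)) / 2 = d := by
    rw [finrank_top, Module.finrank_fintype_fun_eq_card, hs.card]
    omega
  rw [hfin]
  exact (Cfsg.Agent.Lib.Helper16.OSemi.isType_congr
    (Submodule.topEquiv (R := F) (M := ι → F)).toEquiv (⇑Qs)
    (fun w : ↥(⊤ : Submodule F (ι → F)) => Qs (w : ι → F)) (fun _ => rfl) d ε).1 hs.ty

theorem otstwonec_h15 {F : Type*} [Field F] [Fintype F] (hq : Fintype.card F % 4 = 3) {ι : Type} [Fintype ι]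
    [DecidableEq ι] (Qs : QuadraticForm F (ι → F)) (d : ℕ) (hs : QStd Qs d 1) (hd : 2 ≤ d) :
    ∃ x : GL ι F, x ∈ Cfsg.Geo.omegaGL (⇑Qs) ∧ x ^ 2 = 1 ∧
      (∀ z : F, (x : Matrix ι ι F) ≠ z • (1 : Matrix ι ι F)) ∧
      ¬ ∃ W : Submodule F (ι → F), finrank F W = d - 1 ∧ (∀ w ∈ W, Qs w = 0) ∧
        W.map (Matrix.toLin' (x : Matrix ι ι F)) ≤ W := by
  classical
  have hoddq : Odd (Fintype.card F) := by
    rw [Nat.odd_iff]
    omega
  have h2 : (2 : F) ≠ 0 := Cfsg.Agent.Lib.Helper16.OSemi.two_ne_zero_of_odd_card hoddq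
  have hnd := hs.nd
  have hfinV : finrank F (ι → F) = 2 * d := by
    rw [Module.finrank_fintype_fun_eq_card, hs.card]
  set B : LinearMap.BilinForm F (ι → F) := QuadraticMap.polarBilin Qs with hB
  have hBapp : ∀ u v, B u v = QuadraticMap.polar (⇑Qs) u v := fun u v => rfl
  have hsymm : ∀ u v, B u v = B v u := fun u v => by
    rw [hBapp, hBapp, QuadraticMap.polar_comm]
  have hself : ∀ u, B u u = 2 * Qs u := by
    intro u
    rw [hBapp, QuadraticMap.polar_self, nsmul_eq_mul]
    norm_num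
  -- the first vector
  have htop : (⊤ : Submodule F (ι → F)) ⊓ Cfsg.Agent.Lib.Helper16.CDG.perp Qs ⊤ = ⊥ := by
    rw [eq_bot_iff]
    intro v hv'
    obtain ⟨_, hv⟩ := Submodule.mem_inf.1 hv'
    rw [Cfsg.Agent.Lib.Helper16.CDG.mem_perp] at hv
    rw [Submodule.mem_bot]
    apply hnd.2 v
    intro w
    exact hv w Submodule.mem_top
  obtain ⟨u₁, _, hQ1⟩ := Cfsg.Agent.Lib.Helper16.exists_repr h2 Qs ⊤ htop
    (by rw [finrank_top, hfinV]; omega) 1 one_ne_zero
  have hu1ne : u₁ ≠ 0 := by
    rintro rfl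
    rw [map_zero] at hQ1
    exact zero_ne_one hQ1
  have h11 : B u₁ u₁ = 2 := by rw [hself, hQ1, mul_one]
  -- the second vector
  have hspan : (Submodule.span F {u₁}) ⊓ Cfsg.Agent.Lib.Helper16.CDG.perp Qs (Submodule.span F {u₁}) = ⊥ := by
    rw [eq_bot_iff]
    intro v hv'
    obtain ⟨hv1, hv2⟩ := Submodule.mem_inf.1 hv'
    obtain ⟨a, rfl⟩ := Submodule.mem_span_singleton.1 hv1
    rw [Cfsg.Agent.Lib.Helper16.CDG.mem_perp] at hv2
    have h3 := hv2 u₁ (Submodule.mem_span_singleton_self u₁)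
    rw [QuadraticMap.polar_smul_right, ← hBapp, h11, smul_eq_mul] at h3
    have ha : a = 0 := (mul_eq_zero.1 h3).resolve_right h2
    rw [ha, zero_smul]
    exact Submodule.zero_mem _
  have hXnd := Cfsg.Agent.Lib.Helper16.perp_nondeg Qs hnd (Submodule.span F {u₁}) hspan
  have hXdim : finrank F (Cfsg.Agent.Lib.Helper16.CDG.perp Qs (Submodule.span F {u₁})) = 2 * d - 1 := by
    have := LinearMap.BilinForm.finrank_orthogonal hnd (Submodule.span F {u₁})
    rw [finrank_span_singleton hu1ne, hfinV] at this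
    exact this
  obtain ⟨u₂, hu2X, hQ2⟩ := Cfsg.Agent.Lib.Helper16.exists_repr h2 Qs _ hXnd
    (by rw [hXdim]; omega) 1 one_ne_zero
  have h12 : B u₁ u₂ = 0 := by
    rw [Cfsg.Agent.Lib.Helper16.CDG.mem_perp] at hu2X
    exact hu2X u₁ (Submodule.mem_span_singleton_self u₁)
  have h21 : B u₂ u₁ = 0 := by rw [hsymm, h12]
  have h22 : B u₂ u₂ = 2 := by rw [hself, hQ2, mul_one]
  have hQab : ∀ a b : F, Qs (a • u₁ + b • u₂) = 0 → a = 0 ∧ b = 0 := by
    intro a b hab
    have h := hself (a • u₁ + b • u₂)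
    rw [hab, mul_zero] at h
    simp only [map_add, map_smul, LinearMap.add_apply, LinearMap.smul_apply, smul_eq_mul, h11, h12,
      h21, h22] at h
    apply s5972twonec_sumsq hq
    have h3 : (2 : F) * (a * a + b * b) = 0 := by linear_combination h
    exact (mul_eq_zero.mp h3).resolve_left h2
  -- the element
  have hvs : ∀ v ∈ [u₁, u₂], Qs v ≠ 0 := by
    intro v hv
    simp only [List.mem_cons, List.mem_nil_iff, or_false] at hv
    rcases hv with rfl | rfl
    · rw [hQ1]; exact one_ne_zero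
    · rw [hQ2]; exact one_ne_zero
  have hmem := Cfsg.Agent.Lib.Helper16.master_backward h2 Qs [u₁, u₂] hvs ⟨1, rfl⟩
    (by
      simp only [List.map_cons, List.map_nil, List.prod_cons, List.prod_nil, hQ1, hQ2, mul_one]
      exact ⟨1, (mul_one 1).symm⟩)
  obtain ⟨g, hg⟩ : ∃ g : ↥(Cfsg.isometryGroup F ⇑Qs),
      g = ([u₁, u₂].map (Cfsg.Agent.Lib.Helper16.reflG' Qs)).prod := ⟨_, rfl⟩
  rw [← hg] at hmem
  have hgcoe : (((g : GL ι F)) : Matrix ι ι F) =
      Cfsg.reflectionMatrix (⇑Qs) u₁ * Cfsg.reflectionMatrix (⇑Qs) u₂ := by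
    rw [hg, Cfsg.Agent.Lib.Helper16.prod_reflG'_coe Qs [u₁, u₂] hvs]
    simp only [List.map_cons, List.map_nil, List.prod_cons, List.prod_nil, mul_one]
  have hX : ∀ w, Matrix.toLin' (((g : GL ι F)) : Matrix ι ι F) w =
      w - B u₂ w • u₂ - B u₁ w • u₁ := by
    intro w
    rw [Matrix.toLin'_apply, hgcoe, ← Matrix.mulVec_mulVec,
      Cfsg.Agent.Lib.helper6.reflectionMatrix_mulVec, Cfsg.Agent.Lib.helper6.reflectionMatrix_mulVec,
      ← hBapp, ← hBapp, hQ1, hQ2, inv_one, one_mul, one_mul, map_sub, map_smul, h12, smul_zero, sub_zero]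
  have hXX : ∀ w, Matrix.toLin' (((g : GL ι F)) : Matrix ι ι F)
      (Matrix.toLin' (((g : GL ι F)) : Matrix ι ι F) w) = w := by
    intro w
    rw [hX, hX w]
    simp only [map_sub, map_smul, smul_eq_mul, h11, h12, h21, h22]
    module
  set P : Submodule F (ι → F) := Submodule.span F {u₁, u₂} with hP
  have hli : LinearIndependent F ![u₁, u₂] := by
    rw [LinearIndependent.pair_iff]
    intro s t hst
    have e1 : B u₁ (s • u₁ + t • u₂) = 0 := by rw [hst, map_zero]
    have e2 : B u₂ (s • u₁ + t • u₂) = 0 := by rw [hst, map_zero]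
    simp only [map_add, map_smul, smul_eq_mul, h11, h12, h21, h22, mul_zero, add_zero,
      zero_add] at e1 e2
    exact ⟨(mul_eq_zero.mp e1).resolve_right h2, (mul_eq_zero.mp e2).resolve_right h2⟩
  have hPdim : finrank F P = 2 := by
    have := finrank_span_eq_card hli
    rw [Fintype.card_fin] at this
    have hr : Set.range ![u₁, u₂] = {u₁, u₂} := by
      ext v
      simp
      exact or_comm
    rw [hr] at this
    exact this
  refine ⟨(g : GL ι F), Subgroup.mem_map.mpr ⟨g, hmem, rfl⟩, ?_, ?_, ?_⟩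
  · apply Units.ext
    rw [Units.val_pow_eq_pow_val, Units.val_one]
    apply Matrix.toLin'.injective
    apply LinearMap.ext
    intro w
    rw [pow_two, Matrix.toLin'_mul, LinearMap.comp_apply, hXX, Matrix.toLin'_one,
      LinearMap.id_apply]
  · intro z hz
    -- `z = -1` from `u₁`
    have h3 := hX u₁
    rw [hz, Matrix.toLin'_apply, Matrix.smul_mulVec, Matrix.one_mulVec, h21, h11, zero_smul, sub_zero] at h3
    have hz1 : z = -1 := by
      have h4 : (z + 1) • u₁ = 0 := by
        rw [add_smul, one_smul, h3, two_smul]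
        abel
      have := (smul_eq_zero.1 h4).resolve_right hu1ne
      exact eq_neg_of_add_eq_zero_left this
    -- then every vector lies in `P`
    have hall : ∀ w : ι → F, w ∈ P := by
      intro w
      have h5 := hX w
      rw [hz, hz1, Matrix.toLin'_apply, Matrix.smul_mulVec, Matrix.one_mulVec, neg_one_smul] at h5
      have h6 : (2 : F) • w = B u₂ w • u₂ + B u₁ w • u₁ := by
        rw [two_smul]
        have : w + w = w - (-w) := by abel
        rw [this, h5]
        abel
      have h7 : w = (2 : F)⁻¹ • (B u₂ w • u₂ + B u₁ w • u₁) := by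
        rw [← h6, smul_smul, inv_mul_cancel₀ h2, one_smul]
      rw [h7]
      apply Submodule.smul_mem
      apply Submodule.add_mem
      · exact Submodule.smul_mem _ _ (Submodule.subset_span (by simp))
      · exact Submodule.smul_mem _ _ (Submodule.subset_span (by simp))
    have htopP : (⊤ : Submodule F (ι → F)) ≤ P := fun w _ => hall w
    have := Submodule.finrank_mono htopP
    rw [finrank_top, hfinV, hPdim] at this
    omega
  · rintro ⟨W, hWd, hWs, hWinv⟩
    have hperp : ∀ w ∈ W, B u₁ w = 0 ∧ B u₂ w = 0 := by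
      intro w hw
      have hxw : Matrix.toLin' (((g : GL ι F)) : Matrix ι ι F) w ∈ W := hWinv ⟨w, hw, rfl⟩
      have hdiff : B u₁ w • u₁ + B u₂ w • u₂ ∈ W := by
        have := W.sub_mem hw hxw
        rw [hX] at this
        convert this using 1
        module
      exact hQab _ _ (hWs _ hdiff)
    -- `P` is nondegenerate and anisotropic
    have hPnd : SND (qB Qs) P := by
      intro u hu huv
      obtain ⟨a, b, rfl⟩ := Submodule.mem_span_pair.mp hu
      have e1 := huv u₁ (Submodule.subset_span (by simp))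
      have e2 := huv u₂ (Submodule.subset_span (by simp))
      change B (a • u₁ + b • u₂) u₁ = 0 at e1
      change B (a • u₁ + b • u₂) u₂ = 0 at e2
      simp only [map_add, map_smul, LinearMap.add_apply, LinearMap.smul_apply, smul_eq_mul, h11, h12,
        h21, h22, mul_zero, add_zero, zero_add] at e1 e2
      rw [(mul_eq_zero.mp e1).resolve_right h2, (mul_eq_zero.mp e2).resolve_right h2, zero_smul,
        zero_smul, add_zero]
    have htopnd : SND (qB Qs) (⊤ : Submodule F (ι → F)) :=
      fun u _ hu => hnd.1 u (fun v => hu v Submodule.mem_top)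
    obtain ⟨hdisj, hsup, hNnd, hPN, hNdim⟩ :=
      Cfsg.Agent.Lib.Helper18.ONE.nd_perp_symm (qB Qs) hsymm ⊤ P htopnd le_top hPnd
    set N : Submodule F (ι → F) := ⊤ ⊓ (qB Qs).orthogonal P with hN
    rw [hPdim, finrank_top, hfinV] at hNdim
    have hNdim' : finrank F N = 2 * d - 2 := by omega
    have hNev : Even (finrank F N) := ⟨d - 1, by omega⟩
    -- `W ≤ N`
    have hWN : W ≤ N := by
      intro w hw
      rw [hN, Submodule.mem_inf]
      refine ⟨Submodule.mem_top, ?_⟩
      rw [LinearMap.BilinForm.mem_orthogonal_iff]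
      intro p hp
      obtain ⟨a, b, rfl⟩ := Submodule.mem_span_pair.mp hp
      show B (a • u₁ + b • u₂) w = 0
      rw [map_add, LinearMap.add_apply, map_smul, map_smul, LinearMap.smul_apply, LinearMap.smul_apply,
        (hperp w hw).1, (hperp w hw).2, smul_zero, smul_zero, add_zero]
    -- the type of `P`
    have hPty : QTy Qs P (-1) := by
      rcases q_ty_class Qs P hPnd ⟨1, by rw [hPdim]⟩ with ⟨⟨U, hUP, hUs, hUd⟩, _⟩ | ⟨_, h, _⟩
      · exfalso
        rw [hPdim] at hUd
        have hU1 : finrank F U = 1 := by omega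
        have hUne : U ≠ ⊥ := by
          intro h
          rw [h, finrank_bot] at hU1
          omega
        obtain ⟨v, hvU, hv0⟩ := Submodule.exists_mem_ne_zero_of_ne_bot hUne
        obtain ⟨a, b, rfl⟩ := Submodule.mem_span_pair.mp (hUP hvU)
        obtain ⟨ha, hb⟩ := hQab a b (hUs _ hvU)
        apply hv0
        rw [ha, hb, zero_smul, zero_smul, add_zero]
      · exact h
    -- the type of `N`
    have hNty : QTy Qs N (-1) := by
      rcases q_ty_class Qs N hNnd hNev with ⟨_, h⟩ | ⟨_, h, _⟩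
      · exfalso
        have hsum := q_ty_sum Qs P N hPnd hNnd hPN ⟨1, by rw [hPdim]⟩ hNev (-1) 1 hPty h
        rw [hsup] at hsum
        exact q_ty_uniq Qs ⊤ (otstwonec_h15_top Qs d 1 hs) (by simpa using hsum)
      · exact h
    have hle := q_witt_le Qs N hNnd hNev (-1) hNty (Or.inr rfl) W hWN hWs
    rw [hWd, hNdim'] at hle
    have h1 : ((d - 1 : ℕ) : ℤ) = (d : ℤ) - 1 := by omega
    have h3 : ((2 * d - 2 : ℕ) : ℤ) = 2 * (d : ℤ) - 2 := by omega
    rw [h1, h3] at hle
    omega

end Cfsg.Agent.Lib.Helper13.OTS
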