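import Mathlib

set_option autoImplicit false

namespace Cfsg.Agent.Lib.helper15

section OrbitPerm

variable (H X : Type*) [Group H] [MulAction H X]

abbrev Orb : Type _ := MulAction.orbitRel.Quotient H X

variable {H X}

noncomputable def orbRep (ω : Orb H X) : X := Quotient.out ω

theorem mk_orbRep (ω : Orb H X) : (Quotient.mk'' (orbRep ω) : Orb H X) = ω := Quotient.out_eq' ω

theorem mk_smul (h : H) (y : X) : (Quotient.mk'' (h • y) : Orb H X) = Quotient.mk'' y := by
  apply Quotient.sound'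
  show MulAction.orbitRel H X (h • y) y
  rw [MulAction.orbitRel_apply]
  exact MulAction.mem_orbit y h

theorem mk_smul_orbRep (h : H) (ω : Orb H X) : (Quotient.mk'' (h • orbRep ω) : Orb H X) = ω := by
  rw [mk_smul, mk_orbRep]

theorem exists_smul_orbRep (y : X) : ∃ h : H, h • orbRep (Quotient.mk'' y : Orb H X) = y := by
  have h1 : (Quotient.mk'' (orbRep (Quotient.mk'' y : Orb H X)) : Orb H X) = Quotient.mk'' y :=
    mk_orbRep _
  have h2 : MulAction.orbitRel H X (orbRep (Quotient.mk'' y : Orb H X)) y := Quotient.exact' h1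
  rw [MulAction.orbitRel_apply] at h2
  obtain ⟨h, hh⟩ := h2
  refine ⟨h⁻¹, ?_⟩
  rw [← hh, inv_smul_smul]

noncomputable def orbElt (y : X) : H := Classical.choose (exists_smul_orbRep (H := H) y)

theorem orbElt_spec (y : X) : (orbElt y : H) • orbRep (Quotient.mk'' y : Orb H X) = y :=
  Classical.choose_spec (exists_smul_orbRep (H := H) y)

noncomputable def piFun (τ : Equiv.Perm (Orb H X)) (y : X) : X :=
  (orbElt y : H) • orbRep (τ (Quotient.mk'' y))

def stabPres : Subgroup (Equiv.Perm (Orb H X)) where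
  carrier := {τ | ∀ ω, MulAction.stabilizer H (orbRep (τ ω)) = MulAction.stabilizer H (orbRep ω)}
  one_mem' := fun _ => rfl
  mul_mem' := by
    intro a b ha hb ω
    show MulAction.stabilizer H (orbRep (a (b ω))) = _
    rw [ha, hb]
  inv_mem' := by
    intro a ha ω
    have := ha (a⁻¹ ω)
    have e : a (a⁻¹ ω) = ω := Equiv.apply_symm_apply a ω
    rw [e] at this
    exact this.symm

theorem mem_stabPres (τ : Equiv.Perm (Orb H X)) :
    τ ∈ stabPres (H := H) (X := X) ↔
      ∀ ω, MulAction.stabilizer H (orbRep (τ ω)) = MulAction.stabilizer H (orbRep ω) := Iff.rfl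

theorem piFun_smul_orbRep (τ : Equiv.Perm (Orb H X)) (hτ : τ ∈ stabPres (H := H) (X := X))
    (h : H) (ω : Orb H X) : piFun τ (h • orbRep ω) = h • orbRep (τ ω) := by
  unfold piFun
  have e : (Quotient.mk'' (h • orbRep ω) : Orb H X) = ω := mk_smul_orbRep h ω
  have hs := orbElt_spec (H := H) (h • orbRep ω)
  rw [e] at hs ⊢
  have h1 : (h⁻¹ * orbElt (h • orbRep ω)) ∈ MulAction.stabilizer H (orbRep ω) := by
    rw [MulAction.mem_stabilizer_iff, mul_smul, hs, inv_smul_smul]
  rw [← hτ ω, MulAction.mem_stabilizer_iff, mul_smul] at h1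
  calc (orbElt (h • orbRep ω) : H) • orbRep (τ ω)
      = h • (h⁻¹ • ((orbElt (h • orbRep ω) : H) • orbRep (τ ω))) := by rw [smul_inv_smul]
    _ = h • orbRep (τ ω) := by rw [h1]

theorem exists_eq_smul_orbRep (y : X) : ∃ (h : H) (ω : Orb H X), y = h • orbRep ω :=
  ⟨orbElt y, Quotient.mk'' y, (orbElt_spec y).symm⟩

theorem piFun_mul (τ τ' : Equiv.Perm (Orb H X)) (hτ : τ ∈ stabPres (H := H) (X := X))
    (hτ' : τ' ∈ stabPres (H := H) (X := X)) (y : X) :
    piFun (τ * τ') y = piFun τ (piFun τ' y) := by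
  obtain ⟨h, ω, rfl⟩ := exists_eq_smul_orbRep (H := H) y
  rw [piFun_smul_orbRep _ (stabPres.mul_mem hτ hτ'), piFun_smul_orbRep _ hτ',
    piFun_smul_orbRep _ hτ]
  rfl

theorem piFun_one (y : X) : piFun (1 : Equiv.Perm (Orb H X)) y = y := by
  obtain ⟨h, ω, rfl⟩ := exists_eq_smul_orbRep (H := H) y
  rw [piFun_smul_orbRep _ (stabPres.one_mem)]
  rfl

theorem piFun_smul (τ : Equiv.Perm (Orb H X)) (hτ : τ ∈ stabPres (H := H) (X := X)) (g : H) (y : X) :
    piFun τ (g • y) = g • piFun τ y := by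
  obtain ⟨h, ω, rfl⟩ := exists_eq_smul_orbRep (H := H) y
  rw [← mul_smul, piFun_smul_orbRep _ hτ, piFun_smul_orbRep _ hτ, mul_smul]

noncomputable def piPerm (τ : stabPres (H := H) (X := X)) : Equiv.Perm X where
  toFun := piFun τ.1
  invFun := piFun (τ⁻¹).1
  left_inv y := by
    rw [← piFun_mul _ _ (τ⁻¹).2 τ.2]
    have : ((τ⁻¹ : stabPres (H := H) (X := X)) : Equiv.Perm (Orb H X)) * τ.1 = 1 := by
      rw [← Subgroup.coe_mul, inv_mul_cancel, Subgroup.coe_one]
    rw [this, piFun_one]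
  right_inv y := by
    rw [← piFun_mul _ _ τ.2 (τ⁻¹).2]
    have : τ.1 * ((τ⁻¹ : stabPres (H := H) (X := X)) : Equiv.Perm (Orb H X)) = 1 := by
      rw [← Subgroup.coe_mul, mul_inv_cancel, Subgroup.coe_one]
    rw [this, piFun_one]

noncomputable def piHom : stabPres (H := H) (X := X) →* Equiv.Perm X where
  toFun := piPerm
  map_one' := by
    ext y
    exact piFun_one y
  map_mul' a b := by
    ext y
    exact piFun_mul a.1 b.1 a.2 b.2 y

theorem piHom_apply (τ : stabPres (H := H) (X := X)) (y : X) : piHom τ y = piFun τ.1 y := rfl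

theorem piHom_smul (τ : stabPres (H := H) (X := X)) (g : H) (y : X) :
    piHom τ (g • y) = g • piHom τ y := piFun_smul τ.1 τ.2 g y

theorem piHom_injective : Function.Injective (piHom (H := H) (X := X)) := by
  rw [injective_iff_map_eq_one]
  intro τ hτ
  apply Subtype.ext
  ext ω
  have h1 : piHom τ (orbRep ω) = orbRep ω := by rw [hτ]; rfl
  have h2 : piFun τ.1 ((1 : H) • orbRep ω) = (1 : H) • orbRep (τ.1 ω) :=
    piFun_smul_orbRep τ.1 τ.2 1 ω
  rw [one_smul, one_smul] at h2
  rw [piHom_apply, h2] at h1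
  have h3 := congrArg (fun x => (Quotient.mk'' x : Orb H X)) h1
  simp only [mk_orbRep] at h3
  exact h3

theorem card_le_card_orb_mul [Finite H] [Finite X] :
    Nat.card X ≤ Nat.card (Orb H X) * Nat.card H := by
  rw [← Nat.card_prod]
  apply Nat.card_le_card_of_injective (fun y : X => ((Quotient.mk'' y : Orb H X), (orbElt y : H)))
  intro y y' h
  have h1 : (Quotient.mk'' y : Orb H X) = Quotient.mk'' y' := congrArg Prod.fst h
  have h2 : (orbElt y : H) = orbElt y' := congrArg Prod.snd h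
  rw [← orbElt_spec (H := H) y, ← orbElt_spec (H := H) y', h1, h2]

end OrbitPerm

end Cfsg.Agent.Lib.helper15
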