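import Mathlib
import Cfsg.Agent.Lib.helper23.P4S.DefsC

set_option autoImplicit false

/-! Project P4C (designer helper23), row AFF3 `aff_finite` (helper15). -/

namespace Cfsg.Agent.Lib.helper23.P4S

open Matrix
open scoped Kronecker

/-- AFF3 [S] -/
theorem aff_finite {E : Type} [Field E] [Finite E] {ι : Type} [Fintype ι] [DecidableEq ι]
    (H : Subgroup (GL ι E)) : Finite (Aff H) := by
  haveI : Finite (Multiplicative (ι → E)) := inferInstanceAs (Finite (ι → E))
  haveI : Finite (Matrix ι ι E) := inferInstanceAs (Finite (ι → ι → E))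
  haveI : Finite (GL ι E) := Finite.of_injective (fun g : GL ι E => (g : Matrix ι ι E)) Units.val_injective
  haveI : Finite H := inferInstance
  exact Finite.of_equiv _ (SemidirectProduct.equivProd (N := Multiplicative (ι → E)) (G := H)
    (φ := Cfsg.Agent.Lib.Helper28.O9AFF.phi (hlin H))).symm

end Cfsg.Agent.Lib.helper23.P4S
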