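import Mathlib
import Cfsg.Agent.Lib.helper23.P4S.DefsC
import Cfsg.Agent.Lib.helper23.P4CSL5
import Cfsg.Agent.Lib.Helper25.P4COUT1
import Cfsg.Agent.Lib.Helper28.P4COUT2
import Cfsg.Agent.Lib.helper4.P4CFIXV

set_option autoImplicit false

/-! Project P4C (designer helper23), row OUT4 `outer_ss`: second copy by helper15 (`p4cout4_h15`). -/

namespace Cfsg.Agent.Lib.helper23.P4S

open Matrix
open scoped Kronecker

/-- the `q`-Frobenius of a field with `q²` elements is an involution -/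
theorem p4cout4_frq_invol {E : Type} [Field E] [Fintype E] (p : ℕ) [Fact p.Prime] [CharP E p] (n : ℕ)
    (hE : Fintype.card E = p ^ (2 * n)) (x : E) : frq E p n (frq E p n x) = x := by
  rw [frq_apply, frq_apply, ← pow_mul, ← pow_add, ← two_mul, ← hE, FiniteField.pow_card]

/-- OUT4, second copy -/
theorem p4cout4_h15 {E : Type} [Field E] [Fintype E] (p : ℕ) [Fact p.Prime] [CharP E p] (hp : p ≠ 2) (n : ℕ) (hn : 1 ≤ n)
    (hE : Fintype.card E = p ^ (2 * n)) (A : Matrix.SpecialLinearGroup (Fin 2) E)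
    (htr : (A * Matrix.SpecialLinearGroup.map (frq E p n) A).1.trace ^ 2 ≠ 4) :
    orderOf (rho2 (frq E p n) A * Tgl) = Nat.lcm (orderOf (A * Matrix.SpecialLinearGroup.map (frq E p n) A)) 2 ∧
      (orderOf (A * Matrix.SpecialLinearGroup.map (frq E p n) A) ∣ p ^ n - 1 ∨
        orderOf (A * Matrix.SpecialLinearGroup.map (frq E p n) A) ∣ p ^ n + 1) ∧
      gsum ((rho2 (frq E p n) A * Tgl : GL (Fin 2 × Fin 2) E) : Matrix (Fin 2 × Fin 2) (Fin 2 × Fin 2) E)
        (orderOf (rho2 (frq E p n) A * Tgl)) ≠ 0 := by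
  classical
  have hpp : p.Prime := Fact.out
  have hp3 : 3 ≤ p := by
    have := hpp.two_le
    omega
  have hpodd : Odd p := hpp.odd_of_ne_two hp
  have hqodd : Odd (p ^ n) := hpodd.pow
  have hpq : p ∣ p ^ n := dvd_pow_self p (by omega)
  have h2 : (2 : E) ≠ 0 := by
    intro h
    have h1 : ((2 : ℕ) : E) = 0 := by exact_mod_cast h
    rw [CharP.cast_eq_zero_iff E p] at h1
    have := Nat.le_of_dvd (by norm_num) h1
    omega
  have hφ := p4cout4_frq_invol p n hE
  obtain ⟨hyy, htrfix⟩ := outer_sq (frq E p n) hφ A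
  obtain ⟨r, hr0, -, hrB, -, hpow, -, hlast⟩ := rho2_ss p n hn hE _ htr
  have hr12 := hlast htrfix
  obtain ⟨t, ht⟩ := hqodd
  have hgcd : Nat.gcd 2 (p ^ n - 1) = 2 := by
    apply Nat.gcd_eq_left
    exact ⟨t, by omega⟩
  rw [hgcd] at hpow
  rw [hrB]
  generalize hy : rho2 (frq E p n) A * Tgl = y at *
  -- `y ^ (2 k) = 1 ↔ r ∣ 2 k`
  have hkey : ∀ k : ℕ, y ^ (2 * k) = 1 ↔ r ∣ 2 * k := by
    intro k
    rw [pow_mul, pow_two, hyy]
    exact hpow k
  have heven : Even (orderOf y) := by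
    rw [← hy]
    exact outer_even h2 (frq E p n) A
  have hord : orderOf y = Nat.lcm r 2 := by
    apply Nat.dvd_antisymm
    · apply orderOf_dvd_of_pow_eq_one
      obtain ⟨m, hm⟩ : 2 ∣ Nat.lcm r 2 := Nat.dvd_lcm_right r 2
      rw [hm, hkey m, ← hm]
      exact Nat.dvd_lcm_left r 2
    · apply Nat.lcm_dvd
      · obtain ⟨k0, hk0⟩ := heven
        have hk0' : orderOf y = 2 * k0 := by omega
        rw [hk0', ← hkey k0, ← hk0']
        exact pow_orderOf_eq_one y
      · exact heven.two_dvd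
  refine ⟨hord, hr12, ?_⟩
  -- the sum
  have hdvd : Nat.lcm r 2 ∣ p ^ n - 1 ∨ Nat.lcm r 2 ∣ p ^ n + 1 := by
    rcases hr12 with h | h
    · left
      exact Nat.lcm_dvd h ⟨t, by omega⟩
    · right
      exact Nat.lcm_dvd h ⟨t + 1, by omega⟩
  have hnp : ¬ p ∣ orderOf y := by
    rw [hord]
    intro hpd
    rcases hdvd with h | h
    · have h1 : p ∣ p ^ n - 1 := dvd_trans hpd h
      have h3 : p ∣ 1 := by
        have h4 := Nat.dvd_sub hpq h1
        rwa [Nat.sub_sub_self (by omega)] at h4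
      exact hpp.one_lt.ne' (Nat.dvd_one.1 h3)
    · have h1 : p ∣ p ^ n + 1 := dvd_trans hpd h
      have h3 : p ∣ 1 := (Nat.dvd_add_right hpq).1 h1
      exact hpp.one_lt.ne' (Nat.dvd_one.1 h3)
  have hcast : ((orderOf y : ℕ) : E) ≠ 0 := by
    intro h0
    rw [CharP.cast_eq_zero_iff E p] at h0
    exact hnp h0
  obtain ⟨v, hv, hfix⟩ := outer_fix h2 (frq E p n) A
  have hval : ((y : GL (Fin 2 × Fin 2) E) : Matrix (Fin 2 × Fin 2) (Fin 2 × Fin 2) E) =
      rho2M (frq E p n) A.1 * tauM := by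
    rw [← hy, Units.val_mul, rho2_coe, Tgl_coe]
  rw [hval]
  exact gsum_fix _ v hv hfix _ hcast

end Cfsg.Agent.Lib.helper23.P4S
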