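import Mathlib
import Cfsg.Agent.Lib.helper23.P4S.DefsC
import Cfsg.Agent.Lib.Helper21.P4COUT4
import Cfsg.Agent.Lib.helper15.P4COUT4h15

/-! Project P4C (designer helper23), row OUT4 `outer_ss`: the VERBATIM name is declared in `Cfsg.Agent.Lib.Helper21.P4COUT4`
(the row owner's file, landed in the same second as this one); this module only re-exports it.
helper15's own proof of the same statement is `p4cout4_h15` (`Cfsg.Agent.Lib.helper15.P4COUT4h15`). -/
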