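import Mathlib
import Cfsg.Agent.Lib.helper23.P4S.DefsC
import Cfsg.Agent.Lib.helper23.P4CSL1
import Cfsg.Agent.Lib.helper23.P4CSS1
import Cfsg.Agent.Lib.Helper24.P4CSL3
import Cfsg.Agent.Lib.Helper22.P4CSL7
import Cfsg.Agent.Lib.Helper29.P4CNORM

set_option autoImplicit false

/-! Project P4C (designer helper23), row OUT7 `exists_outer_plus`: second copy by helper15 (`p4cout7_h15`). -/

namespace Cfsg.Agent.Lib.helper23.P4S

open Matrix
open scoped Kronecker

/-- a semisimple `B ∈ SL₂(E)` whose trace is `c + c⁻¹` with `c ∈ Eˣ` has the order of `c` -/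
theorem p4cout7_order {E : Type} [Field E] (B : Matrix.SpecialLinearGroup (Fin 2) E)
    (htr : B.1.trace ^ 2 ≠ 4) (c : Eˣ) (hc : B.1.trace = (c : E) + ((c⁻¹ : Eˣ) : E)) :
    orderOf B = orderOf c := by
  classical
  obtain ⟨b, P, hb0, -, hbt, hP, hB⟩ := sl2_diag (K := AlgebraicClosure E) B.1 B.2 htr
  have hβ0 : algebraMap E (AlgebraicClosure E) (c : E) ≠ 0 := by
    rw [Ne, map_eq_zero]
    exact c.ne_zero
  have hsum : b + b⁻¹ = algebraMap E (AlgebraicClosure E) (c : E) +
      (algebraMap E (AlgebraicClosure E) (c : E))⁻¹ := by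
    rw [hbt, hc, map_add, Units.val_inv_eq_inv_val, map_inv₀]
  have hob : orderOf b = orderOf c := by
    have h1 : orderOf (algebraMap E (AlgebraicClosure E) (c : E)) = orderOf c := by
      have := orderOf_injective ((algebraMap E (AlgebraicClosure E)) : E →* AlgebraicClosure E)
        (algebraMap E (AlgebraicClosure E)).injective (c : E)
      rw [orderOf_units] at this
      exact this
    rcases p4csl3_key _ b hβ0 hb0 hsum with h | h
    · rw [h, h1]
    · have h2 : orderOf ((algebraMap E (AlgebraicClosure E) (c : E))⁻¹) =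
          orderOf (algebraMap E (AlgebraicClosure E) (c : E)) := by
        have hu : IsUnit (algebraMap E (AlgebraicClosure E) (c : E)) := isUnit_iff_ne_zero.mpr hβ0
        obtain ⟨u, hu'⟩ := hu
        rw [← hu', ← Units.val_inv_eq_inv_val, orderOf_units, orderOf_units, orderOf_inv]
      rw [h, h2, h1]
  rw [← hob, orderOf_eq_orderOf_iff]
  intro k
  have h1 : B ^ k = 1 ↔ B.1 ^ k = 1 := by
    constructor
    · intro h
      have := congrArg Subtype.val h
      simpa using this
    · intro h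
      apply Subtype.ext
      simpa using h
  rw [h1, ss_pow B.1 P hP ![b, b⁻¹] hB k]
  constructor
  · intro h
    simpa using h 0
  · intro h j
    fin_cases j
    · simpa using h
    · simp [h]

/-- OUT7, second copy -/
theorem p4cout7_h15 {E : Type} [Field E] [Fintype E] (p : ℕ) [Fact p.Prime] [CharP E p] (hp : p ≠ 2) (n : ℕ) (hn : 1 ≤ n)
    (hE : Fintype.card E = p ^ (2 * n)) :
    ∃ A : Matrix.SpecialLinearGroup (Fin 2) E,
      orderOf (A * Matrix.SpecialLinearGroup.map (frq E p n) A) = p ^ n + 1 ∧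
        (A * Matrix.SpecialLinearGroup.map (frq E p n) A).1.trace ^ 2 ≠ 4 := by
  classical
  have hpp : p.Prime := Fact.out
  have hq3 : 3 ≤ p ^ n := by
    have h3 : 3 ≤ p := by
      have := hpp.two_le
      omega
    calc 3 ≤ p := h3
      _ = p ^ 1 := (pow_one p).symm
      _ ≤ p ^ n := Nat.pow_le_pow_right hpp.pos hn
  have hEq : Fintype.card E = (p ^ n) ^ 2 := by rw [hE, ← pow_mul, mul_comm]
  -- `b` of order `q + 1`
  have hdvd : p ^ n + 1 ∣ Fintype.card E - 1 := by
    rw [hEq]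
    refine ⟨p ^ n - 1, ?_⟩
    have h1 : 1 ≤ p ^ n := by omega
    zify [h1, Nat.one_le_pow 2 (p ^ n) (by omega)]
    ring
  obtain ⟨b, hb⟩ := p4csl7_exists_unit (E := E) (p ^ n + 1) hdvd
  have hbq : (b : E) ^ (p ^ n) = ((b⁻¹ : Eˣ) : E) := by
    have h1 : b ^ (p ^ n + 1) = 1 := by rw [← hb]; exact pow_orderOf_eq_one b
    have h2 : b ^ (p ^ n) = b⁻¹ := by
      rw [pow_succ] at h1
      exact eq_inv_of_mul_eq_one_left h1
    rw [← Units.val_pow_eq_pow_val, h2]
  have hbq' : ((b⁻¹ : Eˣ) : E) ^ (p ^ n) = (b : E) := by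
    rw [Units.val_inv_eq_inv_val, inv_pow, hbq, Units.val_inv_eq_inv_val, inv_inv]
  -- `t + 2` is fixed by the `q`-Frobenius
  have hfix : ((b : E) + ((b⁻¹ : Eˣ) : E) + 2) ^ (p ^ n) = (b : E) + ((b⁻¹ : Eˣ) : E) + 2 := by
    rw [← frq_apply E p n, map_add, map_add, map_ofNat, frq_apply, frq_apply, hbq, hbq']
    ring
  obtain ⟨s, hs⟩ := norm_surj (E := E) (p ^ n) (by omega) hEq _ hfix
  -- the matrix
  let A : Matrix.SpecialLinearGroup (Fin 2) E := ⟨!![0, 1; -1, s], by simp [Matrix.det_fin_two]⟩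
  have htrace : (A * Matrix.SpecialLinearGroup.map (frq E p n) A).1.trace =
      (b : E) + ((b⁻¹ : Eˣ) : E) := by
    have h1 : (A * Matrix.SpecialLinearGroup.map (frq E p n) A).1 =
        !![0, 1; -1, s] * (!![0, 1; -1, s] : Matrix (Fin 2) (Fin 2) E).map (frq E p n) := rfl
    rw [h1, Matrix.trace_fin_two]
    simp only [Matrix.mul_apply, Fin.sum_univ_two, Matrix.map_apply, Matrix.of_apply, Matrix.cons_val',
      Matrix.cons_val_zero, Matrix.cons_val_one, Matrix.cons_val_fin_one, map_zero, map_one, map_neg]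
    rw [frq_apply]
    have h2 : s * s ^ p ^ n = s ^ (p ^ n + 1) := by rw [pow_succ, mul_comm]
    have h3 : (0 : E) * 0 + 1 * -1 + (-1 * 1 + s * s ^ p ^ n) = s * s ^ p ^ n - 2 := by ring
    rw [h3, h2, hs]
    ring
  have htr : (A * Matrix.SpecialLinearGroup.map (frq E p n) A).1.trace ^ 2 ≠ 4 := by
    rw [htrace]
    have := p4csl7_trace_ne b (by
      rw [hb]
      intro h
      have := Nat.le_of_dvd (by norm_num) h
      omega)
    rwa [p4csl7_trace_D] at this
  refine ⟨A, ?_, htr⟩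
  rw [p4cout7_order _ htr b htrace, hb]

end Cfsg.Agent.Lib.helper23.P4S
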