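import Mathlib
import Cfsg.Agent.Lib.helper23.P4S.DefsC
import Cfsg.Agent.Lib.helper15.P4COUT7h15

set_option autoImplicit false

/-! Project P4C (designer helper23), row OUT7 `exists_outer_plus` (verbatim; proof = `p4cout7_h15`, helper15). -/

namespace Cfsg.Agent.Lib.helper23.P4S

open Matrix
open scoped Kronecker

/-- OUT7 -/
theorem exists_outer_plus {E : Type} [Field E] [Fintype E] (p : ℕ) [Fact p.Prime] [CharP E p] (hp : p ≠ 2) (n : ℕ) (hn : 1 ≤ n)
    (hE : Fintype.card E = p ^ (2 * n)) :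
    ∃ A : Matrix.SpecialLinearGroup (Fin 2) E,
      orderOf (A * Matrix.SpecialLinearGroup.map (frq E p n) A) = p ^ n + 1 ∧
        (A * Matrix.SpecialLinearGroup.map (frq E p n) A).1.trace ^ 2 ≠ 4 :=
  p4cout7_h15 p hp n hn hE

end Cfsg.Agent.Lib.helper23.P4S
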