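import Mathlib
import Cfsg.Agent.Lib.helper23.P4S.DefsC

set_option autoImplicit false

/-! Project P4C (designer helper23), row P5L `p5_lower` (helper15): the assembly with the cited rows
(SL5 `rho2_ss`, SL6 `sl2_uni_order`, SL7 `exists_split`, SL8 `exists_nonsplit`, OUT4 `outer_ss`, OUT6, OUT7) as hypotheses. -/

namespace Cfsg.Agent.Lib.helper23.P4S

open Matrix
open scoped Kronecker

theorem p4cp5l_mem_rho {R : Type} [CommRing R] (φ : R →+* R) (A : Matrix.SpecialLinearGroup (Fin 2) R) :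
    rho2 φ A ∈ H2T φ :=
  (le_sup_left : H2 φ ≤ H2T φ) ⟨A, rfl⟩

theorem p4cp5l_mem_rhoT {R : Type} [CommRing R] (φ : R →+* R) (A : Matrix.SpecialLinearGroup (Fin 2) R) :
    rho2 φ A * Tgl ∈ H2T φ :=
  (H2T φ).mul_mem (p4cp5l_mem_rho φ A)
    ((le_sup_right : Subgroup.zpowers Tgl ≤ H2T φ) (Subgroup.mem_zpowers _))

/-- order of an element with `g ^ k = 1 ↔ 2 m ∣ 2 k` -/
theorem p4cp5l_order {G : Type*} [Group G] (g : G) (r m : ℕ) (hr : r = 2 * m)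
    (h : ∀ k : ℕ, g ^ k = 1 ↔ r ∣ 2 * k) : orderOf g = m := by
  have key : ∀ k : ℕ, g ^ k = 1 ↔ m ∣ k := by
    intro k
    rw [h k, hr]
    exact Nat.mul_dvd_mul_iff_left (by norm_num)
  apply Nat.dvd_antisymm
  · exact orderOf_dvd_of_pow_eq_one ((key m).mpr dvd_rfl)
  · exact (key _).mp (pow_orderOf_eq_one g)

/-- P5L, core -/
theorem p4cp5l_core {E : Type} [Field E] [Fintype E] (p : ℕ) [Fact p.Prime] [CharP E p] (hp : 5 ≤ p) (n : ℕ) (hn : 1 ≤ n)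
    (hSS : ∀ (A : Matrix.SpecialLinearGroup (Fin 2) E), A.1.trace ^ 2 ≠ 4 →
      ∃ r : ℕ, 0 < r ∧ ¬ r ∣ 2 ∧ orderOf A = r ∧ (r ∣ (p ^ n) ^ 2 - 1 ∨ r ∣ (p ^ n) ^ 2 + 1) ∧
      (∀ k : ℕ, (rho2 (frq E p n) A) ^ k = 1 ↔ r ∣ Nat.gcd 2 (p ^ n - 1) * k) ∧
      (gsum ((rho2 (frq E p n) A : GL (Fin 2 × Fin 2) E) : Matrix (Fin 2 × Fin 2) (Fin 2 × Fin 2) E)
          (orderOf (rho2 (frq E p n) A)) ≠ 0 ↔ (r ∣ p ^ n + 1 ∨ r ∣ p ^ n - 1)) ∧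
      (frq E p n A.1.trace = A.1.trace → (r ∣ p ^ n - 1 ∨ r ∣ p ^ n + 1)))
    (hU : ∀ (A : Matrix.SpecialLinearGroup (Fin 2) E), A.1.trace ^ 2 = 4 → orderOf A ∣ 2 * p)
    (hSplit : ∀ r : ℕ, r ∣ (p ^ n) ^ 2 - 1 → ¬ r ∣ 2 →
      ∃ a : Eˣ, orderOf a = r ∧ ∃ A : Matrix.SpecialLinearGroup (Fin 2) E,
        A.1 = Matrix.diagonal ![(a : E), ((a⁻¹ : Eˣ) : E)] ∧ orderOf A = r ∧ A.1.trace ^ 2 ≠ 4)
    (hNS : ∃ A : Matrix.SpecialLinearGroup (Fin 2) E, orderOf A = (p ^ n) ^ 2 + 1)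
    (hOut : ∀ (A : Matrix.SpecialLinearGroup (Fin 2) E),
      (A * Matrix.SpecialLinearGroup.map (frq E p n) A).1.trace ^ 2 ≠ 4 →
      orderOf (rho2 (frq E p n) A * Tgl) = Nat.lcm (orderOf (A * Matrix.SpecialLinearGroup.map (frq E p n) A)) 2 ∧
      (orderOf (A * Matrix.SpecialLinearGroup.map (frq E p n) A) ∣ p ^ n - 1 ∨
        orderOf (A * Matrix.SpecialLinearGroup.map (frq E p n) A) ∣ p ^ n + 1) ∧
      gsum ((rho2 (frq E p n) A * Tgl : GL (Fin 2 × Fin 2) E) : Matrix (Fin 2 × Fin 2) (Fin 2 × Fin 2) E)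
        (orderOf (rho2 (frq E p n) A * Tgl)) ≠ 0)
    (hOm : ∃ A : Matrix.SpecialLinearGroup (Fin 2) E,
      orderOf (A * Matrix.SpecialLinearGroup.map (frq E p n) A) = p ^ n - 1 ∧
        (A * Matrix.SpecialLinearGroup.map (frq E p n) A).1.trace ^ 2 ≠ 4)
    (hOp : ∃ A : Matrix.SpecialLinearGroup (Fin 2) E,
      orderOf (A * Matrix.SpecialLinearGroup.map (frq E p n) A) = p ^ n + 1 ∧
        (A * Matrix.SpecialLinearGroup.map (frq E p n) A).1.trace ^ 2 ≠ 4) :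
    (∃ g ∈ H2T (frq E p n), orderOf g = ((p ^ n) ^ 2 + 1) / 2) ∧ (∃ g ∈ H2T (frq E p n), orderOf g = ((p ^ n) ^ 2 - 1) / 2) ∧
      (∃ g ∈ H2T (frq E p n), orderOf g = p ^ n + 1 ∧
        gsum ((g : GL (Fin 2 × Fin 2) E) : Matrix (Fin 2 × Fin 2) (Fin 2 × Fin 2) E) (orderOf g) ≠ 0) ∧
      (∃ g ∈ H2T (frq E p n), orderOf g = p ^ n - 1 ∧
        gsum ((g : GL (Fin 2 × Fin 2) E) : Matrix (Fin 2 × Fin 2) (Fin 2 × Fin 2) E) (orderOf g) ≠ 0) := by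
  have hpp : p.Prime := Fact.out
  have hpodd : Odd p := hpp.odd_of_ne_two (by omega)
  have hqodd : Odd (p ^ n) := hpodd.pow
  have hq5 : 5 ≤ p ^ n := by
    calc 5 ≤ p := hp
      _ = p ^ 1 := (pow_one p).symm
      _ ≤ p ^ n := Nat.pow_le_pow_right (by omega) hn
  have hpq : p ≤ p ^ n := by
    calc p = p ^ 1 := (pow_one p).symm
      _ ≤ p ^ n := Nat.pow_le_pow_right (by omega) hn
  generalize hq : p ^ n = q at *
  obtain ⟨t, ht⟩ := hqodd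
  have hgcd : Nat.gcd 2 (q - 1) = 2 := by
    apply Nat.gcd_eq_left
    exact ⟨t, by omega⟩
  have hsq : q ^ 2 = 4 * t ^ 2 + 4 * t + 1 := by rw [ht]; ring
  have ht2 : 2 ≤ t := by omega
  have htt : t ≤ t ^ 2 := by nlinarith
  refine ⟨?_, ?_, ?_, ?_⟩
  · -- `(q² + 1) / 2`
    obtain ⟨A, hA⟩ := hNS
    have htr : A.1.trace ^ 2 ≠ 4 := by
      intro h
      have := hU A h
      rw [hA] at this
      have := Nat.le_of_dvd (by omega) this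
      nlinarith
    obtain ⟨r, -, -, hr, -, hpow, -, -⟩ := hSS A htr
    rw [hgcd] at hpow
    refine ⟨rho2 (frq E p n) A, p4cp5l_mem_rho _ A, ?_⟩
    have hm : q ^ 2 + 1 = 2 * ((q ^ 2 + 1) / 2) := by omega
    exact p4cp5l_order _ r _ (by rw [← hr, hA]; exact hm) hpow
  · -- `(q² - 1) / 2`
    obtain ⟨a, -, A, -, hA, htr⟩ := hSplit (q ^ 2 - 1) dvd_rfl (by
      intro h
      have := Nat.le_of_dvd (by norm_num) h
      omega)
    obtain ⟨r, -, -, hr, -, hpow, -, -⟩ := hSS A htr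
    rw [hgcd] at hpow
    refine ⟨rho2 (frq E p n) A, p4cp5l_mem_rho _ A, ?_⟩
    have hm : q ^ 2 - 1 = 2 * ((q ^ 2 - 1) / 2) := by omega
    exact p4cp5l_order _ r _ (by rw [← hr, hA]; exact hm) hpow
  · -- `q + 1`
    obtain ⟨A, hA, htr⟩ := hOp
    obtain ⟨h1, -, h3⟩ := hOut A htr
    refine ⟨rho2 (frq E p n) A * Tgl, p4cp5l_mem_rhoT _ A, ?_, h3⟩
    rw [h1, hA]
    exact Nat.lcm_eq_left ⟨t + 1, by omega⟩
  · -- `q - 1`
    obtain ⟨A, hA, htr⟩ := hOm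
    obtain ⟨h1, -, h3⟩ := hOut A htr
    refine ⟨rho2 (frq E p n) A * Tgl, p4cp5l_mem_rhoT _ A, ?_, h3⟩
    rw [h1, hA]
    exact Nat.lcm_eq_left ⟨t, by omega⟩

end Cfsg.Agent.Lib.helper23.P4S
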