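import Mathlib
import Cfsg.Agent.Lib.helper23.P4S.DefsC
import Cfsg.Agent.Lib.helper15.P4CP5Lcore
import Cfsg.Agent.Lib.helper23.P4CSL5
import Cfsg.Agent.Lib.Helper24.P4CSL6
import Cfsg.Agent.Lib.Helper22.P4CSL7
import Cfsg.Agent.Lib.Helper20.P4CSL8
import Cfsg.Agent.Lib.Helper21.P4COUT4
import Cfsg.Agent.Lib.Helper22.P4COUT6
import Cfsg.Agent.Lib.helper15.P4COUT7

set_option autoImplicit false

/-! Project P4C (designer helper23), row P5L `p5_lower` (helper15): wrapper of `p4cp5l_core`. -/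

namespace Cfsg.Agent.Lib.helper23.P4S

open Matrix
open scoped Kronecker

/-- P5L [M-L] ASSEMBLY -/
theorem p5_lower {E : Type} [Field E] [Fintype E] (p : ℕ) [Fact p.Prime] [CharP E p] (hp : 5 ≤ p) (n : ℕ) (hn : 1 ≤ n)
    (hE : Fintype.card E = p ^ (2 * n)) :
    (∃ g ∈ H2T (frq E p n), orderOf g = ((p ^ n) ^ 2 + 1) / 2) ∧ (∃ g ∈ H2T (frq E p n), orderOf g = ((p ^ n) ^ 2 - 1) / 2) ∧
      (∃ g ∈ H2T (frq E p n), orderOf g = p ^ n + 1 ∧
        gsum ((g : GL (Fin 2 × Fin 2) E) : Matrix (Fin 2 × Fin 2) (Fin 2 × Fin 2) E) (orderOf g) ≠ 0) ∧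
      (∃ g ∈ H2T (frq E p n), orderOf g = p ^ n - 1 ∧
        gsum ((g : GL (Fin 2 × Fin 2) E) : Matrix (Fin 2 × Fin 2) (Fin 2 × Fin 2) E) (orderOf g) ≠ 0) :=
  p4cp5l_core p hp n hn
    (fun A htr => rho2_ss p n hn hE A htr)
    (fun A htr => sl2_uni_order p A htr)
    (fun r hr h2 => exists_split p n hn hE r hr h2)
    (exists_nonsplit p n hn hE)
    (fun A htr => outer_ss p (by omega) n hn hE A htr)
    (exists_outer_minus p hp n hn hE)
    (exists_outer_plus p (by omega) n hn hE)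

end Cfsg.Agent.Lib.helper23.P4S
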