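import Mathlib
import Cfsg.Prelude.Def_Classical
import Cfsg.Agent.Lib.helper23.P4V.Defs

set_option autoImplicit false

/-!
# Project P4V (S2460, designer helper23), row GRP (seven generic group lemmas), verbatim.
-/

namespace Cfsg.Agent.Lib.helper23.P4V

open Matrix

universe u

section Group

variable {G : Type u} [Group G]

/-- **GRP** (all seven; trivial). -/
theorem Cj.refl (x : G) : Cj x x := ⟨1, by simp⟩

theorem Cj.symm {x y : G} (h : Cj x y) : Cj y x := by
  obtain ⟨u, rfl⟩ := h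
  exact ⟨u⁻¹, by group⟩

theorem Cj.trans {x y z : G} (h : Cj x y) (h' : Cj y z) : Cj x z := by
  obtain ⟨u, rfl⟩ := h
  obtain ⟨v, rfl⟩ := h'
  exact ⟨v * u, by group⟩

theorem Cj.conj {x y : G} (h : Cj x y) (c : G) : Cj x (c * y * c⁻¹) := by
  obtain ⟨u, rfl⟩ := h
  exact ⟨c * u, by group⟩

theorem Cov.of_mul {x y z : G} (hy : Cj x y) (hz : Cj x z) : Cov x (y * z) := by
  obtain ⟨u, rfl⟩ := hy
  obtain ⟨v, rfl⟩ := hz
  exact ⟨u, v, rfl⟩

theorem Cov.conj {x g : G} (h : Cov x g) (c : G) : Cov x (c * g * c⁻¹) := by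
  obtain ⟨u, v, rfl⟩ := h
  exact ⟨c * u, c * v, by group⟩

theorem Cov.map {H : Type*} [Group H] (f : G →* H) {x g : G} (h : Cov x g) : Cov (f x) (f g) := by
  obtain ⟨u, v, rfl⟩ := h
  exact ⟨f u, f v, by simp⟩

end Group

end Cfsg.Agent.Lib.helper23.P4V
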