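import Mathlib
import Cfsg.Prelude.Def_Classical
import Cfsg.Agent.Lib.helper23.P4V.Defs
import Cfsg.Agent.Lib.Helper20.P4VOM1
import Cfsg.Agent.Lib.Helper20.P4VOM2
import Cfsg.Agent.Lib.Helper26.P4VFR5

set_option autoImplicit false

/-!
# Project P4V (S2460, designer helper23), row II3 (`caseII_frame`): second copy under an own name.
-/

namespace Cfsg.Agent.Lib.helper23.P4V

open Matrix

universe u

section Field

variable {F : Type u} [Field F]

/-- a `+1`-eigenvector and a `-1`-eigenvector of a symplectic matrix are orthogonal (`2 ≠ 0`). -/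
theorem p4vii3_h15_cross (h2 : (2 : F) ≠ 0) (g : M4 F) (hg : g ∈ Matrix.symplecticGroup (Fin 2) F)
    (p m : V F) (hp : g *ᵥ p = p) (hm : g *ᵥ m = -m) : om p m = 0 := by
  have h := om_mulVec g hg p m
  rw [hp, hm, om_neg_right] at h
  have h' : (2 : F) * om p m = 0 := by linear_combination -h
  rcases mul_eq_zero.mp h' with h0 | h0
  · exact absurd h0 h2
  · exact h0

/-- **II3** (second copy, helper15). -/
theorem p4vii3_h15_caseII_frame (h2 : (2 : F) ≠ 0) (ν : F) (g : M4 F)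
    (hg : g ∈ Matrix.symplecticGroup (Fin 2) F)
    (p₁ p₂ m₁ m₂ : V F) (hp₁ : g *ᵥ p₁ = p₁) (hp₂ : g *ᵥ p₂ = p₂) (hm₁ : g *ᵥ m₁ = -m₁)
    (hm₂ : g *ᵥ m₂ = -m₂) (hp : om p₁ p₂ = 1) (hm : om m₁ m₂ = 1) :
    ∃ e₁ e₂ f₁ f₂ : V F, IsFrame e₁ e₂ f₁ f₂ ∧ amat g e₁ e₂ f₁ f₂ = !![0, -2; ν ^ 2 / 2, 0] := by
  -- basic values of the form
  have c11 : om p₁ m₁ = 0 := p4vii3_h15_cross h2 g hg p₁ m₁ hp₁ hm₁
  have c12 : om p₁ m₂ = 0 := p4vii3_h15_cross h2 g hg p₁ m₂ hp₁ hm₂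
  have c21 : om p₂ m₁ = 0 := p4vii3_h15_cross h2 g hg p₂ m₁ hp₂ hm₁
  have c22 : om p₂ m₂ = 0 := p4vii3_h15_cross h2 g hg p₂ m₂ hp₂ hm₂
  have d11 : om m₁ p₁ = 0 := by rw [om_swap, c11, neg_zero]
  have d12 : om m₁ p₂ = 0 := by rw [om_swap, c21, neg_zero]
  have d21 : om m₂ p₁ = 0 := by rw [om_swap, c12, neg_zero]
  have d22 : om m₂ p₂ = 0 := by rw [om_swap, c22, neg_zero]
  have hp' : om p₂ p₁ = -1 := by rw [om_swap, hp]
  have hm' : om m₂ m₁ = -1 := by rw [om_swap, hm]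
  have s1 : om p₁ p₁ = 0 := om_self p₁
  have s2 : om p₂ p₂ = 0 := om_self p₂
  have s3 : om m₁ m₁ = 0 := om_self m₁
  have s4 : om m₂ m₂ = 0 := om_self m₂
  -- the base frame
  have hbase : IsFrame (p₁ + m₁) (p₂ - m₂) p₂ m₁ := by
    unfold IsFrame
    simp only [om_add_left, om_add_right, om_sub_left, om_sub_right, hp, hm, hp', hm', c11, c12,
      c21, c22, d11, d12, d21, d22, s1, s2, s3, s4]
    refine ⟨by ring, trivial, by ring, by ring, by ring, by ring⟩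
  have hfr := hbase.shear 1 (-(2 : F)⁻¹) (ν ^ 2 / 4)
  refine ⟨p₁ + m₁, p₂ - m₂, _, _, hfr, ?_⟩
  have he1 : g *ᵥ (p₁ + m₁) = p₁ - m₁ := by
    rw [Matrix.mulVec_add, hp₁, hm₁, sub_eq_add_neg]
  have he2 : g *ᵥ (p₂ - m₂) = p₂ + m₂ := by
    rw [Matrix.mulVec_sub, hp₂, hm₂, sub_neg_eq_add]
  have h4 : (4 : F) ≠ 0 := by
    have : (4 : F) = 2 * 2 := by norm_num
    rw [this]; exact mul_ne_zero h2 h2
  unfold amat
  rw [he1, he2]
  have e11 : om (p₁ - m₁) (p₂ + (1 : F) • (p₁ + m₁) + (-(2 : F)⁻¹) • (p₂ - m₂)) = 0 := by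
    simp only [om_add_left, om_add_right, om_sub_left, om_sub_right, om_smul_right, hp, hm, hp',
      hm', c11, c12, c21, c22, d11, d12, d21, d22, s1, s2, s3, s4]
    field_simp
    ring
  have e12 : om (p₂ + m₂) (p₂ + (1 : F) • (p₁ + m₁) + (-(2 : F)⁻¹) • (p₂ - m₂)) = -2 := by
    simp only [om_add_left, om_add_right, om_sub_left, om_sub_right, om_smul_right, hp, hm, hp',
      hm', c11, c12, c21, c22, d11, d12, d21, d22, s1, s2, s3, s4]
    ring
  have e21 : om (p₁ - m₁) (m₁ + (-(2 : F)⁻¹) • (p₁ + m₁) + (ν ^ 2 / 4) • (p₂ - m₂)) = ν ^ 2 / 2 := by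
    simp only [om_add_left, om_add_right, om_sub_left, om_sub_right, om_smul_right, hp, hm, hp',
      hm', c11, c12, c21, c22, d11, d12, d21, d22, s1, s2, s3, s4]
    field_simp
    ring
  have e22 : om (p₂ + m₂) (m₁ + (-(2 : F)⁻¹) • (p₁ + m₁) + (ν ^ 2 / 4) • (p₂ - m₂)) = 0 := by
    simp only [om_add_left, om_add_right, om_sub_left, om_sub_right, om_smul_right, hp, hm, hp',
      hm', c11, c12, c21, c22, d11, d12, d21, d22, s1, s2, s3, s4]
    field_simp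
    ring
  rw [e11, e12, e21, e22]

end Field

end Cfsg.Agent.Lib.helper23.P4V
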