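import Mathlib
import Cfsg.Prelude.Def_Classical
import Cfsg.Agent.Lib.helper23.P4V.Defs
import Cfsg.Agent.Lib.helper15.P4VII3h15

set_option autoImplicit false

/-!
# Project P4V (S2460, designer helper23), row II3 (`caseII_frame`): the verbatim Skel name,
a one-line wrapper over `p4vii3_h15_caseII_frame`.
-/

namespace Cfsg.Agent.Lib.helper23.P4V

open Matrix

universe u

section Field

variable {F : Type u} [Field F]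

/-- **II3**.  `om pᵢ mⱼ = 0`; base frame `(p₁+m₁, p₂-m₂, p₂, m₁)`, sheared. -/
theorem caseII_frame (h2 : (2 : F) ≠ 0) (ν : F) (g : M4 F) (hg : g ∈ Matrix.symplecticGroup (Fin 2) F)
    (p₁ p₂ m₁ m₂ : V F) (hp₁ : g *ᵥ p₁ = p₁) (hp₂ : g *ᵥ p₂ = p₂) (hm₁ : g *ᵥ m₁ = -m₁)
    (hm₂ : g *ᵥ m₂ = -m₂) (hp : om p₁ p₂ = 1) (hm : om m₁ m₂ = 1) :
    ∃ e₁ e₂ f₁ f₂ : V F, IsFrame e₁ e₂ f₁ f₂ ∧ amat g e₁ e₂ f₁ f₂ = !![0, -2; ν ^ 2 / 2, 0] :=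
  p4vii3_h15_caseII_frame h2 ν g hg p₁ p₂ m₁ m₂ hp₁ hp₂ hm₁ hm₂ hp hm

end Field

end Cfsg.Agent.Lib.helper23.P4V
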