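import Mathlib
import Cfsg.Prelude.Def_Classical
import Cfsg.Agent.Lib.helper23.P4V.Defs

set_option autoImplicit false

/-!
# Project P4V (S2460, designer helper23), row P2 (`exists_good`): second copy under an own name.
-/

namespace Cfsg.Agent.Lib.helper23.P4V

open Matrix

universe u

section Field

variable {F : Type u} [Field F]

/-- **P2** (second copy, helper15).  `t ↦ t - t²` is not injective (`0, 1 ↦ 0`), hence not surjective: some
`ν₀` is missed.  If `ν₀ ≠ 1` take `τ = 1`, `ν = ν₀`.  If `ν₀ = 1` then `|F| ≠ 3` (`t = -1` gives `1` in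
characteristic 3), so some `τ ∉ {0, 1, -1}`, and `ν = τ²` works (`s = t / τ` would give `s - s² = 1`). -/
theorem p4vp2_h15_exists_good [Fintype F] (h3 : 3 ≤ Fintype.card F) : ∃ τ ν : F, Good τ ν := by
  classical
  -- a missed value of `t ↦ t - t²`
  have hni : ¬ Function.Injective (fun t : F => t - t ^ 2) := by
    intro hinj
    have h01 : (0 : F) = 1 := hinj (by simp)
    exact zero_ne_one h01
  have hns : ¬ Function.Surjective (fun t : F => t - t ^ 2) := fun hs =>
    hni (Finite.injective_iff_surjective.mpr hs)
  obtain ⟨ν₀, hν₀⟩ : ∃ ν₀ : F, ∀ t : F, t - t ^ 2 ≠ ν₀ := by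
    by_contra hcon
    push_neg at hcon
    exact hns hcon
  by_cases h1 : ν₀ = 1
  · subst h1
    -- `|F| ≠ 3`
    have h4 : 4 ≤ Fintype.card F := by
      by_contra hlt
      have hc : Fintype.card F = 3 := by omega
      have h30 : (3 : F) = 0 := by
        have := Nat.cast_card_eq_zero F
        rw [hc] at this
        exact_mod_cast this
      apply hν₀ (-1)
      linear_combination -h30
    have hlt : ({0, 1, -1} : Finset F).card < (Finset.univ : Finset F).card := by
      rw [Finset.card_univ]
      exact lt_of_le_of_lt Finset.card_le_three h4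
    obtain ⟨τ, -, hτ⟩ := Finset.exists_mem_notMem_of_card_lt_card hlt
    simp only [Finset.mem_insert, Finset.mem_singleton, not_or] at hτ
    obtain ⟨hτ0, hτ1, hτm1⟩ := hτ
    refine ⟨τ, τ ^ 2, hτ0, ?_, ?_⟩
    · intro hsq
      have : (τ - 1) * (τ + 1) = 0 := by linear_combination hsq
      rcases mul_eq_zero.mp this with h | h
      · exact hτ1 (by linear_combination h)
      · exact hτm1 (by linear_combination h)
    · intro t ht
      apply hν₀ (t / τ)
      field_simp
      linear_combination -ht
  · refine ⟨1, ν₀, one_ne_zero, h1, ?_⟩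
    intro t ht
    apply hν₀ t
    linear_combination -ht

end Field

end Cfsg.Agent.Lib.helper23.P4V
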