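import Mathlib
import Cfsg.Prelude.Def_Classical
import Cfsg.Agent.Lib.helper23.P4V.Defs
import Cfsg.Agent.Lib.helper15.P4VP2h15

set_option autoImplicit false

/-!
# Project P4V (S2460, designer helper23), row P2 (`exists_good`), verbatim (wrapper of
`p4vp2_h15_exists_good`).
-/

namespace Cfsg.Agent.Lib.helper23.P4V

open Matrix

universe u

section Field

variable {F : Type u} [Field F]

/-- **P2** [H].  E.g. `τ = 1`: `t ↦ t - t²` identifies `t` with `1 - t`, so it misses at least `(q-1)/2`
values `ν`; one of them is `≠ 1` (`q ≥ 5`: two values missed; `q = 4`: two values missed; `q = 3`: the image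
is `{0, 1}`, `ν = 2`).  Or: `q` odd, `d` a non-square with `d ≠ -3`, `τ = 1`, `ν = (1-d)/4`; `q` even,
`τ = 1`, `ν ∉ {t² + t}`, `ν ≠ 1`. -/
theorem exists_good [Fintype F] (h3 : 3 ≤ Fintype.card F) : ∃ τ ν : F, Good τ ν :=
  p4vp2_h15_exists_good h3

end Field

end Cfsg.Agent.Lib.helper23.P4V
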