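import Cfsg.Agent.Lib.helper15.SpAdj
import Cfsg.Agent.Lib.helper15.SpCons

set_option autoImplicit false

namespace Cfsg.Agent.Lib.helper15.PSpMix

open Module Polynomial Matrix
open Cfsg.Agent.Lib.helper15.PslMix Cfsg.Agent.Lib.helper15.SpAdj Cfsg.Agent.Lib.helper15.SpCons

theorem invol_of_idem {F : Type*} [Field F] (h2 : (2 : F) ≠ 0) {n : ℕ}
    (ε : Matrix (Fin n ⊕ Fin n) (Fin n ⊕ Fin n) F) (hε : ε * ε = ε) (h0 : ε ≠ 0) (h1 : ε ≠ 1)
    (hadj : adj ε = ε) :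
    ∃ z : Matrix.symplecticGroup (Fin n) F, z * z = 1 ∧
      (z : Matrix (Fin n ⊕ Fin n) (Fin n ⊕ Fin n) F) ≠ 1 ∧
      (z : Matrix (Fin n ⊕ Fin n) (Fin n ⊕ Fin n) F) ≠ -1 ∧
      ∀ h : Matrix (Fin n ⊕ Fin n) (Fin n ⊕ Fin n) F, Commute h ε →
        Commute h (z : Matrix (Fin n ⊕ Fin n) (Fin n ⊕ Fin n) F) := by
  obtain ⟨Z, hZ⟩ : ∃ Z : Matrix (Fin n ⊕ Fin n) (Fin n ⊕ Fin n) F, Z = 1 - (2 : F) • ε := ⟨_, rfl⟩
  have hZZ : Z * Z = 1 := by
    rw [hZ, sub_mul, mul_sub, mul_sub, one_mul, mul_one, one_mul, smul_mul_smul_comm, hε]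
    have : (2 : F) * 2 = 2 + 2 := by ring
    rw [this, add_smul]
    abel
  have hadjZ : adj Z = Z := by
    rw [hZ, adj_sub, adj_one, adj_smul, hadj]
  have hmem : Z ∈ Matrix.symplecticGroup (Fin n) F := by
    apply mem_symp_of_adj
    rw [hadjZ, hZZ]
  refine ⟨⟨Z, hmem⟩, ?_, ?_, ?_, ?_⟩
  · apply Subtype.ext
    exact hZZ
  · show Z ≠ 1
    intro h
    rw [hZ, sub_eq_self] at h
    rcases smul_eq_zero.1 h with h3 | h3
    · exact h2 h3
    · exact h0 h3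
  · show Z ≠ -1
    intro h
    rw [hZ] at h
    have h3 : (2 : F) • ε = (2 : F) • (1 : Matrix (Fin n ⊕ Fin n) (Fin n ⊕ Fin n) F) := by
      have h4 : (2 : F) • ε = 1 - (1 - (2 : F) • ε) := by abel
      rw [h4, h, two_smul]
      abel
    have h5 : (2 : F) • (ε - 1) = 0 := by rw [smul_sub, h3, sub_self]
    rcases smul_eq_zero.1 h5 with h6 | h6
    · exact h2 h6
    · exact h1 (sub_eq_zero.1 h6)
  · intro h hc
    show Commute h Z
    rw [hZ]
    exact (Commute.one_right h).sub_right (hc.smul_right _)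

theorem exists_lift_odd {F : Type*} [Field F] (n : ℕ) (hn : 1 ≤ n) (a : Cfsg.PSp n F)
    (hodd : Odd (orderOf a)) :
    ∃ g : Matrix.symplecticGroup (Fin n) F, (QuotientGroup.mk g : Cfsg.PSp n F) = a ∧
      orderOf g = orderOf a := by
  obtain ⟨g0, rfl⟩ := QuotientGroup.mk_surjective a
  obtain ⟨k, hk⟩ : ∃ k, k = orderOf (QuotientGroup.mk g0 : Cfsg.PSp n F) := ⟨_, rfl⟩
  rw [← hk] at hodd ⊢
  have h1 : (QuotientGroup.mk g0 : Cfsg.PSp n F) ^ k = 1 := by rw [hk]; exact pow_orderOf_eq_one _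
  have hkey : ∀ g : Matrix.symplecticGroup (Fin n) F,
      (QuotientGroup.mk g : Cfsg.PSp n F) = QuotientGroup.mk g0 → g ^ k = 1 → orderOf g = k := by
    intro g hg hgk
    apply Nat.dvd_antisymm (orderOf_dvd_of_pow_eq_one hgk)
    rw [hk, ← hg]
    apply orderOf_dvd_of_pow_eq_one
    rw [← QuotientGroup.mk_pow, pow_orderOf_eq_one]
    rfl
  rw [← QuotientGroup.mk_pow, QuotientGroup.eq_one_iff] at h1
  rcases Cfsg.Agent.S0246.center_cases hn _ h1 with h | h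
  · exact ⟨g0, rfl, hkey g0 rfl h⟩
  · refine ⟨Cfsg.Agent.S0246.negOne F n * g0, ?_, ?_⟩
    · rw [QuotientGroup.mk_mul]
      have : (QuotientGroup.mk (Cfsg.Agent.S0246.negOne F n) : Cfsg.PSp n F) = 1 := by
        rw [QuotientGroup.eq_one_iff]
        exact Cfsg.Agent.S0246.negOne_mem_center
      rw [this, one_mul]
    · apply hkey
      · rw [QuotientGroup.mk_mul]
        have : (QuotientGroup.mk (Cfsg.Agent.S0246.negOne F n) : Cfsg.PSp n F) = 1 := by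
          rw [QuotientGroup.eq_one_iff]
          exact Cfsg.Agent.S0246.negOne_mem_center
        rw [this, one_mul]
      · have hc : Commute (Cfsg.Agent.S0246.negOne F n) g0 :=
          (Subgroup.mem_center_iff.1 Cfsg.Agent.S0246.negOne_mem_center g0).symm
        rw [hc.mul_pow, h]
        rw [← pow_succ]
        apply Subtype.ext
        rw [SubmonoidClass.coe_pow]
        show (Cfsg.Agent.S0246.negOne F n : Matrix (Fin n ⊕ Fin n) (Fin n ⊕ Fin n) F) ^ (k + 1) = 1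
        rw [Cfsg.Agent.S0246.negOne_coe, Even.neg_pow (Odd.add_one hodd), one_pow]

theorem torus_dvd (q d m M : ℕ) (hq : 1 ≤ q) (h : M ∣ q ^ d + 1 ∨ M ∣ q ^ d - 1) :
    M ∣ q ^ (d * m) + 1 ∨ M ∣ q ^ (d * m) - 1 := by
  rcases h with h | h
  · rcases Nat.even_or_odd m with hm | hm
    · right
      obtain ⟨t, ht⟩ := hm
      have h1 : q ^ d + 1 ∣ q ^ (2 * d) - 1 := by
        have h2 : q ^ (2 * d) - 1 = (q ^ d + 1) * (q ^ d - 1) := by
          rw [mul_comm 2 d, pow_mul]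
          have := Nat.sq_sub_sq (q ^ d) 1
          rw [one_pow] at this
          exact this
        rw [h2]
        exact Dvd.intro _ rfl
      have h3 : q ^ (2 * d) - 1 ∣ q ^ (d * m) - 1 := by
        apply Nat.pow_sub_one_dvd_pow_sub_one
        exact ⟨t, by rw [ht]; ring⟩
      exact dvd_trans h (dvd_trans h1 h3)
    · left
      have h1 := Odd.nat_add_dvd_pow_add_pow (q ^ d) 1 hm
      rw [one_pow, ← pow_mul] at h1
      exact dvd_trans h h1
  · right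
    exact dvd_trans h (Nat.pow_sub_one_dvd_pow_sub_one q (Dvd.intro m rfl))

theorem orderOf_mk_invol {F : Type*} [Field F] (n : ℕ) (hn : 1 ≤ n)
    (z : Matrix.symplecticGroup (Fin n) F) (hzz : z * z = 1)
    (hz1 : (z : Matrix (Fin n ⊕ Fin n) (Fin n ⊕ Fin n) F) ≠ 1)
    (hz2 : (z : Matrix (Fin n ⊕ Fin n) (Fin n ⊕ Fin n) F) ≠ -1) :
    orderOf (QuotientGroup.mk z : Cfsg.PSp n F) = 2 := by
  apply orderOf_eq_prime
  · rw [← QuotientGroup.mk_pow, pow_two, hzz]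
    rfl
  · intro h
    have h1 : (QuotientGroup.mk z : Cfsg.PSp n F) ^ 1 = 1 := by rw [pow_one, h]
    rw [mk_pow_eq_one_iff n hn, pow_one] at h1
    rcases h1 with h1 | h1
    · exact hz1 h1
    · exact hz2 h1

theorem sp_split {F : Type*} [Field F] [Fintype F] (p : ℕ) [Fact p.Prime] [CharP F p] (hp2 : p ≠ 2)
    (n : ℕ) (hn : 2 ≤ n) (a : Cfsg.PSp n F) (hodd : Odd (orderOf a)) :
    (∃ y : Cfsg.PSp n F, orderOf y = 2 * orderOf a) ∨
    (∃ v : ℕ, orderOf a = p ^ v) ∨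
    (Nat.Coprime (orderOf a) p ∧
      (orderOf a ∣ Fintype.card F ^ n + 1 ∨ orderOf a ∣ Fintype.card F ^ n - 1)) := by
  classical
  have hp : p.Prime := Fact.out
  have h2 : (2 : F) ≠ 0 := two_ne_zero_of_char p hp2
  have hne : Nonempty (Fin n ⊕ Fin n) := ⟨Sum.inl ⟨0, by omega⟩⟩
  obtain ⟨g, hga, hgo⟩ := exists_lift_odd n (by omega) a hodd
  obtain ⟨k, hk⟩ : ∃ k, k = orderOf a := ⟨_, rfl⟩
  rw [← hk] at hodd hgo ⊢
  have hk0 : k ≠ 0 := by
    rw [← hgo]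
    exact (orderOf_pos g).ne'
  obtain ⟨v, M, hM, hkM⟩ := Nat.exists_eq_pow_mul_and_not_dvd hk0 p hp.ne_one
  have hM0 : 0 < M := by
    rcases Nat.eq_zero_or_pos M with h | h
    · rw [h, mul_zero] at hkM
      exact absurd hkM hk0
    · exact h
  have hModd : Odd M := by
    rw [hkM] at hodd
    exact (Nat.odd_mul.1 hodd).2
  have hcopMp : Nat.Coprime M p := Nat.Coprime.symm ((Nat.Prime.coprime_iff_not_dvd hp).2 hM)
  by_cases hM1 : M = 1
  · right
    left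
    exact ⟨v, by rw [hkM, hM1, mul_one]⟩
  obtain ⟨s, hs⟩ : ∃ s, s = g ^ (p ^ v) := ⟨_, rfl⟩
  obtain ⟨u, hu⟩ : ∃ u, u = g ^ M := ⟨_, rfl⟩
  have hso : orderOf s = M := by
    rw [hs, orderOf_pow_of_dvd (pow_pos hp.pos v).ne' ⟨M, by rw [hgo, hkM]⟩, hgo, hkM,
      Nat.mul_div_cancel_left _ (pow_pos hp.pos v)]
  have huo : orderOf u = p ^ v := by
    rw [hu, orderOf_pow_of_dvd hM0.ne' ⟨p ^ v, by rw [hgo, hkM]; ring⟩, hgo, hkM,
      Nat.mul_div_cancel _ hM0]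
  obtain ⟨S, hS⟩ : ∃ S : Matrix (Fin n ⊕ Fin n) (Fin n ⊕ Fin n) F, S = (s : Matrix _ _ F) := ⟨_, rfl⟩
  obtain ⟨U, hU⟩ : ∃ U : Matrix (Fin n ⊕ Fin n) (Fin n ⊕ Fin n) F, U = (u : Matrix _ _ F) := ⟨_, rfl⟩
  have hScoe : ∀ t : ℕ, ((s ^ t : Matrix.symplecticGroup (Fin n) F) : Matrix _ _ F) = S ^ t := by
    intro t
    rw [hS]
    rfl
  have hUcoe : ∀ t : ℕ, ((u ^ t : Matrix.symplecticGroup (Fin n) F) : Matrix _ _ F) = U ^ t := by
    intro t
    rw [hU]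
    rfl
  have hSmem : S ∈ Matrix.symplecticGroup (Fin n) F := by rw [hS]; exact s.2
  have hSM : S ^ M = 1 := by
    rw [← hScoe, ← hso, pow_orderOf_eq_one]
    rfl
  have hMF : ((M : ℕ) : F) ≠ 0 := by
    rw [Ne, CharP.cast_eq_zero_iff F p]
    exact hM
  have hS2 : S * S ≠ 1 := by
    intro h
    have h1 : s ^ 2 = 1 := by
      apply Subtype.ext
      rw [hScoe, pow_two, h]
      rfl
    have h3 : M ∣ 2 := by
      rw [← hso]
      exact orderOf_dvd_of_pow_eq_one h1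
    have h4 : M ≤ 2 := Nat.le_of_dvd (by norm_num) h3
    have h5 : M = 2 := by omega
    rw [h5] at hModd
    exact absurd hModd (by decide)
  rcases sp_dichotomy n (by omega) S hSmem M hMF hSM hS2 with
    ⟨ε, hε, hε0, hε1, hεadj, hεc⟩ | ⟨d, m, hd, hnm, hpow, hnil⟩
  · left
    obtain ⟨z, hzz, hz1, hz2, hzc⟩ := invol_of_idem h2 ε hε hε0 hε1 hεadj
    have hgS : Commute (g : Matrix (Fin n ⊕ Fin n) (Fin n ⊕ Fin n) F) S := by
      rw [hS, hs]
      show Commute (g : Matrix (Fin n ⊕ Fin n) (Fin n ⊕ Fin n) F)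
        ((g : Matrix (Fin n ⊕ Fin n) (Fin n ⊕ Fin n) F) ^ (p ^ v))
      exact (Commute.refl _).pow_right _
    have hgz : Commute g z := by
      apply Subtype.ext
      exact (hzc _ (hεc _ hgS)).eq
    refine ⟨a * QuotientGroup.mk z, ?_⟩
    have hc : Commute a (QuotientGroup.mk z : Cfsg.PSp n F) := by
      rw [← hga]
      show (QuotientGroup.mk g : Cfsg.PSp n F) * QuotientGroup.mk z = QuotientGroup.mk z * QuotientGroup.mk g
      rw [← QuotientGroup.mk_mul, ← QuotientGroup.mk_mul, hgz.eq]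
    have ho2 := orderOf_mk_invol n (by omega) z hzz hz1 hz2
    rw [hc.orderOf_mul_eq_mul_orderOf_of_coprime, ho2, ← hk, mul_comm]
    rw [ho2, ← hk]
    exact Nat.Coprime.symm (Nat.coprime_two_left.2 hodd)
  · have hMdvd : M ∣ Fintype.card F ^ d + 1 ∨ M ∣ Fintype.card F ^ d - 1 := by
      rcases hpow with h | h
      · left
        rw [← hso]
        apply orderOf_dvd_of_pow_eq_one
        apply Subtype.ext
        rw [hScoe, h]
        rfl
      · right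
        rw [← hso]
        apply orderOf_dvd_of_pow_eq_one
        apply Subtype.ext
        rw [hScoe, h]
        rfl
    rcases Nat.eq_zero_or_pos v with hv0 | hv0
    · right
      right
      have hkM' : k = M := by rw [hkM, hv0, pow_zero, one_mul]
      rw [hkM']
      refine ⟨hcopMp, ?_⟩
      rw [hnm]
      exact torus_dvd _ d m M Fintype.card_pos hMdvd
    · left
      have hU1 : U ^ (p ^ v) = 1 := by
        rw [← hUcoe, ← huo, pow_orderOf_eq_one]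
        rfl
      have hUnil : IsNilpotent (U - 1) := by
        refine ⟨p ^ v, ?_⟩
        rw [sub_pow_char_pow_of_commute _ _ (Commute.one_right _), hU1, one_pow, sub_self]
      have hUS : Commute (U - 1) S := by
        apply Commute.sub_left
        · rw [hU, hS, hu, hs]
          show Commute ((g : Matrix (Fin n ⊕ Fin n) (Fin n ⊕ Fin n) F) ^ M)
            ((g : Matrix (Fin n ⊕ Fin n) (Fin n ⊕ Fin n) F) ^ (p ^ v))
          exact ((Commute.refl _).pow_left _).pow_right _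
        · exact Commute.one_left S
      have hUm : (U - 1) ^ m = 0 := hnil _ hUnil hUS
      obtain ⟨v', hv'⟩ : ∃ v', v = v' + 1 := ⟨v - 1, by omega⟩
      have hlt : p ^ v' < m := by
        by_contra hle
        have hle' : m ≤ p ^ v' := Nat.le_of_not_lt hle
        have h5 : (U - 1) ^ (p ^ v') = 0 := by
          rw [← Nat.sub_add_cancel hle', pow_add, hUm, mul_zero]
        rw [sub_pow_char_pow_of_commute _ _ (Commute.one_right _), one_pow, sub_eq_zero] at h5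
        have h6 : u ^ (p ^ v') = 1 := by
          apply Subtype.ext
          rw [hUcoe, h5]
          rfl
        have h7 := orderOf_dvd_of_pow_eq_one h6
        rw [huo, hv'] at h7
        have h8 := Nat.le_of_dvd (pow_pos hp.pos v') h7
        have h9 : p ^ v' < p ^ (v' + 1) := Nat.pow_lt_pow_right hp.one_lt (by omega)
        omega
      have hpv1 : 1 ≤ p ^ v' := Nat.one_le_pow _ _ hp.pos
      obtain ⟨m', hm'⟩ : ∃ m', m = m' + 2 := ⟨m - 2, by omega⟩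
      have hn' : n = d + d * (m' + 1) := by
        rw [hnm, hm']
        ring
      subst hn'
      have he1 : 1 ≤ d * (m' + 1) := Nat.mul_pos hd (by omega)
      have hvb : v = 0 ∨ p ^ (v - 1) < 2 * (d * (m' + 1)) := by
        right
        have e1 : v - 1 = v' := by omega
        rw [e1]
        have h10 : m' + 1 ≤ d * (m' + 1) := Nat.le_mul_of_pos_left _ hd
        omega
      obtain ⟨y, hy⟩ := exists_mix p hp2 d (d * (m' + 1)) M v hd he1 hMdvd hModd hvb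
      refine ⟨y, ?_⟩
      rw [hy, hkM]
      ring

theorem exists_plus_odd {F : Type*} [Field F] [Fintype F] (n : ℕ) (hn : 1 ≤ n) (A : ℕ) (hodd : Odd A)
    (hA : A ∣ Fintype.card F ^ n + 1) : ∃ y : Cfsg.PSp n F, orderOf y = A := by
  obtain ⟨x, hx⟩ := Cfsg.Agent.S2469.exists_cyc_sp_even (F := F) n n A (by omega) le_rfl hA
  exact Cfsg.Agent.S2469.to_psp n hn x A hx hodd

theorem exists_minus_odd {F : Type*} [Field F] [Fintype F] (n : ℕ) (hn : 1 ≤ n) (B : ℕ) (hodd : Odd B)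
    (hB : B ∣ Fintype.card F ^ n - 1) : ∃ y : Cfsg.PSp n F, orderOf y = B := by
  obtain ⟨x, hx⟩ := Cfsg.Agent.S2469.exists_cyc_sp_odd (F := F) n n B (by omega) le_rfl hB
  exact Cfsg.Agent.S2469.to_psp n hn x B hx hodd

theorem four_mul_dvd {A X : ℕ} (hodd : Odd A) (hA : A ∣ X) (h4 : 4 ∣ X) : 4 * A ∣ X := by
  have hc : Nat.Coprime 4 A := by
    have : Nat.Coprime 2 A := Nat.coprime_two_left.2 hodd
    exact Nat.Coprime.pow_left 2 this
  exact hc.mul_dvd_of_dvd_of_dvd h4 hA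

theorem exists_plus_even {F : Type*} [Field F] [Fintype F] (n : ℕ) (hn : 1 ≤ n) (A : ℕ) (hodd : Odd A)
    (hA : A ∣ Fintype.card F ^ n + 1) (h4 : 4 ∣ Fintype.card F ^ n + 1) :
    ∃ y : Cfsg.PSp n F, orderOf y = 2 * A :=
  exists_torus_plus n A hn hodd.pos (four_mul_dvd hodd hA h4)

theorem exists_minus_even {F : Type*} [Field F] [Fintype F] (n : ℕ) (hn : 1 ≤ n) (B : ℕ) (hodd : Odd B)
    (hB : B ∣ Fintype.card F ^ n - 1) (h4 : 4 ∣ Fintype.card F ^ n - 1) :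
    ∃ y : Cfsg.PSp n F, orderOf y = 2 * B :=
  exists_torus_minus n B hn hodd.pos (four_mul_dvd hodd hB h4)

theorem four_dvd_cases (X : ℕ) (hX : Odd X) : 4 ∣ X + 1 ∨ 4 ∣ X - 1 := by
  obtain ⟨t, ht⟩ := hX
  rcases Nat.even_or_odd t with ⟨s, hs⟩ | ⟨s, hs⟩
  · right
    exact ⟨s, by omega⟩
  · left
    exact ⟨s + 1, by omega⟩

theorem card_odd_of_char {F : Type*} [Field F] [Fintype F] (p : ℕ) [Fact p.Prime] [CharP F p] (hp2 : p ≠ 2) :
    Odd (Fintype.card F) := by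
  have hp : p.Prime := Fact.out
  obtain ⟨a, ha⟩ := FiniteField.card F p
  rw [ha.2]
  exact Odd.pow (hp.odd_of_ne_two hp2)

theorem exists_two_ppow {F : Type*} [Field F] [Fintype F] (p : ℕ) [Fact p.Prime] [CharP F p] (hp2 : p ≠ 2)
    (n : ℕ) (hn : 2 ≤ n) (c : ℕ) (hc : c = 0 ∨ p ^ (c - 1) < 2 * (n - 1)) :
    ∃ y : Cfsg.PSp n F, orderOf y = 2 * p ^ c := by
  obtain ⟨e, he⟩ : ∃ e, n = 1 + e := ⟨n - 1, by omega⟩
  subst he
  have h1 : (1 : ℕ) ∣ Fintype.card F ^ 1 + 1 ∨ (1 : ℕ) ∣ Fintype.card F ^ 1 - 1 := Or.inl (one_dvd _)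
  have e1 : 1 + e - 1 = e := by omega
  rw [e1] at hc
  obtain ⟨y, hy⟩ := exists_mix p hp2 1 e 1 c le_rfl (by omega) h1 odd_one hc
  exact ⟨y, by rw [hy, mul_one]⟩

theorem coprime_of_dvd_succ_pred {A B X : ℕ} (hX : 1 ≤ X) (hA : A ∣ X + 1) (hB : B ∣ X - 1) (hAodd : Odd A) :
    Nat.Coprime A B := by
  have h1 : Nat.gcd A B ∣ X + 1 := dvd_trans (Nat.gcd_dvd_left A B) hA
  have h2 : Nat.gcd A B ∣ X - 1 := dvd_trans (Nat.gcd_dvd_right A B) hB
  have h3 : Nat.gcd A B ∣ 2 := by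
    have h4 : X + 1 = (X - 1) + 2 := by omega
    rw [h4] at h1
    exact (Nat.dvd_add_right h2).1 h1
  have h5 : Nat.gcd A B = 1 ∨ Nat.gcd A B = 2 := (Nat.dvd_prime Nat.prime_two).1 h3
  rcases h5 with h5 | h5
  · exact h5
  · exfalso
    have h6 : 2 ∣ A := by
      rw [← h5]
      exact Nat.gcd_dvd_left A B
    obtain ⟨t, ht⟩ := hAodd
    omega

theorem sp_rep {F : Type*} [Field F] [Fintype F] (p : ℕ) [Fact p.Prime] [CharP F p] (hp2 : p ≠ 2)
    (n : ℕ) (hn : 2 ≤ n) (a : Cfsg.PSp n F) (hodd : Odd (orderOf a)) :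
    (∃ y : Cfsg.PSp n F, orderOf y = 2 * orderOf a) ∨
    (∃ v A B : ℕ, orderOf a = p ^ v * (A * B) ∧ Odd A ∧ Odd B ∧
      A ∣ Fintype.card F ^ n + 1 ∧ B ∣ Fintype.card F ^ n - 1 ∧ Nat.Coprime A p ∧ Nat.Coprime B p ∧
      (∃ w : Cfsg.PSp n F, orderOf w = p ^ v) ∧ (v = 0 ∨ (A = 1 ∧ B = 1))) := by
  rcases sp_split p hp2 n hn a hodd with h | ⟨v, hv⟩ | ⟨hcop, h | h⟩
  · exact Or.inl h
  · right
    exact ⟨v, 1, 1, by rw [hv, mul_one, mul_one], odd_one, odd_one, one_dvd _, one_dvd _,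
      Nat.coprime_one_left p, Nat.coprime_one_left p, ⟨a, hv⟩, Or.inr ⟨rfl, rfl⟩⟩
  · right
    exact ⟨0, orderOf a, 1, by rw [pow_zero, one_mul, mul_one], hodd, odd_one, h, one_dvd _,
      hcop, Nat.coprime_one_left p, ⟨1, by rw [orderOf_one, pow_zero]⟩, Or.inl rfl⟩
  · right
    exact ⟨0, 1, orderOf a, by rw [pow_zero, one_mul, one_mul], odd_one, hodd, one_dvd _, h,
      Nat.coprime_one_left p, hcop, ⟨1, by rw [orderOf_one, pow_zero]⟩, Or.inl rfl⟩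

theorem odd_lcm {a b : ℕ} (ha : Odd a) (hb : Odd b) : Odd (Nat.lcm a b) :=
  Odd.of_dvd_nat (ha.mul hb) (Nat.lcm_dvd_mul a b)

theorem claim3 {F : Type*} [Field F] [Fintype F] (p : ℕ) [Fact p.Prime] [CharP F p] (hp2 : p ≠ 2)
    (n : ℕ) (hn : 2 ≤ n) (a1 a2 a3 : Cfsg.PSp n F) :
    ∃ y1 y2 y3 : Cfsg.PSp n F,
      Nat.lcm (orderOf y1) (Nat.lcm (orderOf y2) (orderOf y3)) =
        Nat.lcm (orderOf a1) (Nat.lcm (orderOf a2) (Nat.lcm (orderOf a3) 2)) := by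
  have hp : p.Prime := Fact.out
  by_cases hA : 2 ∣ Nat.lcm (orderOf a1) (Nat.lcm (orderOf a2) (orderOf a3))
  · refine ⟨a1, a2, a3, ?_⟩
    apply PslMix.eq_of_forall_dvd
    intro t
    simp only [Nat.lcm_dvd_iff]
    constructor
    · rintro ⟨h1, h2, h3⟩
      refine ⟨h1, h2, h3, ?_⟩
      exact dvd_trans hA (Nat.lcm_dvd h1 (Nat.lcm_dvd h2 h3))
    · rintro ⟨h1, h2, h3, -⟩
      exact ⟨h1, h2, h3⟩
  · have hr1 : ¬ 2 ∣ orderOf a1 := fun h => hA (dvd_trans h (Nat.dvd_lcm_left _ _))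
    have hr2 : ¬ 2 ∣ orderOf a2 := fun h =>
      hA (dvd_trans h (dvd_trans (Nat.dvd_lcm_left _ _) (Nat.dvd_lcm_right _ _)))
    have hr3 : ¬ 2 ∣ orderOf a3 := fun h =>
      hA (dvd_trans h (dvd_trans (Nat.dvd_lcm_right _ _) (Nat.dvd_lcm_right _ _)))
    have ho1 : Odd (orderOf a1) := Nat.odd_iff.2 (Nat.two_dvd_ne_zero.1 hr1)
    have ho2 : Odd (orderOf a2) := Nat.odd_iff.2 (Nat.two_dvd_ne_zero.1 hr2)
    have ho3 : Odd (orderOf a3) := Nat.odd_iff.2 (Nat.two_dvd_ne_zero.1 hr3)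
    have hc1 : Nat.Coprime 2 (orderOf a1) := Nat.coprime_two_left.2 ho1
    have hc2 : Nat.Coprime 2 (orderOf a2) := Nat.coprime_two_left.2 ho2
    have hc3 : Nat.Coprime 2 (orderOf a3) := Nat.coprime_two_left.2 ho3
    rcases sp_rep p hp2 n hn a1 ho1 with ⟨y, hy⟩ |
      ⟨v1, A1, B1, e1, hA1o, hB1o, hA1, hB1, hA1p, hB1p, ⟨w1, hw1⟩, -⟩
    · refine ⟨y, a2, a3, ?_⟩
      rw [hy]
      apply PslMix.eq_of_forall_dvd
      intro t
      simp only [Nat.lcm_dvd_iff, cop_mul_dvd_iff hc1]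
      tauto
    rcases sp_rep p hp2 n hn a2 ho2 with ⟨y, hy⟩ |
      ⟨v2, A2, B2, e2, hA2o, hB2o, hA2, hB2, hA2p, hB2p, ⟨w2, hw2⟩, -⟩
    · refine ⟨a1, y, a3, ?_⟩
      rw [hy]
      apply PslMix.eq_of_forall_dvd
      intro t
      simp only [Nat.lcm_dvd_iff, cop_mul_dvd_iff hc2]
      tauto
    rcases sp_rep p hp2 n hn a3 ho3 with ⟨y, hy⟩ |
      ⟨v3, A3, B3, e3, hA3o, hB3o, hA3, hB3, hA3p, hB3p, ⟨w3, hw3⟩, -⟩
    · refine ⟨a1, a2, y, ?_⟩
      rw [hy]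
      apply PslMix.eq_of_forall_dvd
      intro t
      simp only [Nat.lcm_dvd_iff, cop_mul_dvd_iff hc3]
      tauto
    obtain ⟨c23, hc23, hc23'⟩ := lcm_ppow (p := p) (a := v2) (b := v3)
    obtain ⟨c, hc, hc'⟩ := lcm_ppow (p := p) (a := v1) (b := c23)
    have hy3 : ∃ y3 : Cfsg.PSp n F, orderOf y3 = p ^ c := by
      rcases hc' with h | h
      · exact ⟨w1, by rw [hw1, h]⟩
      · rcases hc23' with h' | h'
        · exact ⟨w2, by rw [hw2, h, h']⟩
        · exact ⟨w3, by rw [hw3, h, h']⟩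
    obtain ⟨y3, hy3⟩ := hy3
    have hq1 : 1 ≤ Fintype.card F ^ n := Nat.one_le_pow _ _ Fintype.card_pos
    have hqodd : Odd (Fintype.card F ^ n) := Odd.pow (card_odd_of_char p hp2)
    have hLpo : Odd (Nat.lcm A1 (Nat.lcm A2 A3)) := odd_lcm hA1o (odd_lcm hA2o hA3o)
    have hLmo : Odd (Nat.lcm B1 (Nat.lcm B2 B3)) := odd_lcm hB1o (odd_lcm hB2o hB3o)
    have hLpd : Nat.lcm A1 (Nat.lcm A2 A3) ∣ Fintype.card F ^ n + 1 := Nat.lcm_dvd hA1 (Nat.lcm_dvd hA2 hA3)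
    have hLmd : Nat.lcm B1 (Nat.lcm B2 B3) ∣ Fintype.card F ^ n - 1 := Nat.lcm_dvd hB1 (Nat.lcm_dvd hB2 hB3)
    have k1 : Nat.Coprime (p ^ v1) (A1 * B1) :=
      Nat.Coprime.pow_left v1 (Nat.Coprime.symm (Nat.Coprime.mul_left hA1p hB1p))
    have k2 : Nat.Coprime (p ^ v2) (A2 * B2) :=
      Nat.Coprime.pow_left v2 (Nat.Coprime.symm (Nat.Coprime.mul_left hA2p hB2p))
    have k3 : Nat.Coprime (p ^ v3) (A3 * B3) :=
      Nat.Coprime.pow_left v3 (Nat.Coprime.symm (Nat.Coprime.mul_left hA3p hB3p))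
    have l1 : Nat.Coprime A1 B1 := coprime_of_dvd_succ_pred hq1 hA1 hB1 hA1o
    have l2 : Nat.Coprime A2 B2 := coprime_of_dvd_succ_pred hq1 hA2 hB2 hA2o
    have l3 : Nat.Coprime A3 B3 := coprime_of_dvd_succ_pred hq1 hA3 hB3 hA3o
    have t1 : Nat.Coprime 2 (Nat.lcm A1 (Nat.lcm A2 A3)) := Nat.coprime_two_left.2 hLpo
    have t2 : Nat.Coprime 2 (Nat.lcm B1 (Nat.lcm B2 B3)) := Nat.coprime_two_left.2 hLmo
    rcases four_dvd_cases _ hqodd with h4 | h4
    · obtain ⟨y1, hy1⟩ := exists_plus_even (F := F) n (by omega) _ hLpo hLpd h4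
      obtain ⟨y2, hy2⟩ := exists_minus_odd (F := F) n (by omega) _ hLmo hLmd
      refine ⟨y1, y2, y3, ?_⟩
      rw [hy1, hy2, hy3, e1, e2, e3, ← hc, ← hc23]
      apply PslMix.eq_of_forall_dvd
      intro t
      simp only [Nat.lcm_dvd_iff, cop_mul_dvd_iff k1, cop_mul_dvd_iff k2, cop_mul_dvd_iff k3,
        cop_mul_dvd_iff l1, cop_mul_dvd_iff l2, cop_mul_dvd_iff l3, cop_mul_dvd_iff t1]
      tauto
    · obtain ⟨y1, hy1⟩ := exists_plus_odd (F := F) n (by omega) _ hLpo hLpd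
      obtain ⟨y2, hy2⟩ := exists_minus_even (F := F) n (by omega) _ hLmo hLmd h4
      refine ⟨y1, y2, y3, ?_⟩
      rw [hy1, hy2, hy3, e1, e2, e3, ← hc, ← hc23]
      apply PslMix.eq_of_forall_dvd
      intro t
      simp only [Nat.lcm_dvd_iff, cop_mul_dvd_iff k1, cop_mul_dvd_iff k2, cop_mul_dvd_iff k3,
        cop_mul_dvd_iff l1, cop_mul_dvd_iff l2, cop_mul_dvd_iff l3, cop_mul_dvd_iff t2]
      tauto

theorem ppow_bound {F : Type*} [Field F] [Fintype F] (p : ℕ) [Fact p.Prime] [CharP F p] (hp2 : p ≠ 2)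
    (n : ℕ) (hn : 2 ≤ n) (hnp : ¬ ∃ j : ℕ, 2 * n - 1 = p ^ j) (c : ℕ) (w : Cfsg.PSp n F)
    (hw : orderOf w = p ^ c) : c = 0 ∨ p ^ (c - 1) < 2 * (n - 1) := by
  have hp : p.Prime := Fact.out
  rcases Nat.eq_zero_or_pos c with h0 | h0
  · exact Or.inl h0
  · right
    obtain ⟨c0, rfl⟩ : ∃ c0, c = c0 + 1 := ⟨c - 1, by omega⟩
    have h1 := sp_ppow_lt p n (by omega) c0 w hw
    have e1 : c0 + 1 - 1 = c0 := by omega
    rw [e1]
    have hne : p ^ c0 ≠ 2 * n - 1 := fun h => hnp ⟨c0, h.symm⟩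
    have hodd : Odd (p ^ c0) := Odd.pow (hp.odd_of_ne_two hp2)
    obtain ⟨t, ht⟩ := hodd
    omega

theorem claim2 {F : Type*} [Field F] [Fintype F] (p : ℕ) [Fact p.Prime] [CharP F p] (hp2 : p ≠ 2)
    (n : ℕ) (hn : 2 ≤ n) (hnp : ¬ ∃ j : ℕ, 2 * n - 1 = p ^ j) (a1 a2 : Cfsg.PSp n F) :
    ∃ y1 y2 : Cfsg.PSp n F,
      Nat.lcm (orderOf y1) (orderOf y2) = Nat.lcm (orderOf a1) (Nat.lcm (orderOf a2) 2) := by
  have hp : p.Prime := Fact.out
  by_cases hA : 2 ∣ Nat.lcm (orderOf a1) (orderOf a2)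
  · refine ⟨a1, a2, ?_⟩
    apply PslMix.eq_of_forall_dvd
    intro t
    simp only [Nat.lcm_dvd_iff]
    constructor
    · rintro ⟨h1, h2⟩
      exact ⟨h1, h2, dvd_trans hA (Nat.lcm_dvd h1 h2)⟩
    · rintro ⟨h1, h2, -⟩
      exact ⟨h1, h2⟩
  · have hr1 : ¬ 2 ∣ orderOf a1 := fun h => hA (dvd_trans h (Nat.dvd_lcm_left _ _))
    have hr2 : ¬ 2 ∣ orderOf a2 := fun h => hA (dvd_trans h (Nat.dvd_lcm_right _ _))
    have ho1 : Odd (orderOf a1) := Nat.odd_iff.2 (Nat.two_dvd_ne_zero.1 hr1)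
    have ho2 : Odd (orderOf a2) := Nat.odd_iff.2 (Nat.two_dvd_ne_zero.1 hr2)
    have hc1 : Nat.Coprime 2 (orderOf a1) := Nat.coprime_two_left.2 ho1
    have hc2 : Nat.Coprime 2 (orderOf a2) := Nat.coprime_two_left.2 ho2
    have h2p : ∀ v : ℕ, Nat.Coprime 2 (p ^ v) := by
      intro v
      apply Nat.Coprime.pow_right
      rw [Nat.coprime_primes Nat.prime_two hp]
      exact fun h => hp2 h.symm
    rcases sp_rep p hp2 n hn a1 ho1 with ⟨y, hy⟩ |
      ⟨v1, A1, B1, e1, hA1o, hB1o, hA1, hB1, hA1p, hB1p, ⟨w1, hw1⟩, hpure1⟩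
    · refine ⟨y, a2, ?_⟩
      rw [hy]
      apply PslMix.eq_of_forall_dvd
      intro t
      simp only [Nat.lcm_dvd_iff, cop_mul_dvd_iff hc1]
      tauto
    rcases sp_rep p hp2 n hn a2 ho2 with ⟨y, hy⟩ |
      ⟨v2, A2, B2, e2, hA2o, hB2o, hA2, hB2, hA2p, hB2p, ⟨w2, hw2⟩, hpure2⟩
    · refine ⟨a1, y, ?_⟩
      rw [hy]
      apply PslMix.eq_of_forall_dvd
      intro t
      simp only [Nat.lcm_dvd_iff, cop_mul_dvd_iff hc2]
      tauto
    have hq1 : 1 ≤ Fintype.card F ^ n := Nat.one_le_pow _ _ Fintype.card_pos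
    have hqodd : Odd (Fintype.card F ^ n) := Odd.pow (card_odd_of_char p hp2)
    rcases hpure1 with hv1 | ⟨hA11, hB11⟩
    · rcases hpure2 with hv2 | ⟨hA21, hB21⟩
      · rw [hv1, pow_zero, one_mul] at e1
        rw [hv2, pow_zero, one_mul] at e2
        have hLpo : Odd (Nat.lcm A1 A2) := odd_lcm hA1o hA2o
        have hLmo : Odd (Nat.lcm B1 B2) := odd_lcm hB1o hB2o
        have hLpd : Nat.lcm A1 A2 ∣ Fintype.card F ^ n + 1 := Nat.lcm_dvd hA1 hA2
        have hLmd : Nat.lcm B1 B2 ∣ Fintype.card F ^ n - 1 := Nat.lcm_dvd hB1 hB2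
        have l1 : Nat.Coprime A1 B1 := coprime_of_dvd_succ_pred hq1 hA1 hB1 hA1o
        have l2 : Nat.Coprime A2 B2 := coprime_of_dvd_succ_pred hq1 hA2 hB2 hA2o
        have t1 : Nat.Coprime 2 (Nat.lcm A1 A2) := Nat.coprime_two_left.2 hLpo
        have t2 : Nat.Coprime 2 (Nat.lcm B1 B2) := Nat.coprime_two_left.2 hLmo
        rcases four_dvd_cases _ hqodd with h4 | h4
        · obtain ⟨y1, hy1⟩ := exists_plus_even (F := F) n (by omega) _ hLpo hLpd h4
          obtain ⟨y2, hy2⟩ := exists_minus_odd (F := F) n (by omega) _ hLmo hLmd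
          refine ⟨y1, y2, ?_⟩
          rw [hy1, hy2, e1, e2]
          apply PslMix.eq_of_forall_dvd
          intro t
          simp only [Nat.lcm_dvd_iff, cop_mul_dvd_iff l1, cop_mul_dvd_iff l2, cop_mul_dvd_iff t1]
          tauto
        · obtain ⟨y1, hy1⟩ := exists_plus_odd (F := F) n (by omega) _ hLpo hLpd
          obtain ⟨y2, hy2⟩ := exists_minus_even (F := F) n (by omega) _ hLmo hLmd h4
          refine ⟨y1, y2, ?_⟩
          rw [hy1, hy2, e1, e2]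
          apply PslMix.eq_of_forall_dvd
          intro t
          simp only [Nat.lcm_dvd_iff, cop_mul_dvd_iff l1, cop_mul_dvd_iff l2, cop_mul_dvd_iff t2]
          tauto
      · rw [hA21, hB21, mul_one, mul_one] at e2
        obtain ⟨y2, hy2⟩ := exists_two_ppow (F := F) p hp2 n hn v2 (ppow_bound p hp2 n hn hnp v2 w2 hw2)
        refine ⟨a1, y2, ?_⟩
        rw [hy2, e2]
        apply PslMix.eq_of_forall_dvd
        intro t
        simp only [Nat.lcm_dvd_iff, cop_mul_dvd_iff (h2p v2)]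
        tauto
    · rw [hA11, hB11, mul_one, mul_one] at e1
      rcases hpure2 with hv2 | ⟨hA21, hB21⟩
      · obtain ⟨y1, hy1⟩ := exists_two_ppow (F := F) p hp2 n hn v1 (ppow_bound p hp2 n hn hnp v1 w1 hw1)
        refine ⟨y1, a2, ?_⟩
        rw [hy1, e1]
        apply PslMix.eq_of_forall_dvd
        intro t
        simp only [Nat.lcm_dvd_iff, cop_mul_dvd_iff (h2p v1)]
        tauto
      · rw [hA21, hB21, mul_one, mul_one] at e2
        obtain ⟨c, hc, hc'⟩ := lcm_ppow (p := p) (a := v1) (b := v2)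
        have hwc : ∃ w : Cfsg.PSp n F, orderOf w = p ^ c := by
          rcases hc' with h | h
          · exact ⟨w1, by rw [hw1, h]⟩
          · exact ⟨w2, by rw [hw2, h]⟩
        obtain ⟨w, hw⟩ := hwc
        obtain ⟨y1, hy1⟩ := exists_two_ppow (F := F) p hp2 n hn c (ppow_bound p hp2 n hn hnp c w hw)
        refine ⟨y1, 1, ?_⟩
        rw [hy1, orderOf_one, e1, e2, ← hc]
        apply PslMix.eq_of_forall_dvd
        intro t
        have hcc : Nat.Coprime 2 (Nat.lcm (p ^ v1) (p ^ v2)) := by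
          rw [hc]
          exact h2p c
        simp only [Nat.lcm_dvd_iff, cop_mul_dvd_iff hcc]
        have : (1 : ℕ) ∣ t := one_dvd t
        tauto

end Cfsg.Agent.Lib.helper15.PSpMix
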