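import Mathlib
import Cfsg.Agent.Lib.helper15.QS5

set_option autoImplicit false
set_option linter.unusedSimpArgs false
set_option linter.unusedVariables false

namespace Cfsg.Agent.Lib.helper15.QS

open Matrix Cfsg.Agent.Lib.helper15.NatMod
open scoped IsMulCommutative

section Transfer

variable {X : Type*} [Group X] {F : Type*} [Field F] {G V : Subgroup X}

lemma conj_mem_V (hGV : G ≤ Subgroup.normalizer (V : Set X)) (g : ↥G) (v : ↥V) :
    (g : X) * (v : X) * (g : X)⁻¹ ∈ V :=
  ((Subgroup.mem_normalizer_iff.mp (hGV g.2)) v).mp v.2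

def csmul (hGV : G ≤ Subgroup.normalizer (V : Set X))
    (e : ↥G ≃* SpecialLinearGroup (Fin 2) F) (g : SpecialLinearGroup (Fin 2) F)
    (a : Additive ↥V) : Additive ↥V :=
  Additive.ofMul ⟨((e.symm g : ↥G) : X) * ((Additive.toMul a : ↥V) : X) * ((e.symm g : ↥G) : X)⁻¹,
    conj_mem_V hGV _ _⟩

lemma csmul_val (hGV : G ≤ Subgroup.normalizer (V : Set X))
    (e : ↥G ≃* SpecialLinearGroup (Fin 2) F) (g : SpecialLinearGroup (Fin 2) F)
    (a : Additive ↥V) :
    ((Additive.toMul (csmul hGV e g a) : ↥V) : X) =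
      ((e.symm g : ↥G) : X) * ((Additive.toMul a : ↥V) : X) * ((e.symm g : ↥G) : X)⁻¹ := rfl

lemma add_ext {a b : Additive ↥V}
    (h : ((Additive.toMul a : ↥V) : X) = ((Additive.toMul b : ↥V) : X)) : a = b :=
  Additive.toMul.injective (Subtype.ext h)

@[reducible] def cact [IsMulCommutative ↥V] (hGV : G ≤ Subgroup.normalizer (V : Set X))
    (e : ↥G ≃* SpecialLinearGroup (Fin 2) F) :
    DistribMulAction (SpecialLinearGroup (Fin 2) F) (Additive ↥V) where
  smul g a := csmul hGV e g a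
  one_smul a := by
    apply add_ext
    show ((Additive.toMul (csmul hGV e 1 a) : ↥V) : X) = _
    rw [csmul_val, map_one, Subgroup.coe_one, one_mul, inv_one, mul_one]
  mul_smul g h a := by
    apply add_ext
    show ((Additive.toMul (csmul hGV e (g * h) a) : ↥V) : X) =
      ((Additive.toMul (csmul hGV e g (csmul hGV e h a)) : ↥V) : X)
    rw [csmul_val, csmul_val, csmul_val, map_mul, Subgroup.coe_mul, _root_.mul_inv_rev]
    simp only [mul_assoc]
  smul_zero g := by
    apply add_ext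
    show ((Additive.toMul (csmul hGV e g 0) : ↥V) : X) = ((Additive.toMul (0 : Additive ↥V) : ↥V) : X)
    rw [csmul_val, toMul_zero, Subgroup.coe_one, mul_one, mul_inv_cancel]
  smul_add g a b := by
    apply add_ext
    show ((Additive.toMul (csmul hGV e g (a + b)) : ↥V) : X) =
      ((Additive.toMul (csmul hGV e g a + csmul hGV e g b) : ↥V) : X)
    rw [csmul_val, toMul_add, toMul_add, Subgroup.coe_mul, Subgroup.coe_mul, csmul_val, csmul_val]
    group

theorem transfer [Finite X] [Fintype F] {p n : ℕ} [Fact p.Prime] [IsMulCommutative ↥V]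
    (hVp : ∀ a ∈ V, a ^ p = 1) (hGV : G ≤ Subgroup.normalizer (V : Set X))
    (hF : Fintype.card F = p ^ n) (e : ↥G ≃* SpecialLinearGroup (Fin 2) F)
    (hirr : ∀ U : Subgroup X, U ≤ V → G ≤ Subgroup.normalizer (U : Set X) → U = ⊥ ∨ U = V)
    (hnt : ∃ (g : ↥G) (v : ↥V), (g : X) * (v : X) * (g : X)⁻¹ ≠ (v : X))
    (hyp : (∀ (s t : F) (v : ↥V),
        ((e.symm (uu s) : ↥G) : X) * (((e.symm (uu t) : ↥G) : X) * (v : X) *
            ((e.symm (uu t) : ↥G) : X)⁻¹ * (v : X)⁻¹) * ((e.symm (uu s) : ↥G) : X)⁻¹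
          = ((e.symm (uu t) : ↥G) : X) * (v : X) * ((e.symm (uu t) : ↥G) : X)⁻¹ * (v : X)⁻¹) ∨
      Nat.card ↥V ≤ Nat.card {v : ↥V // ∀ t : F, ((e.symm (uu t) : ↥G) : X) * (v : X) *
        ((e.symm (uu t) : ↥G) : X)⁻¹ = (v : X)} ^ 2) :
    ∃ ψ : Additive ↥V ≃+ (Fin 2 → F), ∀ (g : ↥G) (v : ↥V),
      ψ (Additive.ofMul ⟨(g : X) * (v : X) * (g : X)⁻¹, conj_mem_V hGV g v⟩) =
        ((e g : SpecialLinearGroup (Fin 2) F) : Matrix (Fin 2) (Fin 2) F).mulVec
          (ψ (Additive.ofMul v)) := by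
  let inst := cact hGV e
  have : Finite (Additive ↥V) := inferInstanceAs (Finite ↥V)
  have hsm : ∀ (g : SpecialLinearGroup (Fin 2) F) (a : Additive ↥V), g • a = csmul hGV e g a :=
    fun _ _ => rfl
  have hp : ∀ a : Additive ↥V, p • a = 0 := by
    intro a
    apply add_ext
    rw [toMul_nsmul, toMul_zero, Subgroup.coe_pow, Subgroup.coe_one]
    exact hVp _ (Additive.toMul a).2
  have hirr' : ∀ B : AddSubgroup (Additive ↥V),
      (∀ (g : SpecialLinearGroup (Fin 2) F), ∀ b ∈ B, g • b ∈ B) → B = ⊥ ∨ B = ⊤ := by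
    intro B hB
    let U : Subgroup X :=
      { carrier := {x | ∃ h : x ∈ V, Additive.ofMul (⟨x, h⟩ : ↥V) ∈ B}
        one_mem' := ⟨V.one_mem, B.zero_mem⟩
        mul_mem' := by
          rintro a b ⟨ha, ha'⟩ ⟨hb, hb'⟩
          exact ⟨V.mul_mem ha hb, B.add_mem ha' hb'⟩
        inv_mem' := by
          rintro a ⟨ha, ha'⟩
          exact ⟨V.inv_mem ha, B.neg_mem ha'⟩ }
    have hUV : U ≤ V := fun x hx => hx.1
    have hUN : G ≤ Subgroup.normalizer (U : Set X) := by
      intro g hg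
      rw [Subgroup.mem_normalizer_iff]
      intro x
      constructor
      · rintro ⟨hx, hx'⟩
        have h1 := hB (e ⟨g, hg⟩) _ hx'
        refine ⟨conj_mem_V hGV ⟨g, hg⟩ ⟨x, hx⟩, ?_⟩
        have h2 : Additive.ofMul (⟨g * x * g⁻¹, conj_mem_V hGV ⟨g, hg⟩ ⟨x, hx⟩⟩ : ↥V) =
            e ⟨g, hg⟩ • Additive.ofMul (⟨x, hx⟩ : ↥V) := by
          apply add_ext
          rw [hsm, csmul_val, e.symm_apply_apply]
          rfl
        rw [h2]
        exact h1
      · rintro ⟨hx, hx'⟩
        have hxV : x ∈ V := (Subgroup.mem_normalizer_iff.mp (hGV hg) x).mpr hx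
        refine ⟨hxV, ?_⟩
        have h1 := hB (e (⟨g, hg⟩ : ↥G)⁻¹) _ hx'
        have h2 : Additive.ofMul (⟨x, hxV⟩ : ↥V) =
            e (⟨g, hg⟩ : ↥G)⁻¹ • Additive.ofMul (⟨g * x * g⁻¹, hx⟩ : ↥V) := by
          apply add_ext
          rw [hsm, csmul_val, e.symm_apply_apply]
          show x = g⁻¹ * (g * x * g⁻¹) * g⁻¹⁻¹
          group
        rw [h2]
        exact h1
    rcases hirr U hUV hUN with h | h
    · left
      rw [eq_bot_iff]
      intro b hb
      have hbU : ((Additive.toMul b : ↥V) : X) ∈ U := ⟨(Additive.toMul b).2, hb⟩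
      rw [h, Subgroup.mem_bot] at hbU
      rw [AddSubgroup.mem_bot]
      apply add_ext
      rw [hbU, toMul_zero, Subgroup.coe_one]
    · right
      rw [eq_top_iff]
      intro b _
      have hbU : ((Additive.toMul b : ↥V) : X) ∈ U := by
        rw [h]
        exact (Additive.toMul b).2
      obtain ⟨_, hb⟩ := hbU
      exact hb
  have hnt' : ∃ (g : SpecialLinearGroup (Fin 2) F) (a : Additive ↥V), g • a ≠ a := by
    obtain ⟨g₀, v₀, h⟩ := hnt
    refine ⟨e g₀, Additive.ofMul v₀, fun hcon => h ?_⟩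
    have h1 := congrArg (fun a : Additive ↥V => ((Additive.toMul a : ↥V) : X)) hcon
    simp only [hsm, csmul_val, e.symm_apply_apply] at h1
    exact h1
  have hyp' : (∀ (t : F) (a : Additive ↥V), NN t a ∈ fixU F (Additive ↥V)) ∨
      Nat.card (Additive ↥V) ≤ Nat.card (fixU F (Additive ↥V)) ^ 2 := by
    rcases hyp with h | h
    · left
      intro t a s
      apply add_ext
      have e1 : ((Additive.toMul (NN t a) : ↥V) : X) =
          ((e.symm (uu t) : ↥G) : X) * ((Additive.toMul a : ↥V) : X) *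
            ((e.symm (uu t) : ↥G) : X)⁻¹ * ((Additive.toMul a : ↥V) : X)⁻¹ := by
        unfold NN
        rw [toMul_sub, hsm, div_eq_mul_inv, Subgroup.coe_mul, Subgroup.coe_inv, csmul_val]
      rw [hsm, csmul_val, e1]
      exact h s t (Additive.toMul a)
    · right
      have e1 : Nat.card {v : ↥V // ∀ t : F, ((e.symm (uu t) : ↥G) : X) * (v : X) *
          ((e.symm (uu t) : ↥G) : X)⁻¹ = (v : X)} = Nat.card (fixU F (Additive ↥V)) := by
        apply Nat.card_congr
        refine Equiv.subtypeEquiv Additive.ofMul ?_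
        intro v
        constructor
        · intro hv t
          apply add_ext
          rw [hsm, csmul_val]
          exact hv t
        · intro hv t
          have h1 := congrArg (fun a : Additive ↥V => ((Additive.toMul a : ↥V) : X)) (hv t)
          simp only [hsm, csmul_val] at h1
          exact h1
      rw [← e1]
      exact h
  obtain ⟨ψ, hψ⟩ := natural_of_hyp hF hp hirr' hnt' hyp'
  refine ⟨ψ, fun g v => ?_⟩
  have h2 : Additive.ofMul (⟨(g : X) * (v : X) * (g : X)⁻¹, conj_mem_V hGV g v⟩ : ↥V) =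
      e g • Additive.ofMul v := by
    apply add_ext
    rw [hsm, csmul_val, e.symm_apply_apply]
    rfl
  rw [h2, hψ]

end Transfer

end Cfsg.Agent.Lib.helper15.QS
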