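import Mathlib
import Cfsg.Prelude.Def_Classical
import Cfsg.Agent.Lib.helper15.QuadF2Count

set_option autoImplicit false

namespace Cfsg.Agent.Lib.helper15

theorem zmod2_cases (c : ZMod 2) : c = 0 ∨ c = 1 := by
  revert c; decide

theorem BP_smul_left (m : ℕ) (c : ZMod 2) (u v : VP m) : BP m (c • u) v = c * BP m u v := by
  rcases zmod2_cases c with rfl | rfl
  · rw [zero_smul, zero_mul, BP_symm]
    exact (isQuadPair_QP m).B_zero_right v
  · rw [one_smul, one_mul]

theorem refl_preserves (m : ℕ) (q : VP m → ZMod 2)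
    (hq : ∀ u v : VP m, q (u + v) = q u + q v + BP m u v) (a : VP m) (ha : q a = 1) (v : VP m) :
    q (transvEquiv m a v) = q v := by
  rw [transvEquiv_apply]
  rcases zmod2_cases (BP m v a) with h | h
  · rw [h, zero_smul, add_zero]
  · rw [h, one_smul, hq, ha, h]
    have := zmod2_add_self (1 : ZMod 2)
    rw [add_assoc, this, add_zero]

theorem refl_mul_self (m : ℕ) (a : VP m) : transvEquiv m a * transvEquiv m a = 1 := by
  apply LinearEquiv.ext
  intro v
  exact transvLin_involutive m a v

theorem refl_comm (m : ℕ) (a b : VP m) (hab : BP m a b = 0) :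
    transvEquiv m a * transvEquiv m b = transvEquiv m b * transvEquiv m a := by
  apply LinearEquiv.ext
  intro v
  show transvEquiv m a (transvEquiv m b v) = transvEquiv m b (transvEquiv m a v)
  have hba : BP m b a = 0 := by rw [BP_symm]; exact hab
  simp only [transvEquiv_apply, BP_add_left, BP_smul_left, hab, hba, mul_zero, add_zero]
  abel

theorem vp_add_self (m : ℕ) (u : VP m) : u + u = 0 := by
  funext j
  exact zmod2_add_self (u j)

theorem refl_triple (m : ℕ) (a b : VP m) (hab : BP m a b = 1) (v : VP m) :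
    transvEquiv m a (transvEquiv m b (transvEquiv m a v)) =
      v + (BP m v a + BP m v b) • (a + b) := by
  have hba : BP m b a = 1 := by rw [BP_symm]; exact hab
  simp only [transvEquiv_apply, BP_add_left, BP_smul_left, hab, hba, BP_alt, mul_zero, add_zero,
    mul_one]
  rcases zmod2_cases (BP m v a) with h1 | h1 <;> rcases zmod2_cases (BP m v b) with h2 | h2
  · rw [h1, h2]
    simp only [add_zero, zero_smul]
  · rw [h1, h2]
    simp only [add_zero, zero_add, zero_smul, one_smul]
    abel
  · rw [h1, h2]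
    have e : (1 : ZMod 2) + 1 = 0 := zmod2_add_self 1
    simp only [add_zero, zero_add, zero_smul, one_smul, e]
    abel
  · rw [h1, h2]
    have e : (1 : ZMod 2) + 1 = 0 := zmod2_add_self 1
    simp only [e, zero_smul, add_zero, one_smul, zero_add]
    rw [add_assoc, vp_add_self, add_zero]

theorem refl_braid (m : ℕ) (a b : VP m) (hab : BP m a b = 1) :
    transvEquiv m a * transvEquiv m b * transvEquiv m a =
      transvEquiv m b * transvEquiv m a * transvEquiv m b := by
  apply LinearEquiv.ext
  intro v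
  show transvEquiv m a (transvEquiv m b (transvEquiv m a v)) =
    transvEquiv m b (transvEquiv m a (transvEquiv m b v))
  have hba : BP m b a = 1 := by rw [BP_symm]; exact hab
  rw [refl_triple m a b hab v, refl_triple m b a hba v, add_comm (BP m v b), add_comm b a]

theorem refl_pow_two (m : ℕ) (a b : VP m) (hab : BP m a b = 0) :
    (transvEquiv m a * transvEquiv m b) ^ 2 = 1 := by
  rw [pow_two]
  calc transvEquiv m a * transvEquiv m b * (transvEquiv m a * transvEquiv m b)
      = transvEquiv m a * transvEquiv m b * (transvEquiv m b * transvEquiv m a) := by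
        rw [refl_comm m a b hab]
    _ = transvEquiv m a * (transvEquiv m b * transvEquiv m b) * transvEquiv m a := by
        simp only [mul_assoc]
    _ = 1 := by rw [refl_mul_self, mul_one, refl_mul_self]

theorem refl_pow_three (m : ℕ) (a b : VP m) (hab : BP m a b = 1) :
    (transvEquiv m a * transvEquiv m b) ^ 3 = 1 := by
  rw [pow_succ, pow_two]
  calc transvEquiv m a * transvEquiv m b * (transvEquiv m a * transvEquiv m b) *
        (transvEquiv m a * transvEquiv m b)
      = (transvEquiv m a * transvEquiv m b * transvEquiv m a) *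
          (transvEquiv m b * transvEquiv m a * transvEquiv m b) := by simp only [mul_assoc]
    _ = (transvEquiv m b * transvEquiv m a * transvEquiv m b) *
          (transvEquiv m b * transvEquiv m a * transvEquiv m b) := by rw [refl_braid m a b hab]
    _ = transvEquiv m b * transvEquiv m a * (transvEquiv m b * transvEquiv m b) *
          transvEquiv m a * transvEquiv m b := by simp only [mul_assoc]
    _ = 1 := by
        rw [refl_mul_self, mul_one, mul_assoc (transvEquiv m b), refl_mul_self, mul_one,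
          refl_mul_self]


def avec (m : ℕ) (i : ℕ) : VP m := fun c => match c with
  | Sum.inl l => if i % 2 = 0 ∧ ((l : ℕ) = i / 2 ∨ (l : ℕ) + 1 = i / 2) then 1 else 0
  | Sum.inr l => if i % 2 = 1 ∧ (l : ℕ) = i / 2 then 1 else 0

def wvec (m : ℕ) : VP m := fun c => match c with
  | Sum.inl _ => 1
  | Sum.inr l => if (l : ℕ) % 2 = 0 then 1 else 0

theorem avec_inl (m i : ℕ) (l : Fin m) : avec m i (Sum.inl l) =
    if i % 2 = 0 ∧ ((l : ℕ) = i / 2 ∨ (l : ℕ) + 1 = i / 2) then 1 else 0 := rfl

theorem avec_inr (m i : ℕ) (l : Fin m) : avec m i (Sum.inr l) =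
    if i % 2 = 1 ∧ (l : ℕ) = i / 2 then 1 else 0 := rfl

theorem wvec_inl (m : ℕ) (l : Fin m) : wvec m (Sum.inl l) = 1 := rfl

theorem wvec_inr (m : ℕ) (l : Fin m) : wvec m (Sum.inr l) = if (l : ℕ) % 2 = 0 then 1 else 0 := rfl

theorem avec_inl_of_odd (m i : ℕ) (hi : i % 2 = 1) (l : Fin m) : avec m i (Sum.inl l) = 0 := by
  rw [avec_inl, if_neg]
  omega

theorem avec_inr_of_even (m i : ℕ) (hi : i % 2 = 0) (l : Fin m) : avec m i (Sum.inr l) = 0 := by
  rw [avec_inr, if_neg]
  omega

theorem BP_avec_even_odd (m i i' : ℕ) (hi : i % 2 = 0) (hi' : i' % 2 = 1) (hi'm : i' ≤ 2 * m) :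
    BP m (avec m i) (avec m i') = if i + 1 = i' ∨ i' + 1 = i then 1 else 0 := by
  rw [BP_eq]
  have hj' : i' / 2 < m := by omega
  rw [Finset.sum_eq_single (⟨i' / 2, hj'⟩ : Fin m)]
  · rw [avec_inl_of_odd m i' hi', avec_inr_of_even m i hi, zero_mul, add_zero, avec_inr m i',
      if_pos ⟨hi', rfl⟩, mul_one, avec_inl]
    apply if_congr _ rfl rfl
    simp only
    omega
  · intro l _ hl
    rw [avec_inl_of_odd m i' hi', avec_inr_of_even m i hi, zero_mul, add_zero, avec_inr m i',
      if_neg, mul_zero]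
    rintro ⟨_, h⟩
    exact hl (Fin.ext h)
  · intro h; exact absurd (Finset.mem_univ _) h

theorem BP_avec_same_parity (m i i' : ℕ) (h : i % 2 = i' % 2) :
    BP m (avec m i) (avec m i') = 0 := by
  rw [BP_eq]
  apply Finset.sum_eq_zero
  intro l _
  rcases Nat.mod_two_eq_zero_or_one i with hi | hi
  · rw [avec_inr_of_even m i hi, avec_inr_of_even m i' (by omega), mul_zero, mul_zero, add_zero]
  · rw [avec_inl_of_odd m i hi, avec_inl_of_odd m i' (by omega), zero_mul, zero_mul, add_zero]

theorem BP_avec (m i i' : ℕ) (him : i ≤ 2 * m) (hi'm : i' ≤ 2 * m) :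
    BP m (avec m i) (avec m i') = if i + 1 = i' ∨ i' + 1 = i then 1 else 0 := by
  rcases Nat.mod_two_eq_zero_or_one i with hi | hi <;>
    rcases Nat.mod_two_eq_zero_or_one i' with hi' | hi'
  · rw [BP_avec_same_parity m i i' (by omega), if_neg]
    omega
  · exact BP_avec_even_odd m i i' hi hi' hi'm
  · rw [BP_symm, BP_avec_even_odd m i' i hi' hi him]
    apply if_congr _ rfl rfl
    omega
  · rw [BP_avec_same_parity m i i' (by omega), if_neg]
    omega

theorem QP_avec (m i : ℕ) : QP m (avec m i) = 0 := by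
  unfold QP Cfsg.quadFormPlus
  apply Finset.sum_eq_zero
  intro l _
  rcases Nat.mod_two_eq_zero_or_one i with hi | hi
  · rw [avec_inr_of_even m i hi, mul_zero]
  · rw [avec_inl_of_odd m i hi, zero_mul]

theorem BP_avec_wvec_odd (m i : ℕ) (hi : i % 2 = 1) (him : i ≤ 2 * m) :
    BP m (avec m i) (wvec m) = 1 := by
  rw [BP_eq]
  have hj : i / 2 < m := by omega
  rw [Finset.sum_eq_single (⟨i / 2, hj⟩ : Fin m)]
  · rw [avec_inl_of_odd m i hi, zero_mul, zero_add, wvec_inl, one_mul, avec_inr, if_pos ⟨hi, rfl⟩]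
  · intro l _ hl
    rw [avec_inl_of_odd m i hi, zero_mul, zero_add, wvec_inl, one_mul, avec_inr, if_neg]
    rintro ⟨_, h⟩
    exact hl (Fin.ext h)
  · intro h; exact absurd (Finset.mem_univ _) h

theorem BP_avec_wvec_even (m i : ℕ) (hm : m % 2 = 1) (hi : i % 2 = 0) (him : i ≤ 2 * m) :
    BP m (avec m i) (wvec m) = 1 := by
  rw [BP_eq]
  have hl0 : (if (i / 2) % 2 = 0 then i / 2 else i / 2 - 1) < m := by
    split_ifs with h <;> omega
  rw [Finset.sum_eq_single (⟨_, hl0⟩ : Fin m)]
  · rw [avec_inr_of_even m i hi, mul_zero, add_zero, avec_inl, wvec_inr]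
    simp only
    split_ifs with h1 h2 h3 h4 h5 <;> first | rfl | omega
  · intro l _ hl
    rw [avec_inr_of_even m i hi, mul_zero, add_zero, avec_inl, wvec_inr]
    have hl' : (l : ℕ) ≠ (if (i / 2) % 2 = 0 then i / 2 else i / 2 - 1) := fun h => hl (Fin.ext h)
    split_ifs at hl' with h0
    · split_ifs with h1 h2
      · omega
      · rw [mul_zero]
      · rw [zero_mul]
      · rw [zero_mul]
    · split_ifs with h1 h2
      · omega
      · rw [mul_zero]
      · rw [zero_mul]
      · rw [zero_mul]
  · intro h; exact absurd (Finset.mem_univ _) h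

theorem q_avec (m i : ℕ) (hm : m % 2 = 1) (him : i ≤ 2 * m) : qw m (wvec m) (avec m i) = 1 := by
  unfold qw
  rw [QP_avec, zero_add]
  rcases Nat.mod_two_eq_zero_or_one i with hi | hi
  · exact BP_avec_wvec_even m i hm hi him
  · exact BP_avec_wvec_odd m i hi him

theorem sum_even_range (k : ℕ) :
    ∑ l ∈ Finset.range (2 * k + 1), (if l % 2 = 0 then (1 : ZMod 2) else 0) = (k + 1 : ℕ) := by
  induction k with
  | zero =>
    rw [Finset.sum_range_one]
    norm_num
  | succ k ih =>
    have e : 2 * (k + 1) + 1 = (2 * k + 1) + 1 + 1 := by ring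
    rw [e, Finset.sum_range_succ, Finset.sum_range_succ, ih]
    have h1 : (2 * k + 1) % 2 ≠ 0 := by omega
    have h2 : (2 * k + 1 + 1) % 2 = 0 := by omega
    rw [if_neg h1, if_pos h2]
    push_cast
    ring

theorem QP_wvec (k : ℕ) : QP (2 * k + 1) (wvec (2 * k + 1)) = (k + 1 : ℕ) := by
  unfold QP Cfsg.quadFormPlus
  rw [← sum_even_range k, ← Fin.sum_univ_eq_sum_range (fun l => if l % 2 = 0 then (1 : ZMod 2) else 0)]
  apply Finset.sum_congr rfl
  intro l _
  rw [wvec_inl, wvec_inr, one_mul]

end Cfsg.Agent.Lib.helper15
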