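import Mathlib
import Cfsg.Agent.Lib.Helper18.REELA.Defs
import Cfsg.Agent.Lib.helper15.REELAB
import Cfsg.Agent.Lib.helper4.REELA05

/-! Project REE, block LA (helper18), row LA03 `la_charpoly`: copy by helper15 (`la_charpoly_h15`),
a corollary of `la_decomp` (LAB) and `la_ker_dvd` (LA05); does not use LA02. -/

set_option autoImplicit false

namespace Cfsg.Agent.Lib.helper7.REE

open Matrix Polynomial

universe v

section finite

variable {K : Type v} [Field K] [Fintype K]

theorem la_charpoly_h15 (l : ℕ) (hl : l.Prime) (h6 : l ∣ Fintype.card K ^ 6 - 1)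
    (hmin : ∀ i, 0 < i → i < 6 → ¬ l ∣ Fintype.card K ^ i - 1) (hlK : ¬ l ∣ Fintype.card K)
    (M : Matrix (Fin 7) (Fin 7) K) (hMl : M ^ l = 1) (hM1 : M ≠ 1) :
    ∃ p : K[X], Irreducible p ∧ p.Monic ∧ p.natDegree = 6 ∧ M.charpoly = (X - 1) * p := by
  classical
  have hV : Module.finrank K (Fin 7 → K) = 7 := by simp
  set e : Matrix (Fin 7) (Fin 7) K ≃ₐ[K] Module.End K (Fin 7 → K) := Matrix.toLinAlgEquiv' with he
  have hf : (e M) ^ l = 1 := by rw [← map_pow, hMl, map_one]
  have hf1 : e M ≠ 1 := by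
    intro h
    apply hM1
    apply e.injective
    rw [h, map_one]
  obtain ⟨p, hirr, hmonic, hdeg, h1, h2, hcompl⟩ :=
    la_decomp l hl h6 hmin hlK hV (e M) hf hf1
  refine ⟨p, hirr, hmonic, hdeg, ?_⟩
  have hint : IsIntegral K (e M) := Algebra.IsIntegral.isIntegral _
  -- `X - 1 ∣ μ`
  have hroot : (minpoly K (e M)).IsRoot 1 := by
    have hne : LinearMap.ker (e M - 1) ≠ ⊥ := by
      intro h
      rw [h, finrank_bot] at h1
      omega
    obtain ⟨v, hv, hv0⟩ := (Submodule.ne_bot_iff _).mp hne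
    have hfv : (e M) v = (1 : K) • v := by
      rw [one_smul]
      have := LinearMap.mem_ker.mp hv
      rw [LinearMap.sub_apply, sub_eq_zero] at this
      exact this
    have h3 := Module.End.aeval_apply_of_mem_apply_eq_smul (p := minpoly K (e M)) hfv
    rw [minpoly.aeval, LinearMap.zero_apply] at h3
    rcases smul_eq_zero.mp h3.symm with h4 | h4
    · exact h4
    · exact absurd h4 hv0
  have hX1 : (X - C (1 : K) : K[X]) = X - 1 := by rw [map_one]
  have hd1 : (X - 1 : K[X]) ∣ minpoly K (e M) := by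
    rw [← hX1]; exact dvd_iff_isRoot.mpr hroot
  -- `p ∣ μ`
  have hd2 : p ∣ minpoly K (e M) := by
    apply (la_ker_dvd (e M) p hirr (by rw [h2, hdeg]) (minpoly K (e M))).mp
    intro x _
    rw [minpoly.aeval, LinearMap.zero_apply]
  have hX1monic : (X - 1 : K[X]).Monic := by rw [← hX1]; exact monic_X_sub_C 1
  have hX1deg : (X - 1 : K[X]).natDegree = 1 := by rw [← hX1]; exact natDegree_X_sub_C 1
  have hcop : IsCoprime (X - 1 : K[X]) p := by
    apply IsCoprime.symm
    rw [hirr.coprime_iff_not_dvd]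
    intro h
    have := natDegree_le_of_dvd h hX1monic.ne_zero
    rw [hdeg, hX1deg] at this
    omega
  have hd3 : (X - 1) * p ∣ M.charpoly := by
    have h3 : (X - 1) * p ∣ minpoly K (e M) := hcop.mul_dvd hd1 hd2
    rw [minpoly.algEquiv_eq] at h3
    exact dvd_trans h3 (Matrix.minpoly_dvd_charpoly M)
  have hχ : M.charpoly.natDegree = 7 := by
    rw [Matrix.charpoly_natDegree_eq_dim, Fintype.card_fin]
  apply eq_of_monic_of_dvd_of_natDegree_le (hX1monic.mul hmonic) (Matrix.charpoly_monic M) hd3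
  rw [hχ, hX1monic.natDegree_mul hmonic, hX1deg, hdeg]

end finite

end Cfsg.Agent.Lib.helper7.REE
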