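import Mathlib
import Cfsg.Agent.Lib.helper8.RSM.Defs
import Cfsg.Agent.Lib.helper4.RSMC1

/-! Project RSM (designer helper8): second copies (own names, helper15) of rows C2 `x_inv`, C5 `mem_U_iff`,
C6 `U_index` (exact Skel statements, names `rsmc2_h15`, `rsmc5_h15`, `rsmc6_h15`). -/

set_option autoImplicit false

namespace Cfsg.Agent.Lib.helper8.RSM

universe u v w

variable {G : Type u} [Group G] {K : Type v} [Field K] [Fintype K] {m : ℕ}

/-- copy of C2 `x_inv` -/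
theorem rsmc2_h15 (RU : ReeU G K m) (t u v : K) :
    ∃ u' v' : K, (RU.x t u v)⁻¹ = RU.x (-t) u' v' := by
  refine ⟨-u + t * ((-t) ^ 3 ^ m) ^ 3, -v - t * u + 2 * t ^ 2 * ((-t) ^ 3 ^ m) ^ 3, ?_⟩
  apply inv_eq_of_mul_eq_one_right
  rw [RU.x_mul, ← (x_basic RU).1]
  congr 1 <;> ring

/-- products stay in `{x t u v}` -/
theorem rsmc5_h15_mul (RU : ReeU G K m) (g g' : G) (hg : RU.InU g) (hg' : RU.InU g') :
    RU.InU (g * g') := by
  obtain ⟨t, u, v, rfl⟩ := hg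
  obtain ⟨t', u', v', rfl⟩ := hg'
  exact ⟨_, _, _, RU.x_mul t u v t' u' v'⟩

/-- copy of C5 `mem_U_iff` -/
theorem rsmc5_h15 (RU : ReeU G K m) (g : G) : g ∈ RU.U ↔ RU.InU g := by
  constructor
  · intro hg
    unfold ReeU.U at hg
    induction hg using Subgroup.closure_induction with
    | mem x hx => exact hx
    | one => exact ⟨0, 0, 0, (x_basic RU).1.symm⟩
    | mul x y _ _ hx hy => exact rsmc5_h15_mul RU x y hx hy
    | inv x _ hx =>
      obtain ⟨t, u, v, rfl⟩ := hx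
      obtain ⟨u', v', h⟩ := rsmc2_h15 RU t u v
      exact ⟨-t, u', v', h⟩
  · rintro ⟨t, u, v, rfl⟩
    exact Subgroup.subset_closure ⟨t, u, v, rfl⟩

/-- `|U| = q ^ 3` -/
theorem rsmc6_h15_card (RU : ReeU G K m) : Nat.card RU.U = (3 ^ (2 * m + 1)) ^ 3 := by
  have hbij : Function.Bijective (fun p : K × K × K =>
      (⟨RU.x p.1 p.2.1 p.2.2, (rsmc5_h15 RU _).mpr ⟨_, _, _, rfl⟩⟩ : RU.U)) := by
    constructor
    · rintro ⟨t, u, v⟩ ⟨t', u', v'⟩ h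
      have h1 := RU.x_inj t u v t' u' v' (Subtype.ext_iff.mp h)
      obtain ⟨rfl, rfl, rfl⟩ := h1
      rfl
    · rintro ⟨g, hg⟩
      obtain ⟨t, u, v, rfl⟩ := (rsmc5_h15 RU g).mp hg
      exact ⟨(t, u, v), rfl⟩
  rw [← Nat.card_congr (Equiv.ofBijective _ hbij), Nat.card_prod, Nat.card_prod,
    Nat.card_eq_fintype_card, RU.hK]
  ring

/-- copy of C6 `U_index` -/
theorem rsmc6_h15 (RU : ReeU G K m) [Finite G] : ¬ 3 ∣ RU.U.index := by
  have h1 := Subgroup.card_mul_index RU.U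
  rw [rsmc6_h15_card, RU.card, mul_assoc] at h1
  have hq0 : 0 < (3 ^ (2 * m + 1)) ^ 3 := by positivity
  have h2 : RU.U.index = (3 ^ (2 * m + 1) - 1) * ((3 ^ (2 * m + 1)) ^ 3 + 1) :=
    Nat.eq_of_mul_eq_mul_left hq0 h1
  rw [h2]
  obtain ⟨k, hk, hk1⟩ : ∃ k, 3 ^ (2 * m + 1) = 3 * k ∧ 1 ≤ k :=
    ⟨3 ^ (2 * m), by rw [pow_succ]; ring, Nat.one_le_pow _ _ (by norm_num)⟩
  rw [hk]
  intro hdvd
  rcases (Nat.Prime.dvd_mul Nat.prime_three).mp hdvd with h | h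
  · omega
  · have : (3 * k) ^ 3 + 1 = 3 * (9 * k ^ 3) + 1 := by ring
    rw [this] at h
    omega

end Cfsg.Agent.Lib.helper8.RSM
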