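import Mathlib
import Cfsg.Agent.Lib.helper8.RSM.Defs
import Cfsg.Agent.Lib.Helper29.RSMA6

/-! Project RSM (designer helper8), row D1 `bet_uu` (helper15): own copies of A4 / B1 (names `rsmd1_*`). -/

set_option autoImplicit false

namespace Cfsg.Agent.Lib.helper8.RSM

universe u v w

variable {K : Type v} [Field K] [Fintype K] {m : ℕ}

/-- copy of A4 `nrm_sq` -/
theorem rsmd1_nrm_sq (hK : Fintype.card K = 3 ^ (2 * m + 1)) (s : K) (hs : s ≠ 0) :
    nrm m (s ^ (3 ^ (m + 1) - 1)) = s ^ 2 := by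
  have hq : s ^ 3 ^ (2 * m + 1) = s := by
    rw [← hK]; exact FiniteField.pow_card s
  have hr1 : 1 ≤ 3 ^ (m + 1) := Nat.one_le_pow _ _ (by norm_num)
  have hexp : (3 ^ (m + 1) - 1) + (3 ^ (m + 1) - 1) * (3 ^ m * 3) + 1 = 3 ^ (2 * m + 1) * 3 := by
    have h1 : (3 ^ (m + 1) - 1) * (3 ^ m * 3) = (3 ^ (m + 1) - 1) * 3 ^ (m + 1) := by
      rw [← pow_succ]
    rw [h1]
    have h2 : 3 ^ (2 * m + 1) * 3 = 3 ^ (m + 1) * 3 ^ (m + 1) := by
      rw [← pow_succ, ← pow_add]; congr 1; omega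
    rw [h2]
    obtain ⟨r, hr⟩ : ∃ r, 3 ^ (m + 1) = r + 1 := ⟨3 ^ (m + 1) - 1, by omega⟩
    rw [hr]
    simp only [Nat.add_sub_cancel]
    ring
  have h3 : nrm m (s ^ (3 ^ (m + 1) - 1)) * s = s ^ 2 * s := by
    unfold nrm
    rw [← pow_mul, ← pow_mul, ← pow_add, ← pow_succ, hexp, pow_mul, hq]
    ring
  exact mul_right_cancel₀ hs h3

/-- copy of B1 `conic_kill` -/
theorem rsmd1_conic_kill (hm : 1 ≤ m) (hK : Fintype.card K = 3 ^ (2 * m + 1)) {A : Type*} [Group A]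
    (B : K → K → A) (hl : ∀ u u' w, B (u + u') w = B u w * B u' w)
    (hr : ∀ u w w', B u (w + w') = B u w * B u w')
    (hinv : ∀ s : K, s ≠ 0 → ∀ u w, B (s ^ 2 * u) (s ^ 2 * w) = B u w) :
    ∀ u w, B u w = 1 := by
  obtain ⟨c, c', ⟨s, hs0, hc⟩, ⟨s', hs'0, hc'⟩, hsum, hprod⟩ := conic (K := K) hm hK
  have hc0 : c ≠ 0 := by rw [hc]; exact pow_ne_zero _ hs0
  have hc'0 : c' ≠ 0 := by rw [hc']; exact pow_ne_zero _ hs'0
  have hzero : ∀ u, B u 0 = 1 := by
    intro u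
    have := hr u 0 0
    rw [add_zero] at this
    exact (mul_eq_left).mp this.symm
  have hneg : ∀ u w, B u (-w) = (B u w)⁻¹ := by
    intro u w
    have := hr u w (-w)
    rw [add_neg_cancel, hzero] at this
    exact eq_inv_of_mul_eq_one_right this.symm
  have h1 : ∀ u w, B (c * u) w = B u (c⁻¹ * w) := by
    intro u w
    have := hinv s hs0 u (c⁻¹ * w)
    rw [← hc, mul_inv_cancel_left₀ hc0] at this
    exact this
  have h2 : ∀ u w, B (c' * u) w = B u (c'⁻¹ * w) := by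
    intro u w
    have := hinv s' hs'0 u (c'⁻¹ * w)
    rw [← hc', mul_inv_cancel_left₀ hc'0] at this
    exact this
  set d : K := c⁻¹ + c'⁻¹ with hd
  have hd1 : d ≠ 1 := by
    intro h
    apply hprod
    have : d * (c * c') = c + c' := by
      rw [hd]; field_simp; ring
    rw [h, one_mul, hsum] at this
    exact this
  have h3 : ∀ u w, B u (d * w) = B u w := by
    intro u w
    have h4 : B u w = B (c * u) w * B (c' * u) w := by
      rw [← hl, ← add_mul, hsum, one_mul]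
    rw [h4, h1, h2, ← hr, ← add_mul]
  intro u w
  have hd0 : d - 1 ≠ 0 := sub_ne_zero.mpr hd1
  have h5 : w = d * ((d - 1)⁻¹ * w) + -((d - 1)⁻¹ * w) := by
    field_simp
    ring
  rw [h5, hr, h3, hneg, mul_inv_cancel]

end Cfsg.Agent.Lib.helper8.RSM
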