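import Mathlib
import Cfsg.Agent.Lib.helper8.RSM.Defs
import Cfsg.Agent.Lib.Helper5.StemQ
import Cfsg.Agent.Lib.helper4.RSMC1
import Cfsg.Agent.Lib.helper2.RSMC7
import Cfsg.Agent.Lib.helper15.RSMD1core
import Cfsg.Agent.Lib.helper15.RSMD1aux

/-! Project RSM (designer helper8), row D1 `bet_uu`, verbatim (helper15): `rsmd1_core` on C1, C7 and own copies
`rsmd1_nrm_sq` (A4), `rsmd1_conic_kill` (B1, on A6). -/

set_option autoImplicit false

namespace Cfsg.Agent.Lib.helper8.RSM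

open Cfsg.Agent.Lib.Helper5.Stem
open scoped commutatorElement

universe u v w

variable {G : Type u} [Group G] {K : Type v} [Field K] [Fintype K] {m : ℕ}
variable {Γ : Type w} [Group Γ] {σ : Γ →* G}

/-- D1 [M]. -/
theorem bet_uu (RU : ReeU G K m) (hs : Function.Surjective σ) (hcen : σ.ker ≤ Subgroup.center Γ)
    (u u' : K) : bet hs (RU.x 0 u 0) (RU.x 0 u' 0) = 1 :=
  rsmd1_core RU hs hcen (fun s hs0 => rsmd1_nrm_sq RU.hK s hs0)
    (fun B hl hr hinv => rsmd1_conic_kill RU.hm RU.hK B hl hr hinv)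
    (x_basic RU).2.1 (x_basic RU).2.2.2.2.2.1
    (fun a ha => by
      obtain ⟨i, hi⟩ := RU.a0_gen a ha
      refine ⟨i, hi, fun t u v => ?_⟩
      rw [h0_pow_conj RU i t u v, ← hi]) u u'

end Cfsg.Agent.Lib.helper8.RSM
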