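import Mathlib
import Cfsg.Agent.Lib.helper8.RSM.Defs

/-! Project RSM (designer helper8), row E3 `proj_mem_ker` (helper15): core on the statements of E2, A8, A9, C1. -/

set_option autoImplicit false

namespace Cfsg.Agent.Lib.helper8.RSM

universe u v w

variable {G : Type u} [Group G] {K : Type v} [Field K] [Fintype K] {m : ℕ}
variable {Γ : Type w} [Group Γ] {σ : Γ →* G}

/-- E3, core on the statements of E2 `avg_map`, A8 `geom_sum_zero`, A9 `gen_weights` (clauses 1, 3, 4), C1 (clause 1) -/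
theorem rsme3_core (RU : ReeU G K m) (H0 : Γ)
    (hE2 : ∀ (n : ℕ) (w : Γ) (u v : K), σ w = RU.x 0 u v →
      σ (avg H0 n w) = RU.x 0 ((∑ i ∈ Finset.range n, nrm m RU.a0 ^ i) * u)
        ((∑ i ∈ Finset.range n, (RU.a0 * nrm m RU.a0) ^ i) * v))
    (hA8 : ∀ c : K, c ≠ 0 → c ≠ 1 → ∑ i ∈ Finset.range (3 ^ (2 * m + 1) - 1), c ^ i = 0)
    (ha0 : RU.a0 ≠ 0) (hn1 : nrm m RU.a0 ≠ 1) (han1 : RU.a0 * nrm m RU.a0 ≠ 1)
    (hC1 : RU.x 0 0 0 = 1)
    (w : Γ) (hw : RU.InU2 (σ w)) : proj H0 m w ∈ σ.ker := by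
  obtain ⟨u, v, huv⟩ := hw
  have hn0 : nrm m RU.a0 ≠ 0 := by
    unfold nrm
    exact mul_ne_zero ha0 (pow_ne_zero _ (pow_ne_zero _ ha0))
  have h1 := hE2 (3 ^ (2 * m + 1) - 1) w u v huv
  rw [hA8 _ hn0 hn1, hA8 _ (mul_ne_zero ha0 hn0) han1, zero_mul, zero_mul, hC1] at h1
  unfold proj
  exact inv_mem (MonoidHom.mem_ker.mpr h1)

end Cfsg.Agent.Lib.helper8.RSM
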