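import Mathlib
import Cfsg.Agent.Lib.helper8.RSM.Defs
import Cfsg.Agent.Lib.helper4.RSMC1
import Cfsg.Agent.Lib.Helper24.RSMA8
import Cfsg.Agent.Lib.Helper24.RSMA9
import Cfsg.Agent.Lib.helper23.RSME2
import Cfsg.Agent.Lib.helper15.RSME3core

/-! Project RSM (designer helper8), row E3 `proj_mem_ker`, verbatim (helper15): `rsme3_core` on E2, A8, A9, C1. -/

set_option autoImplicit false

namespace Cfsg.Agent.Lib.helper8.RSM

universe u v w

variable {G : Type u} [Group G] {K : Type v} [Field K] [Fintype K] {m : ℕ}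
variable {Γ : Type w} [Group Γ] {σ : Γ →* G}

/-- E3 [S]. E2 with `n = q - 1`, A8, A9. -/
theorem proj_mem_ker (RU : ReeU G K m) (H0 : Γ) (hH0 : σ H0 = RU.h0) (w : Γ)
    (hw : RU.InU2 (σ w)) : proj H0 m w ∈ σ.ker :=
  rsme3_core RU H0 (fun n w u v h => avg_map RU H0 hH0 n w u v h)
    (fun c hc hc1 => geom_sum_zero RU.hK c hc hc1)
    (gen_weights RU.hm RU.hK RU.a0 RU.a0_gen).1
    (gen_weights RU.hm RU.hK RU.a0 RU.a0_gen).2.2.1
    (gen_weights RU.hm RU.hK RU.a0 RU.a0_gen).2.2.2.1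
    (x_basic RU).1 w hw

end Cfsg.Agent.Lib.helper8.RSM
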