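import Mathlib
import Cfsg.Agent.S2280

set_option autoImplicit false

namespace Cfsg.Agent.Lib.helper15.RU

open Matrix Cfsg.Agent.S2280

section ax

variable {F : Type*} [Field F] {n : ℕ}
variable {H : Subgroup (Matrix.SpecialLinearGroup (Fin n) F)}

def Ax (H : Subgroup (Matrix.SpecialLinearGroup (Fin n) F)) (φ : Fin n → F) : Prop :=
  ∀ x : Fin n → F, φ ⬝ᵥ x = 0 → InH H (1 + vecMulVec x φ)

theorem tv_mul (x y φ : Fin n → F) (hy : φ ⬝ᵥ y = 0) :
    (1 + vecMulVec x φ) * (1 + vecMulVec y φ) = (1 + vecMulVec (x + y) φ : Matrix (Fin n) (Fin n) F) := by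
  have e : vecMulVec x φ * vecMulVec y φ = (0 : Matrix (Fin n) (Fin n) F) := by
    rw [vecMulVec_mul_vecMulVec, hy, zero_smul, vecMulVec_zero]
  calc (1 + vecMulVec x φ) * (1 + vecMulVec y φ)
      = 1 + vecMulVec x φ + vecMulVec y φ + vecMulVec x φ * vecMulVec y φ := by
        rw [mul_add, Matrix.mul_one, add_mul, Matrix.one_mul]
        abel
    _ = 1 + vecMulVec (x + y) φ := by
        rw [e, add_zero, add_vecMulVec]
        abel

theorem tv_inv (x φ : Fin n → F) (hx : φ ⬝ᵥ x = 0) :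
    (1 + vecMulVec x φ) * (1 + vecMulVec (-x) φ) = (1 : Matrix (Fin n) (Fin n) F) := by
  rw [tv_mul x (-x) φ (by rw [dotProduct_neg, hx, neg_zero]), add_neg_cancel, zero_vecMulVec, add_zero]

theorem tv_inv' (x φ : Fin n → F) (hx : φ ⬝ᵥ x = 0) :
    (1 + vecMulVec (-x) φ) * (1 + vecMulVec x φ) = (1 : Matrix (Fin n) (Fin n) F) := by
  have := tv_inv (-x) φ (by rw [dotProduct_neg, hx, neg_zero])
  rwa [neg_neg] at this

theorem Ax.smul {φ : Fin n → F} (h : Ax H φ) (c : F) : Ax H (c • φ) := by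
  intro x hx
  have e : (1 + vecMulVec x (c • φ) : Matrix (Fin n) (Fin n) F) = 1 + vecMulVec (c • x) φ := by
    congr 1
    ext i j
    simp [vecMulVec_apply]
    ring
  rw [e]
  apply h
  rw [dotProduct_smul]
  rw [smul_dotProduct] at hx
  exact hx

theorem coe_inv_eq (g : Matrix.SpecialLinearGroup (Fin n) F) (gi : Matrix (Fin n) (Fin n) F)
    (h : (g : Matrix (Fin n) (Fin n) F) * gi = 1) :
    ((g⁻¹ : Matrix.SpecialLinearGroup (Fin n) F) : Matrix (Fin n) (Fin n) F) = gi := by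
  have h1 : ((g⁻¹ : Matrix.SpecialLinearGroup (Fin n) F) : Matrix (Fin n) (Fin n) F) *
      (g : Matrix (Fin n) (Fin n) F) = 1 := by
    rw [← Matrix.SpecialLinearGroup.coe_mul, inv_mul_cancel, Matrix.SpecialLinearGroup.coe_one]
  calc ((g⁻¹ : Matrix.SpecialLinearGroup (Fin n) F) : Matrix (Fin n) (Fin n) F)
      = ((g⁻¹ : Matrix.SpecialLinearGroup (Fin n) F) : Matrix (Fin n) (Fin n) F) *
          ((g : Matrix (Fin n) (Fin n) F) * gi) := by rw [h, Matrix.mul_one]
    _ = gi := by rw [← Matrix.mul_assoc, h1, Matrix.one_mul]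

theorem Ax.act {φ : Fin n → F} (h : Ax H φ) {g gi : Matrix (Fin n) (Fin n) F} (hg : InH H g)
    (hggi : g * gi = 1) : Ax H (φ ᵥ* gi) := by
  intro y hy
  obtain ⟨k, hk, rfl⟩ := hg
  have hgig : gi * (k : Matrix (Fin n) (Fin n) F) = 1 := by
    rw [← coe_inv_eq k gi hggi, ← Matrix.SpecialLinearGroup.coe_mul, inv_mul_cancel,
      Matrix.SpecialLinearGroup.coe_one]
  have hx : φ ⬝ᵥ (gi *ᵥ y) = 0 := by
    rw [dotProduct_mulVec]
    exact hy
  obtain ⟨t, ht, hte⟩ := h (gi *ᵥ y) hx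
  refine ⟨k * t * k⁻¹, H.mul_mem (H.mul_mem hk ht) (H.inv_mem hk), ?_⟩
  rw [Matrix.SpecialLinearGroup.coe_mul, Matrix.SpecialLinearGroup.coe_mul, hte, coe_inv_eq k gi hggi,
    mul_add, Matrix.mul_one, add_mul, hggi, mul_vecMulVec, vecMulVec_mul, mulVec_mulVec, hggi, one_mulVec]

theorem Ax.add_smul {φ ψ : Fin n → F} (hφ : Ax H φ) (hψ : Ax H ψ) (x0 : Fin n → F)
    (h0 : φ ⬝ᵥ x0 = 0) (h1 : ψ ⬝ᵥ x0 = 1) (c : F) : Ax H (ψ + c • φ) := by
  have hx : φ ⬝ᵥ ((-c) • x0) = 0 := by rw [dotProduct_smul, h0, smul_zero]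
  have hg := hφ ((-c) • x0) hx
  have hinv := tv_inv ((-c) • x0) φ hx
  have := hψ.act hg hinv
  have e : ψ ᵥ* (1 + vecMulVec (-((-c) • x0)) φ) = ψ + c • φ := by
    rw [vecMul_add, vecMul_one, vecMul_vecMulVec, dotProduct_neg, dotProduct_smul, h1]
    simp
  rwa [e] at this

end ax

section three

variable {F : Type*} [Field F]
variable {H : Subgroup (Matrix.SpecialLinearGroup (Fin 3) F)}

theorem span3 (R X : Matrix (Fin 3) (Fin 3) F) (hRX : R * X = 1)
    (h0 : Ax H (R 0)) (h1 : Ax H (R 1)) (h2 : Ax H (R 2)) : ∀ φ : Fin 3 → F, Ax H φ := by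
  have hXR : X * R = 1 := mul_eq_one_comm.mp hRX
  have hd : ∀ i j : Fin 3, R i ⬝ᵥ (fun k => X k j) = (1 : Matrix (Fin 3) (Fin 3) F) i j := by
    intro i j
    rw [← hRX]
    rfl
  have step1 : ∀ a b : F, Ax H (a • R 0 + b • R 1) := by
    intro a b
    by_cases hb : b = 0
    · rw [hb, zero_smul, add_zero]
      exact h0.smul a
    · have := (Ax.add_smul h0 h1 (fun k => X k 1) (by rw [hd]; simp) (by rw [hd]; simp) (a / b)).smul b
      have e : b • (R 1 + (a / b) • R 0) = a • R 0 + b • R 1 := by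
        rw [smul_add, smul_smul, mul_div_cancel₀ a hb, add_comm]
      rwa [e] at this
  have step2 : ∀ a b c : F, Ax H (a • R 0 + b • R 1 + c • R 2) := by
    intro a b c
    by_cases hc : c = 0
    · rw [hc, zero_smul, add_zero]
      exact step1 a b
    · have hx0 : ((a / c) • R 0 + (b / c) • R 1) ⬝ᵥ (fun k => X k 2) = 0 := by
        rw [add_dotProduct, smul_dotProduct, smul_dotProduct, hd, hd]
        simp
      have := (Ax.add_smul (step1 (a / c) (b / c)) h2 (fun k => X k 2) hx0 (by rw [hd]; simp) 1).smul c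
      have e : c • (R 2 + (1 : F) • ((a / c) • R 0 + (b / c) • R 1)) = a • R 0 + b • R 1 + c • R 2 := by
        rw [one_smul, smul_add, smul_add, smul_smul, smul_smul, mul_div_cancel₀ a hc,
          mul_div_cancel₀ b hc, add_comm]
      rwa [e] at this
  intro φ
  have e : φ = (φ ᵥ* X) 0 • R 0 + (φ ᵥ* X) 1 • R 1 + (φ ᵥ* X) 2 • R 2 := by
    have : φ = (φ ᵥ* X) ᵥ* R := by rw [vecMul_vecMul, hXR, vecMul_one]
    conv_lhs => rw [this]
    ext j
    simp [vecMul, dotProduct, Fin.sum_univ_three]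
  rw [e]
  exact step2 _ _ _

theorem main3 (φ : Fin 3 → F) (hφ : Ax H φ) (g1 g1i g2 g2i : Matrix (Fin 3) (Fin 3) F)
    (hg1 : InH H g1) (h1 : g1 * g1i = 1) (hg2 : InH H g2) (h2 : g2 * g2i = 1)
    (X : Matrix (Fin 3) (Fin 3) F)
    (hX : (Matrix.of ![φ, φ ᵥ* g1i, φ ᵥ* g2i] : Matrix (Fin 3) (Fin 3) F) * X = 1) : H = ⊤ := by
  have hall := span3 (H := H) (Matrix.of ![φ, φ ᵥ* g1i, φ ᵥ* g2i]) X hX hφ (hφ.act hg1 h1) (hφ.act hg2 h2)
  apply eq_top_of_all (le_refl 3)
  intro i j hij c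
  have := hall (Pi.single j 1) (Pi.single i c) (by
    rw [dotProduct_comm, single_dotProduct]
    simp [hij.symm])
  have e : (1 + vecMulVec (Pi.single i c) (Pi.single j 1) : Matrix (Fin 3) (Fin 3) F) = 1 + single i j c := by
    congr 1
    ext a b
    simp only [vecMulVec_apply, single_apply, Pi.single_apply]
    by_cases ha : a = i
    · by_cases hb : b = j
      · subst ha; subst hb; simp
      · have hb' : ¬ j = b := fun h => hb h.symm
        simp [hb, hb']
    · have ha' : ¬ i = a := fun h => ha h.symm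
      simp [ha, ha']
  rwa [e] at this

end three

end Cfsg.Agent.Lib.helper15.RU
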