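import Mathlib

set_option autoImplicit false

namespace Cfsg.Agent.Lib.helper15.RU

section scaling

variable {F : Type*} [Field F] [Fintype F]

def stabRing (A : AddSubgroup F) : Subring F where
  carrier := {c | ∀ a ∈ A, c * a ∈ A}
  mul_mem' := by
    intro c d hc hd a ha
    rw [mul_assoc]
    exact hc _ (hd a ha)
  one_mem' := by
    intro a ha
    rwa [one_mul]
  add_mem' := by
    intro c d hc hd a ha
    rw [add_mul]
    exact A.add_mem (hc a ha) (hd a ha)
  zero_mem' := by
    intro a _
    rw [zero_mul]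
    exact A.zero_mem
  neg_mem' := by
    intro c hc a ha
    rw [neg_mul]
    exact A.neg_mem (hc a ha)

theorem mem_stabRing (A : AddSubgroup F) (c : F) : c ∈ stabRing A ↔ ∀ a ∈ A, c * a ∈ A := Iff.rfl

def stabUnits (A : AddSubgroup F) : Subgroup Fˣ where
  carrier := {x | (x : F) ∈ stabRing A}
  mul_mem' := by
    intro x y hx hy
    show ((x * y : Fˣ) : F) ∈ stabRing A
    rw [Units.val_mul]
    exact (stabRing A).mul_mem hx hy
  one_mem' := by
    show ((1 : Fˣ) : F) ∈ stabRing A
    rw [Units.val_one]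
    exact (stabRing A).one_mem
  inv_mem' := by
    intro x hx
    show ((x⁻¹ : Fˣ) : F) ∈ stabRing A
    have h1 : x⁻¹ = x ^ (Nat.card Fˣ - 1) := by
      have hc : 0 < Nat.card Fˣ := Nat.card_pos
      have h2 : x ^ (Nat.card Fˣ - 1) * x = 1 := by
        rw [← pow_succ, Nat.sub_add_cancel hc, pow_card_eq_one']
      exact inv_eq_of_mul_eq_one_left h2
    rw [h1, Units.val_pow_eq_pow_val]
    exact (stabRing A).pow_mem hx _

theorem mem_stabUnits (A : AddSubgroup F) (x : Fˣ) : x ∈ stabUnits A ↔ (x : F) ∈ stabRing A := Iff.rfl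

noncomputable def stabEquiv (A : AddSubgroup F) : ↥(stabRing A) ≃ Option ↥(stabUnits A) := by
  classical
  exact
  { toFun := fun c => if h : (c : F) = 0 then none else some ⟨Units.mk0 (c : F) h, by
      rw [mem_stabUnits, Units.val_mk0]
      exact c.2⟩
    invFun := fun o => match o with
      | none => ⟨0, (stabRing A).zero_mem⟩
      | some x => ⟨((x : Fˣ) : F), x.2⟩
    left_inv := by
      intro c
      by_cases h : (c : F) = 0
      · simp only [h, dite_true]
        exact Subtype.ext h.symm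
      · simp only [h, dite_false]
        rfl
    right_inv := by
      intro o
      cases o with
      | none => simp
      | some x =>
        have hx : ((x : Fˣ) : F) ≠ 0 := Units.ne_zero _
        simp only [hx, dite_false]
        congr 1
        apply Subtype.ext
        apply Units.ext
        rfl }

theorem card_stabRing (A : AddSubgroup F) :
    Nat.card ↥(stabRing A) = Nat.card ↥(stabUnits A) + 1 := by
  rw [Nat.card_congr (stabEquiv A), Finite.card_option]

theorem addSubgroup_eq_top_of_scaling (ν : Fˣ) (hν : ∀ x : Fˣ, x ∈ Subgroup.zpowers ν)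
    (hq4 : Fintype.card F ≠ 4)
    (A : AddSubgroup F) (hA : ∀ a ∈ A, ((ν : F) ^ 3) * a ∈ A) (c0 : F) (hc0 : c0 ∈ A) (hc0' : c0 ≠ 0) :
    A = ⊤ := by
  classical
  have hθ : ν ^ 3 ∈ stabUnits A := by
    rw [mem_stabUnits, Units.val_pow_eq_pow_val]
    exact hA
  obtain ⟨m, hm⟩ : ∃ m, m = Nat.card ↥(stabUnits A) := ⟨_, rfl⟩
  obtain ⟨N, hN⟩ : ∃ N, N = Nat.card Fˣ := ⟨_, rfl⟩
  have hmN : m ∣ N := by
    rw [hm, hN]
    exact Subgroup.card_subgroup_dvd_card _
  have hm0 : 0 < m := by
    rw [hm]
    exact Nat.card_pos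
  have hordν : orderOf ν = N := by
    rw [hN]
    exact orderOf_eq_card_of_forall_mem_zpowers hν
  have hN3m : N ∣ 3 * m := by
    rw [← hordν]
    apply orderOf_dvd_of_pow_eq_one
    have h1 : ((⟨ν ^ 3, hθ⟩ : ↥(stabUnits A)) ^ m) = 1 := by
      rw [hm]
      exact pow_card_eq_one'
    have h2 := congrArg (fun x : ↥(stabUnits A) => (x : Fˣ)) h1
    simp only [Subgroup.coe_pow, Subgroup.coe_one] at h2
    rw [pow_mul]
    exact h2
  have hq : Nat.card F = N + 1 := by
    rw [hN, Nat.card_units]
    have : 0 < Nat.card F := Nat.card_pos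
    omega
  have hm1 : (m + 1) ∣ N + 1 := by
    rw [← hq, hm, ← card_stabRing]
    exact AddSubgroup.card_addSubgroup_dvd_card (stabRing A).toAddSubgroup
  have hmeq : m = N := by
    obtain ⟨t, ht⟩ := hmN
    have ht3 : t ∣ 3 := by
      rw [ht, mul_comm 3 m] at hN3m
      exact Nat.dvd_of_mul_dvd_mul_left hm0 hN3m
    rcases (Nat.dvd_prime Nat.prime_three).mp ht3 with h | h
    · rw [ht, h, mul_one]
    · exfalso
      rw [h] at ht
      rw [ht] at hm1
      have h2 : (m + 1) ∣ 2 := by
        have h3 : (m + 1) ∣ 3 * (m + 1) := Dvd.intro_left 3 rfl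
        have h4 : 3 * (m + 1) = (m * 3 + 1) + 2 := by ring
        rw [h4] at h3
        exact (Nat.dvd_add_right hm1).mp h3
      have h5 : m + 1 ≤ 2 := Nat.le_of_dvd (by norm_num) h2
      have h6 : m = 1 := by omega
      apply hq4
      rw [← Nat.card_eq_fintype_card, hq, ht, h6]
  have htop : stabUnits A = ⊤ := by
    apply Subgroup.eq_top_of_card_eq
    rw [← hm, hmeq, hN]
  rw [eq_top_iff]
  intro y _
  by_cases hy : y = 0
  · rw [hy]
    exact A.zero_mem
  · have hu : Units.mk0 (y / c0) (div_ne_zero hy hc0') ∈ stabUnits A := by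
      rw [htop]
      exact Subgroup.mem_top _
    rw [mem_stabUnits, Units.val_mk0] at hu
    have := hu c0 hc0
    rwa [div_mul_cancel₀ y hc0'] at this

end scaling

end Cfsg.Agent.Lib.helper15.RU
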