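import Mathlib
import Cfsg.Agent.S2280
import Cfsg.Agent.Lib.helper15.RU1
import Cfsg.Agent.Lib.helper15.RU2

set_option autoImplicit false

namespace Cfsg.Agent.Lib.helper15.RU

open Matrix Cfsg.Agent.S2280

section mats

variable {F : Type*} [Field F]

theorem e01_eq (k : F) : (1 + single 0 1 k : Matrix (Fin 3) (Fin 3) F) = !![1, k, 0; 0, 1, 0; 0, 0, 1] := by
  ext i j; fin_cases i <;> fin_cases j <;> simp

theorem e12_eq (k : F) : (1 + single 1 2 k : Matrix (Fin 3) (Fin 3) F) = !![1, 0, 0; 0, 1, k; 0, 0, 1] := by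
  ext i j; fin_cases i <;> fin_cases j <;> simp

theorem e02_eq (k : F) : (1 + single 0 2 k : Matrix (Fin 3) (Fin 3) F) = !![1, 0, k; 0, 1, 0; 0, 0, 1] := by
  ext i j; fin_cases i <;> fin_cases j <;> simp

def uM (x w : F) : Matrix (Fin 3) (Fin 3) F :=
  !![0, x, 1 + x * w; 1, 3 - w, (3 - w) * w - 3 - x; 0, 1, w]

def uI (x w : F) : Matrix (Fin 3) (Fin 3) F :=
  !![3 + x, 1, x * ((3 - w) * w - 3 - x) - (1 + x * w) * (3 - w); -w, 0, 1 + x * w; 1, 0, -x]

def wM (ν κ μ : F) : Matrix (Fin 3) (Fin 3) F := !![ν, κ, 0; 0, ν, 0; 0, 0, μ]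

def sM (ν μ : F) : Matrix (Fin 3) (Fin 3) F := !![ν, 0, 0; 0, ν, 0; 0, 0, μ]

def jM : Matrix (Fin 3) (Fin 3) F := !![1, 1, 0; 0, 1, 1; 0, 0, 1]

def buM (x w : F) : Matrix (Fin 3) (Fin 3) F := !![x + 1, -1, 1; 1 - w, 1, 0; 1, 0, 0]

theorem uM_mul_uI (x w : F) : uM x w * uI x w = 1 := by
  ext i j; fin_cases i <;> fin_cases j <;>
    simp [uM, uI, Matrix.mul_apply, Fin.sum_univ_three] <;> ring

theorem uI_mul_uM (x w : F) : uI x w * uM x w = 1 := mul_eq_one_comm.mp (uM_mul_uI x w)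

theorem det_uM (x w : F) : (uM x w).det = 1 := by
  rw [uM, Matrix.det_fin_three]
  simp

theorem uM_buM (x w : F) : uM x w * buM x w = buM x w * jM := by
  ext i j; fin_cases i <;> fin_cases j <;>
    simp [uM, buM, jM, Matrix.mul_apply, Fin.sum_univ_three] <;> ring

theorem det_buM (x w : F) : (buM x w).det = -1 := by
  rw [buM, Matrix.det_fin_three]
  simp

theorem uM_nilp (x w : F) : (uM x w - 1) ^ 3 = 0 := by
  rw [pow_succ, pow_two]
  ext i j; fin_cases i <;> fin_cases j <;>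
    simp [uM, Matrix.mul_apply, Fin.sum_univ_three, Matrix.one_apply] <;> ring

theorem uM_sq_ne (x w : F) : (uM x w - 1) ^ 2 ≠ 0 := by
  intro h
  have h2 := congrFun (congrFun h 2) 0
  rw [pow_two] at h2
  simp [uM, Matrix.mul_apply, Fin.sum_univ_three, Matrix.one_apply] at h2

def kapF (ν w : F) : F := 3 * ν * (1 - ν) + w * ν * (ν ^ 3 - 1)

def xF (ν w : F) : F := ν ^ 2 * (3 * (1 - ν) + kapF ν w * w) / (ν ^ 3 - 1)

def vM (ν w : F) : Matrix (Fin 3) (Fin 3) F := uI (xF ν w) w * wM ν (kapF ν w) (ν ^ 2)⁻¹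

def e0v : Fin 3 → F := ![1, 0, 0]

def cyc1 (a : Matrix (Fin 3) (Fin 3) F) : Fin 3 → F := (a - 1) *ᵥ e0v

def cyc2 (a : Matrix (Fin 3) (Fin 3) F) : Fin 3 → F := (a - 1) *ᵥ cyc1 a

def cycB (a : Matrix (Fin 3) (Fin 3) F) : Matrix (Fin 3) (Fin 3) F :=
  Matrix.of fun i j => ![cyc2 a i, cyc1 a i, e0v i] j

theorem mulVec_eq_add (a : Matrix (Fin 3) (Fin 3) F) (z : Fin 3 → F) :
    a *ᵥ z = z + (a - 1) *ᵥ z := by
  rw [sub_mulVec, one_mulVec]
  abel

theorem cycB_conj (a : Matrix (Fin 3) (Fin 3) F) (h : (a - 1) *ᵥ cyc2 a = 0) :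
    a * cycB a = cycB a * jM := by
  have h2 : a *ᵥ cyc2 a = cyc2 a := by rw [mulVec_eq_add, h, add_zero]
  have h1 : a *ᵥ cyc1 a = cyc1 a + cyc2 a := by rw [mulVec_eq_add]; rfl
  have h0 : a *ᵥ e0v = e0v + cyc1 a := by rw [mulVec_eq_add]; rfl
  ext i j
  fin_cases j
  · have := congrFun h2 i
    simp only [mulVec, dotProduct] at this
    simp [cycB, jM, Matrix.mul_apply, Fin.sum_univ_three] at this ⊢
    linear_combination this
  · have := congrFun h1 i
    simp only [mulVec, dotProduct] at this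
    simp [cycB, jM, Matrix.mul_apply, Fin.sum_univ_three] at this ⊢
    linear_combination this
  · have := congrFun h0 i
    simp only [mulVec, dotProduct] at this
    simp [cycB, jM, Matrix.mul_apply, Fin.sum_univ_three] at this ⊢
    linear_combination this

theorem vM_cyc (ν w : F) (hν : ν ≠ 0) (hν3 : ν ^ 3 - 1 ≠ 0) :
    (vM ν w - 1) *ᵥ cyc2 (vM ν w) = 0 := by
  ext i
  fin_cases i <;>
    simp [cyc2, cyc1, e0v, vM, uI, wM, xF, kapF, Matrix.mulVec, dotProduct, Matrix.mul_apply,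
      Fin.sum_univ_three, Matrix.one_apply] <;> field_simp <;> ring

theorem det_cycB_vM (ν w : F) (hν : ν ≠ 0) (hν3 : ν ^ 3 - 1 ≠ 0) :
    (cycB (vM ν w)).det = 1 := by
  rw [Matrix.det_fin_three]
  simp [cycB, cyc2, cyc1, e0v, vM, uI, wM, xF, kapF, Matrix.mulVec, dotProduct,
    Fin.sum_univ_three, Matrix.one_apply]
  field_simp
  ring

theorem exists_conj (u : Matrix.SpecialLinearGroup (Fin 3) F) (vm Bu Bv : Matrix (Fin 3) (Fin 3) F)
    (hu : (u : Matrix (Fin 3) (Fin 3) F) * Bu = Bu * jM) (hv : vm * Bv = Bv * jM)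
    (dBu : Bu.det = -1) (dBv : Bv.det = 1) :
    ∃ g : Matrix.SpecialLinearGroup (Fin 3) F,
      ((g * u * g⁻¹ : Matrix.SpecialLinearGroup (Fin 3) F) : Matrix (Fin 3) (Fin 3) F) = vm := by
  have hdet : (Bv * adjugate Bu).det = 1 := by
    rw [det_mul, det_adjugate, dBu, dBv]
    simp
  refine ⟨⟨Bv * adjugate Bu, hdet⟩, ?_⟩
  apply coe_conj_eq
  show Bv * adjugate Bu * (u : Matrix (Fin 3) (Fin 3) F) = vm * (Bv * adjugate Bu)
  have a1 : adjugate Bu * Bu = -1 := by rw [adjugate_mul, dBu]; simp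
  have a2 : Bu * adjugate Bu = -1 := by rw [mul_adjugate, dBu]; simp
  have k1 : adjugate Bu * (u : Matrix (Fin 3) (Fin 3) F) = jM * adjugate Bu := by
    have e1 : adjugate Bu * (u : Matrix (Fin 3) (Fin 3) F) * (Bu * adjugate Bu)
        = adjugate Bu * Bu * jM * adjugate Bu := by
      rw [← Matrix.mul_assoc, Matrix.mul_assoc (adjugate Bu), hu, ← Matrix.mul_assoc]
    rw [a1, a2] at e1
    simp only [Matrix.mul_neg, Matrix.mul_one, Matrix.neg_mul, Matrix.one_mul] at e1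
    exact neg_injective e1
  rw [Matrix.mul_assoc, k1, ← Matrix.mul_assoc, ← hv, Matrix.mul_assoc]

theorem wM_eq (ν k μ : F) : wM ν (ν * k) μ = sM ν μ * (1 + single 0 1 k) := by
  rw [e01_eq]
  ext i j; fin_cases i <;> fin_cases j <;> simp [wM, sM, Matrix.mul_apply, Fin.sum_univ_three]

theorem sM_comm (ν k μ : F) : sM ν μ * (1 + single 0 1 k) = (1 + single 0 1 k) * sM ν μ := by
  rw [e01_eq]
  ext i j; fin_cases i <;> fin_cases j <;> simp [sM, Matrix.mul_apply, Fin.sum_univ_three]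
  ring

theorem sM_pow (ν μ : F) (m : ℕ) : sM ν μ ^ m = sM (ν ^ m) (μ ^ m) := by
  induction m with
  | zero =>
    ext i j; fin_cases i <;> fin_cases j <;> simp [sM]
  | succ m ih =>
    rw [pow_succ, ih]
    ext i j; fin_cases i <;> fin_cases j <;> simp [sM, Matrix.mul_apply, Fin.sum_univ_three, pow_succ]

theorem e01_pow (k : F) (m : ℕ) :
    (1 + single 0 1 k : Matrix (Fin 3) (Fin 3) F) ^ m = 1 + single 0 1 ((m : F) * k) := by
  induction m with
  | zero => simp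
  | succ m ih =>
    rw [pow_succ, ih, E_mul_E (by decide)]
    congr 2
    push_cast
    ring

theorem sM_e12 (ν μ c : F) (hμ : μ ≠ 0) :
    sM ν μ * (1 + single 1 2 c) = (1 + single 1 2 (c * ν * μ⁻¹)) * sM ν μ := by
  rw [e12_eq, e12_eq]
  ext i j; fin_cases i <;> fin_cases j <;> simp [sM, Matrix.mul_apply, Fin.sum_univ_three]
  field_simp

def tauM (a b : F) : Matrix (Fin 3) (Fin 3) F := !![1, 0, 0; a, 1, b; 0, 0, 1]

theorem uM_e01 (x w k : F) :
    uM x w * (1 + single 0 1 k) = tauM (-(k * w)) (k * (1 + x * w)) * uM x w := by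
  rw [e01_eq]
  ext i j; fin_cases i <;> fin_cases j <;>
    simp [uM, tauM, Matrix.mul_apply, Fin.sum_univ_three] <;> ring

theorem sM_tauM (ν μ a b : F) (hμ : μ ≠ 0) :
    sM ν μ * tauM a b = tauM a (b * ν * μ⁻¹) * sM ν μ := by
  ext i j; fin_cases i <;> fin_cases j <;> simp [sM, tauM, Matrix.mul_apply, Fin.sum_univ_three]
  · ring
  · field_simp

theorem tauM_e12 (a b c : F) : tauM a b * (1 + single 1 2 c) = tauM a (b + c) := by
  rw [e12_eq]
  ext i j; fin_cases i <;> fin_cases j <;> simp [tauM, Matrix.mul_apply, Fin.sum_univ_three]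
  ring

theorem comm_e01_e12 (a c : F) :
    (1 + single 0 1 a) * (1 + single 1 2 c) * (1 + single 0 1 (-a)) * (1 + single 1 2 (-c))
      = (1 + single 0 2 (a * c) : Matrix (Fin 3) (Fin 3) F) := by
  rw [e01_eq, e12_eq, e01_eq, e12_eq, e02_eq]
  ext i j; fin_cases i <;> fin_cases j <;> simp [Matrix.mul_apply, Fin.sum_univ_three]

theorem tv_e2 (x : Fin 3 → F) (hx : x 2 = 0) :
    (1 + vecMulVec x ![0, 0, 1] : Matrix (Fin 3) (Fin 3) F)
      = (1 + single 0 2 (x 0)) * (1 + single 1 2 (x 1)) := by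
  rw [e02_eq, e12_eq]
  ext i j; fin_cases i <;> fin_cases j <;>
    simp [Matrix.mul_apply, Fin.sum_univ_three, vecMulVec_apply, hx]

def xInv (x w : F) : Matrix (Fin 3) (Fin 3) F :=
  !![x, 1, 0;
     -(3 * x) - (x * ((3 - w) * w - 3 - x) - (1 + x * w) * (3 - w) + x * x), -3, 1;
     1, 0, 0]

theorem rows_mul_xInv (x w : F) :
    (Matrix.of ![![0, 0, 1], ![0, 0, 1] ᵥ* uI x w, ![0, 0, 1] ᵥ* (uI x w * uI x w)] :
      Matrix (Fin 3) (Fin 3) F) * xInv x w = 1 := by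
  ext i j; fin_cases i <;> fin_cases j <;>
    simp [uI, xInv, Matrix.mul_apply, Fin.sum_univ_three, vecMul, dotProduct] <;> ring

end mats

section assembly

variable {F : Type*} [Field F] [Fintype F]

theorem inH_pow {H : Subgroup (Matrix.SpecialLinearGroup (Fin 3) F)} {A : Matrix (Fin 3) (Fin 3) F}
    (hA : InH H A) (m : ℕ) : InH H (A ^ m) := by
  induction m with
  | zero => rw [pow_zero]; exact InH.one
  | succ m ih => rw [pow_succ]; exact ih.mul hA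

theorem family_gen (γ : Fˣ) (hγ : ∀ x : Fˣ, x ∈ Subgroup.zpowers γ) (hq4 : Fintype.card F ≠ 4)
    (w : F) (hν3 : (γ : F) ^ 3 - 1 ≠ 0) (hk : kapF (γ : F) w ≠ 0)
    (hc : 1 + xF (γ : F) w * w ≠ 0) :
    ∃ u g : Matrix.SpecialLinearGroup (Fin 3) F,
      IsNilpotent ((u : Matrix (Fin 3) (Fin 3) F) - 1) ∧
      ((u : Matrix (Fin 3) (Fin 3) F) - 1) ^ (3 - 1) ≠ 0 ∧
      Subgroup.closure ({u, g * u * g⁻¹} : Set (Matrix.SpecialLinearGroup (Fin 3) F)) = ⊤ := by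
  classical
  obtain ⟨ν, hνdef⟩ : ∃ ν : F, ν = (γ : F) := ⟨_, rfl⟩
  rw [← hνdef] at hν3 hk hc
  have hν0 : ν ≠ 0 := by rw [hνdef]; exact Units.ne_zero γ
  obtain ⟨x, hx⟩ : ∃ x : F, x = xF ν w := ⟨_, rfl⟩
  obtain ⟨μ, hμ⟩ : ∃ μ : F, μ = (ν ^ 2)⁻¹ := ⟨_, rfl⟩
  have hμ0 : μ ≠ 0 := by rw [hμ]; exact inv_ne_zero (pow_ne_zero 2 hν0)
  obtain ⟨k, hkdef⟩ : ∃ k : F, k = kapF ν w / ν := ⟨_, rfl⟩
  have hk0 : k ≠ 0 := by rw [hkdef]; exact div_ne_zero hk hν0
  have hκ : kapF ν w = ν * k := by rw [hkdef]; field_simp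
  obtain ⟨u, hu⟩ : ∃ u : Matrix.SpecialLinearGroup (Fin 3) F,
      (u : Matrix (Fin 3) (Fin 3) F) = uM x w := ⟨⟨uM x w, det_uM x w⟩, rfl⟩
  obtain ⟨g, hg⟩ := exists_conj u (vM ν w) (buM x w) (cycB (vM ν w))
    (by rw [hu]; exact uM_buM x w) (cycB_conj _ (vM_cyc ν w hν0 hν3)) (det_buM x w)
    (det_cycB_vM ν w hν0 hν3)
  refine ⟨u, g, ?_, ?_, ?_⟩
  · rw [hu]
    exact ⟨3, uM_nilp x w⟩
  · rw [hu]
    exact uM_sq_ne x w
  obtain ⟨H, hH⟩ : ∃ H : Subgroup (Matrix.SpecialLinearGroup (Fin 3) F),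
      H = Subgroup.closure {u, g * u * g⁻¹} := ⟨_, rfl⟩
  rw [← hH]
  have hu' : InH H (uM x w) := by
    refine ⟨u, ?_, hu⟩
    rw [hH]
    exact Subgroup.subset_closure (by simp)
  have hv' : InH H (vM ν w) := by
    refine ⟨g * u * g⁻¹, ?_, hg⟩
    rw [hH]
    exact Subgroup.subset_closure (by simp)
  have hW : InH H (wM ν (ν * k) μ) := by
    have e : uM x w * vM ν w = wM ν (ν * k) μ := by
      rw [vM, ← hx, ← Matrix.mul_assoc, uM_mul_uI, Matrix.one_mul, hκ, hμ]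
    rw [← e]
    exact hu'.mul hv'
  have hS : InH H (sM ν μ) := by
    have h1 := inH_pow hW (Fintype.card F)
    rw [wM_eq, (show Commute (sM ν μ) (1 + single 0 1 k) from sM_comm ν k μ).mul_pow, sM_pow,
      e01_pow, FiniteField.pow_card, FiniteField.pow_card, FiniteField.cast_card_eq_zero, zero_mul,
      E_zero, Matrix.mul_one] at h1
    exact h1
  have hT : InH H (1 + single 0 1 k) := by
    apply hS.cancel_left
    rw [← wM_eq]
    exact hW
  have hτ : InH H (tauM (-(k * w)) (k * (1 + x * w))) := hu'.conj hT (uM_e01 x w k)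
  have hτ' : InH H (tauM (-(k * w)) (k * (1 + x * w) * ν * μ⁻¹)) :=
    hS.conj hτ (sM_tauM ν μ _ _ hμ0)
  obtain ⟨c1, hc1⟩ : ∃ c1 : F, c1 = k * (1 + x * w) * ν * μ⁻¹ - k * (1 + x * w) := ⟨_, rfl⟩
  have hE1 : InH H (1 + single 1 2 c1) := by
    apply hτ.cancel_left
    rw [tauM_e12, hc1]
    have : k * (1 + x * w) + (k * (1 + x * w) * ν * μ⁻¹ - k * (1 + x * w))
        = k * (1 + x * w) * ν * μ⁻¹ := by ring
    rw [this]
    exact hτ'
  have hνμ : ν * μ⁻¹ = ν ^ 3 := by rw [hμ, inv_inv]; ring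
  have hc10 : c1 ≠ 0 := by
    have : c1 = k * (1 + x * w) * (ν ^ 3 - 1) := by rw [hc1, ← hνμ]; ring
    rw [this, hx]
    exact mul_ne_zero (mul_ne_zero hk0 hc) hν3
  have h12 : (1 : Fin 3) ≠ 2 := by decide
  have h01 : (0 : Fin 3) ≠ 1 := by decide
  have h02 : (0 : Fin 3) ≠ 2 := by decide
  obtain ⟨A, hA⟩ : ∃ A : AddSubgroup F, ∀ c, c ∈ A ↔ InH H (1 + single 1 2 c) :=
    ⟨{ carrier := {c | InH H (1 + single 1 2 c)}
       add_mem' := fun ha hb => InH.E_add h12 ha hb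
       zero_mem' := InH.E_zero' 1 2
       neg_mem' := fun ha => InH.E_neg h12 ha }, fun c => Iff.rfl⟩
  have hAtop : A = ⊤ := by
    apply addSubgroup_eq_top_of_scaling γ hγ hq4 A _ c1 ((hA c1).mpr hE1) hc10
    intro a ha
    rw [hA] at ha ⊢
    have := hS.conj ha (sM_e12 ν μ a hμ0)
    have e : a * ν * μ⁻¹ = (γ : F) ^ 3 * a := by rw [mul_assoc, hνμ, hνdef]; ring
    rwa [e] at this
  have hall12 : ∀ c : F, InH H (1 + single 1 2 c) := by
    intro c
    rw [← hA, hAtop]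
    exact AddSubgroup.mem_top c
  have hall02 : ∀ c : F, InH H (1 + single 0 2 c) := by
    intro c
    have := ((hT.mul (hall12 (c / k))).mul (hT.E_neg h01)).mul (hall12 (-(c / k)))
    rw [comm_e01_e12, mul_div_cancel₀ c hk0] at this
    exact this
  have hAx : Ax H ![0, 0, 1] := by
    intro y hy
    have hy2 : y 2 = 0 := by
      simpa [dotProduct, Fin.sum_univ_three] using hy
    rw [tv_e2 y hy2]
    exact (hall02 _).mul (hall12 _)
  exact main3 ![0, 0, 1] hAx (uM x w) (uI x w) (uM x w * uM x w) (uI x w * uI x w) hu'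
    (uM_mul_uI x w) (hu'.mul hu')
    (by rw [Matrix.mul_assoc, ← Matrix.mul_assoc (uM x w) (uI x w), uM_mul_uI, Matrix.one_mul, uM_mul_uI])
    (xInv x w) (rows_mul_xInv x w)

end assembly

end Cfsg.Agent.Lib.helper15.RU
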