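import Mathlib
import Cfsg.Agent.Lib.helper15.RU3

set_option autoImplicit false

namespace Cfsg.Agent.Lib.helper15.RU

open Matrix Cfsg.Agent.S2280

section inst

variable {F : Type*} [Field F] [Fintype F]

theorem gen_cube_ne_one (γ : Fˣ) (hγ : ∀ x : Fˣ, x ∈ Subgroup.zpowers γ)
    (hq2 : Fintype.card F ≠ 2) (hq4 : Fintype.card F ≠ 4) : (γ : F) ^ 3 - 1 ≠ 0 := by
  classical
  intro h
  have h1 : γ ^ 3 = 1 := by
    apply Units.ext
    rw [Units.val_pow_eq_pow_val, Units.val_one]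
    exact sub_eq_zero.mp h
  have h2 : orderOf γ ∣ 3 := orderOf_dvd_of_pow_eq_one h1
  have h3 : orderOf γ = Fintype.card Fˣ := by
    rw [← Nat.card_eq_fintype_card]
    exact orderOf_eq_card_of_forall_mem_zpowers hγ
  rw [h3, Fintype.card_units] at h2
  have hpos : 0 < Fintype.card F := Fintype.card_pos
  rcases (Nat.dvd_prime Nat.prime_three).mp h2 with h4 | h4
  · apply hq2; omega
  · apply hq4; omega

theorem gen_ne_one (γ : Fˣ) (hγ : ∀ x : Fˣ, x ∈ Subgroup.zpowers γ)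
    (hq2 : Fintype.card F ≠ 2) : (γ : F) ≠ 1 := by
  classical
  intro h
  have h1 : γ = 1 := Units.ext h
  have h3 : orderOf γ = Fintype.card Fˣ := by
    rw [← Nat.card_eq_fintype_card]
    exact orderOf_eq_card_of_forall_mem_zpowers hγ
  rw [h1, orderOf_one, Fintype.card_units] at h3
  have hpos : 0 < Fintype.card F := Fintype.card_pos
  apply hq2; omega

theorem gen_not3 (h3 : (3 : F) ≠ 0) (hq2 : Fintype.card F ≠ 2) (hq4 : Fintype.card F ≠ 4) :
    ∃ u g : Matrix.SpecialLinearGroup (Fin 3) F,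
      IsNilpotent ((u : Matrix (Fin 3) (Fin 3) F) - 1) ∧
      ((u : Matrix (Fin 3) (Fin 3) F) - 1) ^ (3 - 1) ≠ 0 ∧
      Subgroup.closure ({u, g * u * g⁻¹} : Set (Matrix.SpecialLinearGroup (Fin 3) F)) = ⊤ := by
  obtain ⟨γ, hγ⟩ := IsCyclic.exists_generator (α := Fˣ)
  have hc3 := gen_cube_ne_one γ hγ hq2 hq4
  have h1 := gen_ne_one γ hγ hq2
  apply family_gen γ hγ hq4 0 hc3
  · rw [kapF]
    have : (3 : F) * (γ : F) * (1 - (γ : F)) + 0 * (γ : F) * ((γ : F) ^ 3 - 1)
        = 3 * (γ : F) * (1 - (γ : F)) := by ring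
    rw [this]
    exact mul_ne_zero (mul_ne_zero h3 (Units.ne_zero γ)) (sub_ne_zero.mpr (Ne.symm h1))
  · rw [mul_zero, add_zero]
    exact one_ne_zero

theorem gen_char3 (h3 : (3 : F) = 0) :
    ∃ u g : Matrix.SpecialLinearGroup (Fin 3) F,
      IsNilpotent ((u : Matrix (Fin 3) (Fin 3) F) - 1) ∧
      ((u : Matrix (Fin 3) (Fin 3) F) - 1) ^ (3 - 1) ≠ 0 ∧
      Subgroup.closure ({u, g * u * g⁻¹} : Set (Matrix.SpecialLinearGroup (Fin 3) F)) = ⊤ := by
  have hcard : (Fintype.card F : F) = 0 := FiniteField.cast_card_eq_zero F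
  have hq2 : Fintype.card F ≠ 2 := by
    intro h
    rw [h] at hcard
    have : (1 : F) = 0 := by
      have e : (1 : F) = 3 - ((2 : ℕ) : F) := by push_cast; ring
      rw [e, h3, hcard, sub_zero]
    exact one_ne_zero this
  have hq4 : Fintype.card F ≠ 4 := by
    intro h
    rw [h] at hcard
    have : (1 : F) = 0 := by
      have e : (1 : F) = ((4 : ℕ) : F) - 3 := by push_cast; ring
      rw [e, h3, hcard, sub_zero]
    exact one_ne_zero this
  obtain ⟨γ, hγ⟩ := IsCyclic.exists_generator (α := Fˣ)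
  have hc3 := gen_cube_ne_one γ hγ hq2 hq4
  have hx : xF (γ : F) (-1) = (γ : F) ^ 3 := by
    rw [xF, kapF, div_eq_iff hc3]
    linear_combination ((γ : F) ^ 2 * (1 - (γ : F)) ^ 2) * h3
  apply family_gen γ hγ hq4 (-1) hc3
  · have e : kapF (γ : F) (-1) = -((γ : F) * ((γ : F) ^ 3 - 1)) := by
      rw [kapF]
      linear_combination ((γ : F) * (1 - (γ : F))) * h3
    rw [e]
    exact neg_ne_zero.mpr (mul_ne_zero (Units.ne_zero γ) hc3)
  · rw [hx]
    intro h
    apply hc3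
    linear_combination -h

end inst

end Cfsg.Agent.Lib.helper15.RU
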