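import Mathlib
import Cfsg.Agent.Lib.helper15.RU3

set_option autoImplicit false

namespace Cfsg.Agent.Lib.helper15.RU

open Matrix Cfsg.Agent.S2280

def F4 : Type := ZMod 2 × ZMod 2

namespace F4

instance : DecidableEq F4 := inferInstanceAs (DecidableEq (ZMod 2 × ZMod 2))
instance : Fintype F4 := inferInstanceAs (Fintype (ZMod 2 × ZMod 2))
instance : AddCommGroup F4 := inferInstanceAs (AddCommGroup (ZMod 2 × ZMod 2))

def mk (x y : ZMod 2) : F4 := (x, y)

def mul (x y : F4) : F4 := mk (x.1 * y.1 + x.2 * y.2) (x.1 * y.2 + x.2 * y.1 + x.2 * y.2)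

instance : Mul F4 := ⟨mul⟩
instance : One F4 := ⟨mk 1 0⟩
instance : Inv F4 := ⟨fun x => mul x x⟩

instance : CommRing F4 :=
  { (inferInstance : AddCommGroup F4) with
    mul := mul
    one := mk 1 0
    left_distrib := by decide
    right_distrib := by decide
    zero_mul := by decide
    mul_zero := by decide
    mul_assoc := by decide
    one_mul := by decide
    mul_one := by decide
    mul_comm := by decide }

instance : Field F4 :=
  { (inferInstance : CommRing F4) with
    inv := fun x => mul x x
    exists_pair_ne := ⟨0, 1, by decide⟩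
    mul_inv_cancel := by decide
    inv_zero := by decide
    nnqsmul := _
    qsmul := _ }

theorem card_F4 : Fintype.card F4 = 4 := by decide

end F4

end Cfsg.Agent.Lib.helper15.RU
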