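import Mathlib
import Cfsg.Agent.Lib.helper15.RU5

set_option autoImplicit false

namespace Cfsg.Agent.Lib.helper15.RU

open Matrix Cfsg.Agent.S2280

section four

def w4 : F4 := F4.mk 0 1
def w4' : F4 := F4.mk 1 1

def u4 : Matrix (Fin 3) (Fin 3) F4 := !![1, 1, 0; 0, 1, 1; 0, 0, 1]
def v4 : Matrix (Fin 3) (Fin 3) F4 := !![w4, 0, 1; 1, 1, 0; w4, 0, w4]
def g4 : Matrix (Fin 3) (Fin 3) F4 := !![0, w4, w4; w4, w4, 0; 0, 1, w4']
def v4i : Matrix (Fin 3) (Fin 3) F4 := !![w4, 0, 1; w4, 1, 1; w4, 0, w4]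
def vu4i : Matrix (Fin 3) (Fin 3) F4 := !![w4, 1, w4; 0, 1, w4'; w4, 0, w4]
def x4 : Matrix (Fin 3) (Fin 3) F4 := !![1, w4', 0; 0, w4', w4'; 1, 0, 0]

set_option maxRecDepth 100000 in
theorem gen_four :
    ∃ u g : Matrix.SpecialLinearGroup (Fin 3) F4,
      IsNilpotent ((u : Matrix (Fin 3) (Fin 3) F4) - 1) ∧
      ((u : Matrix (Fin 3) (Fin 3) F4) - 1) ^ (3 - 1) ≠ 0 ∧
      Subgroup.closure ({u, g * u * g⁻¹} : Set (Matrix.SpecialLinearGroup (Fin 3) F4)) = ⊤ := by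
  obtain ⟨u, hu⟩ : ∃ u : Matrix.SpecialLinearGroup (Fin 3) F4,
      (u : Matrix (Fin 3) (Fin 3) F4) = u4 := ⟨⟨u4, by decide⟩, rfl⟩
  obtain ⟨g, hg⟩ : ∃ g : Matrix.SpecialLinearGroup (Fin 3) F4,
      (g : Matrix (Fin 3) (Fin 3) F4) = g4 := ⟨⟨g4, by decide⟩, rfl⟩
  refine ⟨u, g, ?_, ?_, ?_⟩
  · rw [hu]
    exact ⟨3, by decide⟩
  · rw [hu]
    decide
  obtain ⟨H, hH⟩ : ∃ H : Subgroup (Matrix.SpecialLinearGroup (Fin 3) F4),
      H = Subgroup.closure {u, g * u * g⁻¹} := ⟨_, rfl⟩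
  rw [← hH]
  have hu' : InH H u4 := by
    refine ⟨u, ?_, hu⟩
    rw [hH]
    exact Subgroup.subset_closure (by simp)
  have hv' : InH H v4 := by
    refine ⟨g * u * g⁻¹, ?_, ?_⟩
    · rw [hH]
      exact Subgroup.subset_closure (by simp)
    · apply coe_conj_eq
      rw [hg, hu]
      decide
  have t1 : InH H (!![1, 0, 1; 0, 1, 0; 0, 0, 1] : Matrix (Fin 3) (Fin 3) F4) := by
    have := hu'.mul hu'
    have e : u4 * u4 = !![1, 0, 1; 0, 1, 0; 0, 0, 1] := by decide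
    rwa [e] at this
  have t2 : InH H (!![1, 0, 1; 0, 1, w4'; 0, 0, 1] : Matrix (Fin 3) (Fin 3) F4) := by
    have := ((((hv'.mul hv').mul hu').mul hu').mul hv').mul hv'
    have e : v4 * v4 * u4 * u4 * v4 * v4 = !![1, 0, 1; 0, 1, w4'; 0, 0, 1] := by decide
    rwa [e] at this
  have t3 : InH H (!![1, 0, w4'; 0, 1, w4'; 0, 0, 1] : Matrix (Fin 3) (Fin 3) F4) := by
    have := ((((((hu'.mul hv').mul hv').mul hu').mul hu').mul hv').mul hv').mul hu'
    have e : u4 * v4 * v4 * u4 * u4 * v4 * v4 * u4 = !![1, 0, w4'; 0, 1, w4'; 0, 0, 1] := by decide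
    rwa [e] at this
  have t4 : InH H (!![1, 0, w4'; 0, 1, 1; 0, 0, 1] : Matrix (Fin 3) (Fin 3) F4) := by
    have := ((((((((((hv'.mul hv').mul hu').mul hv').mul hv').mul hu').mul hu').mul hv').mul hv').mul
      hu').mul hv').mul hv'
    have e : v4 * v4 * u4 * v4 * v4 * u4 * u4 * v4 * v4 * u4 * v4 * v4
        = !![1, 0, w4'; 0, 1, 1; 0, 0, 1] := by decide
    rwa [e] at this
  have hall : ∀ a b : F4, InH H (!![1, 0, a; 0, 1, b; 0, 0, 1] : Matrix (Fin 3) (Fin 3) F4) := by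
    have key : ∀ a b : F4, ∃ e1 e2 e3 e4 : Bool,
        (!![1, 0, a; 0, 1, b; 0, 0, 1] : Matrix (Fin 3) (Fin 3) F4) =
          (if e1 then !![1, 0, 1; 0, 1, 0; 0, 0, 1] else 1) *
          (if e2 then !![1, 0, 1; 0, 1, w4'; 0, 0, 1] else 1) *
          (if e3 then !![1, 0, w4'; 0, 1, w4'; 0, 0, 1] else 1) *
          (if e4 then !![1, 0, w4'; 0, 1, 1; 0, 0, 1] else 1) := by decide
    intro a b
    obtain ⟨e1, e2, e3, e4, he⟩ := key a b
    rw [he]
    have o : InH H (1 : Matrix (Fin 3) (Fin 3) F4) := InH.one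
    refine InH.mul (InH.mul (InH.mul ?_ ?_) ?_) ?_
    · cases e1
      · exact o
      · exact t1
    · cases e2
      · exact o
      · exact t2
    · cases e3
      · exact o
      · exact t3
    · cases e4
      · exact o
      · exact t4
  have hAx : Ax H ![0, 0, 1] := by
    intro y hy
    have hy2 : y 2 = 0 := by
      simpa [dotProduct, Fin.sum_univ_three] using hy
    have e : (1 + vecMulVec y ![0, 0, 1] : Matrix (Fin 3) (Fin 3) F4)
        = !![1, 0, y 0; 0, 1, y 1; 0, 0, 1] := by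
      ext i j; fin_cases i <;> fin_cases j <;> simp [hy2]
    rw [e]
    exact hall _ _
  have hvi : InH H v4i := hv'.of_mul_eq_one (by decide)
  have hvui : InH H vu4i := (hv'.mul hu').of_mul_eq_one (by decide)
  exact main3 ![0, 0, 1] hAx v4i v4 vu4i (v4 * u4) hvi (by decide) hvui (by decide) x4 (by decide)

end four

section two

def u2 : Matrix (Fin 3) (Fin 3) (ZMod 2) := !![1, 1, 0; 0, 1, 1; 0, 0, 1]
def v2 : Matrix (Fin 3) (Fin 3) (ZMod 2) := !![0, 1, 0; 0, 0, 1; 1, 1, 1]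
def g2 : Matrix (Fin 3) (Fin 3) (ZMod 2) := !![1, 0, 0; 1, 1, 0; 1, 0, 1]
def v2i : Matrix (Fin 3) (Fin 3) (ZMod 2) := !![1, 1, 1; 1, 0, 0; 0, 1, 0]
def vv2i : Matrix (Fin 3) (Fin 3) (ZMod 2) := !![0, 0, 1; 1, 1, 1; 1, 0, 0]
def x2 : Matrix (Fin 3) (Fin 3) (ZMod 2) := !![0, 0, 1; 1, 1, 1; 1, 0, 0]

instance : Fact (Nat.Prime 2) := ⟨Nat.prime_two⟩

set_option maxRecDepth 100000 in
theorem gen_two :
    ∃ u g : Matrix.SpecialLinearGroup (Fin 3) (ZMod 2),
      IsNilpotent ((u : Matrix (Fin 3) (Fin 3) (ZMod 2)) - 1) ∧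
      ((u : Matrix (Fin 3) (Fin 3) (ZMod 2)) - 1) ^ (3 - 1) ≠ 0 ∧
      Subgroup.closure ({u, g * u * g⁻¹} : Set (Matrix.SpecialLinearGroup (Fin 3) (ZMod 2))) = ⊤ := by
  obtain ⟨u, hu⟩ : ∃ u : Matrix.SpecialLinearGroup (Fin 3) (ZMod 2),
      (u : Matrix (Fin 3) (Fin 3) (ZMod 2)) = u2 := ⟨⟨u2, by decide⟩, rfl⟩
  obtain ⟨g, hg⟩ : ∃ g : Matrix.SpecialLinearGroup (Fin 3) (ZMod 2),
      (g : Matrix (Fin 3) (Fin 3) (ZMod 2)) = g2 := ⟨⟨g2, by decide⟩, rfl⟩
  refine ⟨u, g, ?_, ?_, ?_⟩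
  · rw [hu]
    exact ⟨3, by decide⟩
  · rw [hu]
    decide
  obtain ⟨H, hH⟩ : ∃ H : Subgroup (Matrix.SpecialLinearGroup (Fin 3) (ZMod 2)),
      H = Subgroup.closure {u, g * u * g⁻¹} := ⟨_, rfl⟩
  rw [← hH]
  have hu' : InH H u2 := by
    refine ⟨u, ?_, hu⟩
    rw [hH]
    exact Subgroup.subset_closure (by simp)
  have hv' : InH H v2 := by
    refine ⟨g * u * g⁻¹, ?_, ?_⟩
    · rw [hH]
      exact Subgroup.subset_closure (by simp)
    · apply coe_conj_eq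
      rw [hg, hu]
      decide
  have t1 : InH H (!![1, 0, 1; 0, 1, 0; 0, 0, 1] : Matrix (Fin 3) (Fin 3) (ZMod 2)) := by
    have := hu'.mul hu'
    have e : u2 * u2 = !![1, 0, 1; 0, 1, 0; 0, 0, 1] := by decide
    rwa [e] at this
  have t2 : InH H (!![1, 0, 0; 0, 1, 1; 0, 0, 1] : Matrix (Fin 3) (Fin 3) (ZMod 2)) := by
    have := ((((hv'.mul hu').mul hv').mul hu').mul hu').mul hv'
    have e : v2 * u2 * v2 * u2 * u2 * v2 = !![1, 0, 0; 0, 1, 1; 0, 0, 1] := by decide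
    rwa [e] at this
  have hall : ∀ a b : ZMod 2,
      InH H (!![1, 0, a; 0, 1, b; 0, 0, 1] : Matrix (Fin 3) (Fin 3) (ZMod 2)) := by
    have key : ∀ a b : ZMod 2, ∃ e1 e2 : Bool,
        (!![1, 0, a; 0, 1, b; 0, 0, 1] : Matrix (Fin 3) (Fin 3) (ZMod 2)) =
          (if e1 then !![1, 0, 1; 0, 1, 0; 0, 0, 1] else 1) *
          (if e2 then !![1, 0, 0; 0, 1, 1; 0, 0, 1] else 1) := by decide
    intro a b
    obtain ⟨e1, e2, he⟩ := key a b
    rw [he]
    have o : InH H (1 : Matrix (Fin 3) (Fin 3) (ZMod 2)) := InH.one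
    refine InH.mul ?_ ?_
    · cases e1
      · exact o
      · exact t1
    · cases e2
      · exact o
      · exact t2
  have hAx : Ax H ![0, 0, 1] := by
    intro y hy
    have hy2 : y 2 = 0 := by
      simpa [dotProduct, Fin.sum_univ_three] using hy
    have e : (1 + vecMulVec y ![0, 0, 1] : Matrix (Fin 3) (Fin 3) (ZMod 2))
        = !![1, 0, y 0; 0, 1, y 1; 0, 0, 1] := by
      ext i j; fin_cases i <;> fin_cases j <;> simp [hy2]
    rw [e]
    exact hall _ _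
  have hvi : InH H v2i := hv'.of_mul_eq_one (by decide)
  have hvvi : InH H vv2i := (hv'.mul hv').of_mul_eq_one (by decide)
  exact main3 ![0, 0, 1] hAx v2i v2 vv2i (v2 * v2) hvi (by decide) hvvi (by decide) x2 (by decide)

end two

section transport

variable {K F : Type*} [Field K] [Field F]

theorem transport (e : K ≃+* F)
    (h : ∃ u g : Matrix.SpecialLinearGroup (Fin 3) K,
      IsNilpotent ((u : Matrix (Fin 3) (Fin 3) K) - 1) ∧
      ((u : Matrix (Fin 3) (Fin 3) K) - 1) ^ (3 - 1) ≠ 0 ∧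
      Subgroup.closure ({u, g * u * g⁻¹} : Set (Matrix.SpecialLinearGroup (Fin 3) K)) = ⊤) :
    ∃ u g : Matrix.SpecialLinearGroup (Fin 3) F,
      IsNilpotent ((u : Matrix (Fin 3) (Fin 3) F) - 1) ∧
      ((u : Matrix (Fin 3) (Fin 3) F) - 1) ^ (3 - 1) ≠ 0 ∧
      Subgroup.closure ({u, g * u * g⁻¹} : Set (Matrix.SpecialLinearGroup (Fin 3) F)) = ⊤ := by
  obtain ⟨u, g, hnil, hne, hcl⟩ := h
  obtain ⟨f, hf⟩ : ∃ f : Matrix.SpecialLinearGroup (Fin 3) K →* Matrix.SpecialLinearGroup (Fin 3) F,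
      f = Matrix.SpecialLinearGroup.map (e : K →+* F) := ⟨_, rfl⟩
  have hcoe : ∀ x : Matrix.SpecialLinearGroup (Fin 3) K,
      ((f x : Matrix.SpecialLinearGroup (Fin 3) F) : Matrix (Fin 3) (Fin 3) F)
        = (e : K →+* F).mapMatrix (x : Matrix (Fin 3) (Fin 3) K) := by
    intro x
    rw [hf]
    rfl
  have hsurj : Function.Surjective f := by
    intro y
    refine ⟨Matrix.SpecialLinearGroup.map (e.symm : F →+* K) y, ?_⟩
    apply Subtype.ext
    rw [hcoe, Matrix.SpecialLinearGroup.map_apply_coe]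
    ext i j
    simp
  have hsub : ((f u : Matrix.SpecialLinearGroup (Fin 3) F) : Matrix (Fin 3) (Fin 3) F) - 1
      = (e : K →+* F).mapMatrix ((u : Matrix (Fin 3) (Fin 3) K) - 1) := by
    rw [hcoe, map_sub, map_one]
  refine ⟨f u, f g, ?_, ?_, ?_⟩
  · rw [hsub]
    exact hnil.map _
  · rw [hsub, ← map_pow]
    intro h0
    apply hne
    have hinj : Function.Injective ((e : K →+* F).mapMatrix (m := Fin 3)) := by
      intro A B hAB
      ext i j
      have := congrFun (congrFun hAB i) j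
      simp only [RingHom.mapMatrix_apply, Matrix.map_apply] at this
      exact e.injective this
    apply hinj
    rw [h0, map_zero]
  · have : ({f u, f g * f u * (f g)⁻¹} : Set (Matrix.SpecialLinearGroup (Fin 3) F))
        = f '' {u, g * u * g⁻¹} := by
      rw [Set.image_pair, map_mul, map_mul, map_inv]
    rw [this, ← MonoidHom.map_closure, hcl, ← MonoidHom.range_eq_map]
    exact MonoidHom.range_eq_top.mpr hsurj

end transport

end Cfsg.Agent.Lib.helper15.RU
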