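import Mathlib
import Cfsg.Agent.Lib.Helper5.S1906.Defs

/-!
# Project S1906, row L14 (helper15): `ctx_map`.
-/

set_option autoImplicit false

namespace Cfsg.Agent.Lib.Helper5.S1906

open scoped IsMulCommutative

/-- L14 -/
theorem ctx_map {H G : Type*} [Group H] [Group G] (ι : H →* G) (hι : Function.Injective ι)
    {X X0 : Subgroup H} {c z : H} (h : Ctx X X0 c z) :
    Ctx (X.map ι) (X0.map ι) (ι c) (ι z) := by
  have hone : ∀ a : H, ι a = 1 → a = 1 := fun a ha => hι (by rw [ha, map_one])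
  have hcen : ∀ ζ : H, Cen (X.map ι) (ι ζ) → Cen X ζ := by
    intro ζ hζ x hx
    apply hι
    rw [map_mul, map_mul]
    exact hζ _ (Subgroup.mem_map_of_mem ι hx)
  have hcen' : ∀ ζ : H, Cen X ζ → Cen (X.map ι) (ι ζ) := by
    rintro ζ hζ _ ⟨x, hx, rfl⟩
    rw [← map_mul, ← map_mul, hζ x hx]
  have hcomm : (⁅X.map ι, X.map ι⁆ : Subgroup G) = (⁅X, X⁆ : Subgroup H).map ι :=
    (Subgroup.map_commutator X X ι).symm
  refine
    { le := Subgroup.map_mono h.le
      idx := by rw [Subgroup.relIndex_map_map_of_injective _ _ hι]; exact h.idx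
      ab := ?_
      cX := Subgroup.mem_map_of_mem ι h.cX
      zX := Subgroup.mem_map_of_mem ι h.zX
      cC := hcen' c h.cC
      zC := hcen' z h.zC
      c2 := by rw [← map_mul, h.c2, map_one]
      z2 := by rw [← map_mul, h.z2, map_one]
      c1 := fun hc => h.c1 (hone c hc)
      z1 := fun hz => h.z1 (hone z hz)
      cz := fun hcz => h.cz (hι hcz)
      cD := by rw [hcomm]; exact Subgroup.mem_map_of_mem ι h.cD
      invD := ?_
      invZ := ?_
      rk := ?_
      hasE := ?_ }
  · rintro _ ⟨a, ha, rfl⟩ _ ⟨b, hb, rfl⟩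
    rw [← map_mul, ← map_mul, h.ab a ha b hb]
  · intro w hw hw2
    rw [hcomm] at hw
    obtain ⟨w', hw', rfl⟩ := hw
    have : w' * w' = 1 := hone _ (by rw [map_mul]; exact hw2)
    rcases h.invD w' hw' this with rfl | rfl
    · left; exact map_one ι
    · right; rfl
  · rintro _ ⟨ζ, hζX, rfl⟩ hζC hζ2
    have h2 : ζ * ζ = 1 := hone _ (by rw [map_mul]; exact hζ2)
    rcases h.invZ ζ hζX (hcen ζ hζC) h2 with rfl | rfl | rfl | rfl
    · left; exact map_one ι
    · right; left; rfl
    · right; right; left; rfl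
    · right; right; right; exact map_mul ι _ _
  · intro E hE hE2
    have hEr : E ≤ ι.range := fun x hx => by
      obtain ⟨y, _, rfl⟩ := hE hx
      exact ⟨y, rfl⟩
    have hmap : (E.comap ι).map ι = E := Subgroup.map_comap_eq_self hEr
    have hle : E.comap ι ≤ X := by
      intro x hx
      obtain ⟨y, hy, hyx⟩ := hE (Subgroup.mem_comap.mp hx)
      rw [← hι hyx]
      exact hy
    have h2 : ∀ a ∈ E.comap ι, a * a = 1 := by
      intro a ha
      apply hone
      rw [map_mul]
      exact hE2 _ (Subgroup.mem_comap.mp ha)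
    rw [← hmap, Subgroup.card_map_of_injective hι]
    exact h.rk _ hle h2
  · obtain ⟨E, hE, hE2, hE8⟩ := h.hasE
    refine ⟨E.map ι, Subgroup.map_mono hE, ?_, ?_⟩
    · rintro _ ⟨a, ha, rfl⟩
      rw [← map_mul, hE2 a ha, map_one]
    · rw [Subgroup.card_map_of_injective hι, hE8]

end Cfsg.Agent.Lib.Helper5.S1906
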