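import Mathlib
import Cfsg.Agent.Lib.helper8.SylowBasic
import Cfsg.Agent.Lib.helper8.SimpleEmbed
import Cfsg.Agent.Lib.helper8.Burnside
import Cfsg.Agent.Lib.helper8.Parity
import Cfsg.Agent.Lib.helper8.OrbitCount
import Cfsg.Agent.Lib.helper23.OrdGen2
import Cfsg.Agent.Lib.helper23.OrdGen3
import Cfsg.Agent.Lib.Helper22.Basic
import Cfsg.Agent.S1018
import Cfsg.Agent.S1019

/-!
# Project S496 (helper3, S0496), piece 720-A : `s720_five`  (helper15)

In a simple group of order 720 a Sylow 5-subgroup is self-centralizing, and some involution has a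
centralizer of order 16.
-/

set_option autoImplicit false

namespace Cfsg.Agent.Lib.helper3.S496

open Cfsg.Agent.Lib.helper8 Cfsg.Agent.Lib.helper23 Subgroup

/-- an involution normalizing but not centralizing a subgroup of prime order inverts it -/
theorem s720a_inverts {G : Type*} [Group G] [Finite G] (P : Subgroup G) (p : ℕ)
    [hpf : Fact p.Prime] (hp : Nat.card P = p) (i : G) (hi2 : i * i = 1)
    (hiN : i ∈ normalizer (P : Set G)) (hiC : i ∉ centralizer (P : Set G)) :
    ∀ x ∈ P, i * x * i⁻¹ = x⁻¹ := by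
  haveI : IsCyclic P := isCyclic_of_prime_card hp
  have hcomm : ∀ a ∈ P, ∀ b ∈ P, a * b = b * a := by
    intro a ha b hb
    have := (IsCyclic.isMulCommutative (α := ↥P)).is_comm.comm ⟨a, ha⟩ ⟨b, hb⟩
    exact congrArg Subtype.val this
  have hinv : i⁻¹ = i := inv_eq_of_mul_eq_one_right hi2
  set F : Subgroup G := P ⊓ centralizer {i} with hF
  have hFP : F ≤ P := inf_le_left
  have hFd : Nat.card F ∣ p := hp ▸ Subgroup.card_dvd_of_le hFP
  have hF1 : Nat.card F = 1 := by
    rcases (Nat.dvd_prime hpf.out).1 hFd with h | h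
    · exact h
    · exfalso
      have hFeq : F = P := Subgroup.eq_of_le_of_card_ge hFP (by rw [h, hp])
      apply hiC
      rw [mem_centralizer_iff]
      intro x hx
      have hxF : x ∈ F := by rw [hFeq]; exact hx
      have := (mem_inf.1 hxF).2
      rw [mem_centralizer_iff] at this
      exact (this i rfl).symm
  have hFbot : F = ⊥ := Subgroup.eq_bot_of_card_eq F hF1
  intro x hx
  have hxc : i * x * i⁻¹ ∈ P := (mem_normalizer_iff.1 hiN x).1 hx
  have hy : x * (i * x * i⁻¹) ∈ F := by
    refine mem_inf.2 ⟨P.mul_mem hx hxc, ?_⟩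
    rw [mem_centralizer_iff]
    intro j hj
    rw [Set.mem_singleton_iff] at hj
    subst hj
    have h1 := hcomm x hx _ hxc
    rw [hinv] at h1 ⊢
    have e1 : j * (x * (j * x * j)) = x * j * x := by
      rw [h1]
      calc j * (j * x * j * x) = (j * j) * x * j * x := by simp only [mul_assoc]
        _ = x * j * x := by rw [hi2, one_mul]
    have e2 : x * (j * x * j) * j = x * j * x := by
      calc x * (j * x * j) * j = x * j * x * (j * j) := by simp only [mul_assoc]
        _ = x * j * x := by rw [hi2, mul_one]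
    rw [e1, e2]
  rw [hFbot, mem_bot] at hy
  exact eq_inv_of_mul_eq_one_right hy

/-- an element of square one in a group of odd order is trivial -/
theorem s720a_sq_one {G : Type*} [Group G] (C : Subgroup G) [Finite C] (hodd : Odd (Nat.card C))
    (u : G) (hu : u ∈ C) (hu2 : u * u = 1) : u = 1 := by
  have h1 : orderOf (⟨u, hu⟩ : C) ∣ Nat.card C := orderOf_dvd_natCard _
  have h2 : orderOf (⟨u, hu⟩ : C) ∣ 2 := by
    apply orderOf_dvd_of_pow_eq_one
    apply Subtype.ext
    simp only [Subgroup.coe_pow, Subgroup.coe_one, pow_two]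
    exact hu2
  have h3 : orderOf (⟨u, hu⟩ : C) = 1 := by
    rcases (Nat.dvd_prime Nat.prime_two).1 h2 with h | h
    · exact h
    · exfalso
      rw [h] at h1
      exact (Nat.not_even_iff_odd.2 hodd) (even_iff_two_dvd.2 h1)
  have := orderOf_eq_one_iff.1 h3
  exact congrArg Subtype.val this

/-- the number of Sylow 5-subgroups -/
theorem s720a_n5 {G : Type*} [Group G] [Finite G] [IsSimpleGroup G] (hG : Nat.card G = 720) :
    Nat.card (Sylow 5 G) = 36 := by
  haveI : Fact (Nat.Prime 5) := ⟨by norm_num⟩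
  have hG5 : Nat.card G = 5 ^ 1 * 144 := by rw [hG]; norm_num
  have hnd5 : ¬ 5 ∣ 144 := by norm_num
  have hnc : ¬ IsMulCommutative G := h8_not_comm_of_card (by rw [hG]; norm_num)
  have hmem5 := h8_nsylow_mem (G := G) 5 1 144 hG5 hnd5
  have e144 : (Nat.divisors 144).filter (fun d => d % 5 = 1) = {1, 6, 16, 36} := by
    decide +kernel
  rw [e144] at hmem5
  simp only [Finset.mem_insert, Finset.mem_singleton] at hmem5
  have h25 := h8_simple_nsylow_ne_one (G := G) 5 1 144 hG5 hnd5 (by norm_num) (by norm_num)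
  obtain ⟨P5⟩ : Nonempty (Sylow 5 G) := inferInstance
  have hP5c : Nat.card (P5 : Subgroup G) = 5 := by
    have := h8_sylow_card 5 1 144 hG5 hnd5 P5
    simpa using this
  have hN5G := h8_card_normalizer_sylow 5 P5
  rw [hG] at hN5G
  rcases hmem5 with h5 | h5 | h5 | h5
  · exact absurd h5 h25
  · exfalso
    have h3 := h8_nsylow_eq_index_normalizer 5 P5
    rw [h5] at h3
    have hne : Subgroup.normalizer ((P5 : Subgroup G) : Set G) ≠ ⊤ := by
      intro h
      rw [h, Subgroup.index_top] at h3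
      omega
    have h4 := h8_simple_two_mul_card_dvd_factorial hnc _ hne
    rw [← h3, hG] at h4
    revert h4
    decide
  · exfalso
    rw [h5] at hN5G
    have hN5c : Nat.card (Subgroup.normalizer ((P5 : Subgroup G) : Set G)) = 45 := by omega
    have hrel := h8_relIndex_centralizer_normalizer_dvd_prime 5 (by norm_num)
      (P5 : Subgroup G) hP5c
    have hmul := h8_card_centralizer_mul_relIndex (P5 : Subgroup G)
    rw [hN5c] at hmul
    have hrel45 : (Subgroup.centralizer ((P5 : Subgroup G) : Set G)).relIndex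
        (Subgroup.normalizer ((P5 : Subgroup G) : Set G)) ∣ 45 := Dvd.intro_left _ hmul
    have hrel1 : (Subgroup.centralizer ((P5 : Subgroup G) : Set G)).relIndex
        (Subgroup.normalizer ((P5 : Subgroup G) : Set G)) = 1 := by
      have := Nat.dvd_gcd hrel hrel45
      simpa using this
    exact h8_simple_not_normalizer_le_centralizer 5 1 144 hG5 hnd5 (by norm_num) (by norm_num) P5
      (h8_normalizer_le_centralizer_of_relIndex _ hrel1)
  · exact h5

/-- a Sylow 5-subgroup is self-centralizing -/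
theorem s720a_cent {G : Type*} [Group G] [Finite G] [IsSimpleGroup G] (hG : Nat.card G = 720)
    (P : Sylow 5 G) : Nat.card (Subgroup.centralizer ((P : Subgroup G) : Set G)) = 5 := by
  haveI : Fact (Nat.Prime 5) := ⟨by norm_num⟩
  have hG5 : Nat.card G = 5 ^ 1 * 144 := by rw [hG]; norm_num
  have hnd5 : ¬ 5 ∣ 144 := by norm_num
  have hnc : ¬ IsMulCommutative G := h8_not_comm_of_card (by rw [hG]; norm_num)
  have hn5 := s720a_n5 hG
  obtain ⟨hPc, hNmul, hXc, r, hr4, hr1, hCr⟩ := og3_sylow_data 5 144 hG5 hnd5 (by norm_num) P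
  rw [hn5, hG] at hNmul
  have hNc : Nat.card (Subgroup.normalizer ((P : Subgroup G) : Set G)) = 20 := by omega
  rw [hNc] at hCr
  have hr : r = 2 ∨ r = 4 := by
    have hr4' : r ∣ 4 := hr4
    have : r ∈ Nat.divisors 4 := Nat.mem_divisors.2 ⟨hr4', by norm_num⟩
    have e4 : Nat.divisors 4 = {1, 2, 4} := by decide +kernel
    rw [e4] at this
    simp only [Finset.mem_insert, Finset.mem_singleton] at this
    rcases this with h | h | h
    · exact absurd h hr1
    · exact Or.inl h
    · exact Or.inr h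
  rcases hr with hr | hr
  · -- `|C| = 10`
    exfalso
    rw [hr] at hCr
    have hC10 : Nat.card (Subgroup.centralizer ((P : Subgroup G) : Set G)) = 10 := by omega
    have hn1 : Nat.card (Sylow 5 G) ≠ 1 := by rw [hn5]; norm_num
    obtain ⟨c, hcC, hc2, f, hf, hfmod, hf4, hflt, hfimp⟩ :=
      og3_invol_package hnc 5 (by decide) P hPc (by rw [hC10]; norm_num) hn1
    have horb := h8_card_orbits_sylow_prime 5 P hPc
    rw [hn5] at horb hf4 hflt hfimp
    have horb8 : Nat.card (MulAction.orbitRel.Quotient ↥(P : Subgroup G)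
        (G ⧸ Subgroup.normalizer ((P : Subgroup G) : Set G))) = 8 := by omega
    rw [horb8, hC10] at hfimp
    have hfm : f % 5 = 1 := hfmod
    obtain ⟨k, hk⟩ := hf4
    have hf16 : f = 16 := by omega
    obtain ⟨m', hm1, hm2, hm3⟩ := hfimp (by omega)
    have hm'1 : m' = 1 := by omega
    rw [hf16, hm'1] at hm3
    omega
  · rw [hr] at hCr
    omega

/-- 720-A -/
theorem s720_five {G : Type*} [Group G] [Finite G] [IsSimpleGroup G] (hG : Nat.card G = 720) :
    (∀ P : Sylow 5 G, Nat.card (Subgroup.centralizer ((P : Subgroup G) : Set G)) = 5) ∧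
      ∃ z : G, orderOf z = 2 ∧ Nat.card (Subgroup.centralizer ({z} : Set G)) = 16 := by
  refine ⟨fun P => s720a_cent hG P, ?_⟩
  haveI : Fact (Nat.Prime 5) := ⟨by norm_num⟩
  haveI : Fact (Nat.Prime 2) := ⟨by norm_num⟩
  have hG5 : Nat.card G = 5 ^ 1 * 144 := by rw [hG]; norm_num
  have hnd5 : ¬ 5 ∣ 144 := by norm_num
  have hnc : ¬ IsMulCommutative G := h8_not_comm_of_card (by rw [hG]; norm_num)
  have hn5 := s720a_n5 hG
  obtain ⟨P⟩ : Nonempty (Sylow 5 G) := inferInstance
  obtain ⟨hPc, hNmul, hXc, -⟩ := og3_sylow_data 5 144 hG5 hnd5 (by norm_num) P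
  have hCc := s720a_cent hG P
  rw [hn5, hG] at hNmul
  rw [hn5] at hXc
  set N := Subgroup.normalizer ((P : Subgroup G) : Set G) with hN
  set C := Subgroup.centralizer ((P : Subgroup G) : Set G) with hC
  have hNc : Nat.card N = 20 := by omega
  have hCodd : Odd (Nat.card C) := by rw [hCc]; decide
  -- `P = C`
  have hPab : ∀ a ∈ (P : Subgroup G), ∀ b ∈ (P : Subgroup G), a * b = b * a := by
    haveI : IsCyclic (P : Subgroup G) := isCyclic_of_prime_card hPc
    intro a ha b hb
    have := (IsCyclic.isMulCommutative (α := ↥(P : Subgroup G))).is_comm.comm ⟨a, ha⟩ ⟨b, hb⟩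
    exact congrArg Subtype.val this
  have hPC : (P : Subgroup G) ≤ C := by
    intro a ha
    rw [hC, mem_centralizer_iff]
    intro b hb
    exact hPab b hb a ha
  have hPCeq : (P : Subgroup G) = C := Subgroup.eq_of_le_of_card_ge hPC (by rw [hCc, hPc])
  have hPN : (P : Subgroup G) ≤ N := le_normalizer
  -- the involution
  obtain ⟨z', hz'⟩ := exists_prime_orderOf_dvd_card' (G := ↥N) 2 (by rw [hNc]; norm_num)
  set z : G := (z' : G) with hz
  have hzo : orderOf z = 2 := by rw [hz, Subgroup.orderOf_coe]; exact hz'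
  have hzN : z ∈ N := z'.2
  have hz2 : z * z = 1 := by
    have := pow_orderOf_eq_one z
    rwa [hzo, pow_two] at this
  have hz1 : z ≠ 1 := by
    intro h
    rw [h, orderOf_one] at hzo
    omega
  have hzC : z ∉ C := fun h => hz1 (s720a_sq_one C hCodd z h hz2)
  have hzinv := s720a_inverts (P : Subgroup G) 5 hPc z hz2 hzN hzC
  -- conjugates of `z` in `N`
  have hS_props : ∀ g : G, IsConj z g → g ∈ N → g * g = 1 ∧ g ∉ C := by
    intro g hg hgN
    obtain ⟨c, hc⟩ := isConj_iff.1 hg
    have hg2 : g * g = 1 := by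
      rw [← hc]
      calc c * z * c⁻¹ * (c * z * c⁻¹) = c * (z * z) * c⁻¹ := by group
        _ = 1 := by rw [hz2]; group
    refine ⟨hg2, fun h => ?_⟩
    have hg1 := s720a_sq_one C hCodd g h hg2
    rw [hg1] at hc
    apply hz1
    have : z = c⁻¹ * 1 * c := by rw [← hc]; group
    rw [this]
    group
  have hSle : Nat.card {g : G // IsConj z g ∧ g ∈ N} ≤ 5 := by
    rw [← hPc]
    refine Nat.card_le_card_of_injective
      (fun g : {g : G // IsConj z g ∧ g ∈ N} => (⟨g.1 * z, ?_⟩ : ↥(P : Subgroup G))) ?_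
    · obtain ⟨hg2, hgC⟩ := hS_props g.1 g.2.1 g.2.2
      have hginv := s720a_inverts (P : Subgroup G) 5 hPc g.1 hg2 g.2.2 hgC
      rw [hPCeq, hC, mem_centralizer_iff]
      intro x hx
      have h1 := hzinv x hx
      have hxi : x⁻¹ ∈ (P : Subgroup G) := (P : Subgroup G).inv_mem hx
      have h2 := hginv x⁻¹ hxi
      rw [inv_inv] at h2
      -- `g z x = x g z`
      have h3 : z * x = x⁻¹ * z := by
        rw [← h1]; group
      have h4 : g.1 * x⁻¹ = x * g.1 := by
        calc g.1 * x⁻¹ = (g.1 * x⁻¹ * (g.1)⁻¹) * g.1 := by group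
          _ = x * g.1 := by rw [h2]
      calc x * (g.1 * z) = (x * g.1) * z := by rw [mul_assoc]
        _ = (g.1 * x⁻¹) * z := by rw [h4]
        _ = g.1 * (x⁻¹ * z) := by rw [mul_assoc]
        _ = g.1 * (z * x) := by rw [h3]
        _ = g.1 * z * x := by rw [mul_assoc]
    · intro g g' h
      have h1 : g.1 * z = g'.1 * z := congrArg Subtype.val h
      exact Subtype.ext (mul_right_cancel h1)
  have hSge : 5 ≤ Nat.card {g : G // IsConj z g ∧ g ∈ N} := by
    rw [← hPc]
    refine Nat.card_le_card_of_injective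
      (fun x : ↥(P : Subgroup G) => (⟨(x : G) * z * (x : G)⁻¹, isConj_iff.2 ⟨x, rfl⟩,
        N.mul_mem (N.mul_mem (hPN x.2) hzN) (N.inv_mem (hPN x.2))⟩ :
          {g : G // IsConj z g ∧ g ∈ N})) ?_
    intro x y h
    have h1 : (x : G) * z * (x : G)⁻¹ = (y : G) * z * (y : G)⁻¹ := congrArg Subtype.val h
    set w : G := (y : G)⁻¹ * (x : G) with hw
    have hwP : w ∈ (P : Subgroup G) := (P : Subgroup G).mul_mem ((P : Subgroup G).inv_mem y.2) x.2
    have hwz : z * w * z⁻¹ = w⁻¹ := hzinv w hwP
    have hwc : w * z = z * w := by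
      rw [hw]
      calc (y : G)⁻¹ * (x : G) * z = (y : G)⁻¹ * ((x : G) * z * (x : G)⁻¹) * (x : G) := by group
        _ = (y : G)⁻¹ * ((y : G) * z * (y : G)⁻¹) * (x : G) := by rw [h1]
        _ = z * ((y : G)⁻¹ * (x : G)) := by group
    have hww : w * w = 1 := by
      have : w⁻¹ = w := by
        rw [← hwz, ← hwc]; group
      calc w * w = w * w⁻¹ := by rw [this]
        _ = 1 := mul_inv_cancel w
    have hw1 := s720a_sq_one C hCodd w (hPC hwP) hww
    apply Subtype.ext
    have : (x : G) = (y : G) * w := by rw [hw]; group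
    rw [this, hw1, mul_one]
  have hS5 : Nat.card {g : G // IsConj z g ∧ g ∈ N} = 5 := le_antisymm hSle hSge
  -- counting fixed points
  have h19 := Cfsg.Agent.S1019.result N z hzN
  rw [hS5] at h19
  have hidx : N.index = 36 := by
    rw [← hn5]
    exact (h8_nsylow_eq_index_normalizer 5 P).symm
  rw [hidx] at h19
  have hfle := Cfsg.Agent.S1018.part_b 5 P hPc z hzN hzC
  have horb := h8_card_orbits_sylow_prime 5 P hPc
  rw [hn5, ← hN] at horb
  rw [← hN] at hfle
  have horb8 : Nat.card (MulAction.orbitRel.Quotient ↥(P : Subgroup G) (G ⧸ N)) = 8 := by omega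
  rw [horb8] at hfle
  have hpar := h8_simple_involution_fixed (X := G ⧸ N) hnc z (by rw [pow_two]; exact hz2)
  rw [hXc] at hpar
  have hfpos : 0 < Nat.card (MulAction.fixedBy (G ⧸ N) z) := by
    haveI : Nonempty (MulAction.fixedBy (G ⧸ N) z) :=
      ⟨⟨((1 : G) : G ⧸ N), og2_base_fixed N z hzN⟩⟩
    exact Nat.card_pos
  set f := Nat.card (MulAction.fixedBy (G ⧸ N) z) with hf
  set k := Nat.card {g : G // IsConj z g} with hk
  obtain ⟨j, hj⟩ := hpar
  have hk45 : k = 45 := by
    have hf48 : f = 4 ∨ f = 8 := by omega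
    rcases hf48 with h | h
    · rw [h] at h19; omega
    · rw [h] at h19; omega
  -- the centralizer
  have hidxz : (Subgroup.centralizer ({z} : Set G)).index = 45 := by
    rw [Cfsg.Agent.Lib.Helper22.index_centralizer_eq_ncard_conj, ← hk45, hk,
      ← Nat.card_coe_set_eq]
    rfl
  have hmul := (Subgroup.centralizer ({z} : Set G)).card_mul_index
  rw [hidxz, hG] at hmul
  exact ⟨z, hzo, by omega⟩

end Cfsg.Agent.Lib.helper3.S496
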