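import Mathlib
import Cfsg.Agent.Lib.helper8.SylowBasic
import Cfsg.Agent.Lib.helper8.SimpleEmbed
import Cfsg.Agent.Lib.helper8.Burnside

/-!
# Project S496 (helper3, S0496), piece 720-B : `s720_n3`  (helper15)

In a simple group of order 720 the number of Sylow 3-subgroups is 10 or 40.
-/

set_option autoImplicit false

namespace Cfsg.Agent.Lib.helper3.S496

open Cfsg.Agent.Lib.helper8 Subgroup

/-- 720-B -/
theorem s720_n3 {G : Type*} [Group G] [Finite G] [IsSimpleGroup G] (hG : Nat.card G = 720) :
    Nat.card (Sylow 3 G) = 10 ∨ Nat.card (Sylow 3 G) = 40 := by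
  haveI : Fact (Nat.Prime 3) := ⟨by norm_num⟩
  haveI : Fact (Nat.Prime 5) := ⟨by norm_num⟩
  have hG3 : Nat.card G = 3 ^ 2 * 80 := by rw [hG]; norm_num
  have hnd3 : ¬ 3 ∣ 80 := by norm_num
  have hG5 : Nat.card G = 5 ^ 1 * 144 := by rw [hG]; norm_num
  have hnd5 : ¬ 5 ∣ 144 := by norm_num
  have hnc : ¬ IsMulCommutative G := h8_not_comm_of_card (by rw [hG]; norm_num)
  have h1 := h8_nsylow_mem (G := G) 3 2 80 hG3 hnd3
  have e : (Nat.divisors 80).filter (fun d => d % 3 = 1) = {1, 4, 10, 16, 40} := by decide +kernel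
  rw [e] at h1
  simp only [Finset.mem_insert, Finset.mem_singleton] at h1
  have h2 := h8_simple_nsylow_ne_one (G := G) 3 2 80 hG3 hnd3 (by norm_num) (by norm_num)
  rcases h1 with h1 | h1 | h1 | h1 | h1
  · exact absurd h1 h2
  · -- `n_3 = 4`: index 4
    exfalso
    obtain ⟨P⟩ : Nonempty (Sylow 3 G) := inferInstance
    have h3 := h8_nsylow_eq_index_normalizer 3 P
    rw [h1] at h3
    have hne : Subgroup.normalizer ((P : Subgroup G) : Set G) ≠ ⊤ := by
      intro h
      rw [h, Subgroup.index_top] at h3
      omega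
    have h4 := h8_simple_two_mul_card_dvd_factorial hnc _ hne
    rw [← h3, hG] at h4
    revert h4
    decide
  · exact Or.inl h1
  · -- `n_3 = 16`: `|N(P)| = 45`
    exfalso
    obtain ⟨P⟩ : Nonempty (Sylow 3 G) := inferInstance
    set N := Subgroup.normalizer ((P : Subgroup G) : Set G) with hN
    have hNc : Nat.card N = 45 := by
      have := h8_card_normalizer_sylow 3 P
      rw [h1, hG, ← hN] at this
      omega
    have hN5 : Nat.card ↥N = 5 ^ 1 * 9 := by rw [hNc]; norm_num
    have hmemN := h8_nsylow_mem (G := ↥N) 5 1 9 hN5 (by norm_num)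
    have e9 : (Nat.divisors 9).filter (fun d => d % 5 = 1) = {1} := by decide +kernel
    rw [e9, Finset.mem_singleton] at hmemN
    obtain ⟨Q⟩ : Nonempty (Sylow 5 ↥N) := inferInstance
    haveI hQn : (Q : Subgroup ↥N).Normal := h8_normal_of_nsylow_eq_one 5 hmemN Q
    have hQc : Nat.card (Q : Subgroup ↥N) = 5 := by
      have := h8_sylow_card 5 1 9 hN5 (by norm_num) Q
      simpa using this
    set Q' : Subgroup G := (Q : Subgroup ↥N).map N.subtype with hQ'
    have hQ'c : Nat.card Q' = 5 := by
      rw [hQ', Subgroup.card_map_of_injective N.subtype_injective]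
      exact hQc
    have hNle : N ≤ Subgroup.normalizer (Q' : Set G) := by
      have := Subgroup.le_normalizer_map (H := (Q : Subgroup ↥N)) N.subtype
      rw [Subgroup.normalizer_eq_top, ← MonoidHom.range_eq_map, Subgroup.range_subtype] at this
      exact this
    have hQ'p : IsPGroup 5 Q' := IsPGroup.of_card (n := 1) (by rw [hQ'c]; norm_num)
    obtain ⟨P5, hP5⟩ := hQ'p.exists_le_sylow
    have hP5c : Nat.card (P5 : Subgroup G) = 5 := by
      have := h8_sylow_card 5 1 144 hG5 hnd5 P5
      simpa using this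
    have hQP : Q' = (P5 : Subgroup G) :=
      Subgroup.eq_of_le_of_card_ge hP5 (by rw [hP5c, hQ'c])
    rw [hQP] at hNle
    have hdvd : 45 ∣ Nat.card (Subgroup.normalizer ((P5 : Subgroup G) : Set G)) := by
      rw [← hNc]
      exact Subgroup.card_dvd_of_le hNle
    have hN5G := h8_card_normalizer_sylow 5 P5
    rw [hG] at hN5G
    have hmem5 := h8_nsylow_mem (G := G) 5 1 144 hG5 hnd5
    have e144 : (Nat.divisors 144).filter (fun d => d % 5 = 1) = {1, 6, 16, 36} := by
      decide +kernel
    rw [e144] at hmem5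
    simp only [Finset.mem_insert, Finset.mem_singleton] at hmem5
    have h25 := h8_simple_nsylow_ne_one (G := G) 5 1 144 hG5 hnd5 (by norm_num) (by norm_num)
    rcases hmem5 with h5 | h5 | h5 | h5
    · exact h25 h5
    · rw [h5] at hN5G
      have h120 : Nat.card (Subgroup.normalizer ((P5 : Subgroup G) : Set G)) = 120 := by omega
      rw [h120] at hdvd
      omega
    · rw [h5] at hN5G
      have hN5c : Nat.card (Subgroup.normalizer ((P5 : Subgroup G) : Set G)) = 45 := by omega
      have hrel := h8_relIndex_centralizer_normalizer_dvd_prime 5 (by norm_num)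
        (P5 : Subgroup G) hP5c
      have hmul := h8_card_centralizer_mul_relIndex (P5 : Subgroup G)
      rw [hN5c] at hmul
      have hrel45 : (Subgroup.centralizer ((P5 : Subgroup G) : Set G)).relIndex
          (Subgroup.normalizer ((P5 : Subgroup G) : Set G)) ∣ 45 := Dvd.intro_left _ hmul
      have hrel1 : (Subgroup.centralizer ((P5 : Subgroup G) : Set G)).relIndex
          (Subgroup.normalizer ((P5 : Subgroup G) : Set G)) = 1 := by
        have := Nat.dvd_gcd hrel hrel45
        simpa using this
      exact h8_simple_not_normalizer_le_centralizer 5 1 144 hG5 hnd5 (by norm_num) (by norm_num) P5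
        (h8_normalizer_le_centralizer_of_relIndex _ hrel1)
    · rw [h5] at hN5G
      have h20 : Nat.card (Subgroup.normalizer ((P5 : Subgroup G) : Set G)) = 20 := by omega
      rw [h20] at hdvd
      omega
  · exact Or.inr h1

end Cfsg.Agent.Lib.helper3.S496
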