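import Mathlib
import Cfsg.Agent.Lib.helper15.S5972.Defs
import Cfsg.Agent.Lib.helper15.S5972TISUB
import Cfsg.Agent.Lib.helper15.S5972OS2CTX
import Cfsg.Agent.Lib.Helper24.S5972SPLIT

/-!
# Project S5972, row INVLT : `o_invol_lt` (verbatim)
-/

set_option autoImplicit false
set_option linter.unusedVariables false
set_option linter.unusedSectionVars false

namespace Cfsg.Agent.Lib.helper15.S5972

open Polynomial Module Cfsg.Agent.Lib.Helper13.S5955

/-- the sum of two orthogonal, disjoint, totally isotropic invariant subspaces (symmetric form) -/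
theorem s5972invlt_sup {F : Type*} [Field F] {V : Type*} [AddCommGroup V] [Module F V]
    [FiniteDimensional F V] {B : LinearMap.BilinForm F V} (hsymm : ∀ u v, B u v = B v u)
    (x : Module.End F V) (T1 T2 : Submodule F V) (h1 : SInv x T1) (h2 : SInv x T2)
    (t1 : STI B T1) (t2 : STI B T2) (ho : SOrth B T1 T2) (hd : Disjoint T1 T2) :
    SInv x (T1 ⊔ T2) ∧ STI B (T1 ⊔ T2) ∧ finrank F ↥(T1 ⊔ T2) = finrank F T1 + finrank F T2 := by
  refine ⟨?_, ?_, ?_⟩
  · intro w hw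
    obtain ⟨a, ha, b, hb, rfl⟩ := Submodule.mem_sup.mp hw
    rw [map_add]
    exact Submodule.add_mem _ (Submodule.mem_sup_left (h1 a ha)) (Submodule.mem_sup_right (h2 b hb))
  · intro u hu v hv
    obtain ⟨a, ha, b, hb, rfl⟩ := Submodule.mem_sup.mp hu
    obtain ⟨a', ha', b', hb', rfl⟩ := Submodule.mem_sup.mp hv
    simp only [map_add, LinearMap.add_apply]
    rw [t1 a ha a' ha', t2 b hb b' hb', ho a ha b' hb', hsymm b a', ho a' ha' b hb]
    simp
  · have := Submodule.finrank_sup_add_finrank_inf_eq T1 T2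
    rw [disjoint_iff.mp hd, finrank_bot] at this
    omega

/-- a t.i. subspace of prescribed dimension `a`, `a = 0` or `2a + 1 ≤ dim N` -/
theorem s5972invlt_sub {F : Type*} [Field F] [Fintype F] (h2 : (2 : F) ≠ 0)
    {V : Type*} [AddCommGroup V] [Module F V] [FiniteDimensional F V]
    (B : LinearMap.BilinForm F V) (hsymm : ∀ u v, B u v = B v u)
    (N : Submodule F V) (hN : SND B N) (a : ℕ) (ha : a = 0 ∨ 2 * a + 1 ≤ finrank F N) :
    ∃ T : Submodule F V, T ≤ N ∧ STI B T ∧ finrank F T = a := by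
  rcases ha with rfl | ha
  · refine ⟨⊥, bot_le, ?_, finrank_bot F V⟩
    intro u hu v hv
    rw [(Submodule.mem_bot F).mp hu]
    simp
  · exact o_ti_sub h2 B hsymm N hN a ha

theorem o_invol_lt {F : Type*} [Field F] [Fintype F] {p : ℕ} [Fact p.Prime] [CharP F p]
    (hp2 : p ≠ 2) {V : Type*} [AddCommGroup V] [Module F V] [FiniteDimensional F V]
    {B : LinearMap.BilinForm F V} {x : Module.End F V} (h : OCtx 2 B x)
    (d m : ℕ) (hV : finrank F V = 2 * d + 1) (hm : m < d) : TId B x m := by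
  haveI : Fact (Nat.Prime 2) := ⟨Nat.prime_two⟩
  have h2F : (2 : F) ≠ 0 := by
    intro h0
    have h' : ((2 : ℕ) : F) = 0 := by exact_mod_cast h0
    rw [CharP.cast_eq_zero_iff F p] at h'
    exact hp2 ((Nat.prime_dvd_prime_iff_eq Fact.out Nat.prime_two).mp h')
  obtain ⟨horth, hcompl, hnd1, hnd2⟩ := o_split (F := F) (p := p) (r := 2) (Ne.symm hp2) h
  have hdim := Submodule.finrank_add_eq_of_isCompl hcompl
  rw [hV] at hdim
  -- dimensions
  obtain ⟨f, hf⟩ : ∃ f, f = finrank F (fixS x) := ⟨_, rfl⟩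
  obtain ⟨g, hg⟩ : ∃ g, g = finrank F (cycS 2 x) := ⟨_, rfl⟩
  rw [← hf, ← hg] at hdim
  obtain ⟨a, ha⟩ : ∃ a, a = min m ((f - 1) / 2) := ⟨_, rfl⟩
  obtain ⟨b, hb⟩ : ∃ b, b = m - a := ⟨_, rfl⟩
  have hab : a + b = m := by omega
  have ha' : a = 0 ∨ 2 * a + 1 ≤ finrank F (fixS x) := by
    rw [← hf]
    omega
  have hb' : b = 0 ∨ 2 * b + 1 ≤ finrank F (cycS 2 x) := by
    rw [← hg]
    omega
  obtain ⟨T1, hT1, hT1ti, hT1d⟩ := s5972invlt_sub h2F B h.symm (fixS x) hnd1 a ha'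
  obtain ⟨T2, hT2, hT2ti, hT2d⟩ := s5972invlt_sub h2F B h.symm (cycS 2 x) hnd2 b hb'
  have hinv1 : SInv x T1 := by
    intro v hv
    rw [(s5972os2_mem_fixS x v).mp (hT1 hv)]
    exact hv
  have hinv2 : SInv x T2 := by
    intro v hv
    have hv' : v ∈ cycS 2 x := hT2 hv
    unfold cycS at hv'
    rw [LinearMap.mem_ker, cyclotomic_two] at hv'
    simp only [map_add, aeval_X, map_one, LinearMap.add_apply, Module.End.one_apply] at hv'
    have : x v = -v := eq_neg_of_add_eq_zero_left hv'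
    rw [this]
    exact T2.neg_mem hv
  have hdisj : Disjoint T1 T2 := hcompl.disjoint.mono hT1 hT2
  have ho : SOrth B T1 T2 := fun u hu w hw => horth u (hT1 hu) w (hT2 hw)
  obtain ⟨hWinv, hWti, hWd⟩ := s5972invlt_sup h.symm x T1 T2 hinv1 hinv2 hT1ti hT2ti ho hdisj
  exact ⟨T1 ⊔ T2, hWinv, hWti, by rw [hWd, hT1d, hT2d, hab]⟩

end Cfsg.Agent.Lib.helper15.S5972
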