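import Mathlib
import Cfsg.Agent.Lib.helper15.S5972.Defs
import Cfsg.Agent.Lib.helper15.S5972STDO
import Cfsg.Agent.Lib.helper15.S5972STDCTX
import Cfsg.Agent.Lib.helper15.S5972TISUB
import Cfsg.Agent.Lib.helper15.S5972INVLT
import Cfsg.Agent.Lib.helper15.S5972OS2CTX
import Cfsg.Agent.Lib.Helper24.S5972SPLIT
import Cfsg.Agent.Lib.Helper16.SpinE3
import Cfsg.Agent.Lib.Helper16.StabRefl
import Cfsg.Agent.Lib.helper6.Quad

/-!
# Project S5972, row INVTOP, helper15's copy (`s5972invtoph15_h15`, same statement as `o_invol_top`).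
-/

set_option autoImplicit false

namespace Cfsg.Agent.Lib.helper15.S5972

open Polynomial Module Matrix Cfsg.Agent.Lib.Helper13.S5955

/-- peel a non-isotropic vector off a non-degenerate subspace -/
theorem s5972invtoph15_peel {F : Type*} [Field F] {V : Type*} [AddCommGroup V] [Module F V]
    [FiniteDimensional F V] (B : LinearMap.BilinForm F V) (hsymm : ∀ u v, B u v = B v u)
    (N : Submodule F V) (hN : SND B N) (v₀ : V) (hv₀ : v₀ ∈ N) (h0 : B v₀ v₀ ≠ 0) :
    SND B (N ⊓ LinearMap.ker (B v₀)) ∧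
      finrank F ↥(N ⊓ LinearMap.ker (B v₀)) + 1 = finrank F ↥N ∧
      ∀ w ∈ N, ∃ c : F, ∃ w' ∈ N ⊓ LinearMap.ker (B v₀), w = c • v₀ + w' := by
  have hdec : ∀ w ∈ N, ∃ c : F, ∃ w' ∈ N ⊓ LinearMap.ker (B v₀), w = c • v₀ + w' := by
    intro w hw
    refine ⟨B v₀ w / B v₀ v₀, w - (B v₀ w / B v₀ v₀) • v₀, ⟨?_, ?_⟩, by abel⟩
    · exact N.sub_mem hw (N.smul_mem _ hv₀)
    · show w - (B v₀ w / B v₀ v₀) • v₀ ∈ LinearMap.ker (B v₀)
      rw [LinearMap.mem_ker, map_sub, map_smul, smul_eq_mul, div_mul_cancel₀ _ h0, sub_self]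
  refine ⟨?_, ?_, hdec⟩
  · intro u hu hall
    apply hN u hu.1
    intro n hn
    obtain ⟨c, n', hn', rfl⟩ := hdec n hn
    have hu0 : B v₀ u = 0 := LinearMap.mem_ker.mp hu.2
    rw [map_add, map_smul, smul_eq_mul, hsymm u v₀, hu0, mul_zero, zero_add]
    exact hall n' hn'
  · have hv0ne : v₀ ≠ 0 := by
      rintro rfl
      apply h0
      simp
    have hsup : (Submodule.span F {v₀}) ⊔ (N ⊓ LinearMap.ker (B v₀)) = N := by
      apply le_antisymm
      · apply sup_le
        · rw [Submodule.span_singleton_le_iff_mem]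
          exact hv₀
        · exact inf_le_left
      · intro w hw
        obtain ⟨c, w', hw', rfl⟩ := hdec w hw
        exact Submodule.add_mem _
          (Submodule.mem_sup_left (Submodule.smul_mem _ _ (Submodule.mem_span_singleton_self v₀)))
          (Submodule.mem_sup_right hw')
    have hinf : (Submodule.span F {v₀}) ⊓ (N ⊓ LinearMap.ker (B v₀)) = ⊥ := by
      rw [eq_bot_iff]
      rintro w ⟨hw1, hw2⟩
      obtain ⟨c, rfl⟩ := Submodule.mem_span_singleton.mp hw1
      have := LinearMap.mem_ker.mp hw2.2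
      rw [map_smul, smul_eq_mul] at this
      rcases mul_eq_zero.mp this with hc | hc
      · rw [hc, zero_smul]
        exact Submodule.zero_mem _
      · exact absurd hc h0
    have h1 := Submodule.finrank_sup_add_finrank_inf_eq (Submodule.span F {v₀})
      (N ⊓ LinearMap.ker (B v₀))
    rw [hsup, hinf, finrank_bot, add_zero, finrank_span_singleton hv0ne] at h1
    omega

/-- a reflection fixes the vectors orthogonal to its root -/
theorem s5972invtoph15_refl_fix {ι : Type} [Fintype ι] [DecidableEq ι] {F : Type*} [Field F]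
    (Q : QuadraticForm F (ι → F)) (v w : ι → F) (h : QuadraticMap.polar (⇑Q) v w = 0) :
    Cfsg.reflectionMatrix (⇑Q) v *ᵥ w = w := by
  rw [Cfsg.Agent.Lib.helper6.reflectionMatrix_mulVec, h, mul_zero, zero_smul, sub_zero]

/-- a reflection negates its root -/
theorem s5972invtoph15_refl_neg {ι : Type} [Fintype ι] [DecidableEq ι] {F : Type*} [Field F]
    (h2 : (2 : F) ≠ 0) (Q : QuadraticForm F (ι → F)) (v : ι → F) (hv : Q v ≠ 0) :
    Cfsg.reflectionMatrix (⇑Q) v *ᵥ v = -v := by
  rw [Cfsg.Agent.Lib.helper6.reflectionMatrix_mulVec, QuadraticMap.polar_self, nsmul_eq_mul]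
  have : (Q v)⁻¹ * ((2 : ℕ) * Q v) = 2 := by
    push_cast
    field_simp
  rw [this, two_smul]
  abel

/-- orthogonal normalised basis of a non-degenerate subspace, with the product of the reflections -/
theorem s5972invtoph15_orthb {F : Type*} [Field F] [Fintype F] (h2 : (2 : F) ≠ 0) {ι : Type}
    [Fintype ι] [DecidableEq ι] (Q : QuadraticForm F (ι → F)) :
    ∀ (n : ℕ) (N : Submodule F (ι → F)), SND (QuadraticMap.polarBilin Q) N → finrank F ↥N = n →
      ∃ v : Fin n → (ι → F), (∀ a, v a ∈ N) ∧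
        (∀ a b, a ≠ b → QuadraticMap.polar (⇑Q) (v a) (v b) = 0) ∧
        (∀ a, Q (v a) ≠ 0) ∧ (∀ a : Fin n, (a : ℕ) + 1 < n → Q (v a) = 1) ∧
        (∀ w ∈ N, ((List.ofFn v).map (fun u => Cfsg.reflectionMatrix (⇑Q) u)).prod *ᵥ w = -w) ∧
        (∀ w, (∀ u ∈ N, QuadraticMap.polar (⇑Q) u w = 0) →
          ((List.ofFn v).map (fun u => Cfsg.reflectionMatrix (⇑Q) u)).prod *ᵥ w = w) := by
  intro n
  induction n with
  | zero =>
    intro N hN hn
    have hbot : N = ⊥ := Submodule.finrank_eq_zero.mp hn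
    refine ⟨Fin.elim0, fun a => a.elim0, fun a => a.elim0, fun a => a.elim0, fun a => a.elim0, ?_, ?_⟩
    · intro w hw
      rw [hbot, Submodule.mem_bot] at hw
      subst hw
      simp
    · intro w _
      simp
  | succ n ih =>
    intro N hN hn
    have hB : ∀ a b, QuadraticMap.polarBilin Q a b = QuadraticMap.polar (⇑Q) a b := fun _ _ => rfl
    have hsymm : ∀ u v, QuadraticMap.polarBilin Q u v = QuadraticMap.polarBilin Q v u := by
      intro u v
      rw [hB, hB, QuadraticMap.polar_comm]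
    have hX : N ⊓ Cfsg.Agent.Lib.Helper16.CDG.perp Q N = ⊥ := by
      rw [eq_bot_iff]
      rintro w ⟨hw1, hw2⟩
      rw [Submodule.mem_bot]
      apply hN w hw1
      intro u hu
      rw [hB, QuadraticMap.polar_comm]
      exact (Cfsg.Agent.Lib.Helper16.CDG.mem_perp Q N w).mp hw2 u hu
    -- the first vector
    obtain ⟨v₀, hv₀N, hv₀Q, hv₀1⟩ : ∃ v₀ ∈ N, Q v₀ ≠ 0 ∧ (1 ≤ n → Q v₀ = 1) := by
      by_cases hn1 : 1 ≤ n
      · obtain ⟨v₀, hv₀, hQ⟩ := Cfsg.Agent.Lib.Helper16.exists_repr h2 Q N hX (by omega) 1 one_ne_zero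
        exact ⟨v₀, hv₀, by rw [hQ]; exact one_ne_zero, fun _ => hQ⟩
      · have hne : N ≠ ⊥ := by
          intro hbot
          rw [hbot, finrank_bot] at hn
          omega
        obtain ⟨v₀, hv₀, hQ⟩ := Cfsg.Agent.Lib.Helper16.exists_nonsing_mem Q N hX hne
        exact ⟨v₀, hv₀, hQ, fun h => absurd h hn1⟩
    have h0 : QuadraticMap.polarBilin Q v₀ v₀ ≠ 0 := by
      rw [hB, QuadraticMap.polar_self, nsmul_eq_mul]
      push_cast
      exact mul_ne_zero h2 hv₀Q
    obtain ⟨hN', hdim, hdec⟩ := s5972invtoph15_peel (QuadraticMap.polarBilin Q) hsymm N hN v₀ hv₀N h0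
    obtain ⟨v', hv'N, hv'o, hv'Q, hv'1, hv'neg, hv'fix⟩ :=
      ih (N ⊓ LinearMap.ker (QuadraticMap.polarBilin Q v₀)) hN' (by omega)
    have hperp : ∀ u ∈ N ⊓ LinearMap.ker (QuadraticMap.polarBilin Q v₀),
        QuadraticMap.polar (⇑Q) v₀ u = 0 := by
      intro u hu
      have := LinearMap.mem_ker.mp hu.2
      rw [hB] at this
      exact this
    have hlist : List.ofFn (Fin.cons v₀ v' : Fin (n + 1) → (ι → F)) = v₀ :: List.ofFn v' := by
      rw [List.ofFn_succ]
      simp
    refine ⟨Fin.cons v₀ v', ?_, ?_, ?_, ?_, ?_, ?_⟩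
    · intro a
      refine Fin.cases ?_ (fun a' => ?_) a
      · simpa using hv₀N
      · simpa using (hv'N a').1
    · intro a b
      refine Fin.cases ?_ (fun a' => ?_) a
      · refine Fin.cases ?_ (fun b' => ?_) b
        · intro h; exact absurd rfl h
        · intro _
          simpa using hperp _ (hv'N b')
      · refine Fin.cases ?_ (fun b' => ?_) b
        · intro _
          rw [QuadraticMap.polar_comm]
          simpa using hperp _ (hv'N a')
        · intro h
          have : a' ≠ b' := fun h' => h (by rw [h'])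
          simpa using hv'o a' b' this
    · intro a
      refine Fin.cases ?_ (fun a' => ?_) a
      · simpa using hv₀Q
      · simpa using hv'Q a'
    · intro a
      refine Fin.cases ?_ (fun a' => ?_) a
      · intro h
        simp only [Fin.cons_zero]
        apply hv₀1
        simp only [Fin.val_zero] at h
        omega
      · intro h
        simp only [Fin.cons_succ]
        apply hv'1
        simp only [Fin.val_succ] at h
        omega
    · intro w hw
      obtain ⟨c, w', hw', rfl⟩ := hdec w hw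
      rw [hlist, List.map_cons, List.prod_cons, ← Matrix.mulVec_mulVec, Matrix.mulVec_add,
        Matrix.mulVec_smul, hv'neg w' hw',
        hv'fix v₀ (fun u hu => by rw [QuadraticMap.polar_comm]; exact hperp u hu),
        Matrix.mulVec_add, Matrix.mulVec_smul, Matrix.mulVec_neg,
        s5972invtoph15_refl_neg h2 Q v₀ hv₀Q, s5972invtoph15_refl_fix Q v₀ w' (hperp w' hw')]
      rw [smul_neg, neg_add]
    · intro w hw
      rw [hlist, List.map_cons, List.prod_cons, ← Matrix.mulVec_mulVec,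
        hv'fix w (fun u hu => hw u hu.1), s5972invtoph15_refl_fix Q v₀ w (hw v₀ hv₀N)]

end Cfsg.Agent.Lib.helper15.S5972
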