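import Mathlib
import Cfsg.Prelude.Def_Classical
import Cfsg.Agent.Lib.Helper1.S8U.Defs

set_option autoImplicit false

/-!
# Project S8U, row RAD (`aff_rad`, `aff_finite`), helper15.
-/

namespace Cfsg.Agent.Lib.Helper1.S8U

open Matrix Module Polynomial Cfsg.Agent.Lib.Helper16 Cfsg.Agent.Lib.Helper13.OTS Cfsg.Agent.Lib.Helper19.SO8
  Cfsg.Agent.Lib.helper14.OrthInv

/-- RAD, first half. -/
theorem aff_rad {ι : Type} [Fintype ι] [DecidableEq ι] [Nonempty ι] {F : Type*} [Field F]
    (K : Subgroup (GL ι F)) : ∃ N : Subgroup (AffK K), N.Normal ∧ N ≠ ⊥ ∧ Group.IsSolvable N := by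
  refine ⟨(SemidirectProduct.inl : Multiplicative (ι → F) →* AffK K).range, ?_, ?_, ?_⟩
  · rw [SemidirectProduct.range_inl_eq_ker_rightHom]
    infer_instance
  · intro hbot
    obtain ⟨i⟩ := (inferInstance : Nonempty ι)
    have hmem : (SemidirectProduct.inl (Multiplicative.ofAdd (Pi.single i (1 : F) : ι → F)) : AffK K)
        ∈ (SemidirectProduct.inl : Multiplicative (ι → F) →* AffK K).range := ⟨_, rfl⟩
    rw [hbot, Subgroup.mem_bot] at hmem
    have h1 : (SemidirectProduct.inl (Multiplicative.ofAdd (Pi.single i (1 : F) : ι → F)) : AffK K)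
        = SemidirectProduct.inl 1 := by rw [hmem, map_one]
    have h2 := SemidirectProduct.inl_injective h1
    have h3 : (Pi.single i (1 : F) : ι → F) = 0 := by
      have := congrArg Multiplicative.toAdd h2
      simpa using this
    have h4 := congrFun h3 i
    simp at h4
  · have hc : ∀ a b : (SemidirectProduct.inl : Multiplicative (ι → F) →* AffK K).range,
        a * b = b * a := by
      rintro ⟨_, x, rfl⟩ ⟨_, y, rfl⟩
      apply Subtype.ext
      show SemidirectProduct.inl x * SemidirectProduct.inl y
        = SemidirectProduct.inl y * SemidirectProduct.inl x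
      rw [← map_mul, ← map_mul, mul_comm]
    exact isSolvable_of_comm hc

/-- RAD, second half. -/
theorem aff_finite {ι : Type} [Fintype ι] [DecidableEq ι] {F : Type*} [Field F] [Fintype F]
    (K : Subgroup (GL ι F)) : Finite (AffK K) := by
  haveI : Finite (Multiplicative (ι → F)) := inferInstanceAs (Finite (ι → F))
  haveI : Finite (Matrix ι ι F) := inferInstanceAs (Finite (ι → ι → F))
  haveI : Finite (GL ι F) := Finite.of_injective (fun g : GL ι F => (g : Matrix ι ι F)) Units.val_injective
  haveI : Finite K := inferInstance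
  exact Finite.of_equiv _ (SemidirectProduct.equivProd (N := Multiplicative (ι → F)) (G := K)
    (φ := (glAct ι F).comp K.subtype)).symm

end Cfsg.Agent.Lib.Helper1.S8U
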