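import Mathlib
import Cfsg.Agent.Lib.helper2.S91Defs
import Cfsg.Agent.Lib.Helper28.S91SEC

/-!
# Project S91 (helper2, S4091), piece QG : `PIneq` for a `q`-group `K`  (helper15)

(Duplicate of `Cfsg.Agent.Lib.Helper1.S91QG`, which landed the verbatim `pineq_qgroup` first; this file now
lives in its own namespace `Cfsg.Agent.Lib.Helper15.S91dup`, so importing both cannot clash.)

This file has the abelian case (piece AB) as a hypothesis `ABHyp`; the verbatim `pineq_qgroup` is in
`Cfsg.Agent.Lib.helper15.S91QG`.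

Induction on `|K|` (over all ambient groups of the universe): `K` abelian is piece AB; otherwise
`N = Z(K)` (normal in the ambient group once `K` is), `PIneq` for `N` (AB) times `PIneq` for `K/N`
in `G/N` (induction), glued by piece SEC.  The general case is transported from the ambient group
`N_G(K)`.
-/

set_option autoImplicit false

namespace Cfsg.Agent.Lib.Helper15.S91dup
open Subgroup Cfsg.Agent.Lib.helper2.S91

universe u

section Transport

variable {G : Type*} [Group G]

theorem qg_card_subgroupOf {A H : Subgroup G} (h : A ≤ H) :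
    Nat.card ↥(A.subgroupOf H) = Nat.card ↥A :=
  Nat.card_congr (subgroupOfEquivOfLe h).toEquiv

theorem qg_centralizer_union (S T : Set G) :
    centralizer (S ∪ T) = centralizer S ⊓ centralizer T := by
  ext g
  simp only [mem_centralizer_iff, Set.mem_union, mem_inf]
  constructor
  · intro h
    exact ⟨fun a ha => h a (Or.inl ha), fun a ha => h a (Or.inr ha)⟩
  · rintro ⟨h1, h2⟩ a (ha | ha)
    · exact h1 a ha
    · exact h2 a ha

theorem qg_centralizer_empty : centralizer (∅ : Set G) = ⊤ := by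
  ext g
  simp [mem_centralizer_iff]

theorem qg_inf_centralizer_subgroupOf (H K : Subgroup G) (S' : Set ↥H) :
    K.subgroupOf H ⊓ centralizer S' = (K ⊓ centralizer (Subtype.val '' S')).subgroupOf H := by
  ext k
  simp only [mem_inf, mem_subgroupOf, mem_centralizer_iff]
  constructor
  · rintro ⟨hk, hc⟩
    refine ⟨hk, ?_⟩
    rintro g ⟨h, hh, rfl⟩
    have := hc h hh
    have h2 := congrArg Subtype.val this
    simpa using h2
  · rintro ⟨hk, hc⟩
    refine ⟨hk, ?_⟩
    intro h hh
    apply Subtype.ext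
    have := hc (h : G) ⟨h, hh, rfl⟩
    simpa using this

theorem qg_image_subgroupOf {H P0 : Subgroup G} (h : P0 ≤ H) :
    Subtype.val '' ((P0.subgroupOf H : Subgroup ↥H) : Set ↥H) = (P0 : Set G) := by
  ext g
  constructor
  · rintro ⟨k, hk, rfl⟩
    exact hk
  · intro hg
    exact ⟨⟨g, h hg⟩, hg, rfl⟩

theorem qg_transport (p : ℕ) (H K P0 : Subgroup G) [Fintype ↥P0]
    [Fintype ↥(P0.subgroupOf H)] (hKH : K ≤ H) (hP0H : P0 ≤ H) (x : G) (hxH : x ∈ H)
    (h : PIneq p (K.subgroupOf H) (P0.subgroupOf H) ⟨x, hxH⟩) : PIneq p K P0 x := by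
  unfold PIneq at h ⊢
  have e1 : ∀ u' : ↥(P0.subgroupOf H),
      Nat.card ↥(K.subgroupOf H ⊓ centralizer {(⟨x, hxH⟩ : ↥H) * (u' : ↥H)}) =
        Nat.card ↥(K ⊓ centralizer {x * ((u' : ↥H) : G)}) := by
    intro u'
    rw [qg_inf_centralizer_subgroupOf, Set.image_singleton,
      qg_card_subgroupOf (le_trans inf_le_left hKH)]
    rfl
  have e2 : Nat.card ↥(K.subgroupOf H ⊓ centralizer ((P0.subgroupOf H : Subgroup ↥H) : Set ↥H)) =
      Nat.card ↥(K ⊓ centralizer (P0 : Set G)) := by
    rw [qg_inf_centralizer_subgroupOf, qg_image_subgroupOf hP0H,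
      qg_card_subgroupOf (le_trans inf_le_left hKH)]
  have e3 : Nat.card ↥(K.subgroupOf H ⊓ centralizer {(⟨x, hxH⟩ : ↥H)} ⊓
        centralizer ((P0.subgroupOf H : Subgroup ↥H) : Set ↥H)) =
      Nat.card ↥(K ⊓ centralizer {x} ⊓ centralizer (P0 : Set G)) := by
    rw [qg_inf_centralizer_subgroupOf, Set.image_singleton, qg_inf_centralizer_subgroupOf,
      qg_image_subgroupOf hP0H,
      qg_card_subgroupOf (le_trans inf_le_left (le_trans inf_le_left hKH))]
  have e4 : Nat.card ↥(K.subgroupOf H) = Nat.card ↥K := qg_card_subgroupOf hKH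
  have e5 : Nat.card ↥(P0.subgroupOf H) = Nat.card ↥P0 := qg_card_subgroupOf hP0H
  have e6 : ∏ u' : ↥(P0.subgroupOf H),
        Nat.card ↥(K.subgroupOf H ⊓ centralizer {(⟨x, hxH⟩ : ↥H) * (u' : ↥H)}) =
      ∏ u : ↥P0, Nat.card ↥(K ⊓ centralizer {x * (u : G)}) := by
    refine Fintype.prod_equiv (subgroupOfEquivOfLe hP0H).toEquiv _ _ ?_
    intro u'
    rw [e1 u']
    rfl
  rw [e6, e2, e3, e4, e5] at h
  exact h

end Transport

section Normal

/-- piece AB (`pineq_abelian`) as a hypothesis -/
def ABHyp (p : ℕ) : Prop :=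
  ∀ {G : Type u} [Group G] [Finite G] (K R P0 : Subgroup G) [Fintype ↥P0],
    (∀ a ∈ K, ∀ b ∈ K, a * b = b * a) → (Nat.card K).Coprime p → IsPGroup p R →
    R ≤ normalizer (K : Set G) → P0 ≤ R → R ≤ normalizer (P0 : Set G) →
    ∀ x ∈ R, PIneq p K P0 x

theorem qg_arith (p s Pa Pb A0 B0 Ak Bk A1 B1 : ℕ)
    (h1 : Pa ^ p * A0 ^ s ≤ Ak ^ s * A1 ^ (p * s))
    (h2 : Pb ^ p * B0 ^ s ≤ Bk ^ s * B1 ^ (p * s)) :
    (Pa * Pb) ^ p * (A0 * B0) ^ s ≤ (Ak * Bk) ^ s * (A1 * B1) ^ (p * s) := by
  calc (Pa * Pb) ^ p * (A0 * B0) ^ s = (Pa ^ p * A0 ^ s) * (Pb ^ p * B0 ^ s) := by ring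
    _ ≤ (Ak ^ s * A1 ^ (p * s)) * (Bk ^ s * B1 ^ (p * s)) := Nat.mul_le_mul h1 h2
    _ = _ := by ring

theorem qg_normal (p q : ℕ) [Fact p.Prime] [Fact q.Prime] (hABh : ABHyp.{u} p) :
    ∀ (n : ℕ) {G : Type u} [Group G] [Finite G] (K R P0 : Subgroup G) [Fintype ↥P0] [K.Normal],
      Nat.card ↥K = n → IsPGroup q ↥K → (Nat.card ↥K).Coprime p → IsPGroup p ↥R → P0 ≤ R →
      R ≤ normalizer (P0 : Set G) → ∀ x ∈ R, PIneq p K P0 x := by
  intro n
  induction n using Nat.strong_induction_on with
  | _ n ih =>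
    intro G _ _ K R P0 _ hKn hn hKq hK hR hP0R hRP0 x hx
    have hRK : R ≤ normalizer (K : Set G) := le_normalizer_of_normal
    by_cases hab : ∀ a ∈ K, ∀ b ∈ K, a * b = b * a
    · exact hABh K R P0 hab hK hR hRK hP0R hRP0 x hx
    · -- the centre of `K`
      set N : Subgroup G := K ⊓ centralizer (K : Set G) with hNdef
      have hNK : N ≤ K := inf_le_left
      haveI hNn : N.Normal := by
        refine ⟨fun m hm g => ?_⟩
        obtain ⟨hmK, hmC⟩ := mem_inf.1 hm
        refine mem_inf.2 ⟨hKn.conj_mem m hmK g, ?_⟩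
        rw [mem_centralizer_iff] at hmC ⊢
        intro k hk
        have hk' : g⁻¹ * k * g ∈ K := by simpa using hKn.conj_mem k hk g⁻¹
        have := hmC _ hk'
        calc k * (g * m * g⁻¹) = g * ((g⁻¹ * k * g) * m) * g⁻¹ := by group
          _ = g * (m * (g⁻¹ * k * g)) * g⁻¹ := by rw [this]
          _ = g * m * g⁻¹ * k := by group
      have habN : ∀ a ∈ N, ∀ b ∈ N, a * b = b * a := by
        intro a ha b hb
        have hbC := (mem_inf.1 hb).2
        rw [mem_centralizer_iff] at hbC
        exact hbC a (hNK ha)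
      -- `N ≠ ⊥`
      have hNne : N ≠ ⊥ := by
        haveI : Nontrivial ↥K := by
          by_contra hnt
          rw [not_nontrivial_iff_subsingleton] at hnt
          apply hab
          intro a ha b hb
          have h1 : (⟨a, ha⟩ : ↥K) = 1 := Subsingleton.elim _ _
          have h2 : (⟨b, hb⟩ : ↥K) = 1 := Subsingleton.elim _ _
          have ha1 : a = 1 := by simpa using congrArg Subtype.val h1
          have hb1 : b = 1 := by simpa using congrArg Subtype.val h2
          rw [ha1, hb1]
        haveI := hKq.center_nontrivial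
        obtain ⟨z, hz⟩ := exists_ne (1 : ↥(Subgroup.center ↥K))
        intro hbot
        apply hz
        have hzN : ((z : ↥K) : G) ∈ N := by
          refine mem_inf.2 ⟨(z : ↥K).2, ?_⟩
          rw [mem_centralizer_iff]
          intro k hk
          have hzc := z.2
          rw [Subgroup.mem_center_iff] at hzc
          have := hzc ⟨k, hk⟩
          simpa using congrArg Subtype.val this
        rw [hbot, mem_bot] at hzN
        apply Subtype.ext
        apply Subtype.ext
        simpa using hzN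
      have hNcard : 1 < Nat.card ↥N := (Subgroup.one_lt_card_iff_ne_bot N).2 hNne
      -- the quotient
      set π := QuotientGroup.mk' N with hπ
      have hπs : Function.Surjective π := QuotientGroup.mk'_surjective N
      have hS_R : ∀ S : Set G, S ⊆ (R : Set G) → IsPGroup p ↥(Subgroup.closure S) := by
        intro S hS
        exact hR.to_le ((Subgroup.closure_le R).2 hS)
      have sec : ∀ S : Set G, S ⊆ (R : Set G) →
          Nat.card ↥(K.map π ⊓ centralizer (π '' S)) * Nat.card ↥(N ⊓ centralizer S) =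
            Nat.card ↥(K ⊓ centralizer S) := by
        intro S hS
        exact sec_card p K N hNK hK S (hS_R S hS) (fun s hs => hRK (hS hs))
      -- `|K/N| · |N| = |K|`
      have hcardK : Nat.card ↥(K.map π) * Nat.card ↥N = Nat.card ↥K := by
        have := sec ∅ (Set.empty_subset _)
        simp only [Set.image_empty, qg_centralizer_empty, inf_top_eq] at this
        exact this
      have hKpos : 0 < Nat.card ↥(K.map π) := Nat.card_pos
      have hlt : Nat.card ↥(K.map π) < n := by
        rw [← hn, ← hcardK]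
        calc Nat.card ↥(K.map π) = Nat.card ↥(K.map π) * 1 := (mul_one _).symm
          _ < Nat.card ↥(K.map π) * Nat.card ↥N := (Nat.mul_lt_mul_left hKpos).2 hNcard
      -- the induction hypothesis in `G ⧸ N`
      haveI hKbar : (K.map π).Normal := Subgroup.Normal.map hKn π hπs
      letI : Fintype ↥(P0.map π) := Fintype.ofFinite _
      have hKbarq : IsPGroup q ↥(K.map π) := hKq.map π
      have hKdvd : Nat.card ↥(K.map π) ∣ Nat.card ↥K := Dvd.intro _ hcardK
      have hKbarp : (Nat.card ↥(K.map π)).Coprime p := Nat.Coprime.coprime_dvd_left hKdvd hK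
      have hRbar : IsPGroup p ↥(R.map π) := hR.map π
      have hP0Rbar : P0.map π ≤ R.map π := Subgroup.map_mono hP0R
      have hRP0bar : R.map π ≤ normalizer ((P0.map π : Subgroup (G ⧸ N)) : Set (G ⧸ N)) :=
        (Subgroup.map_mono hRP0).trans (Subgroup.le_normalizer_map π)
      have hxbar : π x ∈ R.map π := Subgroup.mem_map_of_mem π hx
      have hIH := ih _ hlt (K.map π) (R.map π) (P0.map π) rfl hKbarq hKbarp hRbar hP0Rbar
        hRP0bar (π x) hxbar
      -- the abelian case for `N`
      have hNdvd : Nat.card ↥N ∣ Nat.card ↥K := Dvd.intro_left _ hcardK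
      have hNp : (Nat.card ↥N).Coprime p := Nat.Coprime.coprime_dvd_left hNdvd hK
      have hAB := hABh N R P0 habN hNp hR le_normalizer_of_normal hP0R hRP0 x hx
      -- `P0 ≃ P0 N / N`
      have hP0p : IsPGroup p ↥P0 := hR.to_le hP0R
      obtain ⟨k, hk⟩ := IsPGroup.iff_card.1 hP0p
      have hcop : (Nat.card ↥P0).Coprime (Nat.card ↥N) := by
        rw [hk]
        exact Nat.Coprime.pow_left k hNp.symm
      have hdisj : P0 ⊓ N = ⊥ := (Subgroup.disjoint_of_coprime_natCard hcop).eq_bot
      have hinj : Function.Injective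
          (fun u : ↥P0 => (⟨π (u : G), Subgroup.mem_map_of_mem π u.2⟩ : ↥(P0.map π))) := by
        intro u v huv
        have h1 : π (u : G) = π (v : G) := congrArg Subtype.val huv
        have h2 : (u : G)⁻¹ * (v : G) ∈ N := by
          have : ((u : G) : G ⧸ N) = ((v : G) : G ⧸ N) := h1
          exact QuotientGroup.eq.1 this
        have h3 : (u : G)⁻¹ * (v : G) ∈ P0 ⊓ N :=
          mem_inf.2 ⟨P0.mul_mem (P0.inv_mem u.2) v.2, h2⟩
        rw [hdisj, mem_bot] at h3
        apply Subtype.ext
        exact inv_mul_eq_one.1 h3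
      have hsurj : Function.Surjective
          (fun u : ↥P0 => (⟨π (u : G), Subgroup.mem_map_of_mem π u.2⟩ : ↥(P0.map π))) := by
        rintro ⟨y, hy⟩
        obtain ⟨u, hu, rfl⟩ := Subgroup.mem_map.1 hy
        exact ⟨⟨u, hu⟩, rfl⟩
      set e : ↥P0 ≃ ↥(P0.map π) := Equiv.ofBijective _ ⟨hinj, hsurj⟩ with he
      have hs : Nat.card ↥(P0.map π) = Nat.card ↥P0 := (Nat.card_congr e).symm
      have hprod : ∏ ū : ↥(P0.map π), Nat.card ↥(K.map π ⊓ centralizer {π x * (ū : G ⧸ N)}) =
          ∏ u : ↥P0, Nat.card ↥(K.map π ⊓ centralizer (π '' {x * (u : G)})) := by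
        symm
        refine Fintype.prod_equiv e _ _ ?_
        intro u
        rw [Set.image_singleton, map_mul]
        rfl
      have e0 : K.map π ⊓ centralizer ((P0.map π : Subgroup (G ⧸ N)) : Set (G ⧸ N)) =
          K.map π ⊓ centralizer (π '' (P0 : Set G)) := by
        rw [Subgroup.coe_map]
      have e1 : K.map π ⊓ centralizer {π x} ⊓
            centralizer ((P0.map π : Subgroup (G ⧸ N)) : Set (G ⧸ N)) =
          K.map π ⊓ centralizer (π '' ({x} ∪ (P0 : Set G))) := by
        rw [Set.image_union, Set.image_singleton, qg_centralizer_union, ← inf_assoc,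
          Subgroup.coe_map]
      have e1' : K ⊓ centralizer {x} ⊓ centralizer (P0 : Set G) =
          K ⊓ centralizer ({x} ∪ (P0 : Set G)) := by
        rw [qg_centralizer_union, ← inf_assoc]
      have e1'' : N ⊓ centralizer {x} ⊓ centralizer (P0 : Set G) =
          N ⊓ centralizer ({x} ∪ (P0 : Set G)) := by
        rw [qg_centralizer_union, ← inf_assoc]
      have secu : ∀ u : ↥P0, Nat.card ↥(K.map π ⊓ centralizer (π '' {x * (u : G)})) *
          Nat.card ↥(N ⊓ centralizer {x * (u : G)}) = Nat.card ↥(K ⊓ centralizer {x * (u : G)}) :=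
        fun u => sec _ (Set.singleton_subset_iff.2 (R.mul_mem hx (hP0R u.2)))
      have sec0 := sec (P0 : Set G) hP0R
      have sec1 := sec ({x} ∪ (P0 : Set G))
        (Set.union_subset (Set.singleton_subset_iff.2 hx) hP0R)
      have hprodK : ∏ u : ↥P0, Nat.card ↥(K ⊓ centralizer {x * (u : G)}) =
          (∏ u : ↥P0, Nat.card ↥(K.map π ⊓ centralizer (π '' {x * (u : G)}))) *
            ∏ u : ↥P0, Nat.card ↥(N ⊓ centralizer {x * (u : G)}) := by
        rw [← Finset.prod_mul_distrib]
        exact Finset.prod_congr rfl (fun u _ => (secu u).symm)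
      unfold PIneq at hIH hAB ⊢
      rw [hprod, e0, e1, hs] at hIH
      rw [e1''] at hAB
      rw [hprodK, ← sec0, ← hcardK, e1', ← sec1]
      exact qg_arith p _ _ _ _ _ _ _ _ _ hIH hAB

theorem pineq_qgroup_of_ab {G : Type u} [Group G] [Finite G] (p : ℕ) [Fact p.Prime]
    (hABh : ABHyp.{u} p) (K R P0 : Subgroup G)
    [Fintype ↥P0] (q : ℕ) [Fact q.Prime] (hKq : IsPGroup q K) (hK : (Nat.card K).Coprime p)
    (hR : IsPGroup p R)
    (hRK : R ≤ normalizer (K : Set G)) (hP0R : P0 ≤ R) (hRP0 : R ≤ normalizer (P0 : Set G))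
    (x : G) (hx : x ∈ R) : PIneq p K P0 x := by
  set H : Subgroup G := normalizer (K : Set G) with hH
  have hKH : K ≤ H := le_normalizer
  have hP0H : P0 ≤ H := hP0R.trans hRK
  letI : Fintype ↥(P0.subgroupOf H) := Fintype.ofFinite _
  haveI : (K.subgroupOf H).Normal := normal_in_normalizer
  apply qg_transport p H K P0 hKH hP0H x (hRK hx)
  refine qg_normal p q hABh _ (K.subgroupOf H) (R.subgroupOf H) (P0.subgroupOf H) rfl ?_ ?_ ?_ ?_ ?_
    ⟨x, hRK hx⟩ ?_
  · exact hKq.comap_subtype
  · rw [qg_card_subgroupOf hKH]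
    exact hK
  · exact hR.comap_subtype
  · intro g hg
    exact hP0R hg
  · intro g hg
    have hgn := hRP0 hg
    rw [mem_normalizer_iff] at hgn ⊢
    intro h
    simp only [mem_subgroupOf]
    have := hgn (h : G)
    simpa using this
  · exact hx

end Normal

end Cfsg.Agent.Lib.Helper15.S91dup
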