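import Mathlib
import Cfsg.Agent.Lib.helper15.S983Tools

/-!
# Project S983 (S0983), order row 5148 = 2^2 * 3^2 * 11 * 13 (helper15)

`n_11 = 78`, `|N(P11)| = 66`, `|C(P11)| = 33`, `z ∈ C(P11)` of order 3, `⟨z⟩` is normal in `N(P11)`;
`L = N_G(⟨z⟩)` contains `N(P11)` and a Sylow 3-subgroup, so `|L| = 198 k`, `k ∣ 26`, and
`n_11(L) = 3 k ≡ 1 (mod 11)` forces `k = 26`: `⟨z⟩` is normal in `G`.
-/

set_option autoImplicit false
set_option linter.style.haveILetI false

namespace Cfsg.Agent.Lib.helper15.S983

open Subgroup Cfsg.Agent.Lib.helper8 Cfsg.Agent.Lib.helper23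

theorem no_simple_5148 {G : Type*} [Group G] [Finite G] [IsSimpleGroup G]
    (hG : Nat.card G = 5148) : False := by
  have hnc : ¬ IsMulCommutative G := h8_not_comm_of_card (by rw [hG]; norm_num)
  haveI : Fact (Nat.Prime 11) := ⟨by norm_num⟩
  haveI : Fact (Nat.Prime 3) := ⟨by norm_num⟩
  obtain ⟨P⟩ : Nonempty (Sylow 11 G) := inferInstance
  have hG11 : Nat.card G = 11 ^ 1 * 468 := by rw [hG]; norm_num
  obtain ⟨hP, hN, -, r, hr, hr1, hC⟩ :=
    og3_sylow_data 11 468 hG11 (by norm_num) (by norm_num) P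
  -- `n_11 = 78`
  have hmem := h8_nsylow_mem 11 1 468 hG11 (by norm_num)
  have hn1 := h8_simple_nsylow_ne_one 11 1 468 hG11 (by norm_num) (by norm_num) (by norm_num)
  have hset : (Nat.divisors 468).filter (fun d => d % 11 = 1) = {1, 12, 78} := by decide
  rw [hset] at hmem
  simp only [Finset.mem_insert, Finset.mem_singleton] at hmem
  have hn78 : Nat.card (Sylow 11 G) = 78 := by
    rcases hmem with h | h | h
    · exact absurd h hn1
    · exfalso
      have hidx : (normalizer ((P : Subgroup G) : Set G)).index = 12 := by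
        rw [← h]; exact (P.card_eq_index_normalizer).symm
      have hNtop : normalizer ((P : Subgroup G) : Set G) ≠ ⊤ := by
        intro ht; rw [ht, index_top] at hidx; omega
      have h12 := h8_simple_two_mul_card_dvd_factorial hnc _ hNtop
      rw [hidx, hG] at h12
      have h13 : (13 : ℕ) ∣ (12 : ℕ).factorial := dvd_trans (by norm_num) h12
      have := (Nat.Prime.dvd_factorial (by norm_num : Nat.Prime 13)).mp h13
      omega
    · exact h
  have hNc : Nat.card (normalizer ((P : Subgroup G) : Set G)) = 66 := by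
    rw [hn78, hG] at hN; omega
  have hCc : Nat.card (centralizer ((P : Subgroup G) : Set G)) = 33 := by
    rw [hNc] at hC
    have hr10 : r ∈ Nat.divisors 10 := Nat.mem_divisors.mpr ⟨hr, by norm_num⟩
    have hd : Nat.divisors 10 = {1, 2, 5, 10} := by decide
    rw [hd] at hr10
    simp only [Finset.mem_insert, Finset.mem_singleton] at hr10
    rcases hr10 with h | h | h | h <;> subst h <;> omega
  -- `z` of order 3 in `C(P11)`
  obtain ⟨z', hz'⟩ := exists_prime_orderOf_dvd_card' (G := centralizer ((P : Subgroup G) : Set G)) 3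
    (by rw [hCc]; norm_num)
  have hzC : (z' : G) ∈ centralizer ((P : Subgroup G) : Set G) := z'.2
  have hz3 : orderOf (z' : G) = 3 := by rw [Subgroup.orderOf_coe]; exact hz'
  set z : G := (z' : G) with hzdef
  have hCc' : Nat.card (centralizer ((P : Subgroup G) : Set G)) = 3 ^ 1 * 11 := by rw [hCc]; norm_num
  have huniq : ∀ c ∈ centralizer ((P : Subgroup G) : Set G), orderOf c = 3 → c ∈ zpowers z := by
    intro c hc hc3
    refine s983_mem_zpowers_of_unique 3 11 _ hCc' (by norm_num) ?_ z c hzC hc hz3 hc3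
    intro d hd hd3
    have hd11 : d ∈ Nat.divisors 11 := Nat.mem_divisors.mpr ⟨hd, by norm_num⟩
    have hdd : Nat.divisors 11 = {1, 11} := by decide
    rw [hdd] at hd11
    simp only [Finset.mem_insert, Finset.mem_singleton] at hd11
    rcases hd11 with h | h
    · exact h
    · subst h; omega
  -- `N(P11) ≤ L := N(⟨z⟩)`
  have hconj3 : ∀ n : G, orderOf (n * z * n⁻¹) = 3 := by
    intro n
    have := h8_orderOf_conj n⁻¹ z
    rw [inv_inv] at this
    rw [this, hz3]
  have hNL : normalizer ((P : Subgroup G) : Set G) ≤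
      normalizer ((zpowers z : Subgroup G) : Set G) := by
    intro n hn
    apply s983_mem_normalizer_zpowers
    · exact huniq _ (s983_conj_mem_centralizer _ n z hn hzC) (hconj3 n)
    · have hn' : n⁻¹ ∈ normalizer ((P : Subgroup G) : Set G) := inv_mem hn
      have h1 := huniq _ (s983_conj_mem_centralizer _ n⁻¹ z hn' hzC) (hconj3 n⁻¹)
      rwa [inv_inv] at h1
  -- a Sylow 3-subgroup inside `L`
  have hpz : IsPGroup 3 (zpowers z) :=
    IsPGroup.of_card (n := 1) (by rw [Nat.card_zpowers, hz3, pow_one])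
  obtain ⟨S, hS⟩ := hpz.exists_le_sylow
  have hG3 : Nat.card G = 3 ^ 2 * 572 := by rw [hG]; norm_num
  have hSc : Nat.card (S : Subgroup G) = 3 ^ 2 := h8_sylow_card 3 2 572 hG3 (by norm_num) S
  have hSL : (S : Subgroup G) ≤ normalizer ((zpowers z : Subgroup G) : Set G) := by
    intro s hs
    apply s983_centralizer_le_normalizer_zpowers
    exact h8_comm_of_card_prime_sq 3 (S : Subgroup G) hSc s hs z (hS (mem_zpowers z))
  -- the order of `L`
  set L := normalizer ((zpowers z : Subgroup G) : Set G) with hLdef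
  have h9 : 9 ∣ Nat.card L := by
    have := Subgroup.card_dvd_of_le hSL
    rw [hSc] at this
    simpa using this
  have h66 : 66 ∣ Nat.card L := by
    have := Subgroup.card_dvd_of_le hNL
    rwa [hNc] at this
  have hLG : Nat.card L ∣ 5148 := by
    rw [← hG]; exact Subgroup.card_subgroup_dvd_card L
  have hsyl := s983_nsylow_of_normalizer_le 11 P L hNL
  rw [hNc] at hsyl
  have hmod := h8_nsylow_mod (G := L) 11
  -- `|L| = 198 k`, `k ∣ 26`
  have h198 : 198 ∣ Nat.card L := by
    have h22 : 22 ∣ Nat.card L := dvd_trans (by norm_num) h66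
    have : (9 * 22) ∣ Nat.card L :=
      Nat.Coprime.mul_dvd_of_dvd_of_dvd (by norm_num) h9 h22
    simpa using this
  obtain ⟨k, hk⟩ := h198
  have hk26 : k ∣ 26 := by
    rw [hk] at hLG
    have : 198 * k ∣ 198 * 26 := by simpa using hLG
    exact Nat.dvd_of_mul_dvd_mul_left (by norm_num) this
  have hk26' : k ∈ Nat.divisors 26 := Nat.mem_divisors.mpr ⟨hk26, by norm_num⟩
  have hd26 : Nat.divisors 26 = {1, 2, 13, 26} := by decide
  rw [hd26] at hk26'
  simp only [Finset.mem_insert, Finset.mem_singleton] at hk26'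
  have hLtop : Nat.card L = 5148 := by
    rcases hk26' with h | h | h | h <;> subst h <;> omega
  -- `L = ⊤`, so `⟨z⟩` is normal
  have hLeq : L = ⊤ := by
    apply Subgroup.eq_top_of_le_card
    rw [hLtop, hG]
  haveI : (zpowers z : Subgroup G).Normal := h8_normal_of_normalizer_eq_top _ hLeq
  have hz3' : Nat.card (zpowers z : Subgroup G) = 3 := by rw [Nat.card_zpowers, hz3]
  rcases h8_simple_card_normal (zpowers z : Subgroup G) with h | h
  · omega
  · rw [hG] at h; omega

end Cfsg.Agent.Lib.helper15.S983
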