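import Mathlib
import Cfsg.Agent.Lib.helper7.SAP.Defs
import Cfsg.Agent.Lib.Helper24.SAPNT4
import Cfsg.Agent.Lib.Helper11.SAPSM5
import Cfsg.Agent.Lib.Helper16.SAPSIX
import Cfsg.Agent.Lib.Helper10.SAPTR3
import Cfsg.Agent.Lib.Helper10.SAPTR4

/-!
# Project SAP (S2284 + S2297, designer helper7): SPARE second copies of the rows MAIN1 MAIN2 MAIN3 MAIN4 as cores.

The Skel statements of PRES7 (`presA`) and PRES8 (`presS`) are hypotheses `hA`, `hS`; everything else is cited from main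
(NT6 NT7 `sap_goodA` `sap_goodS`, SIX2 SIX3 `pres_A6` `pres_S6`, TR4 `card_Pt`, SM5 `pres_small`, TR3 `tietze`).
The conclusions are the EXACT Skel statements of `alt_pres7`, `sym_pres7`, `main_S2284`, `main_S2297`.
The rows and the verbatim names belong to helper7.
-/

set_option autoImplicit false

namespace Cfsg.Agent.Lib.helper7.SAP

open Equiv

universe u

/-- MAIN1 core (spare): the statement of `presA` is a hypothesis -/
theorem sapmain_h15_alt_pres7_core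
    (hA : ∀ (p k l : ℕ) [Fact p.Prime], 3 ≤ p → k + 1 ≤ l → l + 1 ≤ p → Odd (l + k) → ¬ 3 ∣ (l + k) →
      ∃ rels : Finset (FreeGroup (Fin 2)), rels.card ≤ 7 ∧
        Nonempty (PresentedGroup (↑rels : Set (FreeGroup (Fin 2))) ≃* alternatingGroup (Pt p k)))
    (n : ℕ) (hn : 5 ≤ n) :
    ∃ rels : Finset (FreeGroup (Fin 2)), rels.card ≤ 7 ∧
      Nonempty (PresentedGroup (↑rels : Set (FreeGroup (Fin 2))) ≃* alternatingGroup (Fin n)) := by
  by_cases h6 : n = 6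
  · subst h6
    exact pres_A6
  · obtain ⟨p, k, l, hp, hp3, hpk, hkl, hlp, hodd, h3⟩ := sap_goodA n hn h6
    haveI : Fact p.Prime := ⟨hp⟩
    obtain ⟨rels, hc, ⟨e⟩⟩ := hA p k l hp3 hkl hlp hodd h3
    obtain ⟨f⟩ := card_Pt p k
    subst hpk
    exact ⟨rels, hc, ⟨e.trans (Equiv.altCongrHom f)⟩⟩

/-- MAIN2 core (spare): the statement of `presS` is a hypothesis -/
theorem sapmain_h15_sym_pres7_core
    (hS : ∀ (p k l : ℕ) [Fact p.Prime], 3 ≤ p → k + 1 ≤ l → l + 1 ≤ p → Even (l + k) → ¬ 3 ∣ (l + k) →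
      ∃ rels : Finset (FreeGroup (Fin 2)), rels.card ≤ 7 ∧
        Nonempty (PresentedGroup (↑rels : Set (FreeGroup (Fin 2))) ≃* Perm (Pt p k)))
    (n : ℕ) (hn : 5 ≤ n) :
    ∃ rels : Finset (FreeGroup (Fin 2)), rels.card ≤ 7 ∧
      Nonempty (PresentedGroup (↑rels : Set (FreeGroup (Fin 2))) ≃* Perm (Fin n)) := by
  by_cases h6 : n = 6
  · subst h6
    exact pres_S6
  · obtain ⟨p, k, l, hp, hp3, hpk, hkl, hlp, heven, h3⟩ := sap_goodS n hn h6
    haveI : Fact p.Prime := ⟨hp⟩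
    obtain ⟨rels, hc, ⟨e⟩⟩ := hS p k l hp3 hkl hlp heven h3
    obtain ⟨f⟩ := card_Pt p k
    subst hpk
    exact ⟨rels, hc, ⟨e.trans (Equiv.permCongrHom f)⟩⟩

/-- MAIN3 core (spare) = S2284 from the statements of `presA`, `presS` -/
theorem sapmain_h15_S2284_core
    (hA : ∀ (p k l : ℕ) [Fact p.Prime], 3 ≤ p → k + 1 ≤ l → l + 1 ≤ p → Odd (l + k) → ¬ 3 ∣ (l + k) →
      ∃ rels : Finset (FreeGroup (Fin 2)), rels.card ≤ 7 ∧
        Nonempty (PresentedGroup (↑rels : Set (FreeGroup (Fin 2))) ≃* alternatingGroup (Pt p k)))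
    (hS : ∀ (p k l : ℕ) [Fact p.Prime], 3 ≤ p → k + 1 ≤ l → l + 1 ≤ p → Even (l + k) → ¬ 3 ∣ (l + k) →
      ∃ rels : Finset (FreeGroup (Fin 2)), rels.card ≤ 7 ∧
        Nonempty (PresentedGroup (↑rels : Set (FreeGroup (Fin 2))) ≃* Perm (Pt p k)))
    (n : ℕ) : (∃ rels : Finset (FreeGroup (Fin 2)), rels.card ≤ 8 ∧ Nonempty (PresentedGroup (↑rels : Set (FreeGroup (Fin 2))) ≃* Equiv.Perm (Fin n))) ∧ (∃ rels : Finset (FreeGroup (Fin 2)), rels.card ≤ 8 ∧ Nonempty (PresentedGroup (↑rels : Set (FreeGroup (Fin 2))) ≃* ↥(alternatingGroup (Fin n)))) := by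
  by_cases hn : n ≤ 4
  · obtain ⟨⟨r1, h1, e1⟩, ⟨r2, h2, e2⟩⟩ := pres_small n hn
    exact ⟨⟨r1, by omega, e1⟩, ⟨r2, by omega, e2⟩⟩
  · have hn5 : 5 ≤ n := by omega
    obtain ⟨r1, h1, e1⟩ := sapmain_h15_sym_pres7_core hS n hn5
    obtain ⟨r2, h2, e2⟩ := sapmain_h15_alt_pres7_core hA n hn5
    exact ⟨⟨r1, by omega, e1⟩, ⟨r2, by omega, e2⟩⟩

/-- MAIN4 core (spare) = S2297 from the statements of `presA`, `presS` -/
theorem sapmain_h15_S2297_core
    (hA : ∀ (p k l : ℕ) [Fact p.Prime], 3 ≤ p → k + 1 ≤ l → l + 1 ≤ p → Odd (l + k) → ¬ 3 ∣ (l + k) →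
      ∃ rels : Finset (FreeGroup (Fin 2)), rels.card ≤ 7 ∧
        Nonempty (PresentedGroup (↑rels : Set (FreeGroup (Fin 2))) ≃* alternatingGroup (Pt p k)))
    (hS : ∀ (p k l : ℕ) [Fact p.Prime], 3 ≤ p → k + 1 ≤ l → l + 1 ≤ p → Even (l + k) → ¬ 3 ∣ (l + k) →
      ∃ rels : Finset (FreeGroup (Fin 2)), rels.card ≤ 7 ∧
        Nonempty (PresentedGroup (↑rels : Set (FreeGroup (Fin 2))) ≃* Perm (Pt p k)))
    (n : ℕ) (hn : 5 ≤ n) :
    (∀ a b : Equiv.Perm (Fin n), Subgroup.closure ({a, b} : Set (Equiv.Perm (Fin n))) = ⊤ →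
      ∃ rels : Finset (FreeGroup (Fin 2)), rels.card ≤ 9 ∧
        ∃ e : PresentedGroup (↑rels : Set (FreeGroup (Fin 2))) ≃* Equiv.Perm (Fin n),
          e (PresentedGroup.of 0) = a ∧ e (PresentedGroup.of 1) = b) ∧
    (∀ a b : ↥(alternatingGroup (Fin n)), Subgroup.closure ({a, b} : Set ↥(alternatingGroup (Fin n))) = ⊤ →
      ∃ rels : Finset (FreeGroup (Fin 2)), rels.card ≤ 9 ∧
        ∃ e : PresentedGroup (↑rels : Set (FreeGroup (Fin 2))) ≃* ↥(alternatingGroup (Fin n)),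
          e (PresentedGroup.of 0) = a ∧ e (PresentedGroup.of 1) = b) := by
  constructor
  · intro a b hab
    obtain ⟨r0, h0, ⟨e0⟩⟩ := sapmain_h15_sym_pres7_core hS n hn
    obtain ⟨rels, hc, e, ha, hb⟩ := tietze r0 e0 a b hab
    exact ⟨rels, by omega, e, ha, hb⟩
  · intro a b hab
    obtain ⟨r0, h0, ⟨e0⟩⟩ := sapmain_h15_alt_pres7_core hA n hn
    obtain ⟨rels, hc, e, ha, hb⟩ := tietze r0 e0 a b hab
    exact ⟨rels, by omega, e, ha, hb⟩

end Cfsg.Agent.Lib.helper7.SAP
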