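import Mathlib
import Cfsg.Prelude.Def_Blocks
import Cfsg.Agent.Lib.Helper16.AP3
import Cfsg.Agent.Lib.Helper10.SLB.Defs
import Cfsg.Agent.Lib.Helper18.SLBL07
import Cfsg.Agent.Lib.helper15.SLBL08core

/-!
# Project SLB (leader helper10), row L08 (`isConj_of_charpoly_eq`), verbatim: `slbl08_core` on
helper18's L07 (`squarefree_of_pfree`).
-/

set_option autoImplicit false

open Polynomial

namespace Cfsg.Agent.Lib.Helper10.SLB

open Cfsg.Agent.Lib.Helper16.AP

universe u

section L

variable {F : Type u} [Field F]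

/-- L08 [S-M]  dep L07. -/
theorem isConj_of_charpoly_eq [Fintype F] (p : ℕ) [Fact p.Prime] [CharP F p] (n : ℕ)
    (x y : Matrix.SpecialLinearGroup (Fin n) F) (hx : PFree p x)
    (hc : (y : Matrix (Fin n) (Fin n) F).charpoly = (x : Matrix (Fin n) (Fin n) F).charpoly) :
    IsConj x y :=
  slbl08_core n x y (squarefree_of_pfree p n x hx) hc

end L

end Cfsg.Agent.Lib.Helper10.SLB
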