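import Mathlib
import Cfsg.Agent.Lib.helper17.SLP.Defs
import Cfsg.Agent.Lib.helper17.SLN.Defs

/-!
# Project SLN (S2290, designer helper17), row Y2 (`map_xr`): naturality of the root maps.
Extras: `slny2_map_phiC`, `slny2_map_phiR`, `slny2_map_hr`, `slny2_map_wr` (naturality of `phiC`, `phiR`, `hr`, `wr`).
-/

set_option autoImplicit false

namespace Cfsg.Agent.Lib.helper17.SLN

open Cfsg.Agent.Lib.helper17.SLP
open Cfsg.Agent.Lib.helper7.St

universe u v w v'

section Y

variable {F : Type u} [Field F] [Fintype F] {ι : Type w} [Fintype ι] [DecidableEq ι] {G : Type v} [Group G]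

omit [Fintype F] in
theorem slny2_map_phiC {G' : Type v'} [Group G'] (f : G →* G') (ν : alternatingGroup ι →* G)
    (φ : Matrix.SpecialLinearGroup (Fin 2) F →* G) (σ : alternatingGroup ι)
    (m : Matrix.SpecialLinearGroup (Fin 2) F) :
    f (phiC ν φ σ m) = phiC (f.comp ν) (f.comp φ) σ m := by
  unfold phiC
  simp only [MonoidHom.coe_comp, MulEquiv.coe_toMonoidHom, Function.comp_apply, MulAut.conj_apply,
    map_mul, map_inv]

omit [Fintype F] in
theorem slny2_map_phiR {G' : Type v'} [Group G'] (f : G →* G') (p : Pts ι) (ν : alternatingGroup ι →* G)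
    (φ : Matrix.SpecialLinearGroup (Fin 2) F →* G) (i j : ι) (m : Matrix.SpecialLinearGroup (Fin 2) F) :
    f (phiR p ν φ i j m) = phiR p (f.comp ν) (f.comp φ) i j m := by
  unfold phiR
  exact slny2_map_phiC f ν φ (sig p i j) m

omit [Fintype F] in
/-- Y2 [S]  naturality: `f ∘ phiC ν φ σ = phiC (f ∘ ν) (f ∘ φ) σ` (`map_mul`, `map_inv`), `xr`: `split_ifs`/`map_one`. -/
theorem map_xr {G' : Type v'} [Group G'] (f : G →* G') (p : Pts ι) (ν : alternatingGroup ι →* G)
    (φ : Matrix.SpecialLinearGroup (Fin 2) F →* G) (i j : ι) (t : F) :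
    f (xr p ν φ i j t) = xr p (f.comp ν) (f.comp φ) i j t := by
  unfold xr
  split_ifs with h
  · exact map_one f
  · exact slny2_map_phiR f p ν φ i j (xM t)

omit [Fintype F] in
theorem slny2_map_hr {G' : Type v'} [Group G'] (f : G →* G') (p : Pts ι) (ν : alternatingGroup ι →* G)
    (φ : Matrix.SpecialLinearGroup (Fin 2) F →* G) (i j : ι) (s : Fˣ) :
    f (hr p ν φ i j s) = hr p (f.comp ν) (f.comp φ) i j s := by
  unfold hr
  exact slny2_map_phiR f p ν φ i j (hM s)

omit [Fintype F] in
theorem slny2_map_wr {G' : Type v'} [Group G'] (f : G →* G') (p : Pts ι) (ν : alternatingGroup ι →* G)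
    (φ : Matrix.SpecialLinearGroup (Fin 2) F →* G) (i j : ι) :
    f (wr p ν φ i j) = wr p (f.comp ν) (f.comp φ) i j := by
  unfold wr
  exact slny2_map_phiR f p ν φ i j wM

end Y

end Cfsg.Agent.Lib.helper17.SLN
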