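import Mathlib
import Cfsg.Agent.Lib.Lead.SLn

set_option autoImplicit false

namespace Cfsg.Agent.Lib.helper15.SLnCyc

open Matrix Matrix.SpecialLinearGroup
open scoped commutatorElement

variable {K : Type*} [Field K] {n : ℕ}

def cc (n : ℕ) (K : Type*) [Field K] (i : Fin (n + 1)) : K := if i.val = n then (-1) ^ n else 1

lemma cc_ne_zero (i : Fin (n + 1)) : cc n K i ≠ 0 := by
  unfold cc; split_ifs <;> simp

lemma fin_succ_iff (i j : Fin (n + 1)) :
    j = i + 1 ↔ (j.val = i.val + 1 ∨ (i.val = n ∧ j.val = 0)) := by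
  by_cases hi : i = Fin.last n
  · subst hi
    rw [Fin.last_add_one]
    constructor
    · intro h; right; subst h; simp
    · rintro (h | ⟨-, h⟩)
      · have := j.isLt; simp at h; omega
      · exact Fin.ext (by simpa using h)
  · have hlt : i < Fin.last n := lt_of_le_of_ne (Fin.le_last i) hi
    have hv := Fin.val_add_one_of_lt hlt
    have hin : i.val ≠ n := fun h => hi (Fin.ext (by simpa using h))
    constructor
    · intro h; left; rw [h, hv]
    · rintro (h | ⟨h, -⟩)
      · exact Fin.ext (by rw [hv, h])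
      · exact absurd h hin

def wMat (n : ℕ) (K : Type*) [Field K] : Matrix (Fin (n + 1)) (Fin (n + 1)) K :=
  Matrix.of (fun i j => if j.val = i.val + 1 then 1 else if i.val = n ∧ j.val = 0 then (-1) ^ n else 0)

lemma wMat_apply (i j : Fin (n + 1)) :
    wMat n K i j = if j = i + 1 then cc n K i else 0 := by
  unfold wMat cc
  simp only [Matrix.of_apply]
  by_cases h1 : j.val = i.val + 1
  · have hj : j = i + 1 := (fin_succ_iff i j).2 (Or.inl h1)
    have hin : i.val ≠ n := by have := j.isLt; omega
    rw [if_pos h1, if_pos hj, if_neg hin]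
  · by_cases h2 : i.val = n ∧ j.val = 0
    · have hj : j = i + 1 := (fin_succ_iff i j).2 (Or.inr h2)
      rw [if_neg h1, if_pos h2, if_pos hj, if_pos h2.1]
    · have hj : ¬ j = i + 1 := fun h => by
        rcases (fin_succ_iff i j).1 h with h | h
        · exact h1 h
        · exact h2 h
      rw [if_neg h1, if_neg h2, if_neg hj]

lemma conj_aux (i j : Fin (n + 1)) (t t' : K) (ht : t' * cc n K j = cc n K i * t) :
    wMat n K * (1 + single (i + 1) (j + 1) t) = (1 + single i j t') * wMat n K := by
  rw [mul_add, add_mul, mul_one, one_mul]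
  congr 1
  ext a b
  by_cases hb : b = j + 1
  · subst hb
    rw [Matrix.mul_single_apply_same]
    by_cases ha : a = i
    · subst ha
      rw [Matrix.single_mul_apply_same, wMat_apply, wMat_apply]
      simp [ht]
    · rw [Matrix.single_mul_apply_of_ne _ _ _ _ _ ha, wMat_apply]
      have : ¬ (i + 1 = a + 1) := fun h => ha (add_right_cancel h).symm
      simp [this]
  · rw [Matrix.mul_single_apply_of_ne _ _ _ _ _ hb]
    by_cases ha : a = i
    · subst ha
      rw [Matrix.single_mul_apply_same, wMat_apply]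
      simp [hb]
    · rw [Matrix.single_mul_apply_of_ne _ _ _ _ _ ha]

noncomputable def TT (i j : Fin (n + 1)) (t : K) : SpecialLinearGroup (Fin (n + 1)) K :=
  if h : i ≠ j then SpecialLinearGroup.transvection h t else 1

lemma TT_of_ne {i j : Fin (n + 1)} (h : i ≠ j) (t : K) :
    TT i j t = SpecialLinearGroup.transvection h t := by
  unfold TT; rw [dif_pos h]

lemma TT_self (i : Fin (n + 1)) (t : K) : TT i i t = 1 := by
  unfold TT; simp

lemma conj_TT (w : SpecialLinearGroup (Fin (n + 1)) K) (hw : w.1 = wMat n K)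
    (i j : Fin (n + 1)) (t t' : K) (ht : t' * cc n K j = cc n K i * t) :
    w * TT (i + 1) (j + 1) t = TT i j t' * w := by
  by_cases hij : i = j
  · subst hij
    rw [TT_self, TT_self, mul_one, one_mul]
  · have hij' : i + 1 ≠ j + 1 := fun h => hij (add_right_cancel h)
    rw [TT_of_ne hij, TT_of_ne hij']
    apply Subtype.ext
    show w.1 * (SpecialLinearGroup.transvection hij' t).1 =
      (SpecialLinearGroup.transvection hij t').1 * w.1
    rw [hw]
    exact conj_aux i j t t' ht

lemma shift_mem (H : Subgroup (SpecialLinearGroup (Fin (n + 1)) K))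
    (w : SpecialLinearGroup (Fin (n + 1)) K) (hw : w.1 = wMat n K) (hwH : w ∈ H)
    (i j : Fin (n + 1)) (h : ∀ t : K, TT i j t ∈ H) : ∀ t : K, TT (i + 1) (j + 1) t ∈ H := by
  intro t
  have hc := cc_ne_zero (K := K) j
  have key := conj_TT w hw i j t (cc n K i * t * (cc n K j)⁻¹) (by field_simp)
  have : TT (i + 1) (j + 1) t = w⁻¹ * (TT i j (cc n K i * t * (cc n K j)⁻¹) * w) := by
    rw [← key]; group
  rw [this]
  exact H.mul_mem (H.inv_mem hwH) (H.mul_mem (h _) hwH)

lemma shift_mem_fin (H : Subgroup (SpecialLinearGroup (Fin (n + 1)) K))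
    (w : SpecialLinearGroup (Fin (n + 1)) K) (hw : w.1 = wMat n K) (hwH : w ∈ H)
    (i j : Fin (n + 1)) (h : ∀ t : K, TT i j t ∈ H) (k : Fin (n + 1)) :
    ∀ t : K, TT (i + k) (j + k) t ∈ H := by
  induction k using Fin.induction with
  | zero => simpa using h
  | succ k ih =>
    have := shift_mem H w hw hwH _ _ ih
    rw [← Fin.coeSucc_eq_succ, ← add_assoc, ← add_assoc]
    exact this

lemma adj_mem (H : Subgroup (SpecialLinearGroup (Fin (n + 1)) K))
    (w : SpecialLinearGroup (Fin (n + 1)) K) (hw : w.1 = wMat n K) (hwH : w ∈ H)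
    (h : ∀ t : K, TT (0 : Fin (n + 1)) 1 t ∈ H) (i : Fin (n + 1)) :
    ∀ t : K, TT i (i + 1) t ∈ H := by
  have := shift_mem_fin H w hw hwH 0 1 h i
  rw [zero_add, add_comm (1 : Fin (n + 1)) i] at this
  exact this

lemma dist_mem (H : Subgroup (SpecialLinearGroup (Fin (n + 1)) K))
    (hadj : ∀ (i : Fin (n + 1)) (t : K), TT i (i + 1) t ∈ H) (d : Fin (n + 1)) :
    d ≠ 0 → ∀ (i : Fin (n + 1)) (t : K), TT i (i + d) t ∈ H := by
  induction d using Fin.induction with
  | zero => intro h; exact absurd rfl h
  | succ d ih =>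
    intro hd0 i t
    rw [← Fin.coeSucc_eq_succ] at hd0 ⊢
    by_cases hd : d.castSucc = 0
    · rw [hd, zero_add]; exact hadj i t
    · have ih' := ih hd
      have hik : i ≠ i + d.castSucc := fun h => hd (by simpa using h.symm)
      have hij : i ≠ i + (d.castSucc + 1) := fun h => hd0 (by simpa using h.symm)
      have hkj : i + d.castSucc ≠ i + (d.castSucc + 1) := by
        rw [← add_assoc]
        intro h
        have h1 : (1 : Fin (n + 1)) = 0 := by simpa using h.symm
        rw [Fin.one_eq_zero_iff] at h1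
        have := d.isLt
        omega
      have e := Cfsg.Agent.Lib.Lead.transvection_eq_commutator hij hik hkj t 1
      rw [mul_one] at e
      rw [TT_of_ne hij, e]
      have m1 := ih' i t
      rw [TT_of_ne hik] at m1
      have m2 := hadj (i + d.castSucc) 1
      have hkj' : i + d.castSucc ≠ i + d.castSucc + 1 := by
        rw [add_assoc]; exact hkj
      rw [TT_of_ne hkj'] at m2
      have m2' : SpecialLinearGroup.transvection hkj (1 : K) ∈ H := by
        convert m2 using 2
        rw [add_assoc]
      rw [commutatorElement_def]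
      exact H.mul_mem (H.mul_mem (H.mul_mem m1 m2') (H.inv_mem m1)) (H.inv_mem m2')

theorem eq_top_of_mem (hn : 1 ≤ n) (H : Subgroup (SpecialLinearGroup (Fin (n + 1)) K))
    (w : SpecialLinearGroup (Fin (n + 1)) K) (hw : w.1 = wMat n K) (hwH : w ∈ H)
    (h : ∀ t : K, TT (0 : Fin (n + 1)) 1 t ∈ H) : H = ⊤ := by
  have hadj := adj_mem H w hw hwH h
  have : Nontrivial (Fin (n + 1)) := Fin.nontrivial_iff_two_le.mpr (by omega)
  rw [eq_top_iff, ← Cfsg.Agent.Lib.Lead.SL_closure_transvections, Subgroup.closure_le]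
  rintro A ⟨i, j, hij, c, rfl⟩
  have hne : j - i ≠ 0 := fun h0 => hij (sub_eq_zero.mp h0).symm
  have := dist_mem H hadj (j - i) hne i c
  rw [add_sub_cancel, TT_of_ne hij] at this
  exact this

end Cfsg.Agent.Lib.helper15.SLnCyc
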