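import Mathlib
import Cfsg.Agent.Lib.helper15.SN5

set_option autoImplicit false

namespace Cfsg.Agent.Lib.helper15.SN

open Matrix Polynomial

variable {F : Type*} [Field F]

theorem bad_transvection (h3 : (3 : F) = 0) :
    ∃ x : Matrix.SpecialLinearGroup (Fin 3) F, x ^ 3 = 1 ∧ x ≠ 1 ∧
      ∃ v v' : Fin 3 → F, v ≠ 0 ∧ (x : Matrix (Fin 3) (Fin 3) F) *ᵥ v = v ∧
        (x : Matrix (Fin 3) (Fin 3) F) *ᵥ v' = v' ∧ ¬ ∃ a : F, v' = a • v := by
  have h01 : (0 : Fin 3) ≠ 1 := by decide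
  let x : Matrix.SpecialLinearGroup (Fin 3) F :=
    ⟨Matrix.transvection 0 1 (1 : F), Matrix.det_transvection_of_ne 0 1 h01 1⟩
  have hxv : (x : Matrix (Fin 3) (Fin 3) F) = Matrix.transvection 0 1 (1 : F) := rfl
  refine ⟨x, ?_, ?_, Pi.single 0 1, Pi.single 2 1, ?_, ?_, ?_, ?_⟩
  · apply Subtype.ext
    rw [Matrix.SpecialLinearGroup.coe_pow, hxv, pow_succ, pow_succ, pow_one,
      Matrix.transvection_mul_transvection_same 0 1 h01, Matrix.transvection_mul_transvection_same 0 1 h01]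
    have : (1 : F) + 1 + 1 = 0 := by rw [← h3]; norm_num
    rw [this, Matrix.transvection_zero]
    rfl
  · intro h
    have h1 : (x : Matrix (Fin 3) (Fin 3) F) 0 1 = (1 : Matrix (Fin 3) (Fin 3) F) 0 1 := by rw [h]; rfl
    rw [hxv] at h1
    simp [Matrix.transvection, Matrix.single] at h1
  · intro h
    have := congrFun h 0
    simp at this
  · rw [hxv, Matrix.transvection, Matrix.add_mulVec, Matrix.one_mulVec]
    have : (Matrix.single (0 : Fin 3) (1 : Fin 3) (1 : F)) *ᵥ (Pi.single 0 1 : Fin 3 → F) = 0 := by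
      ext i
      fin_cases i <;> simp [Matrix.mulVec, dotProduct, Matrix.single]
    rw [this, add_zero]
  · rw [hxv, Matrix.transvection, Matrix.add_mulVec, Matrix.one_mulVec]
    have : (Matrix.single (0 : Fin 3) (1 : Fin 3) (1 : F)) *ᵥ (Pi.single 2 1 : Fin 3 → F) = 0 := by
      ext i
      fin_cases i <;> simp [Matrix.mulVec, dotProduct, Matrix.single]
    rw [this, add_zero]
  · rintro ⟨a, ha⟩
    have := congrFun ha 2
    simp at this

lemma exists_orderOf_nine [Fintype F] (h9 : 9 ∣ Fintype.card F - 1) :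
    ∃ lam : F, lam ^ 9 = 1 ∧ lam ^ 3 ≠ 1 := by
  classical
  obtain ⟨g, hg⟩ := IsCyclic.exists_ofOrder_eq_natCard (α := Fˣ)
  rw [Nat.card_units, Nat.card_eq_fintype_card] at hg
  obtain ⟨t, ht⟩ := h9
  have hq : 1 < Fintype.card F := Fintype.one_lt_card
  have ht0 : t ≠ 0 := by
    intro h; rw [h, mul_zero] at ht; omega
  have hord : orderOf (g ^ t) = 9 := by
    rw [orderOf_pow_of_dvd ht0 (by rw [hg, ht]; exact dvd_mul_left t 9), hg, ht,
      Nat.mul_div_cancel _ (Nat.pos_of_ne_zero ht0)]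
  refine ⟨((g ^ t : Fˣ) : F), ?_, ?_⟩
  · have h1 : (g ^ t) ^ 9 = 1 := by rw [← hord]; exact pow_orderOf_eq_one _
    have := congrArg Units.val h1
    simpa using this
  · intro h
    have h1 : (g ^ t) ^ 3 = 1 := Units.ext (by simpa using h)
    have := orderOf_dvd_of_pow_eq_one h1
    rw [hord] at this
    omega

theorem bad_diag (lam : F) (h9 : lam ^ 9 = 1) (h3 : lam ^ 3 ≠ 1) :
    ∃ x : Matrix.SpecialLinearGroup (Fin 3) F,
      (x : Matrix (Fin 3) (Fin 3) F) ^ 3 = lam ^ 3 • (1 : Matrix (Fin 3) (Fin 3) F) ∧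
      (x : Matrix (Fin 3) (Fin 3) F) ≠ lam • (1 : Matrix (Fin 3) (Fin 3) F) ∧
      ∃ v v' : Fin 3 → F, v ≠ 0 ∧ (x : Matrix (Fin 3) (Fin 3) F) *ᵥ v = lam • v ∧
        (x : Matrix (Fin 3) (Fin 3) F) *ᵥ v' = lam • v' ∧ ¬ ∃ a : F, v' = a • v := by
  have hl0 : lam ≠ 0 := by
    intro h; rw [h] at h9; simp at h9
  let d : Fin 3 → F := ![lam, lam, (lam ^ 2)⁻¹]
  have hdet : (Matrix.diagonal d).det = 1 := by
    rw [Matrix.det_diagonal, Fin.prod_univ_three]
    simp only [d, Matrix.cons_val_zero, Matrix.cons_val_one, Matrix.cons_val_two, Matrix.head_cons,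
      Matrix.tail_cons]
    field_simp
  let x : Matrix.SpecialLinearGroup (Fin 3) F := ⟨Matrix.diagonal d, hdet⟩
  have hxv : (x : Matrix (Fin 3) (Fin 3) F) = Matrix.diagonal d := rfl
  refine ⟨x, ?_, ?_, Pi.single 0 1, Pi.single 1 1, ?_, ?_, ?_, ?_⟩
  · rw [hxv, Matrix.diagonal_pow]
    ext i j
    have h6 : ((lam ^ 2)⁻¹) ^ 3 = lam ^ 3 := by
      rw [inv_pow, ← pow_mul]
      rw [inv_eq_iff_eq_inv, eq_comm, inv_eq_iff_eq_inv, eq_comm]
      field_simp
      rw [← h9]; ring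
    fin_cases i <;> fin_cases j <;> simp [d, Matrix.diagonal, h6]
  · intro h
    have h1 : (x : Matrix (Fin 3) (Fin 3) F) 2 2 = (lam • (1 : Matrix (Fin 3) (Fin 3) F)) 2 2 := by rw [h]
    rw [hxv] at h1
    simp [d] at h1
    apply h3
    have h2 := mul_inv_cancel₀ (pow_ne_zero 2 hl0)
    rw [h1] at h2
    rw [← h2]; ring
  · intro h
    have := congrFun h 0
    simp at this
  · rw [hxv, Matrix.diagonal_mulVec_single]
    ext j
    by_cases hj : j = 0 <;> simp [d, hj, Pi.single_apply]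
  · rw [hxv, Matrix.diagonal_mulVec_single]
    ext j
    by_cases hj : j = 1 <;> simp [d, hj, Pi.single_apply]
  · rintro ⟨a, ha⟩
    have := congrFun ha 1
    simp at this

end Cfsg.Agent.Lib.helper15.SN
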