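import Mathlib
import Cfsg.Agent.Lib.helper15.SN8
import Cfsg.Agent.Lib.helper15.SN6
import Cfsg.Agent.Lib.helper14.SL2Card

set_option autoImplicit false

namespace Cfsg.Agent.Lib.helper15.SN

open Matrix Polynomial

variable {F : Type*} [Field F] [Fintype F]

lemma nine_not_dvd_card_GL (hq : Fintype.card F % 9 = 2 ∨ Fintype.card F % 9 = 5) :
    ¬ 9 ∣ Nat.card (GL (Fin 3) F) := by
  intro h9
  rw [Matrix.card_GL_field, Fin.prod_univ_three] at h9
  simp only [Fin.val_zero, Fin.val_one, Fin.val_two, pow_zero, pow_one] at h9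
  have hq1 : 1 ≤ Fintype.card F := Fintype.card_pos
  have h1 : 1 ≤ Fintype.card F ^ 3 := Nat.one_le_pow _ _ hq1
  have h2 : Fintype.card F ≤ Fintype.card F ^ 3 := by
    calc Fintype.card F = Fintype.card F ^ 1 := (pow_one _).symm
      _ ≤ Fintype.card F ^ 3 := Nat.pow_le_pow_right hq1 (by norm_num)
  have h3 : Fintype.card F ^ 2 ≤ Fintype.card F ^ 3 := Nat.pow_le_pow_right hq1 (by norm_num)
  have hz := (ZMod.natCast_eq_zero_iff _ 9).mpr h9
  rw [Nat.cast_mul, Nat.cast_mul, Nat.cast_sub h1, Nat.cast_sub h2, Nat.cast_sub h3] at hz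
  simp only [Nat.cast_pow, Nat.cast_one] at hz
  rw [← ZMod.natCast_mod (Fintype.card F) 9] at hz
  rcases hq with h | h
  · rw [h] at hz
    revert hz
    decide
  · rw [h] at hz
    revert hz
    decide

theorem index_contra {K : Subalgebra F (Matrix (Fin 3) (Fin 3) F)}
    (hK : Cfsg.Geo.IsFieldSubalgebra 3 K)
    (hq : Fintype.card F % 9 = 2 ∨ Fintype.card F % 9 = 5)
    (hΩ : 3 ∣ ((Cfsg.Geo.subalgebraNormalizer K).comap
      (Matrix.SpecialLinearGroup.toGL : Matrix.SpecialLinearGroup (Fin 3) F →* GL (Fin 3) F)).index) :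
    False := by
  classical
  obtain ⟨s, hsN, hsn, hs1⟩ := exists_frob_matrix hK (by norm_num : 2 ≤ 3)
  have hdet : (s : Matrix (Fin 3) (Fin 3) F).det = 1 := by
    set d : Fˣ := Matrix.GeneralLinearGroup.det s with hd
    have hd3 : d ^ 3 = 1 := by rw [hd, ← map_pow, hsn, map_one]
    have hdq : d ^ (Fintype.card F - 1) = 1 := by
      rw [← Fintype.card_units]; exact pow_card_eq_one
    have hcop : Nat.Coprime 3 (Fintype.card F - 1) := by
      have hq1 : 1 ≤ Fintype.card F := Fintype.card_pos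
      rw [Nat.Prime.coprime_iff_not_dvd Nat.prime_three]
      omega
    have h1 : orderOf d ∣ 1 := by
      rw [← Nat.Coprime.gcd_eq_one hcop]
      exact Nat.dvd_gcd (orderOf_dvd_of_pow_eq_one hd3) (orderOf_dvd_of_pow_eq_one hdq)
    have hd1 : d = 1 := orderOf_eq_one_iff.mp (Nat.dvd_one.mp h1)
    have := congrArg Units.val hd1
    rwa [hd, Matrix.GeneralLinearGroup.val_det_apply, Units.val_one] at this
  let x : Matrix.SpecialLinearGroup (Fin 3) F := ⟨(s : Matrix (Fin 3) (Fin 3) F), hdet⟩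
  have hxs : Matrix.SpecialLinearGroup.toGL x = s := by
    apply Units.ext
    rw [Matrix.SpecialLinearGroup.coe_GL_coe_matrix]
  set H := (Cfsg.Geo.subalgebraNormalizer K).comap
      (Matrix.SpecialLinearGroup.toGL : Matrix.SpecialLinearGroup (Fin 3) F →* GL (Fin 3) F) with hH
  have hxH : x ∈ H := by
    rw [hH, Subgroup.mem_comap, hxs]; exact hsN
  have hx3 : x ^ 3 = 1 := by
    apply Matrix.SpecialLinearGroup.toGL_injective
    rw [map_pow, hxs, hsn, map_one]
  have hx1 : x ≠ 1 := by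
    intro h
    apply hs1
    rw [← hxs, h, map_one]
  have hord : orderOf (⟨x, hxH⟩ : H) = 3 := by
    have : Fact (Nat.Prime 3) := ⟨Nat.prime_three⟩
    apply orderOf_eq_prime
    · exact Subtype.ext hx3
    · intro h
      exact hx1 (congrArg Subtype.val h)
  have h3H : 3 ∣ Nat.card H := by
    have := orderOf_dvd_natCard (⟨x, hxH⟩ : H)
    rwa [hord] at this
  have h9 : 9 ∣ Nat.card (Matrix.SpecialLinearGroup (Fin 3) F) := by
    rw [← Subgroup.card_mul_index H]
    exact Nat.mul_dvd_mul h3H hΩ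
  apply nine_not_dvd_card_GL hq
  rw [Cfsg.Agent.Lib.helper14.card_GL_eq_card_SL_mul 3 (by norm_num)]
  exact Dvd.dvd.mul_right h9 _

end Cfsg.Agent.Lib.helper15.SN
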