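import Mathlib
import Cfsg.Agent.Lib.helper17.SLP.Defs
import Cfsg.Agent.Lib.helper3.SP4.Defs
import Cfsg.Agent.Lib.helper4.SLPFIN3core
import Cfsg.Agent.Lib.Helper28.SLPX2
import Cfsg.Agent.Lib.Helper28.SLPM34h28
import Cfsg.Agent.Lib.Helper20.SLPC1
import Cfsg.Agent.Lib.Helper20.SLPN2
import Cfsg.Agent.Lib.Helper27.SLPN4
import Cfsg.Agent.Lib.Helper27.SLPK3
import Cfsg.Agent.Lib.helper2.SLPM1
import Cfsg.Agent.Lib.helper15.SLPM5
import Cfsg.Agent.Lib.Helper9.SP4H1
import Cfsg.Agent.Lib.Helper25.SP4H3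

/-!
# Project SP4 (S2293, designer helper3), row H5 (`sl_hom_two`): SPARE second copy under the name
`sp4h5_h15_sl_hom_two` (exact Skel statement; the row and the name `sl_hom_two` belong to helper27).

Copy of the proof of `slpfin3_core` (helper4) with the given `ζ`, fed with the landed SLP rows, and
`pres_hom` (H3, helper25) instead of `pres_of_card`; `az` from `exists_word` (H2, helper9).
-/

set_option autoImplicit false

namespace Cfsg.Agent.Lib.helper3.SP4

open Cfsg.Agent.Lib.helper17.SLP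
open Polynomial

universe u v

/-- H5 (spare copy, exact Skel statement) -/
theorem sp4h5_h15_sl_hom_two {F : Type u} [Field F] [Fintype F] (h2 : (2 : F) = 0) (ζ : Fˣ)
    (hζ : ∀ y : Fˣ, y ∈ Subgroup.zpowers ζ) :
    ∃ (L : List (FreeGroup (Fin 3))) (az : FreeGroup (Fin 3)), L.length ≤ 5 ∧
      (∀ r ∈ L, ev (xM (1 : F)) (hM ζ) wM r = 1) ∧ ev (xM (1 : F)) (hM ζ) wM az = xM (ζ : F) ∧
      ∀ (G : Type) [Group G] (u h w : G), (∀ r ∈ L, ev u h w r = 1) →
        ∃ φ : Matrix.SpecialLinearGroup (Fin 2) F →* G, φ (xM 1) = u ∧ φ (hM ζ) = h ∧ φ wM = w := by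
  classical
  haveI : CharP F 2 := CharTwo.of_one_ne_zero_of_two_eq_zero one_ne_zero h2
  obtain ⟨A, hA3, hArel, hAx⟩ := ascheme_two ζ hζ
  have hq2 : 2 ≤ Fintype.card F := Fintype.one_lt_card
  have heven : Fintype.card F % 2 = 0 :=
    FiniteField.even_card_of_char_two (ringChar.eq F 2)
  obtain ⟨m, hm⟩ : ∃ m, Fintype.card F - 1 = 2 * m + 1 :=
    ⟨(Fintype.card F - 2) / 2, by omega⟩
  have hζq : ζ ^ (Fintype.card F - 1) = 1 := by
    have hc : Nat.card Fˣ = Fintype.card F - 1 := by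
      rw [Nat.card_units, Nat.card_eq_fintype_card]
    rw [← hc]
    exact pow_card_eq_one'
  have hM1one : (hM (1 : Fˣ) : Matrix.SpecialLinearGroup (Fin 2) F) = 1 := by
    have h1 := hM_mul (1 : Fˣ) (1 : Fˣ)
    rw [mul_one] at h1
    exact mul_left_cancel (a := hM (1 : Fˣ)) (by rw [h1, mul_one])
  have hgenM : Subgroup.closure {xM (1 : F), hM ζ, wM} = ⊤ := slpm4_h28_closure_M ζ hζ
  obtain ⟨az, haz⟩ := exists_word (xM (1 : F)) (hM ζ) wM hgenM (xM (ζ : F))
  obtain ⟨L, hL⟩ : ∃ L, L = A ++ wordsT (Fintype.card F - 1) := ⟨_, rfl⟩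
  have hrelM : ∀ r ∈ L, ev (xM (1 : F)) (hM ζ) wM r = 1 := by
    intro r hr
    rw [hL, List.mem_append] at hr
    rcases hr with hr | hr
    · exact hArel r hr
    · have hbr : braid (Fintype.card F - 1) (hM ζ * wM) wM = 1 := by
        rw [hm, braid_M ζ m, ← hm, hζq, hM1one]
      exact (slpfin3_ev_wordsT (xM (1 : F)) (hM ζ) wM (Fintype.card F - 1)).2
        ⟨slpm3_h28_relK1_M, hbr⟩ r hr
  have hcard : ∀ (G : Type) [Group G] (u h w : G), Subgroup.closure {u, h, w} = ⊤ →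
      (∀ r ∈ L, ev u h w r = 1) →
      Finite G ∧ Nat.card G ≤ Nat.card (Matrix.SpecialLinearGroup (Fin 2) F) := by
    intro G _ u h w hgen hrel
    have hrelA : ∀ r ∈ A, ev u h w r = 1 := fun r hr =>
      hrel r (by rw [hL]; exact List.mem_append_left _ hr)
    obtain ⟨hK1, hbr⟩ := (slpfin3_ev_wordsT u h w (Fintype.card F - 1)).1
      (fun r hr => hrel r (by rw [hL]; exact List.mem_append_right _ hr))
    obtain ⟨x, hadd, hconj, hx1⟩ := hAx G u h w hrelA
    have hx0 : x 0 = 1 := by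
      have h0 := hadd 0 0
      rw [add_zero] at h0
      exact (mul_left_cancel (a := x 0) (by rw [← h0, mul_one])).symm
    have hu2 : u ^ 2 = 1 := by
      rw [← hx1, pow_two, ← hadd, CharTwo.add_self_eq_zero, hx0]
    have hw2 : w ^ 2 = 1 := w_sq_of_u_sq u w hu2 hK1
    rw [hm] at hbr
    obtain ⟨hwh, hhN⟩ := n_dihedral h w m hw2 hbr
    rw [← hm] at hhN
    have hK1' : relK1 (x 1) w = 1 := by rw [hx1]; exact hK1
    have hK2 : relK2 (x (ζ : F)) h w = 1 := k2_char_two ζ x h w hadd hconj hwh hhN hK1'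
    have hc := card_le_of_struct ζ hζ u h w (Fintype.card F - 1) (by omega) hgen x hadd hconj hx1
      hhN hwh (by rw [hw2]; exact Subgroup.one_mem _) hK1 hK2
    refine ⟨hc.1, hc.2.trans (le_of_eq ?_)⟩
    rw [Cfsg.Agent.Lib.helper15.card_SL2]
    exact slpfin3_arith _ (by omega)
  refine ⟨L, az, ?_, hrelM, haz, ?_⟩
  · calc L.length = A.length + 2 := by rw [hL, List.length_append]; rfl
      _ ≤ 5 := by omega
  · intro G _ u h w hLG
    exact pres_hom L (xM (1 : F)) (hM ζ) wM hgenM hrelM hcard G u h w hLG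

end Cfsg.Agent.Lib.helper3.SP4
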