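import Mathlib
import Cfsg.Agent.Lib.Helper19.SPD.Defs

/-!
# Project SPD (S5961), row STRUCT (helper15): invariant nondegenerate subspaces of all feasible dimensions.
Self-contained (uses only `Cfsg.Agent.S5960` gen lemmas and `helper6.SB`).
-/

set_option autoImplicit false
set_option linter.unusedVariables false
set_option linter.unusedSectionVars false

namespace Cfsg.Agent.Lib.Helper19.SPD

open Polynomial
open Cfsg.Agent.Lib.helper6 Cfsg.Agent.Lib.helper6.SB Cfsg.Agent.S5960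

variable {F : Type*} [Field F] {d : ℕ}

theorem spdstruct_pow_iso (y : (Fin d ⊕ Fin d → F) →ₗ[F] (Fin d ⊕ Fin d → F)) (hiso : Isom y) (k : ℕ) :
    ∀ u v, Cfsg.sympForm d F ((y ^ k) u) ((y ^ k) v) = Cfsg.sympForm d F u v := by
  induction k with
  | zero => intro u v; simp
  | succ k ih =>
    intro u v
    rw [pow_succ, Module.End.mul_apply, Module.End.mul_apply, ih, hiso]

theorem spdstruct_pow_inv (y : (Fin d ⊕ Fin d → F) →ₗ[F] (Fin d ⊕ Fin d → F))
    (M : Submodule F (Fin d ⊕ Fin d → F)) (hM : Inv y M) (k : ℕ) : ∀ m ∈ M, (y ^ k) m ∈ M := by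
  induction k with
  | zero => intro m hm; simpa using hm
  | succ k ih =>
    intro m hm
    rw [pow_succ, Module.End.mul_apply]
    exact ih _ (hM m hm)

theorem spdstruct_mem_Fx (y : (Fin d ⊕ Fin d → F) →ₗ[F] (Fin d ⊕ Fin d → F)) (v : Fin d ⊕ Fin d → F) :
    v ∈ Fx y ↔ y v = v := by
  unfold Fx
  rw [LinearMap.mem_ker, LinearMap.sub_apply, Module.End.one_apply, sub_eq_zero]

theorem spdstruct_avg_fix (r : ℕ) (y : (Fin d ⊕ Fin d → F) →ₗ[F] (Fin d ⊕ Fin d → F)) (hy : y ^ r = 1)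
    (w : Fin d ⊕ Fin d → F) :
    y (∑ k ∈ Finset.range r, (y ^ k) w) = ∑ k ∈ Finset.range r, (y ^ k) w := by
  rw [map_sum]
  have h1 : ∀ k ∈ Finset.range r, y ((y ^ k) w) = (y ^ (k + 1)) w := by
    intro k _
    rw [pow_succ', Module.End.mul_apply]
  rw [Finset.sum_congr rfl h1]
  have h2 := Finset.sum_range_succ' (fun k => (y ^ k) w) r
  have h3 := Finset.sum_range_succ (fun k => (y ^ k) w) r
  have h4 : (y ^ r) w = (y ^ 0) w := by rw [hy, pow_zero]
  have h5 : ∑ k ∈ Finset.range r, (y ^ (k + 1)) w + (y ^ 0) w =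
      ∑ k ∈ Finset.range r, (y ^ k) w + (y ^ r) w := by rw [← h2, ← h3]
  rw [h4] at h5
  exact add_right_cancel h5

theorem spdstruct_orth_inv (r : ℕ) (hr : 0 < r) (y : (Fin d ⊕ Fin d → F) →ₗ[F] (Fin d ⊕ Fin d → F))
    (hiso : Isom y) (hy : y ^ r = 1) (M : Submodule F (Fin d ⊕ Fin d → F)) (hM : Inv y M) :
    Inv y (orth d M) := by
  intro v hv
  rw [mem_orth] at hv ⊢
  intro m hm
  obtain ⟨k, rfl⟩ : ∃ k, r = k + 1 := ⟨r - 1, by omega⟩
  have hm' : (y ^ k) m ∈ M := spdstruct_pow_inv y M hM k m hm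
  have hym : y ((y ^ k) m) = m := by
    have : (y ^ (k + 1)) m = m := by rw [hy]; rfl
    rw [pow_succ', Module.End.mul_apply] at this
    exact this
  rw [← hym, hiso]
  exact hv _ hm'

theorem spdstruct_fix_nd (r : ℕ) (hrF : (r : F) ≠ 0) (y : (Fin d ⊕ Fin d → F) →ₗ[F] (Fin d ⊕ Fin d → F))
    (hiso : Isom y) (hy : y ^ r = 1) (W : Submodule F (Fin d ⊕ Fin d → F)) (hW : Inv y W) (hnd : ND W) :
    ND (W ⊓ Fx y) := by
  intro u hu hperp
  apply hnd u hu.1
  intro w hw
  have hufix : y u = u := (spdstruct_mem_Fx y u).mp (Submodule.mem_inf.mp hu).2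
  have hupow : ∀ k : ℕ, (y ^ k) u = u := by
    intro k
    induction k with
    | zero => simp
    | succ k ih => rw [pow_succ, Module.End.mul_apply, hufix, ih]
  -- the averaged vector
  set Nw : Fin d ⊕ Fin d → F := ∑ k ∈ Finset.range r, (y ^ k) w with hNw
  have hNwW : Nw ∈ W := Submodule.sum_mem _ (fun k _ => spdstruct_pow_inv y W hW k w hw)
  have hNwfix : y Nw = Nw := spdstruct_avg_fix r y hy w
  have hNwFx : Nw ∈ W ⊓ Fx y :=
    Submodule.mem_inf.mpr ⟨hNwW, (spdstruct_mem_Fx y Nw).mpr hNwfix⟩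
  have h0 := hperp Nw hNwFx
  have hsum : Cfsg.sympForm d F u Nw = (r : F) * Cfsg.sympForm d F u w := by
    have h1 : Cfsg.sympForm d F u Nw = ∑ k ∈ Finset.range r, Cfsg.sympForm d F u ((y ^ k) w) := by
      rw [hNw, ← sB_apply, map_sum]
      simp only [sB_apply]
    rw [h1]
    have h2 : ∀ k ∈ Finset.range r, Cfsg.sympForm d F u ((y ^ k) w) = Cfsg.sympForm d F u w := by
      intro k _
      conv_lhs => rw [← hupow k]
      exact spdstruct_pow_iso y hiso k u w
    rw [Finset.sum_congr rfl h2, Finset.sum_const, Finset.card_range, nsmul_eq_mul]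
  rw [hsum] at h0
  exact (mul_eq_zero.mp h0).resolve_left hrF

/-- STRUCT [M-L]: invariant nondegenerate subspaces of all feasible dimensions. -/
theorem struct_r (r : ℕ) (hrF : (r : F) ≠ 0) (hr : 0 < r) (c : ℕ) (hce : Even c) (hc2 : 2 ≤ c)
    (y : (Fin d ⊕ Fin d → F) →ₗ[F] (Fin d ⊕ Fin d → F)) (hiso : Isom y) (hy : y ^ r = 1)
    (hblock : ∀ W : Submodule F (Fin d ⊕ Fin d → F), Inv y W → ND W → FF y W → W ≠ ⊥ →
      ∃ M ≤ W, Inv y M ∧ ND M ∧ Module.finrank F M = c) :
    ∀ (d' : ℕ) (V' : Submodule F (Fin d ⊕ Fin d → F)), Inv y V' → ND V' → Module.finrank F V' = 2 * d' →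
      ∃ j f : ℕ, c * j + 2 * f = 2 * d' ∧
        ∀ i' ≤ j, ∀ g ≤ f, ∃ D ≤ V', Inv y D ∧ ND D ∧ Module.finrank F D = c * i' + 2 * g := by
  intro d'
  induction d' using Nat.strong_induction_on with
  | _ d' ih =>
  intro V' hinv hnd hdim
  rcases d' with _ | d'
  · refine ⟨0, 0, by simp, ?_⟩
    intro i' hi g hg
    refine ⟨⊥, bot_le, ?_, nd_bot d, ?_⟩
    · intro v hv
      rw [Submodule.mem_bot] at hv ⊢
      rw [hv, map_zero]
    · rw [finrank_bot]
      have : i' = 0 := by omega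
      have : g = 0 := by omega
      subst_vars; simp
  · by_cases hfix : V' ⊓ Fx y = ⊥
    · -- no fixed vectors: a block
      have hff : FF y V' := by
        intro v hv hyv
        have : v ∈ V' ⊓ Fx y :=
          Submodule.mem_inf.mpr ⟨hv, (spdstruct_mem_Fx y v).mpr hyv⟩
        rw [hfix, Submodule.mem_bot] at this
        exact this
      have hne : V' ≠ ⊥ := by
        intro h
        rw [h, finrank_bot] at hdim
        omega
      obtain ⟨M, hMle, hMinv, hMnd, hMdim⟩ := hblock V' hinv hnd hff hne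
      obtain ⟨r1, r2, r3, r4⟩ := rel d V' M hnd hMnd hMle
      have hV''inv : Inv y (V' ⊓ orth d M) := fun v hv =>
        ⟨hinv v hv.1, spdstruct_orth_inv r hr y hiso hy M hMinv v hv.2⟩
      obtain ⟨c', hc'⟩ := hce
      have hcle : c ≤ 2 * (d' + 1) := by
        rw [← hMdim, ← hdim]
        exact Submodule.finrank_mono hMle
      obtain ⟨j, f, hjf, hA⟩ := ih (d' + 1 - c') (by omega) (V' ⊓ orth d M) hV''inv r3 (by omega)
      refine ⟨j + 1, f, by rw [mul_add, mul_one]; omega, ?_⟩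
      intro i' hi g hg
      by_cases hij : i' ≤ j
      · obtain ⟨D, hD1, hD2⟩ := hA i' hij g hg
        exact ⟨D, hD1.trans inf_le_left, hD2⟩
      · have hi' : i' = j + 1 := by omega
        obtain ⟨D, hD1, hD2, hD3, hD4⟩ := hA j le_rfl g hg
        have ho := osum d D M hD3 hMnd (fun a ha b hb => (orth_zero d M a b (hD1 ha).2 hb).1)
        refine ⟨D ⊔ M, sup_le (hD1.trans inf_le_left) hMle, ?_, ho.1, ?_⟩
        · intro v hv
          obtain ⟨a, ha, b, hb, rfl⟩ := Submodule.mem_sup.mp hv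
          rw [map_add]
          exact Submodule.add_mem_sup (hD2 a ha) (hMinv b hb)
        · rw [ho.2.2, hD4, hMdim, hi']
          ring
    · -- a plane of fixed vectors
      have hndF := spdstruct_fix_nd r hrF y hiso hy V' hinv hnd
      obtain ⟨u, hu, hu0⟩ := Submodule.exists_mem_ne_zero_of_ne_bot hfix
      have hexw : ∃ w ∈ V' ⊓ Fx y, Cfsg.sympForm d F u w ≠ 0 := by
        by_contra hcon
        push Not at hcon
        exact hu0 (hndF u hu hcon)
      obtain ⟨w, hw, huw⟩ := hexw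
      have hfixed : ∀ v ∈ V' ⊓ Fx y, y v = v := by
        intro v hv
        exact (spdstruct_mem_Fx y v).mp (Submodule.mem_inf.mp hv).2
      set M := pl d u w with hM
      have hMle : M ≤ V' := pl_le d u w V' hu.1 hw.1
      have hMnd : ND M := pl_nd d u w huw
      have hMdim : Module.finrank F M = 2 := pl_finrank d u w huw
      have hMfix : ∀ m ∈ M, y m = m := by
        intro m hm
        obtain ⟨a, b, rfl⟩ := (mem_pl d u w m).mp hm
        rw [map_add, map_smul, map_smul, hfixed u hu, hfixed w hw]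
      have hMinv : Inv y M := fun m hm => by rw [hMfix m hm]; exact hm
      obtain ⟨r1, r2, r3, r4⟩ := rel d V' M hnd hMnd hMle
      have hV''inv : Inv y (V' ⊓ orth d M) := fun v hv =>
        ⟨hinv v hv.1, spdstruct_orth_inv r hr y hiso hy M hMinv v hv.2⟩
      obtain ⟨j, f, hjf, hA⟩ := ih d' (by omega) (V' ⊓ orth d M) hV''inv r3 (by omega)
      refine ⟨j, f + 1, by omega, ?_⟩
      intro i' hi g hg
      by_cases hgf : g ≤ f
      · obtain ⟨D, hD1, hD2⟩ := hA i' hi g hgf
        exact ⟨D, hD1.trans inf_le_left, hD2⟩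
      · have hg' : g = f + 1 := by omega
        obtain ⟨D, hD1, hD2, hD3, hD4⟩ := hA i' hi f le_rfl
        have ho := osum d D M hD3 hMnd (fun a ha b hb => (orth_zero d M a b (hD1 ha).2 hb).1)
        refine ⟨D ⊔ M, sup_le (hD1.trans inf_le_left) hMle, ?_, ho.1, ?_⟩
        · intro v hv
          obtain ⟨a, ha, b, hb, rfl⟩ := Submodule.mem_sup.mp hv
          rw [map_add]
          exact Submodule.add_mem_sup (hD2 a ha) (hMinv b hb)
        · rw [ho.2.2, hD4, hMdim, hg']
          ring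

end Cfsg.Agent.Lib.Helper19.SPD
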