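import Mathlib
import Cfsg.Agent.Lib.helper15.SPDSTRUCT

/-!
# Project SPD (S5961), row CYCSPAN, second copy by helper15 under the name `spdcycspan_h15`
(exact statement of `cyc_span`; the row belongs to helper8).
-/

set_option autoImplicit false
set_option linter.unusedVariables false
set_option linter.unusedSectionVars false

namespace Cfsg.Agent.Lib.Helper19.SPD

open Polynomial

variable {F : Type*} [Field F] {d : ℕ}

theorem spdcycspan_h15 (y : (Fin d ⊕ Fin d → F) →ₗ[F] (Fin d ⊕ Fin d → F)) (g : F[X]) (hg : g.Monic)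
    (v : Fin d ⊕ Fin d → F) (hv : aeval y g v = 0) :
    ∃ U : Submodule F (Fin d ⊕ Fin d → F), v ∈ U ∧ Inv y U ∧ Module.finrank F U ≤ g.natDegree ∧
      (∀ W : Submodule F (Fin d ⊕ Fin d → F), Inv y W → v ∈ W → U ≤ W) := by
  -- `φ p = p(y) v`
  let φ : F[X] →ₗ[F] (Fin d ⊕ Fin d → F) :=
    { toFun := fun p => aeval y p v
      map_add' := fun p q => by simp
      map_smul' := fun c p => by simp }
  have hφ : ∀ p, φ p = aeval y p v := fun p => rfl
  -- reduction modulo `g`
  have hmod : ∀ p : F[X], φ p = φ (p %ₘ g) := by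
    intro p
    have h1 := modByMonic_add_div p g
    have h2 : φ p = φ (p %ₘ g + g * (p /ₘ g)) := by rw [h1]
    rw [h2, map_add]
    have h3 : φ (g * (p /ₘ g)) = 0 := by
      rw [hφ, mul_comm, map_mul, Module.End.mul_apply, hv, map_zero]
    rw [h3, add_zero]
  set n := g.natDegree with hn
  refine ⟨(degreeLT F n).map φ, ?_, ?_, ?_, ?_⟩
  · -- `v ∈ U`
    refine ⟨(1 : F[X]) %ₘ g, ?_, ?_⟩
    · rw [SetLike.mem_coe, mem_degreeLT]
      by_cases hg1 : g = 1
      · rw [hg1, modByMonic_one]
        simp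
      · calc degree ((1 : F[X]) %ₘ g) < degree g := degree_modByMonic_lt _ hg
          _ = n := by rw [hn, degree_eq_natDegree hg.ne_zero]
    · rw [← hmod, hφ]; simp
  · -- invariance
    rintro _ ⟨p, hp, rfl⟩
    refine ⟨(X * p) %ₘ g, ?_, ?_⟩
    · rw [SetLike.mem_coe, mem_degreeLT]
      by_cases hg1 : g = 1
      · rw [hg1, modByMonic_one]
        simp
      · calc degree ((X * p) %ₘ g) < degree g := degree_modByMonic_lt _ hg
          _ = n := by rw [hn, degree_eq_natDegree hg.ne_zero]
    · rw [← hmod, hφ, hφ, map_mul, aeval_X, Module.End.mul_apply]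
  · -- dimension
    calc Module.finrank F ↥((degreeLT F n).map φ) ≤ Module.finrank F ↥(degreeLT F n) :=
          Submodule.finrank_map_le φ _
      _ = n := by
          rw [LinearEquiv.finrank_eq (degreeLTEquiv F n)]
          simp
  · -- minimality
    intro W hW hvW
    rintro _ ⟨p, hp, rfl⟩
    rw [hφ, aeval_eq_sum_range, LinearMap.sum_apply]
    apply Submodule.sum_mem
    intro k _
    rw [LinearMap.smul_apply]
    exact W.smul_mem _ (spdstruct_pow_inv y W hW k v hvW)

end Cfsg.Agent.Lib.Helper19.SPD
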