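import Mathlib
import Cfsg.Agent.Lib.helper15.SPDSTRUCT

/-!
# Project SPD (S5961), row PEEL, second copy by helper15 under the name `spdpeel_h15_peel_r`
(exact statement of `peel_r`; the row belongs to helper22).
-/

set_option autoImplicit false
set_option linter.unusedVariables false
set_option linter.unusedSectionVars false

namespace Cfsg.Agent.Lib.Helper19.SPD

open Polynomial
open Cfsg.Agent.Lib.helper6 Cfsg.Agent.Lib.helper6.SB Cfsg.Agent.S5960

variable {F : Type*} [Field F] {d : ℕ}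

/-- arithmetic of one peeling step -/
theorem spdpeel_h15_arith (c a j f T : ℕ) (hc2 : 2 ≤ c) (hce : Even c) (hae : Even a) (hca : c ≤ a)
    (hT : 1 ≤ T) (hjf : c * j + 2 * f = a * T) (hlt : T * (a % c) < c) :
    ∃ i' ≤ j, ∃ g ≤ f, c * i' + 2 * g = a := by
  have hdiv : c * (a / c) + a % c = a := Nat.div_add_mod a c
  set u := a / c with hu
  set l := a % c with hl
  have hlc : l < c := Nat.mod_lt _ (by omega)
  obtain ⟨c', hc'⟩ := hce
  obtain ⟨a', ha'⟩ := hae
  by_cases hju : u ≤ j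
  · -- `i' = u`, `2 g = l`
    have hleven : ∃ g, l = 2 * g := by
      have h1 : l = a - c * u := by omega
      have h2 : c * u = 2 * (c' * u) := by rw [hc']; ring
      exact ⟨a' - c' * u, by omega⟩
    obtain ⟨g, hg⟩ := hleven
    refine ⟨u, hju, g, ?_, by omega⟩
    by_contra hgf
    have hgf' : 2 * f < l := by omega
    -- `a * T = c * (u * T) + l * T`
    have haT : a * T = c * (u * T) + T * l := by
      rw [← hdiv]; ring
    obtain ⟨T', rfl⟩ : ∃ T', T = T' + 1 := ⟨T - 1, by omega⟩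
    have hm : l ≤ (T' + 1) * l := by
      have : (T' + 1) * l = T' * l + l := by ring
      omega
    have hcj : c * (u * (T' + 1)) < c * j := by omega
    have hj : u * (T' + 1) < j := Nat.lt_of_mul_lt_mul_left hcj
    obtain ⟨k, hk⟩ : ∃ k, j = u * (T' + 1) + k + 1 := ⟨j - u * (T' + 1) - 1, by omega⟩
    have hexp : c * j = c * (u * (T' + 1)) + c * k + c := by rw [hk]; ring
    omega
  · -- `i' = j`
    have hju' : j < u := by omega
    obtain ⟨k, hk⟩ : ∃ k, u = j + k + 1 := ⟨u - j - 1, by omega⟩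
    have hexp : c * u = c * j + c * k + c := by rw [hk]; ring
    have h2 : c * j = 2 * (c' * j) := by rw [hc']; ring
    refine ⟨j, le_rfl, a' - c' * j, ?_, by omega⟩
    obtain ⟨T', rfl⟩ : ∃ T', T = T' + 1 := ⟨T - 1, by omega⟩
    have haT : a * (T' + 1) = a * T' + a := by ring
    have : 0 ≤ a * T' := Nat.zero_le _
    omega

theorem spdpeel_h15_peel_r (r : ℕ) (hr : 0 < r) (c a : ℕ) (hce : Even c) (hc2 : 2 ≤ c) (hae : Even a) (hca : c ≤ a)
    (y : (Fin d ⊕ Fin d → F) →ₗ[F] (Fin d ⊕ Fin d → F)) (hiso : Isom y) (hy : y ^ r = 1)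
    (hstruct : ∀ (d' : ℕ) (V' : Submodule F (Fin d ⊕ Fin d → F)), Inv y V' → ND V' → Module.finrank F V' = 2 * d' →
      ∃ j f : ℕ, c * j + 2 * f = 2 * d' ∧
        ∀ i' ≤ j, ∀ g ≤ f, ∃ D ≤ V', Inv y D ∧ ND D ∧ Module.finrank F D = c * i' + 2 * g) :
    ∀ (t' : ℕ) (V' : Submodule F (Fin d ⊕ Fin d → F)), Inv y V' → ND V' → Module.finrank F V' = a * t' →
      t' * (a % c) < c →
      ∃ D : Fin t' → Submodule F (Fin d ⊕ Fin d → F), (∀ j, Module.finrank F (D j) = a) ∧ (∀ j, ND (D j)) ∧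
        (∀ j j', j ≠ j' → Orth (D j) (D j')) ∧ iSupIndep D ∧ iSup D = V' ∧ ∀ j, Inv y (D j) := by
  intro t'
  induction t' with
  | zero =>
    intro V' hinv hnd hdim hlt
    have hV : V' = ⊥ := by
      rw [← Submodule.finrank_eq_zero]; omega
    refine ⟨fun j => j.elim0, fun j => j.elim0, fun j => j.elim0, fun j => j.elim0,
      iSupIndep_subsingleton _, ?_, fun j => j.elim0⟩
    rw [iSup_of_empty, hV]
  | succ t ih =>
    intro V' hinv hnd hdim hlt
    obtain ⟨a', ha'⟩ := id hae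
    have hdim2 : Module.finrank F V' = 2 * (a' * (t + 1)) := by rw [hdim, ha']; ring
    obtain ⟨j, f, hjf, hA⟩ := hstruct (a' * (t + 1)) V' hinv hnd hdim2
    have hjf' : c * j + 2 * f = a * (t + 1) := by rw [hjf, ha']; ring
    obtain ⟨i', hi', g, hg, hig⟩ := spdpeel_h15_arith c a j f (t + 1) hc2 hce hae hca (by omega) hjf' hlt
    obtain ⟨D₀, hD1, hD2, hD3, hD4⟩ := hA i' hi' g hg
    have hD4' : Module.finrank F D₀ = a := by rw [hD4, hig]
    obtain ⟨r1, r2, r3, r4⟩ := rel d V' D₀ hnd hD3 hD1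
    have hV''inv : Inv y (V' ⊓ orth d D₀) := fun v hv =>
      ⟨hinv v hv.1, spdstruct_orth_inv r hr y hiso hy D₀ hD2 v hv.2⟩
    have hdim'' : Module.finrank F ↥(V' ⊓ orth d D₀) = a * t := by
      have : a * (t + 1) = a * t + a := by ring
      omega
    have hlt'' : t * (a % c) < c := by
      have : (t + 1) * (a % c) = t * (a % c) + a % c := by ring
      omega
    obtain ⟨D', e1, e2, e3, e4, e5, e6⟩ := ih (V' ⊓ orth d D₀) hV''inv r3 hdim'' hlt''
    have hD'le : ∀ j, D' j ≤ orth d D₀ := fun j =>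
      (le_iSup D' j).trans (e5.le.trans inf_le_right)
    refine ⟨Fin.cons D₀ D', ?_, ?_, ?_, ?_, ?_, ?_⟩
    · intro j
      refine Fin.cases ?_ (fun j => ?_) j
      · exact hD4'
      · exact e1 j
    · intro j
      refine Fin.cases ?_ (fun j => ?_) j
      · exact hD3
      · exact e2 j
    · intro j j'
      refine Fin.cases ?_ (fun j => ?_) j <;> refine Fin.cases ?_ (fun j' => ?_) j'
      · intro h; exact absurd rfl h
      · intro _ u hu v hv
        exact (orth_zero d D₀ v u (hD'le j' hv) hu).2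
      · intro _ u hu v hv
        exact (orth_zero d D₀ u v (hD'le j hu) hv).1
      · intro h u hu v hv
        exact e3 j j' (fun h' => h (by rw [h'])) u hu v hv
    · apply Cfsg.Agent.S5957.indep_cons _ _ e4
      rw [e5]; exact r2
    · rw [Cfsg.Agent.S5957.iSup_cons, e5, r1]
    · intro j
      refine Fin.cases ?_ (fun j => ?_) j
      · exact hD2
      · exact e6 j

end Cfsg.Agent.Lib.Helper19.SPD
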