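import Mathlib
import Cfsg.Prelude.Def_GeometricClasses
import Cfsg.Agent.Lib.Helper27.ASC.Defs

/-!
# Project SPX, piece DECCARD : `dec_card`
-/

set_option autoImplicit false
set_option linter.unusedVariables false
set_option linter.unusedSectionVars false

namespace Cfsg.Agent.Lib.helper6.SPX

open Cfsg Cfsg.Geo Cfsg.Agent.Lib.Helper27.ASC
open scoped MatrixGroups Matrix Kronecker

variable {m : ℕ} {F : Type*} [Field F] [Fintype F]

/-- DECCARD : the number of blocks times their dimension is `2m`. -/
theorem dec_card {t k : ℕ} (D : Fin t → Submodule F (Fin m ⊕ Fin m → F)) (hD : IsMDecomposition k D) :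
    t * k = 2 * m := by
  classical
  have hint : DirectSum.IsInternal D :=
    (DirectSum.isInternal_submodule_iff_iSupIndep_and_iSup_eq_top D).mpr
      ⟨hD.indep, hD.iSup_eq_top⟩
  have e := LinearEquiv.ofBijective (DirectSum.coeLinearMap D) hint
  have h1 := e.finrank_eq
  rw [Module.finrank_directSum, Module.finrank_fintype_fun_eq_card] at h1
  simp only [hD.finrank_eq, Finset.sum_const, Finset.card_univ, Fintype.card_fin,
    smul_eq_mul, Fintype.card_sum] at h1
  omega

end Cfsg.Agent.Lib.helper6.SPX
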