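import Mathlib
import Cfsg.Prelude.Def_GeometricClasses
import Cfsg.Agent.Lib.Helper27.ASC.Defs
import Cfsg.Agent.Lib.Helper18.ASCNOSYMP
import Cfsg.Agent.Lib.helper6.Symp

/-!
# Project SPX, piece NDEVEN : `nd_even`
-/

set_option autoImplicit false
set_option linter.unusedVariables false
set_option linter.unusedSectionVars false

namespace Cfsg.Agent.Lib.helper6.SPX

open Cfsg Cfsg.Geo Cfsg.Agent.Lib.Helper27.ASC
open scoped MatrixGroups Matrix Kronecker

variable {m : ℕ} {F : Type*} [Field F] [Fintype F]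

/-- NDEVEN : a subspace on which the alternating form is non-degenerate has even dimension. -/
theorem nd_even (W : Submodule F (Fin m ⊕ Fin m → F)) (hW : IsNondegenerateOn (sympForm m F) W) :
    Even (Module.finrank F W) := by
  classical
  set d := Module.finrank F W with hd
  let b : Module.Basis (Fin d) F W := Module.finBasis F W
  -- the coordinate map
  let T : (Fin d → F) →ₗ[F] (Fin m ⊕ Fin m → F) := W.subtype.comp b.equivFun.symm.toLinearMap
  have hTmem : ∀ x, T x ∈ W := fun x => (b.equivFun.symm x).2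
  have hTinj : ∀ x, T x = 0 → x = 0 := by
    intro x hx
    have h1 : (b.equivFun.symm x : W) = 0 := Subtype.ext hx
    exact b.equivFun.symm.map_eq_zero_iff.mp h1
  have hTsurj : ∀ w ∈ W, ∃ x, T x = w := by
    intro w hw
    refine ⟨b.equivFun ⟨w, hw⟩, ?_⟩
    show ((b.equivFun.symm (b.equivFun ⟨w, hw⟩) : W) : Fin m ⊕ Fin m → F) = w
    rw [LinearEquiv.symm_apply_apply]
  set f₁ : (Fin d → F) → (Fin d → F) → F := fun x y => sympForm m F (T x) (T y) with hf₁
  have hsymp : IsSymplecticForm f₁ := by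
    refine ⟨⟨?_, ?_, ?_, ?_⟩, ?_, ?_, ?_⟩
    · intro x y v
      simp only [hf₁, map_add]
      exact Cfsg.Agent.Lib.helper6.sympForm_add_left m _ _ _
    · intro c x v
      simp only [hf₁, map_smul]
      exact Cfsg.Agent.Lib.helper6.sympForm_smul_left m _ _ _
    · intro v x y
      simp only [hf₁, map_add]
      exact Cfsg.Agent.Lib.helper6.sympForm_add_right m _ _ _
    · intro c v x
      simp only [hf₁, map_smul]
      exact Cfsg.Agent.Lib.helper6.sympForm_smul_right m _ _ _
    · intro v w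
      exact Cfsg.Agent.Lib.helper6.sympForm_swap m _ _
    · intro v
      exact Cfsg.Agent.Lib.helper6.sympForm_self m _
    · intro v hv
      have hTv : T v ≠ 0 := fun h => hv (hTinj v h)
      obtain ⟨⟨x, hxW, hx⟩, ⟨y, hyW, hy⟩⟩ := hW (T v) (hTmem v) hTv
      obtain ⟨x', rfl⟩ := hTsurj x hxW
      obtain ⟨y', rfl⟩ := hTsurj y hyW
      exact ⟨⟨x', hx⟩, ⟨y', hy⟩⟩
  by_contra h
  exact no_symplectic_odd (Nat.not_even_iff_odd.mp h) f₁ hsymp

end Cfsg.Agent.Lib.helper6.SPX
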