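import Mathlib
import Cfsg.Prelude.Def_GeometricClasses
import Cfsg.Agent.Lib.Helper27.ASC.Defs
import Cfsg.Agent.Lib.Helper18.ASCNOSYMP

/-!
# Project SPX, piece SYMPEVEN : `symp_even`
-/

set_option autoImplicit false
set_option linter.unusedVariables false
set_option linter.unusedSectionVars false

namespace Cfsg.Agent.Lib.helper6.SPX

open Cfsg Cfsg.Geo Cfsg.Agent.Lib.Helper27.ASC
open scoped MatrixGroups Matrix Kronecker

variable {m : ℕ} {F : Type*} [Field F] [Fintype F]

/-- SYMPEVEN : a non-degenerate alternating form lives in even dimension. -/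
theorem symp_even {n₁ : ℕ} (f₁ : (Fin n₁ → F) → (Fin n₁ → F) → F) (hf₁ : IsSymplecticForm f₁) : Even n₁ := by
  by_contra h
  exact no_symplectic_odd (Nat.not_even_iff_odd.mp h) f₁ hf₁

end Cfsg.Agent.Lib.helper6.SPX
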