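import Mathlib
import Cfsg.Prelude.Def_LieTypeChar
import Cfsg.Prelude.Def_ChevStructure
import Cfsg.Prelude.Def_ChevF4
import Cfsg.Prelude.Def_LieTwisted
import Cfsg.Agent.Lib.helper8.ChevTF35
import Cfsg.Agent.Lib.helper8.ChevTwU2
import Cfsg.Agent.Lib.helper14.SQD.Defs
import Cfsg.Agent.Lib.helper14.SQD.DefsTF

/-!
# Project SQD (S4625, designer helper14), block TF, row TF6a (`tfForm_pair`).

Self-contained on helper8's `h8nWU_conj`: `sqdtf6a_h15_conj` is an own copy of the statement of row TF3 (conjugation of a root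
element by `n_w` in characteristic 2), `sqdtf6a_h15_conj_pair` of row TF4a.  Extras: `sqdtf6a_data` (the table), `sqdtf6a_aux`
(the normal form from the table data).
-/

set_option autoImplicit false

namespace Cfsg.Agent.Lib.helper14.SQD

open Cfsg Cfsg.Lie Cfsg.Lie.ChevalleyDatum Cfsg.Agent.Lib.helper8

universe u v

/-- own copy of the statement of TF3: `n_w x_s(t) n_w⁻¹ = x_{w s}(t)` in characteristic 2 -/
theorem sqdtf6a_h15_conj {K : Type u} [Field K] [CharP K 2] (hB : H8Base.{u} chevF4) (w : List ℕ)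
    (hw : ∀ i ∈ w, i < chevF4.rank) (s : ℕ) (hs : s < chevF4.nroots) (t : K) :
    (h8nWU chevF4 hB w : GL chevF4.Idx K) * h8xU chevF4 hB s t * (h8nWU chevF4 hB w : GL chevF4.Idx K)⁻¹ =
      h8xU chevF4 hB (h8sW chevF4 w s) t := by
  have hA := h8reflAll chevF4 h8tf_F4_mem
  obtain ⟨η, hη, h1⟩ := h8nWU_conj (F := K) chevF4 hB hA w hw s hs
  have hη1 : (η : K) = 1 := by
    rcases hη with rfl | rfl
    · simp
    · push_cast
      exact CharTwo.neg_eq (1 : K)
  rw [mul_inv_eq_iff_eq_mul]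
  apply Units.ext
  rw [Units.val_mul, Units.val_mul, h8xU_val, h8xU_val]
  have h2 := h1 t
  rw [hη1, one_mul] at h2
  exact h2

/-- own copy of the statement of TF4a -/
theorem sqdtf6a_h15_conj_pair {K : Type u} [Field K] [CharP K 2] {hB : H8Base.{u} chevF4} (R : H8TF K hB)
    (w : List ℕ) (hw : ∀ i ∈ w, i < chevF4.rank) (t : K) :
    (h8nWU chevF4 hB w : GL chevF4.Idx K) * h8tfPair R 33 24 t * (h8nWU chevF4 hB w : GL chevF4.Idx K)⁻¹ =
      h8xU chevF4 hB (h8sW chevF4 w 33) (R.f t) * h8xU chevF4 hB (h8sW chevF4 w 24) t := by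
  rw [← sqdtf6a_h15_conj hB w hw 33 (by decide) (R.f t), ← sqdtf6a_h15_conj hB w hw 24 (by decide) t]
  unfold h8tfPair
  group

/-- the table of the four families of type `A₁ × A₁` -/
theorem sqdtf6a_data : ∀ p ∈ [((0 : ℕ), (33 : ℕ), (24 : ℕ)), (1, 37, 32), (2, 38, 43), (3, 39, 45)],
    (∀ i ∈ tfWd p.1, i < chevF4.rank) ∧ h8sW chevF4 (tfWd p.1) 33 = p.2.1 ∧
    h8sW chevF4 (tfWd p.1) 24 = p.2.2 ∧ tfLead p.1 = p.2.1 ∧ chevF4.IsPosRoot p.2.1 ∧
    chevF4.IsPosRoot p.2.2 ∧ p.2.2 ≠ p.2.1 ∧ posiF4 p.2.1 ≤ posiF4 p.2.2 := by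
  decide +kernel

/-- the normal form from the table data -/
theorem sqdtf6a_aux {K : Type u} [Field K] [CharP K 2] {hB : H8Base.{u} chevF4} (R : H8TF K hB)
    (j lead rbar : ℕ) (hj : j < 4) (hw : ∀ i ∈ tfWd j, i < chevF4.rank)
    (h33 : h8sW chevF4 (tfWd j) 33 = lead) (h24 : h8sW chevF4 (tfWd j) 24 = rbar)
    (hlead : tfLead j = lead) (hp1 : chevF4.IsPosRoot lead) (hp2 : chevF4.IsPosRoot rbar)
    (hne : rbar ≠ lead) (hle : posiF4 lead ≤ posiF4 rbar) : TfForm R j := by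
  intro t
  have e : tfGen R j t = h8xU chevF4 hB lead (R.f t) * h8xU chevF4 hB rbar t := by
    unfold tfGen
    rw [if_pos hj, sqdtf6a_h15_conj_pair R (tfWd j) hw t, h33, h24]
  have eco : tfCo R j t = R.f t := by
    unfold tfCo
    rw [if_pos (by omega)]
  rw [hlead, e, eco]
  refine ⟨mul_mem (h8xU_mem_Ub chevF4 hB posiF4 _ lead hp1 le_rfl _)
    (h8xU_mem_Ub chevF4 hB posiF4 _ rbar hp2 hle _), h8xU chevF4 hB rbar t, ?_, rfl⟩
  exact Subgroup.subset_closure ⟨rbar, t, hp2, hne, hle, h8xU_val chevF4 hB rbar t⟩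

/-- TF6a [M]. -/
theorem tfForm_pair {K : Type u} [Field K] [CharP K 2] {hB : H8Base.{u} chevF4} (R : H8TF K hB) :
    ∀ j < 4, TfForm R j := by
  intro j hj
  have key : ∀ p ∈ [((0 : ℕ), (33 : ℕ), (24 : ℕ)), (1, 37, 32), (2, 38, 43), (3, 39, 45)],
      TfForm R p.1 := by
    intro p hp
    obtain ⟨h1, h2, h3, h4, h5, h6, h7, h8⟩ := sqdtf6a_data p hp
    have hp4 : p.1 < 4 := by
      simp only [List.mem_cons, List.not_mem_nil, or_false] at hp
      rcases hp with rfl | rfl | rfl | rfl <;> decide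
    exact sqdtf6a_aux R p.1 p.2.1 p.2.2 hp4 h1 h2 h3 h4 h5 h6 h7 h8
  interval_cases j
  · exact key (0, 33, 24) (by simp)
  · exact key (1, 37, 32) (by simp)
  · exact key (2, 38, 43) (by simp)
  · exact key (3, 39, 45) (by simp)

end Cfsg.Agent.Lib.helper14.SQD
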