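import Mathlib
import Cfsg.Agent.Lib.Lead.STB.Defs
import Cfsg.Agent.Lib.Lead.STB.Defs3
import Cfsg.Agent.Lib.helper15.STBF17score
import Cfsg.Agent.Lib.helper15.STBF15
import Cfsg.Agent.Lib.Helper16.STBF10s

/-!
# STB F17s (`SysB.lemB_s`), VERBATIM: a short root element on `cell o k` (wrapper of `stbf17s_core` on F10s `lemA_all_s` (`Helper16.STBF10s`)
and F15 `InD_w` (`helper15.STBF15`)).
-/

set_option autoImplicit false

namespace Cfsg.Agent.Lib.Lead.STB

open Cfsg.Agent.Lib.helper15.St2 Cfsg.Agent.Lib.helper3.STC Cfsg.Agent.Lib.Lead.STD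

universe v w

namespace SysB

variable {K : Type*} [Field K] {ι : Type*} [DecidableEq ι] {G : Type*} [Group G] (S : SysB K ι G)

section F
variable (o : ι ⊕ ι)

/-- F17s [M]  a short root element on `cell o k`: `IsMon_move_s`, F10s, F15. -/
theorem lemB_s [Finite K] [Finite ι] {k : ι ⊕ ι} (hk : k ≠ o) (hk' : k ≠ ng o) (a : ι ⊕ ι) (t : K) {y p : G} (hy : y ∈ S.Yg o) (hp : p ∈ S.Phat o) :
    S.InD o (S.xs a t * (S.w o k 1 * y * p)) :=
  S.stbf17s_core o (fun a t _ _ hy hp => S.lemA_all_s o a t hy hp) (fun hk hk' _ hg => S.InD_w o hk hk' hg) hk hk' a t hy hp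

end F

end SysB

end Cfsg.Agent.Lib.Lead.STB
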