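import Mathlib
import Cfsg.Agent.Lib.Lead.STB.Defs
import Cfsg.Agent.Lib.Lead.STB.Defs2
import Cfsg.Agent.Lib.Lead.STB.Defs3
import Cfsg.Agent.Lib.Lead.STB.Defs4
import Cfsg.Agent.Lib.helper15.STBR6
import Cfsg.Agent.Lib.Helper9.STBR5
import Cfsg.Agent.Lib.Helper20.STBR5s

/-!
# STB R6, last statement (helper15): `SysB.Rep.Phat_lineStab` VERBATIM (wrapper of `stbr6_Phat_lineStab_core` on R5 `M_h_fst`
(`Helper9.STBR5`) and R5t `M_hs_fst` (`Helper20.STBR5s`)).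
-/

set_option autoImplicit false

namespace Cfsg.Agent.Lib.Lead.STB

open Matrix Cfsg.Agent.Lib.helper15.St2 Cfsg.Agent.Lib.helper3.STC Cfsg.Agent.Lib.Lead.STD

universe v w

namespace SysB

namespace Rep

variable {K : Type*} [Field K] {ι : Type*} {G : Type*} [Group G] {S : SysB K ι G} {l : Type*} [Fintype l] [DecidableEq l] (R : S.Rep l)

variable (o : ι ⊕ ι)

theorem Phat_lineStab : ∀ p ∈ S.Phat o, ∃ c : K, c ≠ 0 ∧ R.M p *ᵥ evb (Eb R.e o) = c • evb (Eb R.e o) :=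
  stbr6_Phat_lineStab_core R o (fun hab hab' u hu => M_h_fst R hab hab' u hu) (fun a u hu => M_hs_fst R a u hu)

end Rep

end SysB

end Cfsg.Agent.Lib.Lead.STB
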