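import Mathlib
import Cfsg.Agent.Lib.helper15.St2
import Cfsg.Agent.Lib.helper7.StA
import Cfsg.Agent.Lib.helper7.StC
import Cfsg.Agent.Lib.helper7.StE
import Cfsg.Agent.Lib.helper3.STC.Defs
import Cfsg.Agent.Lib.helper3.STC.Defs2
import Cfsg.Agent.Lib.helper3.STC.Defs3
import Cfsg.Agent.Lib.helper3.STC.Sub
import Cfsg.Agent.Lib.Helper21.STCM.Vec
import Cfsg.Agent.Lib.helper2.STCX1
import Cfsg.Agent.Lib.Helper16.STCR5

/-!
# STC row R6 (helper15): `Pg_col`, `Lg_col'`, `Phat_lineStab`, `Yg_row`, `Yg_apply` verbatim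
(`Phat_lineStab` through its core, fed with R5 `M_h_fst` of `Helper16.STCR5`).

Self-contained: own-name copies `stcr6_*` of the R1 / R3 / R4 facts that are used.
-/

set_option autoImplicit false

namespace Cfsg.Agent.Lib.helper3.STC

open Cfsg.Agent.Lib.helper15.St2 Cfsg.Agent.Lib.helper7.St Matrix

universe v w

section R0
variable {ι l : Type*} {K : Type*} [Field K]

theorem stcr6_Em_ng (e : ι ↪ l) (a : ι ⊕ ι) : Em e (ng a) = ng (Em e a) := by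
  cases a <;> rfl

theorem stcr6_Em_injective (e : ι ↪ l) : Function.Injective (Em e) := by
  intro a b h
  cases a <;> cases b <;> simp [Em] at h ⊢
  · exact h
  · exact h

theorem stcr6_ng_ng (a : ι ⊕ ι) : ng (ng a) = a := by
  cases a <;> rfl

theorem stcr6_ng_ne (a : ι ⊕ ι) : ng a ≠ a := by
  cases a <;> simp [ng]

end R0

namespace SysC

namespace Rep

variable {K : Type*} [Field K] {ι : Type*} {G : Type*} [Group G] {S : SysC K ι G}
  {l : Type*} [Fintype l] [DecidableEq l] (R : S.Rep l)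

theorem stcr6_M_x {a b : ι ⊕ ι} (hab : a ≠ b) (t : K) :
    R.M (S.x a b t) = Tm (Em R.e a) (Em R.e b) t :=
  R.hφ a b hab t

/-- own-name copy of R4 `XQ_colStab` -/
theorem stcr6_XQ_colStab {Q : ι ⊕ ι → ι ⊕ ι → Prop} {c : l ⊕ l}
    (h : ∀ a b, a ≠ b → Q a b → Em R.e b ≠ c ∧ Em R.e (ng a) ≠ c) :
    ∀ z ∈ S.XQ Q, R.M z *ᵥ ev c = ev c := by
  have hle : S.XQ Q ≤ (Mat.colStab (ev c)).comap R.φ := by
    apply S.XQ_le
    intro a b t hab hQ
    obtain ⟨h1, h2⟩ := h a b hab hQ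
    show R.M (S.x a b t) *ᵥ ev c = ev c
    rw [stcr6_M_x R hab]
    apply Mat.Tm_mulVec_single_of_ne h1.symm
    rw [← stcr6_Em_ng]
    exact h2.symm
  intro z hz
  exact hle hz

/-- own-name copy of R4 `XQ_rowStab` -/
theorem stcr6_XQ_rowStab {Q : ι ⊕ ι → ι ⊕ ι → Prop} {c : l ⊕ l}
    (h : ∀ a b, a ≠ b → Q a b → Em R.e a ≠ c ∧ Em R.e (ng b) ≠ c) :
    ∀ z ∈ S.XQ Q, ev c ᵥ* R.M z = ev c := by
  have hle : S.XQ Q ≤ (Mat.rowStab (ev c)).comap R.φ := by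
    apply S.XQ_le
    intro a b t hab hQ
    obtain ⟨h1, h2⟩ := h a b hab hQ
    show ev c ᵥ* R.M (S.x a b t) = ev c
    rw [stcr6_M_x R hab, Mat.vecMul_Tm]
    have e1 : (ev c : l ⊕ l → K) (Em R.e a) = 0 := by
      unfold ev
      rw [Pi.single_apply, if_neg h1]
    have e2 : (ev c : l ⊕ l → K) (ng (Em R.e b)) = 0 := by
      unfold ev
      rw [Pi.single_apply, ← stcr6_Em_ng, if_neg h2]
    rw [e1, e2]
    simp
  intro z hz
  exact hle hz

variable (o : ι ⊕ ι)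

/-- R6 -/
theorem Pg_col : ∀ p ∈ S.Pg o, R.M p *ᵥ ev (Em R.e o) = ev (Em R.e o) := by
  apply stcr6_XQ_colStab R
  rintro a b - ⟨hb, ha⟩
  refine ⟨fun h => hb (stcr6_Em_injective R.e h), fun h => ha ?_⟩
  have := stcr6_Em_injective R.e h
  rw [← this, stcr6_ng_ng]

theorem Lg_col' : ∀ x ∈ S.Lg o, R.M x *ᵥ ev (Em R.e (ng o)) = ev (Em R.e (ng o)) := by
  apply stcr6_XQ_colStab R
  rintro a b - ⟨⟨ha, -⟩, ⟨-, hb⟩⟩
  refine ⟨fun h => hb (stcr6_Em_injective R.e h), fun h => ha ?_⟩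
  have := stcr6_Em_injective R.e h
  rw [← stcr6_ng_ng a, this, stcr6_ng_ng]

/-- R6, core of `Phat_lineStab`: `hMh` is the statement of R5 `M_h_fst`. -/
theorem stcr6_Phat_lineStab_core
    (hMh : ∀ {a b : ι ⊕ ι}, a ≠ b → ∀ u : K, u ≠ 0 →
      R.M (S.h a b u) *ᵥ ev (Em R.e a) = u • ev (Em R.e a)) :
    ∀ p ∈ S.Phat o, ∃ c : K, c ≠ 0 ∧ R.M p *ᵥ ev (Em R.e o) = c • ev (Em R.e o) := by
  have hle : S.Phat o ≤ (Mat.lineStab (ev (Em R.e o))).comap R.φ := by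
    unfold Phat
    apply sup_le
    · intro p hp
      exact ⟨1, one_ne_zero, by rw [one_smul]; exact Pg_col R o p hp⟩
    · unfold Hg
      apply (Subgroup.closure_le _).2
      rintro _ ⟨b, t, hb, ht, rfl⟩
      exact ⟨t, ht, hMh hb.symm t ht⟩
  intro p hp
  exact hle hp

theorem Phat_lineStab : ∀ p ∈ S.Phat o, ∃ c : K, c ≠ 0 ∧ R.M p *ᵥ ev (Em R.e o) = c • ev (Em R.e o) :=
  stcr6_Phat_lineStab_core R o (fun hab u hu => M_h_fst R hab u hu)

theorem Yg_row : ∀ y ∈ S.Yg o, ev (Em R.e o) ᵥ* R.M y = ev (Em R.e o) := by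
  apply stcr6_XQ_rowStab R
  rintro a b hab rfl
  refine ⟨fun h => hab (stcr6_Em_injective R.e h), fun h => ?_⟩
  exact stcr6_ng_ne _ (stcr6_Em_injective R.e h)

theorem Yg_apply {y : G} (hy : y ∈ S.Yg o) : (R.M y *ᵥ ev (Em R.e o)) (Em R.e o) = 1 := by
  have h := congrFun (Yg_row R o y hy) (Em R.e o)
  unfold ev at h ⊢
  rw [Matrix.single_one_vecMul] at h
  rw [Matrix.mulVec_single_one]
  simpa [Matrix.col, Matrix.row] using h

end Rep

end SysC

end Cfsg.Agent.Lib.helper3.STC
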