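import Mathlib
import Cfsg.Agent.Lib.helper17.SLP.Defs
import Cfsg.Agent.Lib.helper3.SP4.Defs
import Cfsg.Agent.Lib.Helper22.SU4.Defs
import Cfsg.Prelude.Def_Classical
import Cfsg.Agent.Lib.Helper28.SP4R3

/-!
# Project SU4 (helper22), row T1 (helper15): `tor_commT`, verbatim.
-/

set_option autoImplicit false

namespace Cfsg.Agent.Lib.Helper22.SU4

open Cfsg.Agent.Lib.helper17.SLP Cfsg.Agent.Lib.helper3.SP4

universe u v

section T

variable {F : Type u} {K : Type u} [Field F] [Field K] [Fintype F] [Fintype K] {G : Type v} [Group G]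

set_option linter.unusedSectionVars false in
/-- T1 [S-M]  Model SP4 T1 `tor_comm` (`Helper20.SP4T1`): `s = ζ^i`, `r = ζ₀^j`, `rh φ (ζ^i) = rh φ ζ ^ i` (`r_basic`), `Commute.zpow_zpow` of `H.T1`. -/
theorem tor_commT (D : Tw F K) (ζ : Fˣ) (hζ : ∀ y : Fˣ, y ∈ Subgroup.zpowers ζ) (ζ₀ : Kˣ)
    (hζ₀ : ∀ y : Kˣ, y ∈ Subgroup.zpowers ζ₀) (φa : Matrix.SpecialLinearGroup (Fin 2) F →* G)
    (φb : Matrix.SpecialLinearGroup (Fin 2) K →* G) (H : HypT D ζ ζ₀ φa φb) :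
    ∀ (s : Fˣ) (r : Kˣ), Commute (rh φa s) (rh φb r) := by
  intro s r
  obtain ⟨i, rfl⟩ := Subgroup.mem_zpowers_iff.mp (hζ s)
  obtain ⟨j, rfl⟩ := Subgroup.mem_zpowers_iff.mp (hζ₀ r)
  obtain ⟨-, -, -, -, -, -, hza, -⟩ := r_basic φa
  obtain ⟨-, -, -, -, -, -, hzb, -⟩ := r_basic φb
  rw [hza, hzb]
  exact H.T1.zpow_zpow i j

end T

end Cfsg.Agent.Lib.Helper22.SU4
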