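import Mathlib
import Cfsg.Agent.Lib.Helper27.SU5T.Defs

/-!
# SU5 (tables half, designer helper27) row H1: hom equality (`hom_eq_set`, `hom_eq`).
-/

set_option autoImplicit false

namespace Cfsg.Agent.Lib.Helper27.SU5T

open Cfsg.Agent.Lib.helper15.St2 Cfsg.Agent.Lib.Helper27.STU Cfsg.Agent.Lib.helper3.SU5
open Cfsg.Agent.Lib.helper17.SLP (xM hM wM)
open Cfsg.Agent.Lib.helper3.STC (ng sws)

universe u v w w₀

section H

variable {M : Type v} [Group M] {G : Type w} [Group G]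

/-- H1 [S]  HOM EQUALITY. -/
theorem hom_eq_set (S : Set M) (hS : Subgroup.closure S = ⊤) (φ : M →* G) (x : G) (Δ : M →* M)
    (h : ∀ m ∈ S, cj x (φ m) = φ (Δ m)) : ∀ m, cj x (φ m) = φ (Δ m) := by
  intro m
  have key : (MulAut.conj x).toMonoidHom.comp φ = φ.comp Δ := by
    apply MonoidHom.eq_of_eqOn_dense hS
    intro s hs
    have := h s hs
    simpa [cj, MulAut.conj_apply] using this
  have := DFunLike.congr_fun key m
  simpa [cj, MulAut.conj_apply] using this

theorem hom_eq {n : ℕ} (g : Fin n → M) (hg : Subgroup.closure (Set.range g) = ⊤) (φ : M →* G) (x : G) (Δ : M →* M)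
    (h : ∀ i, cj x (φ (g i)) = φ (Δ (g i))) : ∀ m, cj x (φ m) = φ (Δ m) := by
  apply hom_eq_set (Set.range g) hg φ x Δ
  rintro m ⟨i, rfl⟩
  exact h i

end H

end Cfsg.Agent.Lib.Helper27.SU5T
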