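import Mathlib
import Cfsg.Agent.Lib.Helper16.PSemi2

set_option autoImplicit false

namespace Cfsg.Agent.Lib.helper15.SemiConj

open Polynomial Module

section kl

variable {F : Type*} [Field F]

lemma aeval_mulVec_eigen {K : Type*} [Field K] [Algebra F K] {ι : Type*} [Fintype ι] [DecidableEq ι]
    (A : Matrix ι ι K) (v : ι → K) (α : K) (hv : A.mulVec v = α • v) (g : F[X]) :
    (aeval A g).mulVec v = (aeval α g) • v := by
  induction g using Polynomial.induction_on' with
  | add p q hp hq =>
    rw [map_add, map_add, Matrix.add_mulVec, hp, hq, add_smul]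
  | monomial k c =>
    rw [aeval_monomial, aeval_monomial]
    have h1 : ∀ k : ℕ, (A ^ k).mulVec v = α ^ k • v := by
      intro k
      induction k with
      | zero => simp
      | succ k ih =>
        rw [pow_succ, ← Matrix.mulVec_mulVec, hv, Matrix.mulVec_smul, ih, smul_smul, pow_succ,
          mul_comm]
    rw [Algebra.algebraMap_eq_smul_one, smul_mul_assoc, one_mul, Matrix.smul_mulVec, h1,
      ← smul_smul, algebraMap_smul]

theorem det_aeval_eq_zero {ι : Type*} [Fintype ι] [DecidableEq ι] (M : Matrix ι ι F) (g : F[X])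
    (hg : Irreducible g) (hdvd : g ∣ M.charpoly) : (aeval M g).det = 0 := by
  have : Fact (Irreducible g) := ⟨hg⟩
  let K := AdjoinRoot g
  let φ : F →+* K := algebraMap F K
  have hroot : (M.map φ).charpoly.eval (AdjoinRoot.root g) = 0 := by
    rw [Matrix.charpoly_map, Polynomial.eval_map]
    obtain ⟨c, hc⟩ := hdvd
    rw [hc, Polynomial.eval₂_mul]
    have : Polynomial.eval₂ φ (AdjoinRoot.root g) g = 0 := AdjoinRoot.eval₂_root g
    rw [this, zero_mul]
  rw [Matrix.eval_charpoly] at hroot
  obtain ⟨v, hv0, hv⟩ := Matrix.exists_mulVec_eq_zero_iff.2 hroot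
  have hv' : (M.map φ).mulVec v = (AdjoinRoot.root g) • v := by
    rw [Matrix.sub_mulVec, sub_eq_zero] at hv
    rw [← hv]
    ext i
    simp [Matrix.scalar_apply, Matrix.mulVec_diagonal]
  have h1 := aeval_mulVec_eigen (F := F) (M.map φ) v (AdjoinRoot.root g) hv' g
  have h2 : aeval (AdjoinRoot.root g) g = 0 := AdjoinRoot.aeval_eq g ▸ AdjoinRoot.mk_self
  rw [h2, zero_smul] at h1
  have h3 : (aeval (M.map φ) g).det = 0 :=
    Matrix.exists_mulVec_eq_zero_iff.1 ⟨v, hv0, h1⟩
  have h4 : aeval (M.map φ) g = (aeval M g).map φ := by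
    have := Polynomial.aeval_algHom_apply (AlgHom.mapMatrix (Algebra.ofId F K) :
      Matrix ι ι F →ₐ[F] Matrix ι ι K) M g
    exact this
  rw [h4] at h3
  have h5 : ((aeval M g).map φ).det = φ ((aeval M g).det) := (RingHom.map_det φ _).symm
  rw [h5] at h3
  exact (map_eq_zero φ).1 h3

theorem ker_aeval_ne_bot {U : Type*} [AddCommGroup U] [Module F U] [FiniteDimensional F U]
    (y : Module.End F U) (g : F[X]) (hg : Irreducible g) (hdvd : g ∣ y.charpoly) :
    LinearMap.ker (aeval y g) ≠ ⊥ := by
  classical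
  let b := Module.finBasis F U
  have h1 : (LinearMap.toMatrix b b y).charpoly = y.charpoly := LinearMap.charpoly_toMatrix y b
  have h2 := det_aeval_eq_zero (LinearMap.toMatrix b b y) g hg (by rw [h1]; exact hdvd)
  have h3 : aeval (LinearMap.toMatrix b b y) g = LinearMap.toMatrix b b (aeval y g) := by
    have := Polynomial.aeval_algHom_apply (LinearMap.toMatrixAlgEquiv b).toAlgHom y g
    exact this
  rw [h3, LinearMap.det_toMatrix] at h2
  exact (LinearMap.bot_lt_ker_of_det_eq_zero h2).ne'

end kl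

section struct

open Cfsg.Agent.Lib.Helper16.PSemi

variable {F : Type*} [Field F] {V : Type*} [AddCommGroup V] [Module F V] [FiniteDimensional F V]

lemma charpoly_eq_mul (x : Module.End F V) (f Q : F[X]) (hcop : IsCoprime f Q)
    (hx : aeval x (f * Q) = 0) :
    x.charpoly = (x.restrict (ker_aeval_invariant x f)).charpoly *
      (x.restrict (ker_aeval_invariant x Q)).charpoly := by
  have hcompl : IsCompl (LinearMap.ker (aeval x f)) (LinearMap.ker (aeval x Q)) := by
    refine ⟨Polynomial.disjoint_ker_aeval_of_isCoprime x hcop, ?_⟩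
    rw [codisjoint_iff, Polynomial.sup_ker_aeval_eq_ker_aeval_mul_of_coprime x hcop, hx,
      LinearMap.ker_zero]
  let e := Submodule.prodEquivOfIsCompl _ _ hcompl
  have h1 : x = e.conj ((x.restrict (ker_aeval_invariant x f)).prodMap
      (x.restrict (ker_aeval_invariant x Q))) := by
    apply LinearMap.ext
    intro v
    obtain ⟨w, rfl⟩ := e.surjective v
    rw [LinearEquiv.conj_apply_apply, LinearEquiv.symm_apply_apply]
    obtain ⟨w1, w2⟩ := w
    simp only [e, Submodule.coe_prodEquivOfIsCompl', LinearMap.prodMap_apply, map_add,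
      LinearMap.restrict_coe_apply]
  conv_lhs => rw [h1]
  rw [LinearEquiv.charpoly_conj, LinearMap.charpoly_prodMap]

lemma irreducible_factor_assoc (x : Module.End F V) (f : F[X]) (hf : Irreducible f) (g : F[X])
    (hg : Irreducible g)
    (hdvd : g ∣ (x.restrict (ker_aeval_invariant x f)).charpoly) : Associated g f := by
  have h1 := ker_aeval_ne_bot _ g hg hdvd
  obtain ⟨w, hw, hw0⟩ := (Submodule.ne_bot_iff _).1 h1
  rw [LinearMap.mem_ker] at hw
  have h2 : aeval x g (w : V) = 0 := by
    rw [← aeval_restrict x _ (ker_aeval_invariant x f) g w, hw]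
    rfl
  have h3 : aeval x f (w : V) = 0 := w.2
  rcases hg.isCoprime_or_dvd f with hc | hd
  · exfalso
    obtain ⟨a, b, hab⟩ := hc
    have h4 := congrArg (fun r : F[X] => aeval x r (w : V)) hab
    simp only [map_add, map_mul, map_one, LinearMap.add_apply, Module.End.mul_apply, h2, h3,
      map_zero, add_zero, Module.End.one_apply] at h4
    exact hw0 (Subtype.ext h4.symm)
  · exact hg.associated_of_dvd hf hd

lemma charpoly_restrict_eq_pow (x : Module.End F V) (f : F[X]) (hf : Irreducible f)
    (hfm : f.Monic) :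
    ∃ a : ℕ, (x.restrict (ker_aeval_invariant x f)).charpoly = f ^ a := by
  set χ := (x.restrict (ker_aeval_invariant x f)).charpoly with hχ
  have hχm : χ.Monic := LinearMap.charpoly_monic _
  have hfin : FiniteMultiplicity f χ := FiniteMultiplicity.of_not_isUnit hf.not_isUnit hχm.ne_zero
  obtain ⟨c, hc, hnd⟩ := hfin.exists_eq_pow_mul_and_not_dvd
  have hcu : IsUnit c := by
    by_contra hnu
    have hc0 : c ≠ 0 := by
      intro h
      rw [h, mul_zero] at hc
      exact hχm.ne_zero hc
    obtain ⟨g, hg, hgc⟩ := WfDvdMonoid.exists_irreducible_factor hnu hc0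
    have h1 : g ∣ χ := by
      rw [hc]
      exact hgc.mul_left _
    have h2 := irreducible_factor_assoc x f hf g hg h1
    exact hnd (h2.symm.dvd.trans hgc)
  refine ⟨multiplicity f χ, ?_⟩
  apply Polynomial.eq_of_monic_of_associated hχm (hfm.pow _)
  conv_lhs => rw [hc]
  exact associated_mul_unit_left _ _ hcu

lemma not_dvd_charpoly_restrict (x : Module.End F V) (f Q : F[X]) (hf : Irreducible f)
    (hcop : IsCoprime f Q) :
    ¬ f ∣ (x.restrict (ker_aeval_invariant x Q)).charpoly := by
  intro hdvd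
  have h1 := ker_aeval_ne_bot _ f hf hdvd
  obtain ⟨w, hw, hw0⟩ := (Submodule.ne_bot_iff _).1 h1
  rw [LinearMap.mem_ker] at hw
  have h2 : aeval x f (w : V) = 0 := by
    rw [← aeval_restrict x _ (ker_aeval_invariant x Q) f w, hw]
    rfl
  have h3 : aeval x Q (w : V) = 0 := w.2
  obtain ⟨a, b, hab⟩ := hcop
  have h4 := congrArg (fun r : F[X] => aeval x r (w : V)) hab
  simp only [map_add, map_mul, map_one, LinearMap.add_apply, Module.End.mul_apply, h2, h3,
    map_zero, add_zero, Module.End.one_apply] at h4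
  exact hw0 (Subtype.ext h4.symm)

theorem finrank_ker_eq_multiplicity (x : Module.End F V) (f Q : F[X]) (hf : Irreducible f)
    (hfm : f.Monic) (hcop : IsCoprime f Q) (hx : aeval x (f * Q) = 0) :
    Module.finrank F (LinearMap.ker (aeval x f)) = multiplicity f x.charpoly * f.natDegree := by
  obtain ⟨a, ha⟩ := charpoly_restrict_eq_pow x f hf hfm
  have h1 := charpoly_eq_mul x f Q hcop hx
  have h2 := not_dvd_charpoly_restrict x f Q hf hcop
  have h3 : Module.finrank F (LinearMap.ker (aeval x f)) = a * f.natDegree := by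
    have := LinearMap.charpoly_natDegree (x.restrict (ker_aeval_invariant x f))
    rw [ha, Polynomial.natDegree_pow] at this
    exact this.symm
  rw [h3]
  congr 1
  symm
  apply multiplicity_eq_of_dvd_of_not_dvd
  · rw [h1, ha]
    exact dvd_mul_right _ _
  · rw [h1, ha, pow_succ]
    intro h
    exact h2 ((mul_dvd_mul_iff_left (pow_ne_zero _ hf.ne_zero)).1 h)

end struct

section conj

open Cfsg.Agent.Lib.Helper16.PSemi

variable {F : Type*} [Field F]

lemma isCoprime_of_squarefree_mul (f Q : F[X]) (hf : Irreducible f) (hsq : Squarefree (f * Q)) :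
    IsCoprime f Q := by
  rcases hf.isCoprime_or_dvd Q with h | h
  · exact h
  · exfalso
    exact hf.not_isUnit (hsq f (mul_dvd_mul_left f h))

theorem exists_linearEquiv_of_charpoly_eq {V : Type*} [AddCommGroup V] [Module F V]
    [FiniteDimensional F V] (P : F[X]) (hP0 : P ≠ 0) (hsq : Squarefree P)
    (x x' : Module.End F V) (hx : aeval x P = 0) (hx' : aeval x' P = 0)
    (hc : x.charpoly = x'.charpoly) : ∃ E : V ≃ₗ[F] V, ∀ v, E (x v) = x' (E v) := by
  classical
  set S := UniqueFactorizationMonoid.normalizedFactors P with hS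
  have hnodup : S.Nodup := (UniqueFactorizationMonoid.squarefree_iff_nodup_normalizedFactors hP0).1 hsq
  have hmem : ∀ k : {k // k ∈ S.toFinset}, k.1 ∈ S := fun k => Multiset.mem_toFinset.1 k.2
  have hirr : ∀ k : {k // k ∈ S.toFinset}, Irreducible k.1 :=
    fun k => UniqueFactorizationMonoid.irreducible_of_normalized_factor k.1 (hmem k)
  have hnorm : ∀ k : {k // k ∈ S.toFinset}, normalize k.1 = k.1 :=
    fun k => UniqueFactorizationMonoid.normalize_normalized_factor k.1 (hmem k)
  have hmonic : ∀ k : {k // k ∈ S.toFinset}, k.1.Monic := by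
    intro k
    rw [← hnorm k]
    exact Polynomial.monic_normalize (hirr k).ne_zero
  have hdvd : ∀ k : {k // k ∈ S.toFinset}, k.1 ∣ P :=
    fun k => UniqueFactorizationMonoid.dvd_of_mem_normalizedFactors (hmem k)
  have hcop : Pairwise (Function.onFun IsCoprime (fun k : {k // k ∈ S.toFinset} => k.1)) := by
    intro k k' hkk'
    show IsCoprime k.1 k'.1
    rcases (hirr k).isCoprime_or_dvd k'.1 with h | h
    · exact h
    · exfalso
      apply hkk'
      apply Subtype.ext
      have := (hirr k).associated_of_dvd (hirr k') h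
      rw [← hnorm k, ← hnorm k']
      exact normalize_eq_normalize_iff.2 ⟨this.dvd, this.symm.dvd⟩
  have hprod : (∏ k : {k // k ∈ S.toFinset}, k.1) = S.prod := by
    rw [Finset.prod_coe_sort S.toFinset (fun k => k), Finset.prod_eq_multiset_prod,
      Multiset.toFinset_val, Multiset.dedup_eq_self.2 hnodup, Multiset.map_id']
  have hassoc : Associated S.prod P := UniqueFactorizationMonoid.prod_normalizedFactors hP0
  have hPd : P ∣ ∏ k : {k // k ∈ S.toFinset}, k.1 := by
    rw [hprod]
    exact hassoc.symm.dvd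
  have hxP : ∀ y : Module.End F V, aeval y P = 0 →
      aeval y (∏ k : {k // k ∈ S.toFinset}, k.1) = 0 := by
    intro y hy
    obtain ⟨c, hc⟩ := hPd
    rw [hc, map_mul, hy, zero_mul]
  have hdims : ∀ k : {k // k ∈ S.toFinset},
      Module.finrank F (LinearMap.ker (aeval x k.1)) =
        Module.finrank F (LinearMap.ker (aeval x' k.1)) := by
    intro k
    obtain ⟨Q, hQ⟩ := hdvd k
    have hcopQ : IsCoprime k.1 Q := isCoprime_of_squarefree_mul k.1 Q (hirr k) (hQ ▸ hsq)
    rw [finrank_ker_eq_multiplicity x k.1 Q (hirr k) (hmonic k) hcopQ (hQ ▸ hx),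
      finrank_ker_eq_multiplicity x' k.1 Q (hirr k) (hmonic k) hcopQ (hQ ▸ hx'), hc]
  exact conj_of_finrank_ker (fun k : {k // k ∈ S.toFinset} => k.1) hirr hcop x x'
    (hxP x hx) (hxP x' hx') hdims

theorem exists_GL_conj_of_charpoly_eq (n m : ℕ) (hm : ((m : ℕ) : F) ≠ 0)
    (g h : Matrix (Fin n) (Fin n) F) (hg : g ^ m = 1) (hh : h ^ m = 1)
    (hc : g.charpoly = h.charpoly) :
    ∃ Q : GL (Fin n) F, (Q : Matrix (Fin n) (Fin n) F) * g = h * (Q : Matrix (Fin n) (Fin n) F) := by
  have hP0 : (X ^ m - 1 : F[X]) ≠ 0 := by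
    have hm0 : m ≠ 0 := by
      intro h0
      rw [h0] at hm
      simp at hm
    exact (Polynomial.monic_X_pow_sub_C (1 : F) hm0).ne_zero
  have hsq : Squarefree (X ^ m - 1 : F[X]) :=
    ((Polynomial.X_pow_sub_one_separable_iff).2 hm).squarefree
  have hx : ∀ M : Matrix (Fin n) (Fin n) F, M ^ m = 1 →
      aeval (Matrix.toLin' M) (X ^ m - 1 : F[X]) = 0 := by
    intro M hM
    rw [map_sub, map_pow, aeval_X, map_one, ← Matrix.toLin'_pow, hM, Matrix.toLin'_one]
    exact sub_self _
  obtain ⟨E, hE⟩ := exists_linearEquiv_of_charpoly_eq (X ^ m - 1 : F[X]) hP0 hsq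
    (Matrix.toLin' g) (Matrix.toLin' h) (hx g hg) (hx h hh)
    (by rw [Matrix.charpoly_toLin', Matrix.charpoly_toLin', hc])
  have h1 : LinearMap.toMatrix' E.toLinearMap * LinearMap.toMatrix' E.symm.toLinearMap = 1 := by
    rw [← LinearMap.toMatrix'_comp]
    simp
  have h2 : LinearMap.toMatrix' E.symm.toLinearMap * LinearMap.toMatrix' E.toLinearMap = 1 := by
    rw [← LinearMap.toMatrix'_comp]
    simp
  refine ⟨⟨LinearMap.toMatrix' E.toLinearMap, LinearMap.toMatrix' E.symm.toLinearMap, h1, h2⟩, ?_⟩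
  show LinearMap.toMatrix' E.toLinearMap * g = h * LinearMap.toMatrix' E.toLinearMap
  have h3 : E.toLinearMap ∘ₗ Matrix.toLin' g = Matrix.toLin' h ∘ₗ E.toLinearMap := by
    apply LinearMap.ext
    intro v
    exact hE v
  have h4 := congrArg LinearMap.toMatrix' h3
  rw [LinearMap.toMatrix'_comp, LinearMap.toMatrix'_comp, LinearMap.toMatrix'_toLin',
    LinearMap.toMatrix'_toLin'] at h4
  exact h4

end conj

end Cfsg.Agent.Lib.helper15.SemiConj
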