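import Mathlib

set_option autoImplicit false

namespace Cfsg.Agent.Lib.helper15.SemiReal

open Polynomial

section real

variable {F : Type*} [Field F] [Fintype F]

theorem irr_piece (p : ℕ) [Fact p.Prime] [CharP F p] (f : F[X]) (hf : Irreducible f)
    (hfm : f.Monic) (h0 : f.coeff 0 ≠ 0) :
    ∃ (ι : Type) (_ : Fintype ι) (_ : DecidableEq ι) (M : Matrix ι ι F) (m : ℕ),
      0 < m ∧ m.Coprime p ∧ M ^ m = 1 ∧ M.charpoly = f := by
  have hpp : p.Prime := Fact.out
  have : Fact (Irreducible f) := ⟨hf⟩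
  let pb := AdjoinRoot.powerBasis hf.ne_zero
  have hfin : Module.Finite F (AdjoinRoot f) := pb.finite
  have hfinite : Finite (AdjoinRoot f) := Module.finite_of_finite F
  have : Fintype (AdjoinRoot f) := Fintype.ofFinite _
  have hcharK : CharP (AdjoinRoot f) p :=
    charP_of_injective_algebraMap (algebraMap F (AdjoinRoot f)).injective p
  have hroot : AdjoinRoot.root f ≠ 0 := by
    intro h
    have h1 : f ∣ X := by
      rw [← AdjoinRoot.mk_eq_zero, AdjoinRoot.mk_X]
      exact h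
    obtain ⟨c, hc⟩ := h1
    have h2 := congrArg (fun r : F[X] => r.coeff 0) hc
    simp only [coeff_X_zero, mul_coeff_zero] at h2
    have h3 : c.coeff 0 = 0 := by
      rcases mul_eq_zero.1 h2.symm with h | h
      · exact absurd h h0
      · exact h
    have hdeg := congrArg natDegree hc
    rw [natDegree_X] at hdeg
    have hc0 : c ≠ 0 := by
      intro h
      rw [h, mul_zero] at hc
      exact X_ne_zero hc
    rw [natDegree_mul hf.ne_zero hc0] at hdeg
    have hfd : 0 < f.natDegree := hf.natDegree_pos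
    have hcd : c.natDegree = 0 := by omega
    rw [natDegree_eq_zero] at hcd
    obtain ⟨a, rfl⟩ := hcd
    rw [coeff_C_zero] at h3
    rw [h3, C_0] at hc0
    exact hc0 rfl
  obtain ⟨e, -, he⟩ := FiniteField.card (AdjoinRoot f) p
  refine ⟨Fin pb.dim, inferInstance, inferInstance, Algebra.leftMulMatrix pb.basis pb.gen,
    Fintype.card (AdjoinRoot f) - 1, ?_, ?_, ?_, ?_⟩
  · have : 1 < Fintype.card (AdjoinRoot f) := Fintype.one_lt_card
    omega
  · rw [he]
    have h1 : 1 ≤ p ^ (e : ℕ) := Nat.one_le_pow _ _ hpp.pos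
    rw [Nat.coprime_comm, Nat.Prime.coprime_iff_not_dvd hpp]
    intro h
    have h2 : p ∣ p ^ (e : ℕ) := dvd_pow_self p e.pos.ne'
    have h3 : p ∣ p ^ (e : ℕ) - (p ^ (e : ℕ) - 1) := Nat.dvd_sub h2 h
    have h4 : p ^ (e : ℕ) - (p ^ (e : ℕ) - 1) = 1 := by omega
    rw [h4] at h3
    exact hpp.one_lt.ne' (Nat.dvd_one.1 h3)
  · rw [← map_pow]
    have : pb.gen = AdjoinRoot.root f := AdjoinRoot.powerBasis_gen hf.ne_zero
    rw [this, FiniteField.pow_card_sub_one_eq_one _ hroot, map_one]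
  · rw [charpoly_leftMulMatrix]
    exact AdjoinRoot.minpoly_powerBasis_gen_of_monic hfm

theorem exists_matrix_of_charpoly (p : ℕ) [Fact p.Prime] [CharP F p] :
    ∀ (n : ℕ) (χ : F[X]), χ.Monic → χ.natDegree = n → χ.coeff 0 ≠ 0 →
      ∃ (ι : Type) (_ : Fintype ι) (_ : DecidableEq ι) (M : Matrix ι ι F) (m : ℕ),
        0 < m ∧ m.Coprime p ∧ M ^ m = 1 ∧ M.charpoly = χ := by
  classical
  intro n
  induction n using Nat.strong_induction_on with
  | _ n ih =>
    intro χ hχ hdeg h0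
    rcases Nat.eq_zero_or_pos n with hn | hn
    · rw [hn] at hdeg
      have h1 : χ = 1 := (Polynomial.Monic.natDegree_eq_zero hχ).1 hdeg
      refine ⟨Fin 0, inferInstance, inferInstance, 0, 1, one_pos, Nat.coprime_one_left p, ?_, ?_⟩
      · exact Subsingleton.elim _ _
      · rw [h1, Matrix.charpoly, Matrix.det_isEmpty]
    · have hnu : ¬ IsUnit χ := by
        intro h
        have := natDegree_eq_zero_of_isUnit h
        omega
      obtain ⟨f₀, hf₀, hf₀d⟩ := WfDvdMonoid.exists_irreducible_factor hnu hχ.ne_zero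
      have hf : Irreducible (normalize f₀) := (associated_normalize f₀).irreducible hf₀
      have hfm : (normalize f₀).Monic := monic_normalize hf₀.ne_zero
      have hfd : normalize f₀ ∣ χ := (normalize_associated f₀).dvd.trans hf₀d
      obtain ⟨χ', hχ'⟩ := hfd
      have hχ'm : χ'.Monic := hfm.of_mul_monic_left (hχ' ▸ hχ)
      have hdeg' : (normalize f₀).natDegree + χ'.natDegree = n := by
        rw [← hdeg, hχ', natDegree_mul hf.ne_zero hχ'm.ne_zero]
      have hfpos : 0 < (normalize f₀).natDegree := hf.natDegree_pos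
      have hc0 : (normalize f₀).coeff 0 * χ'.coeff 0 ≠ 0 := by
        rw [← mul_coeff_zero, ← hχ']
        exact h0
      obtain ⟨ι₁, i1, i2, M₁, m₁, hm₁, hc₁, hp₁, hch₁⟩ :=
        irr_piece p (normalize f₀) hf hfm (left_ne_zero_of_mul hc0)
      obtain ⟨ι₂, i3, i4, M₂, m₂, hm₂, hc₂, hp₂, hch₂⟩ :=
        ih χ'.natDegree (by omega) χ' hχ'm rfl (right_ne_zero_of_mul hc0)
      refine ⟨ι₁ ⊕ ι₂, inferInstance, inferInstance, Matrix.fromBlocks M₁ 0 0 M₂, m₁ * m₂,
        Nat.mul_pos hm₁ hm₂, Nat.Coprime.mul_left hc₁ hc₂, ?_, ?_⟩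
      · rw [Matrix.fromBlocks_diagonal_pow, pow_mul, hp₁, one_pow, mul_comm, pow_mul, hp₂,
          one_pow, Matrix.fromBlocks_one]
      · rw [Matrix.charpoly_fromBlocks_zero₁₂, hch₁, hch₂, hχ']

theorem exists_GL_of_charpoly (p : ℕ) [Fact p.Prime] [CharP F p] (n : ℕ) (χ : F[X])
    (hχ : χ.Monic) (hdeg : χ.natDegree = n) (h0 : χ.coeff 0 ≠ 0) :
    ∃ g : GL (Fin n) F, (orderOf g).Coprime p ∧
      (g : Matrix (Fin n) (Fin n) F).charpoly = χ := by
  obtain ⟨ι, i1, i2, M, m, hm, hcop, hpow, hch⟩ := exists_matrix_of_charpoly p n χ hχ hdeg h0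
  have hcard : Fintype.card ι = n := by
    rw [← hdeg, ← hch, Matrix.charpoly_natDegree_eq_dim]
  let e : ι ≃ Fin n := Fintype.equivFinOfCardEq hcard
  let M' : Matrix (Fin n) (Fin n) F := Matrix.reindexAlgEquiv F F e M
  have hpow' : M' ^ m = 1 := by
    rw [← map_pow, hpow, map_one]
  have hch' : M'.charpoly = χ := by
    rw [← hch]
    exact Matrix.charpoly_reindex e M
  obtain ⟨m', rfl⟩ : ∃ m', m = m' + 1 := ⟨m - 1, by omega⟩
  refine ⟨⟨M', M' ^ m', by rw [← pow_succ', hpow'], by rw [← pow_succ, hpow']⟩, ?_, hch'⟩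
  have h1 : (⟨M', M' ^ m', by rw [← pow_succ', hpow'], by rw [← pow_succ, hpow']⟩ :
      GL (Fin n) F) ^ (m' + 1) = 1 := by
    apply Units.ext
    rw [Units.val_pow_eq_pow_val]
    exact hpow'
  exact Nat.Coprime.coprime_dvd_left (orderOf_dvd_of_pow_eq_one h1) hcop

end real

end Cfsg.Agent.Lib.helper15.SemiReal
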