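import Mathlib
import Cfsg.Agent.Lib.helper15.SemiConj
import Cfsg.Agent.Lib.helper15.SemiReal

set_option autoImplicit false

namespace Cfsg.Agent.Lib.helper15.SemiCount

open Polynomial
open scoped MatrixGroups

section conj

variable {F : Type*} [Field F] [Fintype F]

theorem isConj_GL_of_charpoly_eq (p : ℕ) [Fact p.Prime] [CharP F p] (n : ℕ)
    (g h : GL (Fin n) F) (hg : (orderOf g).Coprime p) (hh : (orderOf h).Coprime p)
    (hc : (g : Matrix (Fin n) (Fin n) F).charpoly = (h : Matrix (Fin n) (Fin n) F).charpoly) :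
    IsConj g h := by
  classical
  have hpp : p.Prime := Fact.out
  have hmF : ((orderOf g * orderOf h : ℕ) : F) ≠ 0 := by
    rw [Ne, CharP.cast_eq_zero_iff F p]
    intro hd
    rcases (Nat.Prime.dvd_mul hpp).1 hd with h1 | h1
    · exact hpp.one_lt.ne' (Nat.eq_one_of_dvd_coprimes hg.symm (dvd_refl p) h1)
    · exact hpp.one_lt.ne' (Nat.eq_one_of_dvd_coprimes hh.symm (dvd_refl p) h1)
  have hgm : (g : Matrix (Fin n) (Fin n) F) ^ (orderOf g * orderOf h) = 1 := by
    rw [← Units.val_pow_eq_pow_val, pow_mul, pow_orderOf_eq_one, one_pow]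
    rfl
  have hhm : (h : Matrix (Fin n) (Fin n) F) ^ (orderOf g * orderOf h) = 1 := by
    rw [← Units.val_pow_eq_pow_val, mul_comm, pow_mul, pow_orderOf_eq_one, one_pow]
    rfl
  obtain ⟨Q, hQ⟩ := Cfsg.Agent.Lib.helper15.SemiConj.exists_GL_conj_of_charpoly_eq n _ hmF _ _
    hgm hhm hc
  rw [isConj_iff]
  refine ⟨Q, ?_⟩
  rw [mul_inv_eq_iff_eq_mul]
  apply Units.ext
  exact hQ

omit [Fintype F] in
theorem charpoly_eq_of_isConj (n : ℕ) (g h : GL (Fin n) F) (hgh : IsConj g h) :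
    (g : Matrix (Fin n) (Fin n) F).charpoly = (h : Matrix (Fin n) (Fin n) F).charpoly := by
  rw [isConj_iff] at hgh
  obtain ⟨c, hc⟩ := hgh
  rw [← hc, Units.val_mul, Units.val_mul, Matrix.coe_units_inv]
  exact (Matrix.charpoly_units_conj c (g : Matrix (Fin n) (Fin n) F)).symm

omit [Fintype F] in
theorem charpoly_coeff_zero_ne (n : ℕ) (g : GL (Fin n) F) :
    (g : Matrix (Fin n) (Fin n) F).charpoly.coeff 0 ≠ 0 := by
  intro h
  have h1 := Matrix.det_eq_sign_charpoly_coeff (g : Matrix (Fin n) (Fin n) F)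
  rw [h, mul_zero] at h1
  exact (Matrix.GeneralLinearGroup.det_ne_zero g) h1

end conj

section count

variable {F : Type*} [Field F] [Fintype F]

noncomputable def coeffEquiv (n : ℕ) : {χ : F[X] // χ.Monic ∧ χ.natDegree = n} ≃ (Fin n → F) :=
  (Polynomial.monicEquivDegreeLT n).trans (Polynomial.degreeLTEquiv F n).toEquiv

lemma coeffEquiv_apply (n : ℕ) (χ : {χ : F[X] // χ.Monic ∧ χ.natDegree = n}) (i : Fin n) :
    coeffEquiv n χ i = χ.1.coeff i := by
  show (χ.1.eraseLead).coeff i = χ.1.coeff i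
  apply Polynomial.eraseLead_coeff_of_ne
  rw [χ.2.2]
  exact i.2.ne

def consNeEquiv (n : ℕ) : {a : Fin (n + 1) → F // a 0 ≠ 0} ≃ {c : F // c ≠ 0} × (Fin n → F) where
  toFun a := (⟨a.1 0, a.2⟩, fun i => a.1 i.succ)
  invFun cb := ⟨Fin.cons cb.1.1 cb.2, by simpa using cb.1.2⟩
  left_inv a := by
    apply Subtype.ext
    funext i
    refine Fin.cases ?_ (fun j => ?_) i <;> simp
  right_inv cb := by
    apply Prod.ext
    · apply Subtype.ext
      simp
    · funext i
      simp

def consEqEquiv (n : ℕ) (c : F) : {a : Fin (n + 1) → F // a 0 = c} ≃ (Fin n → F) where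
  toFun a := fun i => a.1 i.succ
  invFun b := ⟨Fin.cons c b, by simp⟩
  left_inv a := by
    apply Subtype.ext
    funext i
    refine Fin.cases ?_ (fun j => ?_) i
    · simp [a.2]
    · simp
  right_inv b := by
    funext i
    simp

theorem card_monic_coeff_zero_ne (n : ℕ) :
    Nat.card {χ : F[X] // χ.Monic ∧ χ.natDegree = n + 1 ∧ χ.coeff 0 ≠ 0} =
      (Fintype.card F - 1) * Fintype.card F ^ n := by
  classical
  have e1 : {χ : F[X] // χ.Monic ∧ χ.natDegree = n + 1 ∧ χ.coeff 0 ≠ 0} ≃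
      {a : Fin (n + 1) → F // a 0 ≠ 0} :=
    ((Equiv.subtypeEquivRight (fun χ : F[X] => by
      rw [and_assoc])).trans (Equiv.subtypeSubtypeEquivSubtypeInter
        (fun χ : F[X] => χ.Monic ∧ χ.natDegree = n + 1) (fun χ => χ.coeff 0 ≠ 0)).symm).trans
      (Equiv.subtypeEquiv (coeffEquiv (n + 1)) (fun χ => by
        rw [coeffEquiv_apply]
        rfl))
  rw [Nat.card_congr (e1.trans (consNeEquiv n)), Nat.card_prod, Nat.card_fun,
    Nat.card_eq_fintype_card (α := Fin n), Fintype.card_fin,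
    Nat.card_congr (unitsEquivNeZero (G₀ := F)).symm, Nat.card_units,
    Nat.card_eq_fintype_card]

theorem card_monic_coeff_zero_eq (n : ℕ) (c : F) :
    Nat.card {χ : F[X] // χ.Monic ∧ χ.natDegree = n + 1 ∧ χ.coeff 0 = c} =
      Fintype.card F ^ n := by
  classical
  have e1 : {χ : F[X] // χ.Monic ∧ χ.natDegree = n + 1 ∧ χ.coeff 0 = c} ≃
      {a : Fin (n + 1) → F // a 0 = c} :=
    ((Equiv.subtypeEquivRight (fun χ : F[X] => by
      rw [and_assoc])).trans (Equiv.subtypeSubtypeEquivSubtypeInter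
        (fun χ : F[X] => χ.Monic ∧ χ.natDegree = n + 1) (fun χ => χ.coeff 0 = c)).symm).trans
      (Equiv.subtypeEquiv (coeffEquiv (n + 1)) (fun χ => by
        rw [coeffEquiv_apply]
        rfl))
  rw [Nat.card_congr (e1.trans (consEqEquiv n c)), Nat.card_fun,
    Nat.card_eq_fintype_card (α := Fin n), Fintype.card_fin, Nat.card_eq_fintype_card]

end count

end Cfsg.Agent.Lib.helper15.SemiCount
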