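import Mathlib

set_option autoImplicit false

namespace Cfsg.Agent.Lib.helper15.Sp4G

open Matrix

abbrev I4 := Fin 2 ⊕ Fin 2

abbrev e1 : I4 := Sum.inl 0
abbrev e2 : I4 := Sum.inl 1
abbrev f1 : I4 := Sum.inr 0
abbrev f2 : I4 := Sum.inr 1

variable {R : Type*} [CommRing R]

def mn (g : Matrix I4 I4 R) (a b c d : I4) : R := g a c * g b d - g a d * g b c

def p1 : I4 → I4
  | Sum.inl 0 => e1
  | Sum.inl 1 => e1
  | Sum.inr 0 => f1
  | Sum.inr 1 => e2

def p2 : I4 → I4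
  | Sum.inl 0 => e2
  | Sum.inl 1 => f2
  | Sum.inr 0 => f2
  | Sum.inr 1 => f1

def tauM (g : Matrix I4 I4 R) : Matrix I4 I4 R := fun k l => mn g (p1 k) (p2 k) (p1 l) (p2 l)

theorem sum_I4 (φ : I4 → R) : ∑ x : I4, φ x = φ e1 + φ e2 + φ f1 + φ f2 := by
  rw [Fintype.sum_sum_type, Fin.sum_univ_two, Fin.sum_univ_two]
  ring

theorem cb (g h : Matrix I4 I4 R) (a b c d : I4) :
    mn (g * h) a b c d = mn g a b e1 e2 * mn h e1 e2 c d + mn g a b e1 f1 * mn h e1 f1 c d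
      + mn g a b e1 f2 * mn h e1 f2 c d + mn g a b e2 f1 * mn h e2 f1 c d
      + mn g a b e2 f2 * mn h e2 f2 c d + mn g a b f1 f2 * mn h f1 f2 c d := by
  simp only [mn, Matrix.mul_apply, sum_I4]
  ring

theorem J_apply (a b : I4) : (J (Fin 2) R) a b =
    if a = e1 ∧ b = f1 then -1 else if a = e2 ∧ b = f2 then -1 else
    if a = f1 ∧ b = e1 then 1 else if a = f2 ∧ b = e2 then 1 else 0 := by
  rcases a with a | a <;> rcases b with b | b <;> fin_cases a <;> fin_cases b <;>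
    simp [J, Matrix.fromBlocks]

theorem rowrel {g : Matrix I4 I4 R} (hg : g * J (Fin 2) R * gᵀ = J (Fin 2) R) (a b : I4) :
    mn g a b e1 f1 + mn g a b e2 f2 = - (J (Fin 2) R) a b := by
  have h := congrFun (congrFun hg a) b
  simp only [Matrix.mul_apply, sum_I4, Matrix.transpose_apply] at h
  rw [← h]
  simp only [J_apply, mn]
  simp
  ring

theorem colrel {g : Matrix I4 I4 R} (hg : gᵀ * J (Fin 2) R * g = J (Fin 2) R) (c d : I4) :
    mn g e1 f1 c d + mn g e2 f2 c d = - (J (Fin 2) R) c d := by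
  have h := congrFun (congrFun hg c) d
  simp only [Matrix.mul_apply, sum_I4, Matrix.transpose_apply] at h
  rw [← h]
  simp only [J_apply, mn]
  simp
  ring


@[simp] theorem p1_e1 : p1 e1 = e1 := rfl
@[simp] theorem p1_e2 : p1 e2 = e1 := rfl
@[simp] theorem p1_f1 : p1 f1 = f1 := rfl
@[simp] theorem p1_f2 : p1 f2 = e2 := rfl
@[simp] theorem p2_e1 : p2 e1 = e2 := rfl
@[simp] theorem p2_e2 : p2 e2 = f2 := rfl
@[simp] theorem p2_f1 : p2 f1 = f2 := rfl
@[simp] theorem p2_f2 : p2 f2 = f1 := rfl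

theorem J_good (k : I4) : (J (Fin 2) R) (p1 k) (p2 k) = 0 := by
  rcases k with k | k <;> fin_cases k <;> simp [J_apply, p1, p2]

theorem tauM_mul (h2 : (2 : R) = 0) {g h : Matrix I4 I4 R}
    (hg : g * J (Fin 2) R * gᵀ = J (Fin 2) R) (hh : hᵀ * J (Fin 2) R * h = J (Fin 2) R) :
    tauM (g * h) = tauM g * tauM h := by
  ext k l
  have hA := rowrel hg (p1 k) (p2 k)
  have hB := colrel hh (p1 l) (p2 l)
  rw [J_good, neg_zero] at hA hB
  simp only [tauM, Matrix.mul_apply, sum_I4, cb g h, p1_e1, p1_e2, p1_f1, p1_f2, p2_e1, p2_e2, p2_f1, p2_f2]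
  linear_combination (mn h e1 f1 (p1 l) (p2 l)) * hA + (mn g (p1 k) (p2 k) e2 f2) * hB
    - (mn g (p1 k) (p2 k) e2 f2 * mn h e1 f1 (p1 l) (p2 l)) * h2

theorem tauM_one : tauM (1 : Matrix I4 I4 R) = 1 := by
  ext k l
  have key : ∀ k l : I4, (if p1 k = p1 l then (1:R) else 0) * (if p2 k = p2 l then 1 else 0)
      - (if p1 k = p2 l then 1 else 0) * (if p2 k = p1 l then 1 else 0) = if k = l then 1 else 0 := by
    intro k l
    rcases k with k | k <;> rcases l with l | l <;> fin_cases k <;> fin_cases l <;>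
      simp (decide := true)
  simp only [tauM, mn, Matrix.one_apply]
  exact key k l


def Dd (g : Matrix I4 I4 R) (a b c d : I4) : R :=
  mn g a b e1 e2 * mn g c d f1 f2 - mn g a b e1 f1 * mn g c d e2 f2 + mn g a b e1 f2 * mn g c d e2 f1
    + mn g a b e2 f1 * mn g c d e1 f2 - mn g a b e2 f2 * mn g c d e1 f1 + mn g a b f1 f2 * mn g c d e1 e2

theorem Dd_ca (g : Matrix I4 I4 R) (a b d : I4) : Dd g a b a d = 0 := by
  simp only [Dd, mn]; ring

theorem Dd_cb (g : Matrix I4 I4 R) (a b d : I4) : Dd g a b b d = 0 := by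
  simp only [Dd, mn]; ring

theorem Dd_da (g : Matrix I4 I4 R) (a b c : I4) : Dd g a b c a = 0 := by
  simp only [Dd, mn]; ring

theorem Dd_db (g : Matrix I4 I4 R) (a b c : I4) : Dd g a b c b = 0 := by
  simp only [Dd, mn]; ring

theorem Dd_swap_bc (g : Matrix I4 I4 R) (a b c d : I4) : Dd g a b c d = - Dd g a c b d := by
  simp only [Dd, mn]; ring

theorem Dd_swap_bd (g : Matrix I4 I4 R) (a b c d : I4) : Dd g a b c d = - Dd g a d c b := by
  simp only [Dd, mn]; ring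

theorem Dd_swap_pairs (g : Matrix I4 I4 R) (a b c d : I4) : Dd g a b c d = Dd g c d a b := by
  simp only [Dd, mn]; ring

theorem Dd_swap_ab (g : Matrix I4 I4 R) (a b c d : I4) : Dd g a b c d = - Dd g b a c d := by
  simp only [Dd, mn]; ring

theorem mulJT_apply (M : Matrix I4 I4 R) (k l : I4) :
    (M * J (Fin 2) R * Mᵀ) k l = - M k e1 * M l f1 - M k e2 * M l f2 + M k f1 * M l e1 + M k f2 * M l e2 := by
  simp only [Matrix.mul_apply, sum_I4, Matrix.transpose_apply, J_apply]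
  simp
  ring

theorem tauM_JT_eq_Dd (h2 : (2 : R) = 0) {g : Matrix I4 I4 R}
    (hg : g * J (Fin 2) R * gᵀ = J (Fin 2) R) (k l : I4) :
    (tauM g * J (Fin 2) R * (tauM g)ᵀ) k l = Dd g (p1 k) (p2 k) (p1 l) (p2 l) := by
  have hK := rowrel hg (p1 k) (p2 k)
  have hL := rowrel hg (p1 l) (p2 l)
  rw [J_good, neg_zero] at hK hL
  rw [mulJT_apply]
  simp only [tauM, Dd, p1_e1, p1_e2, p1_f1, p1_f2, p2_e1, p2_e2, p2_f1, p2_f2]
  linear_combination (mn g (p1 k) (p2 k) e1 f1) * hL + (mn g (p1 l) (p2 l) e1 f1) * hK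
    + (- mn g (p1 k) (p2 k) e1 e2 * mn g (p1 l) (p2 l) f1 f2
       - mn g (p1 k) (p2 k) e1 f2 * mn g (p1 l) (p2 l) e2 f1
       - mn g (p1 k) (p2 k) e1 f1 * mn g (p1 l) (p2 l) e1 f1) * h2

theorem Dd_zero (h2 : (2 : R) = 0) {g : Matrix I4 I4 R}
    (hg : g * J (Fin 2) R * gᵀ = J (Fin 2) R) (hg' : gᵀ * J (Fin 2) R * g = J (Fin 2) R) :
    Dd g e1 f1 e2 f2 = 1 := by
  have c12 := colrel hg' e1 e2
  have c13 := colrel hg' e1 f1
  have c14 := colrel hg' e1 f2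
  have c23 := colrel hg' e2 f1
  have c24 := colrel hg' e2 f2
  have c34 := colrel hg' f1 f2
  have r := rowrel hg e1 f1
  simp only [J_apply] at c12 c13 c14 c23 c24 c34 r
  simp at c12 c13 c14 c23 c24 c34 r
  simp only [Dd]
  linear_combination (mn g e1 f1 e1 e2) * c34 - (mn g e1 f1 e1 f1) * c24 + (mn g e1 f1 e1 f2) * c23
    + (mn g e1 f1 e2 f1) * c14 - (mn g e1 f1 e2 f2) * c13 + (mn g e1 f1 f1 f2) * c12 - r
    + (- mn g e1 f1 e1 e2 * mn g e1 f1 f1 f2 + mn g e1 f1 e1 f1 * mn g e1 f1 e2 f2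
       - mn g e1 f1 e1 f2 * mn g e1 f1 e2 f1 - 1) * h2


theorem neg_one_eq_one (h2 : (2 : R) = 0) : (-1 : R) = 1 := by linear_combination (-1 : R) * h2

theorem tauM_symp (h2 : (2 : R) = 0) {g : Matrix I4 I4 R}
    (hg : g * J (Fin 2) R * gᵀ = J (Fin 2) R) (hg' : gᵀ * J (Fin 2) R * g = J (Fin 2) R) :
    tauM g * J (Fin 2) R * (tauM g)ᵀ = J (Fin 2) R := by
  have hD := Dd_zero h2 hg hg'
  have hn := neg_one_eq_one h2
  ext k l
  rw [tauM_JT_eq_Dd h2 hg, J_apply]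
  rcases k with k | k <;> rcases l with l | l <;> fin_cases k <;> fin_cases l
  · show Dd g e1 e2 e1 e2 = _
    rw [Dd_ca]; simp
  · show Dd g e1 e2 e1 f2 = _
    rw [Dd_ca]; simp
  · show Dd g e1 f2 e1 e2 = _
    rw [Dd_ca]; simp
  · show Dd g e1 f2 e1 f2 = _
    rw [Dd_ca]; simp
  · show Dd g e1 e2 f1 f2 = _
    rw [Dd_swap_bc, hD]; simp
  · show Dd g e1 e2 e2 f1 = _
    rw [Dd_cb]; simp
  · show Dd g e1 f2 f1 f2 = _
    rw [Dd_db]; simp
  · show Dd g e1 f2 e2 f1 = _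
    rw [Dd_swap_bd, hD]; simp
  · show Dd g f1 f2 e1 e2 = _
    rw [Dd_swap_pairs, Dd_swap_bc, hD]; simp [hn]
  · show Dd g f1 f2 e1 f2 = _
    rw [Dd_db]; simp
  · show Dd g e2 f1 e1 e2 = _
    rw [Dd_da]; simp
  · show Dd g e2 f1 e1 f2 = _
    rw [Dd_swap_pairs, Dd_swap_bd, hD]; simp [hn]
  · show Dd g f1 f2 f1 f2 = _
    rw [Dd_ca]; simp
  · show Dd g f1 f2 e2 f1 = _
    rw [Dd_da]; simp
  · show Dd g e2 f1 f1 f2 = _
    rw [Dd_cb]; simp
  · show Dd g e2 f1 e2 f1 = _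
    rw [Dd_ca]; simp

end Cfsg.Agent.Lib.helper15.Sp4G
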