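import Cfsg.Agent.Lib.helper15.Sp4G1
import Cfsg.Agent.Lib.Helper16.SPA9

set_option autoImplicit false

namespace Cfsg.Agent.Lib.helper15.Sp4G

open Matrix Cfsg.Agent.Lib.Helper26 Cfsg.Agent.Lib.Helper16.SPA

variable {F : Type*} [Field F]

noncomputable def tauSp (h2 : (2 : F) = 0) :
    ↥(Matrix.symplecticGroup (Fin 2) F) →* ↥(Matrix.symplecticGroup (Fin 2) F) where
  toFun g := ⟨tauM g.1, (SymplecticGroup.mem_iff).mpr
    (tauM_symp h2 ((SymplecticGroup.mem_iff).mp g.2) ((SymplecticGroup.mem_iff').mp g.2))⟩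
  map_one' := Subtype.ext tauM_one
  map_mul' g h := Subtype.ext
    (tauM_mul h2 ((SymplecticGroup.mem_iff).mp g.2) ((SymplecticGroup.mem_iff').mp h.2))

theorem tauSp_val (h2 : (2 : F) = 0) (g : ↥(Matrix.symplecticGroup (Fin 2) F)) :
    (tauSp h2 g).1 = tauM g.1 := rfl

theorem spT_e1_apply (c : F) (a b : I4) :
    (spT 2 (bV e1 : I4 → F) c).1 a b = (if a = b then 1 else 0) + (if a = e1 ∧ b = f1 then c else 0) := by
  show (Cfsg.sympTransvection 2 (bV e1 : I4 → F) c) a b = _
  unfold Cfsg.sympTransvection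
  rcases a with a | a <;> rcases b with b | b <;> fin_cases a <;> fin_cases b <;>
    simp [bV, Matrix.vecMulVec, Matrix.mulVec, dotProduct, J_apply]

theorem sympForm_bV_e12 : Cfsg.sympForm 2 F (bV e1 : I4 → F) (bV e2) = 0 := by
  rw [sympForm_bV_bV]
  simp

theorem sR_e12_apply (c : F) (a b : I4) :
    (sR (bV e1 : I4 → F) (bV e2) c).1 a b = (if a = b then 1 else 0) +
      ((if a = e2 ∧ b = f1 then c else 0) + (if a = e1 ∧ b = f2 then c else 0)) := by
  have h := mulVec_bV (sR (bV e1 : I4 → F) (bV e2) c).1 b a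
  rw [← h, sR_mulVec sympForm_bV_e12]
  simp only [sympForm_bV_bV, Pi.add_apply, Pi.smul_apply, smul_eq_mul, bV_apply]
  rcases a with a | a <;> rcases b with b | b <;> fin_cases a <;> fin_cases b <;>
    simp [eps]

theorem tau_spT_e1 (h2 : (2 : F) = 0) (c : F) :
    tauSp h2 (spT 2 (bV e1 : I4 → F) c) = sR (bV e1 : I4 → F) (bV e2) c := by
  apply Subtype.ext
  rw [tauSp_val]
  ext a b
  rw [sR_e12_apply]
  simp only [tauM, mn, spT_e1_apply]
  have hn : ∀ x : F, -x = x := neg_eq_self_char2 h2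
  rcases a with a | a <;> rcases b with b | b <;> fin_cases a <;> fin_cases b <;>
    simp [p1, p2, hn]

theorem tau_sR_e12 (h2 : (2 : F) = 0) (c : F) :
    tauSp h2 (sR (bV e1 : I4 → F) (bV e2) c) = spT 2 (bV e1 : I4 → F) (c ^ 2) := by
  apply Subtype.ext
  rw [tauSp_val]
  ext a b
  rw [spT_e1_apply]
  simp only [tauM, mn, sR_e12_apply]
  have hn : ∀ x : F, -x = x := neg_eq_self_char2 h2
  rcases a with a | a <;> rcases b with b | b <;> fin_cases a <;> fin_cases b <;>
    simp [p1, p2, sq, hn]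

theorem row_zero {g : Matrix I4 I4 F} {a b c d x : I4} (h1 : mn g a b c d = 1)
    (hxc : mn g a b x c = 0) (hxd : mn g a b x d = 0) : g a x = 0 ∧ g b x = 0 := by
  simp only [mn] at h1 hxc hxd
  constructor
  · linear_combination (g a c) * hxd - (g a d) * hxc - (g a x) * h1
  · linear_combination (g b c) * hxd - (g b d) * hxc - (g b x) * h1

theorem mn_swap_cols (g : Matrix I4 I4 F) (a b c d : I4) : mn g a b c d = - mn g a b d c := by
  simp only [mn]; ring

theorem rows_minors {g : Matrix I4 I4 F} (hg : g * J (Fin 2) F * gᵀ = J (Fin 2) F) (a b : I4)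
    (hJ : (J (Fin 2) F) a b = 0) (hz : mn g a b e1 e2 * mn g a b f1 f2 = 0)
    (hz' : mn g a b e1 f2 * mn g a b e2 f1 = 0) :
    mn g a b e1 f1 = 0 ∧ mn g a b e2 f2 = 0 := by
  have r := rowrel hg a b
  rw [hJ, neg_zero] at r
  have pl : mn g a b e1 e2 * mn g a b f1 f2 - mn g a b e1 f1 * mn g a b e2 f2
      + mn g a b e1 f2 * mn g a b e2 f1 = 0 := by
    simp only [mn]; ring
  have hsq : (mn g a b e1 f1) ^ 2 = 0 := by
    linear_combination pl - hz - hz' + (mn g a b e1 f1) * r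
  have h0 : mn g a b e1 f1 = 0 := pow_eq_zero_iff (two_ne_zero) |>.mp hsq
  refine ⟨h0, ?_⟩
  rw [h0, zero_add] at r
  exact r


theorem tauM_eq_one (h2 : (2 : F) = 0) {g : Matrix I4 I4 F}
    (hg : g * J (Fin 2) F * gᵀ = J (Fin 2) F) (ht : tauM g = 1) : g = 1 := by
  have M : ∀ k l : I4, mn g (p1 k) (p2 k) (p1 l) (p2 l) = if k = l then 1 else 0 := by
    intro k l
    have := congrFun (congrFun ht k) l
    rw [Matrix.one_apply] at this
    exact this
  have hn : ∀ x : F, -x = x := fun x => by linear_combination (-x) * h2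
  have a11 := M e1 e1
  have a12 := M e1 e2
  have a13 := M e1 f1
  have a14 := M e1 f2
  have a21 := M e2 e1
  have a22 := M e2 e2
  have a23 := M e2 f1
  have a24 := M e2 f2
  have a31 := M f1 e1
  have a32 := M f1 e2
  have a33 := M f1 f1
  have a34 := M f1 f2
  have a41 := M f2 e1
  have a42 := M f2 e2
  have a43 := M f2 f1
  have a44 := M f2 f2
  simp only [p1, p2] at a11 a12 a13 a14 a21 a22 a23 a24 a31 a32 a33 a34 a41 a42 a43 a44
  simp at a11 a12 a13 a14 a21 a22 a23 a24 a31 a32 a33 a34 a41 a42 a43 a44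
  obtain ⟨t11, t12⟩ := rows_minors hg e1 e2 (by rw [J_apply]; simp) (by rw [a13, mul_zero])
    (by rw [a12, zero_mul])
  obtain ⟨t21, t22⟩ := rows_minors hg e1 f2 (by rw [J_apply]; simp) (by rw [a21, zero_mul])
    (by rw [a24, mul_zero])
  obtain ⟨t31, t32⟩ := rows_minors hg f1 f2 (by rw [J_apply]; simp) (by rw [a31, zero_mul])
    (by rw [a32, zero_mul])
  obtain ⟨t41, t42⟩ := rows_minors hg e2 f1 (by rw [J_apply]; simp) (by rw [a41, zero_mul])
    (by rw [a42, zero_mul])
  obtain ⟨z13, z23⟩ := row_zero (x := f1) a11 (by rw [mn_swap_cols, t11, neg_zero])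
    (by rw [mn_swap_cols, a14, neg_zero])
  obtain ⟨z14, z24⟩ := row_zero (x := f2) a11 (by rw [mn_swap_cols, a12, neg_zero])
    (by rw [mn_swap_cols, t12, neg_zero])
  obtain ⟨z12, z42⟩ := row_zero (x := e2) a22 (by rw [mn_swap_cols, a21, neg_zero])
    (by rw [t22])
  obtain ⟨-, z43⟩ := row_zero (x := f1) a22 (by rw [mn_swap_cols, t21, neg_zero])
    (by rw [a23])
  obtain ⟨z31, z41⟩ := row_zero (x := e1) a33 (by rw [t31]) (by rw [a32])
  obtain ⟨z32, -⟩ := row_zero (x := e2) a33 (by rw [a34]) (by rw [t32])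
  obtain ⟨z21, -⟩ := row_zero (x := e1) a44 (by rw [a41]) (by rw [t41])
  obtain ⟨-, z34⟩ := row_zero (x := f2) a44 (by rw [mn_swap_cols, t42, neg_zero])
    (by rw [mn_swap_cols, a43, neg_zero])
  have r := rowrel hg e1 f1
  rw [J_apply] at r
  simp only [mn] at a11 a22 a33 a44 r
  simp [z12, z13, z14, z21, z23, z31, z32, z34, z41, z43] at a11 a22 a33 a44 r
  have e13 : g e1 e1 = g f1 f1 := by
    linear_combination (g f1 f1) * a11 - (g e1 e1) * a44
  have d1 : g e1 e1 = 1 := by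
    have hsq : (g e1 e1 - 1) ^ 2 = 0 := by
      rw [← e13] at r
      linear_combination r + (1 - g e1 e1) * h2
    have := pow_eq_zero_iff (two_ne_zero) |>.mp hsq
    linear_combination this
  have d3 : g f1 f1 = 1 := by rw [← e13, d1]
  have d2 : g e2 e2 = 1 := by rw [d1, one_mul] at a11; exact a11
  have d4 : g f2 f2 = 1 := by rw [d1, one_mul] at a22; exact a22
  ext a b
  rw [Matrix.one_apply]
  rcases a with a | a <;> rcases b with b | b <;> fin_cases a <;> fin_cases b <;>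
    simp <;> assumption

theorem tauSp_injective (h2 : (2 : F) = 0) : Function.Injective (tauSp h2) := by
  rw [injective_iff_map_eq_one]
  intro g hg
  apply Subtype.ext
  have h := congrArg Subtype.val hg
  rw [tauSp_val] at h
  exact tauM_eq_one h2 ((SymplecticGroup.mem_iff).mp g.2) h

theorem tauSp_bijective [Finite F] (h2 : (2 : F) = 0) : Function.Bijective (tauSp h2) :=
  ⟨tauSp_injective h2, Finite.injective_iff_surjective.mp (tauSp_injective h2)⟩

noncomputable def tauEquiv [Finite F] (h2 : (2 : F) = 0) :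
    ↥(Matrix.symplecticGroup (Fin 2) F) ≃* ↥(Matrix.symplecticGroup (Fin 2) F) :=
  MulEquiv.ofBijective (tauSp h2) (tauSp_bijective h2)

theorem tauEquiv_apply [Finite F] (h2 : (2 : F) = 0) (g : ↥(Matrix.symplecticGroup (Fin 2) F)) :
    tauEquiv h2 g = tauSp h2 g := rfl

noncomputable def tauBar [Finite F] (h2 : (2 : F) = 0) : MulAut (Cfsg.PSp 2 F) :=
  liftP (tauEquiv h2)

theorem tauBar_mk [Finite F] (h2 : (2 : F) = 0) (g : ↥(Matrix.symplecticGroup (Fin 2) F)) :
    tauBar h2 (mkP 2 F g) = mkP 2 F (tauSp h2 g) := liftP_mk _ g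

end Cfsg.Agent.Lib.helper15.Sp4G
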