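import Cfsg.Agent.Lib.helper15.Sp4G2

set_option autoImplicit false

namespace Cfsg.Agent.Lib.helper15.Sp4G

open Matrix Cfsg.Agent.Lib.Helper26 Cfsg.Agent.Lib.Helper16.SPA
open Cfsg.Agent.Lib.Helper16.AP (Zs mem_Zs_iff map_Zs)
open scoped Pointwise

universe u
variable {F : Type u} [Field F]

theorem mixed_apply (k l : I4) (hkl : Cfsg.sympForm 2 F (bV k : I4 → F) (bV l) = 0) (a b : F)
    (i j : I4) :
    (spT 2 (bV k : I4 → F) a * sR (bV k : I4 → F) (bV l) b).1 i j =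
      (if i = j then 1 else 0) +
        (b * Cfsg.sympForm 2 F (bV j : I4 → F) (bV k)) * (if i = l then 1 else 0) +
        (b * Cfsg.sympForm 2 F (bV j : I4 → F) (bV l) + a * Cfsg.sympForm 2 F (bV j : I4 → F) (bV k)) *
          (if i = k then 1 else 0) := by
  have h := mulVec_bV (spT 2 (bV k : I4 → F) a * sR (bV k : I4 → F) (bV l) b).1 j i
  rw [← h, zform hkl]
  simp only [Pi.add_apply, Pi.smul_apply, smul_eq_mul, bV_apply]

def piC : I4 ≃ I4 where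
  toFun
    | Sum.inl 0 => Sum.inr 1
    | Sum.inl 1 => Sum.inl 0
    | Sum.inr 0 => Sum.inl 1
    | Sum.inr 1 => Sum.inr 0
  invFun
    | Sum.inl 0 => Sum.inl 1
    | Sum.inl 1 => Sum.inr 0
    | Sum.inr 0 => Sum.inr 1
    | Sum.inr 1 => Sum.inl 0
  left_inv x := by rcases x with x | x <;> fin_cases x <;> rfl
  right_inv x := by rcases x with x | x <;> fin_cases x <;> rfl

theorem piC_swap (k : I4) : piC (Sum.swap k) = Sum.swap (piC k) := by
  rcases k with k | k <;> fin_cases k <;> rfl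

theorem piC_e1 : piC e1 = f2 := rfl
theorem piC_e2 : piC e2 = e1 := rfl

def mixN (a b : F) : Matrix I4 I4 F :=
  Matrix.single e1 e2 (b + a * b) + Matrix.single f2 e2 a + Matrix.single e1 f1 (a + b ^ 2) +
    Matrix.single e2 f1 b + Matrix.single f2 f1 b + Matrix.single e1 f2 b

theorem sympForm_bV_f2e1 : Cfsg.sympForm 2 F (bV f2 : I4 → F) (bV e1) = 0 := by
  rw [sympForm_bV_bV]
  simp

theorem mixed_prod (h2 : (2 : F) = 0) (a b : F) :
    (spT 2 (bV e1 : I4 → F) a * sR (bV e1 : I4 → F) (bV e2) b).1 *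
      (spT 2 (bV f2 : I4 → F) a * sR (bV f2 : I4 → F) (bV e1) b).1 = 1 + mixN a b := by
  have hn : ∀ x : F, -x = x := neg_eq_self_char2 h2
  ext i j
  rw [Matrix.mul_apply, sum_I4]
  simp only [mixed_apply _ _ sympForm_bV_e12, mixed_apply _ _ sympForm_bV_f2e1, sympForm_bV_bV, mixN,
    Matrix.add_apply, Matrix.one_apply, Matrix.single_apply]
  rcases i with i | i <;> rcases j with j | j <;> fin_cases i <;> fin_cases j <;>
    simp [eps, hn] <;> ring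

def mixN2 (a b : F) : Matrix I4 I4 F :=
  Matrix.single e1 e2 (a * b) + Matrix.single e1 f1 (a * b ^ 2) + Matrix.single f2 f1 (a * b)

theorem mixN_sq (h2 : (2 : F) = 0) (a b : F) : mixN a b * mixN a b = mixN2 a b := by
  ext i j
  rw [Matrix.mul_apply, sum_I4]
  simp only [mixN, mixN2, Matrix.add_apply, Matrix.single_apply]
  rcases i with i | i <;> rcases j with j | j <;> fin_cases i <;> fin_cases j <;>
    simp <;> first | ring1 | linear_combination (b ^ 2) * h2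

theorem mixN2_sq (a b : F) : mixN2 a b * mixN2 a b = 0 := by
  ext i j
  rw [Matrix.mul_apply, sum_I4]
  simp only [mixN2, Matrix.add_apply, Matrix.single_apply]
  rcases i with i | i <;> rcases j with j | j <;> fin_cases i <;> fin_cases j <;>
    simp

theorem add_self_char2 (h2 : (2 : F) = 0) (M : Matrix I4 I4 F) : M + M = 0 := by
  rw [← two_smul F M, h2, zero_smul]

theorem one_add_sq_char2 (h2 : (2 : F) = 0) (M : Matrix I4 I4 F) :
    (1 + M) * (1 + M) = 1 + M * M := by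
  rw [mul_add, add_mul, add_mul, one_mul, one_mul, mul_one, add_assoc, ← add_assoc M M,
    add_self_char2 h2, zero_add]

theorem mixed_sq2 (h2 : (2 : F) = 0) (a b : F) :
    (1 + mixN a b) * (1 + mixN a b) = 1 + mixN2 a b := by
  rw [one_add_sq_char2 h2, mixN_sq h2]

theorem mixed_pow4 (h2 : (2 : F) = 0) (a b : F) :
    ((1 + mixN a b) * (1 + mixN a b)) * ((1 + mixN a b) * (1 + mixN a b)) = 1 := by
  rw [mixed_sq2 h2, one_add_sq_char2 h2, mixN2_sq, add_zero]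

theorem mixed_fails2 (h2 : (2 : F) = 0) (a b : F) (ha : a ≠ 0) (hb : b ≠ 0) :
    ¬ NoOrd4 (spT 2 (bV e1 : I4 → F) a * sR (bV e1 : I4 → F) (bV e2) b) := by
  intro h
  let g : ↥(Matrix.symplecticGroup (Fin 2) F) := ⟨permMat piC, permMat_mem h2 _ piC_swap⟩
  have hg1 : g.1 *ᵥ (bV e1 : I4 → F) = bV f2 := by
    show (permMat piC : Matrix I4 I4 F) *ᵥ _ = _
    rw [permMat_bV, piC_e1]
  have hg2 : g.1 *ᵥ (bV e2 : I4 → F) = bV e1 := by
    show (permMat piC : Matrix I4 I4 F) *ᵥ _ = _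
    rw [permMat_bV, piC_e2]
  have hconj : g * (spT 2 (bV e1 : I4 → F) a * sR (bV e1 : I4 → F) (bV e2) b) * g⁻¹ =
      spT 2 (bV f2 : I4 → F) a * sR (bV f2 : I4 → F) (bV e1) b := by
    have e : g * (spT 2 (bV e1 : I4 → F) a * sR (bV e1 : I4 → F) (bV e2) b) * g⁻¹ =
        (g * spT 2 (bV e1 : I4 → F) a * g⁻¹) * (g * sR (bV e1 : I4 → F) (bV e2) b * g⁻¹) := by group
    rw [e, spT_conj, sR_conj, hg1, hg2]
  have h4 := h g
  rw [hconj] at h4
  have e4 : ∀ M : ↥(Matrix.symplecticGroup (Fin 2) F), M ^ 4 = (M * M) * (M * M) := by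
    intro M; rw [pow_succ, pow_succ, pow_succ, pow_one]; group
  have hP := mixed_prod h2 a b
  have h5 := h4 (by
    rw [e4]
    apply Subtype.ext
    show ((spT 2 (bV e1 : I4 → F) a * sR (bV e1 : I4 → F) (bV e2) b).1 *
      (spT 2 (bV f2 : I4 → F) a * sR (bV f2 : I4 → F) (bV e1) b).1) *
      ((spT 2 (bV e1 : I4 → F) a * sR (bV e1 : I4 → F) (bV e2) b).1 *
      (spT 2 (bV f2 : I4 → F) a * sR (bV f2 : I4 → F) (bV e1) b).1) *
      (((spT 2 (bV e1 : I4 → F) a * sR (bV e1 : I4 → F) (bV e2) b).1 *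
      (spT 2 (bV f2 : I4 → F) a * sR (bV f2 : I4 → F) (bV e1) b).1) *
      ((spT 2 (bV e1 : I4 → F) a * sR (bV e1 : I4 → F) (bV e2) b).1 *
      (spT 2 (bV f2 : I4 → F) a * sR (bV f2 : I4 → F) (bV e1) b).1)) = 1
    rw [hP]
    exact mixed_pow4 h2 a b)
  rw [pow_two] at h5
  have h6 := congrArg Subtype.val h5
  have h7 : ((spT 2 (bV e1 : I4 → F) a * sR (bV e1 : I4 → F) (bV e2) b).1 *
      (spT 2 (bV f2 : I4 → F) a * sR (bV f2 : I4 → F) (bV e1) b).1) *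
      ((spT 2 (bV e1 : I4 → F) a * sR (bV e1 : I4 → F) (bV e2) b).1 *
      (spT 2 (bV f2 : I4 → F) a * sR (bV f2 : I4 → F) (bV e1) b).1) = 1 := h6
  rw [hP, mixed_sq2 h2] at h7
  have h8 := congrFun (congrFun h7 e1) e2
  simp [mixN2] at h8
  rcases h8 with h8 | h8
  · exact ha h8
  · exact hb h8

theorem spT_apply (q : I4 → F) (d : F) (i j : I4) :
    (spT 2 q d).1 i j = (if i = j then 1 else 0) + d * (q i * (J (Fin 2) F *ᵥ q) j) := by
  show (Cfsg.sympTransvection 2 q d) i j = _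
  unfold Cfsg.sympTransvection
  simp [Matrix.one_apply, Matrix.vecMulVec]

theorem sR_ne_spT (b : F) (hb : b ≠ 0) (q : I4 → F) (d : F) :
    sR (bV e1 : I4 → F) (bV e2) b ≠ spT 2 q d := by
  intro h
  have h0 := congrArg Subtype.val h
  have h11 := congrFun (congrFun h0 e1) f1
  have h22 := congrFun (congrFun h0 e2) f2
  have h12 := congrFun (congrFun h0 e1) f2
  have h21 := congrFun (congrFun h0 e2) f1
  rw [sR_e12_apply, spT_apply] at h11 h22 h12 h21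
  simp at h11 h22 h12 h21
  have h11' : d * (q e1 * (J (Fin 2) F *ᵥ q) f1) = 0 := by
    rcases h11 with h | h | h <;> rw [h] <;> simp
  have h22' : d * (q e2 * (J (Fin 2) F *ᵥ q) f2) = 0 := by
    rcases h22 with h | h | h <;> rw [h] <;> simp
  have : b ^ 2 = 0 := by
    linear_combination b * h21 + (d * (q e2 * (J (Fin 2) F *ᵥ q) f1)) * h12
      + (d * (q e2 * (J (Fin 2) F *ᵥ q) f2)) * h11'
  exact hb (pow_eq_zero_iff (two_ne_zero) |>.mp this)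

theorem short_not_long (b : F) (hb : b ≠ 0) (x : ↥(Matrix.symplecticGroup (Fin 2) F))
    (q : I4 → F) (d : F) :
    x * sR (bV e1 : I4 → F) (bV e2) b * x⁻¹ ≠ spT 2 q d := by
  intro h
  have h1 : sR (bV e1 : I4 → F) (bV e2) b = x⁻¹ * spT 2 q d * (x⁻¹)⁻¹ := by
    rw [← h]; group
  rw [spT_conj] at h1
  exact sR_ne_spT b hb _ _ h1

variable [Fintype F]

theorem aut_e0_form (p : ℕ) [Fact p.Prime] [CharP F p] (α : MulAut (Cfsg.PSp 2 F)) :
    ∃ x : ↥(Matrix.symplecticGroup (Fin 2) F), ∀ tb ∈ Xb (bV e1 : I4 → F), ∃ a b : F,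
      α tb = mkP 2 F (x * (spT 2 (bV e1 : I4 → F) a * sR (bV e1 : I4 → F) (bV e2) b) * x⁻¹) := by
  obtain ⟨P₁, hU⟩ := (Usp_isPGroup (m := 2) (F := F) p).exists_le_sylow
  set Pb : Sylow p (Cfsg.PSp 2 F) := P₁.mapSurjective mkP_surjective with hPb_def
  obtain ⟨xb, hx⟩ := MulAction.exists_smul_eq (Cfsg.PSp 2 F) Pb (α • Pb)
  have h1 := congrArg (fun P : Sylow p (Cfsg.PSp 2 F) => P.toSubgroup) hx
  simp only [Sylow.coe_subgroup_smul, Sylow.pointwise_smul_def] at h1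
  obtain ⟨x, rfl⟩ := mkP_surjective xb
  have hPb : (Pb : Subgroup (Cfsg.PSp 2 F)) = P₁.toSubgroup.map (mkP 2 F) := rfl
  have h2 : (Pb : Subgroup (Cfsg.PSp 2 F)).map (MulAut.conj (mkP 2 F x)).toMonoidHom =
      (Pb : Subgroup (Cfsg.PSp 2 F)).map α.toMonoidHom := h1
  refine ⟨x, fun tb htb => ?_⟩
  have htZ : tb ∈ Zs (Pb : Subgroup (Cfsg.PSp 2 F)) := by
    rw [hPb]
    apply map_Zs_le
    exact Subgroup.map_mono (spRoot_le_Zs p (by omega) P₁ hU) htb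
  have h3 : α tb ∈ (Zs (Pb : Subgroup (Cfsg.PSp 2 F))).map α.toMonoidHom :=
    Subgroup.mem_map_of_mem _ htZ
  rw [map_Zs, ← h2, ← map_Zs] at h3
  obtain ⟨yb, hyb, hyeq⟩ := h3
  rw [hPb] at hyb
  obtain ⟨y, hy, rfl⟩ := Zs_map_mkP_le p (by omega) P₁.toSubgroup P₁.2 hyb
  obtain ⟨a, b, hb2, rfl⟩ := Zs_sylow_form p (le_refl 2) P₁ hU y hy
  refine ⟨a, b, ?_⟩
  rw [map_mul, map_mul, map_inv]
  exact hyeq.symm

omit [Fintype F] in
theorem noOrd4_of_aut (h2 : (2 : F) = 0) (α : MulAut (Cfsg.PSp 2 F))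
    (x z : ↥(Matrix.symplecticGroup (Fin 2) F)) (tb : Cfsg.PSp 2 F)
    (htb : tb ∈ Xb (bV e1 : I4 → F)) (h : α tb = mkP 2 F (x * z * x⁻¹)) : NoOrd4 z := by
  obtain ⟨c, rfl⟩ := (mem_Xb_iff _ _).mp htb
  have n1 : NoOrd4 (spT 2 (bV e1 : I4 → F) c) := transvection_noOrd4 h2 _ _
  have n2 : NoOrd4 (mkP 2 F (spT 2 (bV e1 : I4 → F) c)) :=
    (NoOrd4_iff_of_bijective (mkP 2 F) (mkP_injective_char2 h2 (by omega)) mkP_surjective _).mp n1
  have n3 := NoOrd4_map α _ n2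
  rw [h] at n3
  have n4 := (NoOrd4_iff_of_bijective (mkP 2 F) (mkP_injective_char2 h2 (by omega))
    mkP_surjective _).mpr n3
  have n5 := NoOrd4_map (MulAut.conj x⁻¹) _ n4
  have : (MulAut.conj x⁻¹) (x * z * x⁻¹) = z := by
    rw [MulAut.conj_apply]; group
  rw [this] at n5
  exact n5

theorem aut_e0_dich (h2 : (2 : F) = 0) (p : ℕ) [Fact p.Prime] [CharP F p]
    (α : MulAut (Cfsg.PSp 2 F)) :
    ∃ x : ↥(Matrix.symplecticGroup (Fin 2) F),
      (∀ tb ∈ Xb (bV e1 : I4 → F), ∃ a : F,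
        α tb = mkP 2 F (x * spT 2 (bV e1 : I4 → F) a * x⁻¹)) ∨
      (∀ tb ∈ Xb (bV e1 : I4 → F), ∃ b : F,
        α tb = mkP 2 F (x * sR (bV e1 : I4 → F) (bV e2) b * x⁻¹)) := by
  obtain ⟨x, hx⟩ := aut_e0_form p α
  refine ⟨x, ?_⟩
  have K : ∀ tb ∈ Xb (bV e1 : I4 → F), ∀ a b : F,
      α tb = mkP 2 F (x * (spT 2 (bV e1 : I4 → F) a * sR (bV e1 : I4 → F) (bV e2) b) * x⁻¹) →
      a = 0 ∨ b = 0 := by
    intro tb htb a b hab
    by_contra hcon
    have ha : a ≠ 0 := fun h => hcon (Or.inl h)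
    have hb : b ≠ 0 := fun h => hcon (Or.inr h)
    exact mixed_fails2 h2 a b ha hb (noOrd4_of_aut h2 α x _ tb htb hab)
  by_cases H : ∀ tb ∈ Xb (bV e1 : I4 → F), ∃ a : F,
      α tb = mkP 2 F (x * spT 2 (bV e1 : I4 → F) a * x⁻¹)
  · left; exact H
  · right
    obtain ⟨t1, ht1, hno⟩ : ∃ t1 ∈ Xb (bV e1 : I4 → F), ¬ ∃ a : F,
        α t1 = mkP 2 F (x * spT 2 (bV e1 : I4 → F) a * x⁻¹) := by
      by_contra hc
      apply H
      intro tb htb
      by_contra hh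
      exact hc ⟨tb, htb, hh⟩
    obtain ⟨a1, b1, h1⟩ := hx t1 ht1
    have hb1 : b1 ≠ 0 := by
      intro hb
      apply hno
      exact ⟨a1, by rw [h1, hb, sR_zero, mul_one]⟩
    have ha1 : a1 = 0 := (K t1 ht1 a1 b1 h1).resolve_right hb1
    intro tb htb
    obtain ⟨a, b, hab⟩ := hx tb htb
    by_cases ha : a = 0
    · exact ⟨b, by rw [hab, ha, spT_zero, one_mul]⟩
    · exfalso
      have hb : b = 0 := (K tb htb a b hab).resolve_left ha
      have hprod : α (tb * t1) = mkP 2 F (x * (spT 2 (bV e1 : I4 → F) a *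
          sR (bV e1 : I4 → F) (bV e2) b1) * x⁻¹) := by
        rw [map_mul, hab, h1, hb, ha1, sR_zero, spT_zero, mul_one, one_mul, ← map_mul]
        congr 1
        group
      rcases K (tb * t1) (mul_mem htb ht1) a b1 hprod with h | h
      · exact ha h
      · exact hb1 h

theorem map_Xb_eq_of_le {p q : I4 → F} (hp : p ≠ 0) (hq : q ≠ 0) (α : MulAut (Cfsg.PSp 2 F))
    (hle : (Xb p).map α.toMonoidHom ≤ Xb q) : (Xb p).map α.toMonoidHom = Xb q := by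
  apply Subgroup.eq_of_le_of_card_ge hle
  rw [card_Xb (by omega) hq, Subgroup.card_map_of_injective α.injective, card_Xb (by omega) hp]

theorem aut_e0_or (h2 : (2 : F) = 0) (p : ℕ) [Fact p.Prime] [CharP F p]
    (α : MulAut (Cfsg.PSp 2 F)) :
    (∃ q : I4 → F, q ≠ 0 ∧ (Xb (bV e1 : I4 → F)).map α.toMonoidHom = Xb q) ∨
    (∃ q : I4 → F, q ≠ 0 ∧ (Xb (bV e1 : I4 → F)).map (tauBar h2 * α).toMonoidHom = Xb q) := by
  obtain ⟨x, H | H⟩ := aut_e0_dich h2 p α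
  · left
    refine ⟨x.1 *ᵥ bV e1, sp_mulVec_ne_zero' x (bV_ne_zero _), ?_⟩
    apply map_Xb_eq_of_le (bV_ne_zero _) (sp_mulVec_ne_zero' x (bV_ne_zero _))
    rintro _ ⟨tb, htb, rfl⟩
    obtain ⟨a, ha⟩ := H tb htb
    rw [mem_Xb_iff]
    refine ⟨a, ?_⟩
    show α tb = _
    rw [ha, spT_conj]
  · right
    refine ⟨(tauSp h2 x).1 *ᵥ bV e1, sp_mulVec_ne_zero' _ (bV_ne_zero _), ?_⟩
    apply map_Xb_eq_of_le (bV_ne_zero _) (sp_mulVec_ne_zero' _ (bV_ne_zero _))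
    rintro _ ⟨tb, htb, rfl⟩
    obtain ⟨b, hb⟩ := H tb htb
    rw [mem_Xb_iff]
    refine ⟨b ^ 2, ?_⟩
    show tauBar h2 (α tb) = _
    have e : tauSp h2 (x * sR (bV e1 : I4 → F) (bV e2) b * x⁻¹) =
        tauSp h2 x * spT 2 (bV e1 : I4 → F) (b ^ 2) * (tauSp h2 x)⁻¹ := by
      rw [map_mul, map_mul, map_inv, tau_sR_e12]
    rw [hb, tauBar_mk, e, spT_conj]

theorem Xb_transfer {v w : I4 → F} (hv : v ≠ 0) (hw : w ≠ 0) (α : MulAut (Cfsg.PSp 2 F))
    (h : ∃ q : I4 → F, q ≠ 0 ∧ (Xb w).map α.toMonoidHom = Xb q) :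
    ∃ q : I4 → F, q ≠ 0 ∧ (Xb v).map α.toMonoidHom = Xb q := by
  obtain ⟨q, hq, hq'⟩ := h
  obtain ⟨g, hg⟩ := Cfsg.Agent.Lib.Helper16.sp_transitive 1 w v hw hv
  obtain ⟨g', hg'⟩ := mkP_surjective (α (mkP 2 F g))
  refine ⟨g'.1 *ᵥ q, sp_mulVec_ne_zero' g' hq, ?_⟩
  have h1 : Xb v = (Xb w).map (MulAut.conj (mkP 2 F g)).toMonoidHom := by
    rw [Xb_conj]
    congr 1
    exact hg.symm
  have h2 : α.toMonoidHom.comp (MulAut.conj (mkP 2 F g)).toMonoidHom =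
      (MulAut.conj (mkP 2 F g')).toMonoidHom.comp α.toMonoidHom := by
    apply MonoidHom.ext
    intro y
    show α (mkP 2 F g * y * (mkP 2 F g)⁻¹) = mkP 2 F g' * α y * (mkP 2 F g')⁻¹
    rw [map_mul, map_mul, map_inv, hg']
  rw [h1, Subgroup.map_map, h2, ← Subgroup.map_map, hq', Xb_conj]

theorem permX_of_e0 (α : MulAut (Cfsg.PSp 2 F))
    (h : ∃ q : I4 → F, q ≠ 0 ∧ (Xb (bV e1 : I4 → F)).map α.toMonoidHom = Xb q) : PermX α :=
  fun v hv => Xb_transfer hv (bV_ne_zero _) α h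

theorem permX_or (h2 : (2 : F) = 0) (p : ℕ) [Fact p.Prime] [CharP F p]
    (α : MulAut (Cfsg.PSp 2 F)) : PermX α ∨ PermX (tauBar h2 * α) := by
  rcases aut_e0_or h2 p α with h | h
  · exact Or.inl (permX_of_e0 α h)
  · exact Or.inr (permX_of_e0 _ h)

theorem tauBar_not_permX (h2 : (2 : F) = 0) : ¬ PermX (tauBar h2) := by
  intro h
  obtain ⟨q, hq, hq'⟩ := h (bV e1) (bV_ne_zero _)
  have h1 : tauBar h2 (mkP 2 F (spT 2 (bV e1 : I4 → F) 1)) ∈ Xb q := by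
    rw [← hq']
    exact Subgroup.mem_map_of_mem _ ((mem_Xb_iff _ _).mpr ⟨1, rfl⟩)
  rw [tauBar_mk, tau_spT_e1, mem_Xb_iff] at h1
  obtain ⟨d, hd⟩ := h1
  have h3 := mkP_injective_char2 h2 (by omega) hd
  exact sR_ne_spT 1 one_ne_zero q d h3

end Cfsg.Agent.Lib.helper15.Sp4G
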