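import Mathlib
import Cfsg.Agent.Lib.helper15.UNat

set_option autoImplicit false

namespace Cfsg.Agent.Lib.helper15.UHalf

open Cfsg.Agent.Lib.helper15.UNat Cfsg.Agent.S2495 Cfsg.Agent.Lib.helper15.SylowVal

def Nh (q m : ℕ) : ℕ := if Even m then q ^ m + 1 else q ^ m - 1

theorem Qn_mul_Nh (q m : ℕ) (hq : 1 ≤ q) : Qn q m * Nh q m = Qn q (2 * m) := by
  have h1 : 1 ≤ q ^ m := Nat.one_le_pow _ _ hq
  rw [Qn_even q (2 * m) (even_two_mul m)]
  unfold Nh
  have key : (q ^ m - 1) * (q ^ m + 1) = q ^ (2 * m) - 1 := by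
    obtain ⟨x, hx⟩ : ∃ x, q ^ m = x + 1 := ⟨q ^ m - 1, by omega⟩
    rw [two_mul, pow_add, hx, Nat.add_sub_cancel]
    have : (x + 1) * (x + 1) = x * (x + 1 + 1) + 1 := by ring
    rw [this, Nat.add_sub_cancel]
  rcases Nat.even_or_odd m with h | h
  · rw [Qn_even q m h, if_pos h, key]
  · rw [Qn_odd q m h, if_neg (Nat.not_even_iff_odd.2 h), mul_comm, key]

theorem Nh_pos (q m : ℕ) (hq : 2 ≤ q) (hm : 1 ≤ m) : 0 < Nh q m := by
  unfold Nh
  have h1 : 2 ≤ q ^ m := by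
    calc 2 ≤ q := hq
      _ = q ^ 1 := (pow_one q).symm
      _ ≤ q ^ m := Nat.pow_le_pow_right (by omega) hm
  split_ifs <;> omega

theorem gcd_two_mul_dvd_iff (m c : ℕ) (hm : 1 ≤ m) (hc : 1 ≤ c) :
    Nat.gcd (2 * m) c ∣ m ↔ ∀ j, 2 ^ j ∣ c → 2 ^ j ∣ m := by
  constructor
  · intro h j
    induction j with
    | zero => intro _; simp
    | succ j ih =>
      intro hj
      have hj' : 2 ^ j ∣ c := (pow_dvd_pow 2 (Nat.le_succ j)).trans hj
      have h1 : 2 ^ j ∣ m := ih hj'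
      have h2 : 2 ^ (j + 1) ∣ 2 * m := by
        rw [pow_succ, mul_comm]
        exact Nat.mul_dvd_mul_left 2 h1
      exact (Nat.dvd_gcd h2 hj).trans h
  · intro h
    obtain ⟨a, c', hc', hcc⟩ := Nat.exists_eq_pow_mul_and_not_dvd (by omega : c ≠ 0) 2 (by norm_num)
    have h1 : 2 ^ a ∣ m := h a ⟨c', hcc⟩
    obtain ⟨m', hm'⟩ := h1
    have hcop : Nat.Coprime 2 c' := (Nat.Prime.coprime_iff_not_dvd Nat.prime_two).2 hc'
    have e1 : 2 * m = 2 ^ a * (2 * m') := by rw [hm']; ring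
    rw [e1, hcc, Nat.gcd_mul_left, Nat.Coprime.gcd_mul_left_cancel m' hcop, hm']
    exact Nat.mul_dvd_mul_left _ (Nat.gcd_dvd_left _ _)

theorem half_dvd_iff (q m : ℕ) (hq : 2 ≤ q) (hm : 1 ≤ m) :
    Nh q m ∣ Dn q (2 * m) ↔ ∀ j, 2 ^ j ∣ q + 1 → 2 ^ j ∣ m := by
  rw [← gcd_two_mul_dvd_iff m (q + 1) hm (by omega)]
  have hN := Nh_pos q m hq hm
  obtain ⟨A, hA⟩ := succ_dvd_Qn q m (by omega)
  have hgA := gcd_Qn_div q m (by omega)
  rw [hA, Nat.mul_div_cancel_left _ (by omega : 0 < q + 1)] at hgA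
  have hD := Dn_mul q (2 * m) (by omega)
  rw [← Qn_mul_Nh q m (by omega), hA] at hD
  have hD' : Dn q (2 * m) * Nat.gcd (2 * m) (q + 1) = A * Nh q m := by
    have h2 : (q + 1) * (Dn q (2 * m) * Nat.gcd (2 * m) (q + 1)) = (q + 1) * (A * Nh q m) := by
      calc (q + 1) * (Dn q (2 * m) * Nat.gcd (2 * m) (q + 1))
          = Dn q (2 * m) * ((q + 1) * Nat.gcd (2 * m) (q + 1)) := by ring
        _ = (q + 1) * A * Nh q m := hD
        _ = (q + 1) * (A * Nh q m) := by ring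
    exact Nat.eq_of_mul_eq_mul_left (by omega) h2
  have hg0 : 0 < Nat.gcd (2 * m) (q + 1) := Nat.gcd_pos_of_pos_right _ (by omega)
  constructor
  · intro h
    have h1 : Nh q m * Nat.gcd (2 * m) (q + 1) ∣ A * Nh q m := by
      rw [← hD']
      exact Nat.mul_dvd_mul_right h _
    rw [mul_comm A] at h1
    have h2 : Nat.gcd (2 * m) (q + 1) ∣ A := (Nat.mul_dvd_mul_iff_left hN).1 h1
    have h3 : Nat.gcd (2 * m) (q + 1) ∣ Nat.gcd A (q + 1) := Nat.dvd_gcd h2 (Nat.gcd_dvd_right _ _)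
    rw [hgA] at h3
    exact h3.trans (Nat.gcd_dvd_left _ _)
  · intro h
    have h3 : Nat.gcd (2 * m) (q + 1) ∣ Nat.gcd A (q + 1) := by
      rw [hgA]
      exact Nat.dvd_gcd h (Nat.gcd_dvd_right _ _)
    have h2 : Nat.gcd (2 * m) (q + 1) ∣ A := h3.trans (Nat.gcd_dvd_left _ _)
    obtain ⟨B, hB⟩ := h2
    rw [hB] at hD'
    have h4 : Nat.gcd (2 * m) (q + 1) * Dn q (2 * m) = Nat.gcd (2 * m) (q + 1) * (B * Nh q m) := by
      rw [mul_comm, hD']; ring
    have h5 := Nat.eq_of_mul_eq_mul_left hg0 h4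
    exact ⟨B, by rw [h5, mul_comm]⟩

theorem ppd_half (q m : ℕ) (hq : 2 ≤ q) (hqodd : Odd q) (hm : 2 ≤ m) :
    ∃ r : ℕ, r.Prime ∧ r ∣ Nh q m ∧ ¬ r ∣ q ∧
      ∀ d : ℕ, r ∣ q ^ (2 * d) - 1 → m ∣ d ∧ (Odd d → ¬ r ∣ q ^ d + 1) := by
  have hq2 : q ≠ 2 := by
    intro h
    rw [h] at hqodd
    exact (by decide : ¬ Odd 2) hqodd
  have hpm : 1 ≤ q ^ m := Nat.one_le_pow _ _ (by omega)
  have key : (q ^ m - 1) * (q ^ m + 1) = q ^ (2 * m) - 1 := by
    obtain ⟨x, hx⟩ : ∃ x, q ^ m = x + 1 := ⟨q ^ m - 1, by omega⟩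
    rw [two_mul, pow_add, hx, Nat.add_sub_cancel]
    have : (x + 1) * (x + 1) = x * (x + 1 + 1) + 1 := by ring
    rw [this, Nat.add_sub_cancel]
  rcases Nat.even_or_odd m with hme | hmo
  · obtain ⟨r, hr, hrdvd, hrq, hord, hmin⟩ := ppd_num q (2 * m) hq (by omega) (by omega)
    haveI : Fact r.Prime := ⟨hr⟩
    refine ⟨r, hr, ?_, hrq, ?_⟩
    · unfold Nh
      rw [if_pos hme]
      rw [← key] at hrdvd
      rcases (Nat.Prime.dvd_mul hr).1 hrdvd with h | h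
      · exact absurd h (hmin m (by omega) (by omega))
      · exact h
    · intro d hd
      have h1 := (dvd_pow_sub_one_iff q (by omega) (2 * d)).1 hd
      rw [hord] at h1
      have h2 : m ∣ d := (Nat.mul_dvd_mul_iff_left (by omega : 0 < 2)).1 h1
      refine ⟨h2, ?_⟩
      intro hdo
      exfalso
      have : Even d := hme.trans_dvd h2
      exact (Nat.not_even_iff_odd.2 hdo) this
  · have hm3 : 3 ≤ m := by
      obtain ⟨k, hk⟩ := hmo
      omega
    obtain ⟨r, hr, hrdvd, hrq, hord, hmin⟩ := ppd_num q m hq hm3 (by omega)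
    haveI : Fact r.Prime := ⟨hr⟩
    refine ⟨r, hr, ?_, hrq, ?_⟩
    · unfold Nh
      rw [if_neg (Nat.not_even_iff_odd.2 hmo)]
      exact hrdvd
    · intro d hd
      have h1 := (dvd_pow_sub_one_iff q (by omega) (2 * d)).1 hd
      rw [hord] at h1
      have hcop : Nat.Coprime m 2 := (Nat.coprime_comm.1 ((Nat.Prime.coprime_iff_not_dvd Nat.prime_two).2
        (fun h => (Nat.not_even_iff_odd.2 hmo) (even_iff_two_dvd.2 h))))
      have h2 : m ∣ d := hcop.dvd_of_dvd_mul_left h1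
      refine ⟨h2, ?_⟩
      intro _ h3
      have h4 : r ∣ q ^ d - 1 := by
        rw [dvd_pow_sub_one_iff q (by omega) d, hord]
        exact h2
      have hpd : 1 ≤ q ^ d := Nat.one_le_pow _ _ (by omega)
      have h5 : r ∣ 2 := by
        have := Nat.dvd_sub h3 h4
        have e : q ^ d + 1 - (q ^ d - 1) = 2 := by omega
        rwa [e] at this
      have hr2 : r = 2 := (Nat.prime_dvd_prime_iff_eq hr Nat.prime_two).1 h5
      rw [hr2] at hmin
      apply hmin 1 (by omega) (by omega)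
      rw [pow_one]
      obtain ⟨k, hk⟩ := hqodd
      exact ⟨k, by omega⟩

end Cfsg.Agent.Lib.helper15.UHalf
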