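import Mathlib
import Cfsg.Agent.Lib.helper15.UHalf
import Cfsg.Agent.Lib.helper15.UMix

set_option autoImplicit false

namespace Cfsg.Agent.Lib.helper15.UHalf2

open Matrix Polynomial Cfsg.Agent.Lib.Helper16.RN Cfsg.Agent.Lib.helper15.UBase
open Cfsg.Agent.Lib.helper15.UNat Cfsg.Agent.S2495 Cfsg.Agent.Lib.helper15.PslMix
open Cfsg.Agent.Lib.helper15.UDich Cfsg.Agent.Lib.helper15.UHalf

theorem caseA_field {K : Type*} [Field K] [Fintype K] {q : ℕ} (p a : ℕ) [Fact p.Prime] [CharP K p]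
    (hq : q = p ^ a) (hK : Fintype.card K = q ^ 2) (σ : K →+* K) (hσ : ∀ x, σ x = x ^ q)
    (P : K[X]) (hirr : Irreducible P) :
    haveI : Fact (Irreducible P) := ⟨hirr⟩
    AdjoinRoot.root P ≠ 0 → aeval (AdjoinRoot.root P)⁻¹ (P.map σ) = 0 →
    Odd P.natDegree ∧ (AdjoinRoot.root P) ^ (q ^ P.natDegree + 1) = 1 := by
  classical
  have hfact : Fact (Irreducible P) := ⟨hirr⟩
  have hq2 := two_le_q hK
  have hμ0 : P ≠ 0 := hirr.ne_zero
  let E := AdjoinRoot P
  obtain ⟨ρ, hρ⟩ : ∃ ρ : E, ρ = AdjoinRoot.root P := ⟨_, rfl⟩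
  rw [← hρ]
  intro hρ0 hinvroot
  haveI mfinE : Module.Finite K E := (AdjoinRoot.powerBasis hμ0).finite
  haveI finiteE : Finite E := Module.finite_of_finite K
  haveI fintypeE : Fintype E := Fintype.ofFinite E
  obtain ⟨d, hd⟩ : ∃ d, d = Module.finrank K E := ⟨_, rfl⟩
  have hddeg : d = P.natDegree := by
    rw [hd, (AdjoinRoot.powerBasis hμ0).finrank, AdjoinRoot.powerBasis_dim]
  rw [← hddeg]
  have hd1 : 1 ≤ d := by rw [hddeg]; exact hirr.natDegree_pos
  have hcardE : Fintype.card E = q ^ (2 * d) := by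
    rw [Module.card_eq_pow_finrank (K := K) (V := E), ← hd, hK, ← pow_mul]
  haveI charE : CharP E p := charP_of_injective_algebraMap (algebraMap K E).injective p
  let frobE : E →+* E := iterateFrobenius E p a
  have hfrobE : ∀ x : E, frobE x = x ^ q := by
    intro x
    rw [hq]
    exact iterateFrobenius_def p a x
  have hφK : ∀ c : K, frobE (algebraMap K E c) = algebraMap K E (σ c) := by
    intro c
    rw [hfrobE, hσ, map_pow]
  obtain ⟨y, hy⟩ : ∃ y : E, y = ρ⁻¹ ^ (q ^ (2 * d - 1)) := ⟨_, rfl⟩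
  have hpowE : ∀ x : E, x ^ (q ^ (2 * d)) = x := by
    intro x
    rw [← hcardE]
    exact FiniteField.pow_card x
  have hfroby : frobE y = ρ⁻¹ := by
    rw [hfrobE, hy, ← pow_mul, ← pow_succ, Nat.sub_add_cancel (by omega), hpowE]
  have hyroot : aeval y P = 0 := by
    have h1 := Cfsg.Agent.Lib.Helper16.GUSemi.aeval_frob frobE σ hφK y P
    rw [hfroby, hinvroot] at h1
    exact (map_eq_zero_iff frobE frobE.injective).1 h1.symm
  have hI' : ∀ a : K[X], a ∈ Ideal.span {P} → (Polynomial.aeval y) a = 0 := by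
    intro a ha
    rw [Ideal.mem_span_singleton] at ha
    obtain ⟨b, rfl⟩ := ha
    rw [map_mul, hyroot, zero_mul]
  let τ : E →ₐ[K] E := Ideal.Quotient.liftₐ (Ideal.span {P}) (Polynomial.aeval y) hI'
  have hτroot : τ ρ = y := by
    have h1 : τ (AdjoinRoot.root P) = (Polynomial.aeval y) (Polynomial.X : K[X]) := rfl
    rw [hρ, h1, Polynomial.aeval_X]
  obtain ⟨i, hi⟩ := (FiniteField.bijective_frobeniusAlgHom_pow K E).2 τ
  have hi' : FiniteField.frobeniusAlgHom K E ^ i.1 = τ := hi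
  obtain ⟨j, hj⟩ : ∃ j : ℕ, j = i.1 := ⟨_, rfl⟩
  have hjlt : j < d := by rw [hd, hj]; exact i.2
  rw [← hj] at hi'
  have hfrobpow : ∀ (k : ℕ) (x : E), (FiniteField.frobeniusAlgHom K E ^ k) x = x ^ (q ^ (2 * k)) := by
    intro k x
    rw [AlgHom.coe_pow, FiniteField.coe_frobeniusAlgHom, pow_iterate, hK, ← pow_mul]
  have hτpow : ρ ^ (q ^ (2 * j)) = y := by
    rw [← hfrobpow, hi', hτroot]
  obtain ⟨t, ht⟩ : ∃ t, t = 2 * j + 1 := ⟨_, rfl⟩
  have hρt : ρ ^ (q ^ t) = ρ⁻¹ := by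
    rw [ht, pow_succ, pow_mul, hτpow, ← hfrobE, hfroby]
  have hFt : (FiniteField.frobeniusAlgHom K E) ^ t = 1 := by
    apply AdjoinRoot.algHom_ext
    rw [← hρ, hfrobpow, AlgHom.one_apply, two_mul, pow_add, pow_mul, hρt, inv_pow, hρt, inv_inv]
  have hdvd : d ∣ t := by
    rw [hd, ← FiniteField.orderOf_frobeniusAlgHom K E]
    exact orderOf_dvd_of_pow_eq_one hFt
  have htd : t = d := by
    obtain ⟨u, hu⟩ := hdvd
    have hu1 : u = 1 := by
      rcases Nat.lt_or_ge u 1 with h | h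
      · have : u = 0 := by omega
        rw [this, mul_zero] at hu
        omega
      · rcases Nat.lt_or_ge u 2 with h' | h'
        · omega
        · have : d * 2 ≤ d * u := Nat.mul_le_mul_left d h'
          omega
    rw [hu1, mul_one] at hu
    exact hu
  constructor
  · rw [← htd, ht]
    exact ⟨j, rfl⟩
  · rw [← htd, pow_succ, hρt, inv_mul_cancel₀ hρ0]

theorem dvd_of_aeval_mul_idem {K : Type*} [Field K] {n : ℕ}
    (Z e : Matrix (Fin n) (Fin n) K) (he0 : e ≠ 0) (f : K[X]) (hf : Irreducible f)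
    (hfe : aeval Z f * e = 0) (g : K[X]) (hge : aeval Z g * e = 0) : f ∣ g := by
  by_contra h
  obtain ⟨a, b, hab⟩ := (hf.coprime_iff_not_dvd).2 h
  apply he0
  have h1 : aeval Z (a * f + b * g) * e = e := by rw [hab, map_one, Matrix.one_mul]
  rw [map_add, map_mul, map_mul, add_mul, Matrix.mul_assoc, hfe, Matrix.mul_assoc, hge,
    Matrix.mul_zero, Matrix.mul_zero, add_zero] at h1
  exact h1.symm

theorem caseA_idem {K : Type*} [Field K] {n : ℕ} (σ : K →+* K)
    (hσσ : ∀ x, σ (σ x) = x)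
    (Z : Matrix (Fin n) (Fin n) K) (hZ : (uAdj n σ hσσ).adj Z * Z = 1) (k : ℕ) (hk : 1 ≤ k)
    (hZk : Z ^ k = 1)
    (e : Matrix (Fin n) (Fin n) K) (he0 : e ≠ 0) (hadj : (uAdj n σ hσσ).adj e = e)
    (hcomm : Commute Z e)
    (f : K[X]) (hf : Irreducible f) (hfe : aeval Z f * e = 0) :
    haveI : Fact (Irreducible f) := ⟨hf⟩
    AdjoinRoot.root f ^ k = 1 ∧ AdjoinRoot.root f ≠ 0 ∧
      aeval (AdjoinRoot.root f)⁻¹ (f.map σ) = 0 := by
  haveI hfact : Fact (Irreducible f) := ⟨hf⟩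
  have h1 : f ∣ X ^ k - 1 := by
    apply dvd_of_aeval_mul_idem Z e he0 f hf hfe
    rw [map_sub, map_pow, aeval_X, map_one, hZk, sub_self, Matrix.zero_mul]
  have hρk : AdjoinRoot.root f ^ k = 1 := by
    have h2 := (AdjoinRoot.mk_eq_zero (f := f)).2 h1
    rw [map_sub, map_pow, AdjoinRoot.mk_X, map_one, sub_eq_zero] at h2
    exact h2
  have hρ0 : AdjoinRoot.root f ≠ 0 := by
    intro h0
    rw [h0, zero_pow (by omega)] at hρk
    exact zero_ne_one hρk
  refine ⟨hρk, hρ0, ?_⟩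
  have hZ' := mul_adj_of_adj_mul _ Z hZ
  have hZinv : Z ^ (k - 1) = (uAdj n σ hσσ).adj Z := by
    calc Z ^ (k - 1) = Z ^ (k - 1) * (Z * (uAdj n σ hσσ).adj Z) := by rw [hZ', Matrix.mul_one]
      _ = Z ^ (k - 1 + 1) * (uAdj n σ hσσ).adj Z := by rw [pow_succ, Matrix.mul_assoc]
      _ = (uAdj n σ hσσ).adj Z := by rw [Nat.sub_add_cancel hk, hZk, Matrix.one_mul]
  have hρinv : (AdjoinRoot.root f)⁻¹ = AdjoinRoot.root f ^ (k - 1) := by
    apply inv_eq_of_mul_eq_one_left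
    rw [← pow_succ, Nat.sub_add_cancel hk, hρk]
  have h2 : f ∣ (f.map σ).comp (X ^ (k - 1)) := by
    apply dvd_of_aeval_mul_idem Z e he0 f hf hfe
    rw [aeval_comp, map_pow, aeval_X, hZinv]
    have := Cfsg.Agent.Lib.Helper16.FCR.adj_aeval σ (uAdj n σ hσσ).adj (uAdj n σ hσσ).add'
      (uAdj n σ hσσ).mul' (uAdj n σ hσσ).smul' (uAdj n σ hσσ).one' Z f
    rw [← this]
    have h3 : (uAdj n σ hσσ).adj (e * aeval Z f) = 0 := by
      have hc : Commute e (aeval Z f) := (commute_aeval e Z hcomm.symm f)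
      rw [hc.eq, hfe, (uAdj n σ hσσ).adj_zero]
    rw [(uAdj n σ hσσ).mul', hadj] at h3
    exact h3
  have h3 := (AdjoinRoot.mk_eq_zero (f := f)).2 h2
  rw [← AdjoinRoot.aeval_eq, aeval_comp, map_pow, aeval_X, ← hρinv] at h3
  exact h3

theorem rank_add_orth {F : Type*} [Field F] {ι : Type*} [Fintype ι] [DecidableEq ι]
    (e₁ e₂ : Matrix ι ι F) (h1 : e₁ * e₁ = e₁) (h2 : e₂ * e₂ = e₂) (h12 : e₁ * e₂ = 0)
    (h21 : e₂ * e₁ = 0) : (e₁ + e₂).rank = e₁.rank + e₂.rank := by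
  have hsup : LinearMap.range (Matrix.toLin' (e₁ + e₂)) =
      LinearMap.range (Matrix.toLin' e₁) ⊔ LinearMap.range (Matrix.toLin' e₂) := by
    apply le_antisymm
    · rintro x ⟨v, rfl⟩
      rw [map_add, LinearMap.add_apply]
      exact Submodule.add_mem_sup ⟨v, rfl⟩ ⟨v, rfl⟩
    · apply sup_le
      · rintro x ⟨v, rfl⟩
        refine ⟨Matrix.toLin' e₁ v, ?_⟩
        rw [← LinearMap.comp_apply, ← Matrix.toLin'_mul, add_mul, h1, h21, add_zero]
      · rintro x ⟨v, rfl⟩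
        refine ⟨Matrix.toLin' e₂ v, ?_⟩
        rw [← LinearMap.comp_apply, ← Matrix.toLin'_mul, add_mul, h2, h12, zero_add]
  have hinf : LinearMap.range (Matrix.toLin' e₁) ⊓ LinearMap.range (Matrix.toLin' e₂) = ⊥ := by
    rw [eq_bot_iff]
    rintro x ⟨⟨v, hv⟩, ⟨w, hw⟩⟩
    rw [Submodule.mem_bot]
    have e1 : Matrix.toLin' e₁ x = x := by
      rw [← hv, ← LinearMap.comp_apply, ← Matrix.toLin'_mul, h1]
    have e2 : Matrix.toLin' e₁ x = 0 := by
      rw [← hw, ← LinearMap.comp_apply, ← Matrix.toLin'_mul, h12, map_zero, LinearMap.zero_apply]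
    rw [← e1, e2]
  have h := Submodule.finrank_sup_add_finrank_inf_eq (LinearMap.range (Matrix.toLin' e₁))
    (LinearMap.range (Matrix.toLin' e₂))
  rw [hinf, finrank_bot, add_zero, ← hsup] at h
  exact h

theorem cmix_mul {A : Type*} [Ring A] (ε X Y : A) (hε : ε * ε = ε) (hX : Commute X ε)
    (hY : Commute Y ε) :
    (X * ε + (1 - ε)) * (Y * ε + (1 - ε)) = X * Y * ε + (1 - ε) := by
  have h1 : X * ε * (Y * ε) = X * Y * ε := by
    rw [mul_assoc, ← mul_assoc ε Y ε, ← hY.eq, mul_assoc Y, hε, mul_assoc]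
  have h2 : X * ε * (1 - ε) = 0 := by rw [mul_assoc, mul_sub, mul_one, hε, sub_self, mul_zero]
  have h3 : (1 - ε) * (Y * ε) = 0 := by
    rw [hY.eq, ← mul_assoc, sub_mul, one_mul, hε, sub_self, zero_mul]
  have h4 : (1 - ε) * (1 - ε) = 1 - ε := by
    rw [sub_mul, one_mul, mul_sub, mul_one, hε, sub_self, sub_zero]
  rw [add_mul, mul_add, mul_add, h1, h2, h3, h4, add_zero, zero_add]

theorem cmix_pow {A : Type*} [Ring A] (ε X : A) (hε : ε * ε = ε) (hX : Commute X ε) (k : ℕ) :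
    (X * ε + (1 - ε)) ^ k = X ^ k * ε + (1 - ε) := by
  induction k with
  | zero => rw [pow_zero, pow_zero, one_mul, add_sub_cancel]
  | succ k ih => rw [pow_succ, ih, cmix_mul ε _ _ hε (hX.pow_left k) hX, ← pow_succ]

theorem exists_idem_factor {F : Type*} [Field F] {A : Type*} [Ring A] [Algebra F A]
    (S : A) (hint : IsIntegral F S) (hsq : Squarefree (minpoly F S))
    (f : F[X]) (hf : Irreducible f) (hfdvd : f ∣ minpoly F S) :
    ∃ g : F[X], aeval S g * aeval S g = aeval S g ∧ aeval S g ≠ 0 ∧ aeval S f * aeval S g = 0 := by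
  have hμ0 : minpoly F S ≠ 0 := minpoly.ne_zero hint
  obtain ⟨h, hμ⟩ := hfdvd
  have hfnu : ¬ IsUnit f := hf.not_isUnit
  have hf0 : f ≠ 0 := hf.ne_zero
  have hh0 : h ≠ 0 := by
    intro h0
    rw [h0, mul_zero] at hμ
    exact hμ0 hμ
  rw [hμ] at hsq
  have hrel : IsRelPrime f h := (squarefree_mul_iff.1 hsq).1
  obtain ⟨a', b, hab⟩ := hrel.isCoprime
  have hker : Polynomial.aeval S (f * h) = 0 := by
    rw [← hμ]
    exact minpoly.aeval F S
  refine ⟨b * h, ?_, ?_, ?_⟩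
  · obtain ⟨e, hedef⟩ : ∃ e, e = Polynomial.aeval S (b * h) := ⟨_, rfl⟩
    rw [← hedef]
    have hsum : Polynomial.aeval S (a' * f) + e = 1 := by
      rw [hedef, ← map_add, hab, map_one]
    have h1 : Polynomial.aeval S (a' * f) * e = 0 := by
      rw [hedef, ← map_mul]
      have : a' * f * (b * h) = a' * b * (f * h) := by ring
      rw [this, map_mul, hker, mul_zero]
    have h3 : Polynomial.aeval S (a' * f) = 1 - e := eq_sub_of_add_eq hsum
    rw [h3, sub_mul, one_mul, sub_eq_zero] at h1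
    exact h1.symm
  · intro h0
    have h1 : Polynomial.aeval S h = 0 := by
      have e1 : h = a' * (f * h) + h * (b * h) := by
        calc h = h * (a' * f + b * h) := by rw [hab, mul_one]
          _ = a' * (f * h) + h * (b * h) := by ring
      rw [e1, map_add, map_mul, hker, mul_zero, map_mul (Polynomial.aeval S) h, h0, mul_zero, add_zero]
    obtain ⟨c, hc⟩ := minpoly.dvd F S h1
    rw [hμ] at hc
    have h2 : h * 1 = h * (f * c) := by
      rw [mul_one, ← mul_assoc, mul_comm h f]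
      exact hc
    have h3 : 1 = f * c := mul_left_cancel₀ hh0 h2
    exact hfnu (IsUnit.of_mul_eq_one c h3.symm)
  · rw [← map_mul]
    have : f * (b * h) = b * (f * h) := by ring
    rw [this, map_mul, hker, mul_zero]

theorem aeval_mul_fixed {F : Type*} [Field F] {A : Type*} [Ring A] [Algebra F A]
    (Z w : A) (hZw : Z * w = w) (f : F[X]) : aeval Z f * w = (f.eval 1) • w := by
  have hpow : ∀ k : ℕ, Z ^ k * w = w := by
    intro k
    induction k with
    | zero => rw [pow_zero, one_mul]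
    | succ k ih => rw [pow_succ, mul_assoc, hZw, ih]
  induction f using Polynomial.induction_on' with
  | add p q hp hq => rw [map_add, add_mul, hp, hq, eval_add, add_smul]
  | monomial k a =>
    rw [aeval_monomial, eval_monomial, one_pow, mul_one, mul_assoc, hpow, ← Algebra.smul_def]

theorem root_order {K : Type*} [Field K] [Fintype K] {q : ℕ} (hK : Fintype.card K = q ^ 2)
    (f : K[X]) (hf : Irreducible f) (r : ℕ) (hr : r.Prime) (hrK : (r : K) ≠ 0)
    (hfΦ : f ∣ ∑ i ∈ Finset.range r, (X : K[X]) ^ i) :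
    haveI : Fact (Irreducible f) := ⟨hf⟩
    f.eval 1 ≠ 0 ∧ orderOf (AdjoinRoot.root f) = r ∧ r ∣ q ^ (2 * f.natDegree) - 1 := by
  classical
  haveI hfact : Fact (Irreducible f) := ⟨hf⟩
  have hf0 : f ≠ 0 := hf.ne_zero
  have hq2 := two_le_q hK
  have hev : f.eval 1 ≠ 0 := by
    obtain ⟨c, hc⟩ := hfΦ
    have h1 := congrArg (Polynomial.eval 1) hc
    rw [Polynomial.eval_geom_sum, eval_mul] at h1
    simp only [one_pow, Finset.sum_const, Finset.card_range, nsmul_eq_mul, mul_one] at h1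
    intro h0
    rw [h0, zero_mul] at h1
    exact hrK h1
  have hdvd : f ∣ X ^ r - 1 := by
    rw [← mul_geom_sum]
    exact dvd_mul_of_dvd_right hfΦ _
  have hρr : AdjoinRoot.root f ^ r = 1 := by
    have h2 := (AdjoinRoot.mk_eq_zero (f := f)).2 hdvd
    rw [map_sub, map_pow, AdjoinRoot.mk_X, map_one, sub_eq_zero] at h2
    exact h2
  have hρ1 : AdjoinRoot.root f ≠ 1 := by
    intro h1
    have h2 : aeval (AdjoinRoot.root f) f = 0 := by
      rw [AdjoinRoot.aeval_eq, AdjoinRoot.mk_self]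
    rw [h1, ← map_one (algebraMap K (AdjoinRoot f)), Polynomial.aeval_algebraMap_apply,
      Polynomial.coe_aeval_eq_eval] at h2
    exact hev ((map_eq_zero_iff _ (algebraMap K (AdjoinRoot f)).injective).1 h2)
  have hord : orderOf (AdjoinRoot.root f) = r := by
    haveI : Fact r.Prime := ⟨hr⟩
    exact orderOf_eq_prime hρr hρ1
  refine ⟨hev, hord, ?_⟩
  let E := AdjoinRoot f
  haveI mfinE : Module.Finite K E := (AdjoinRoot.powerBasis hf0).finite
  haveI finiteE : Finite E := Module.finite_of_finite K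
  haveI fintypeE : Fintype E := Fintype.ofFinite E
  have hcardE : Fintype.card E = q ^ (2 * f.natDegree) := by
    rw [Module.card_eq_pow_finrank (K := K) (V := E), (AdjoinRoot.powerBasis hf0).finrank,
      AdjoinRoot.powerBasis_dim, hK, ← pow_mul]
  have hρ0 : (AdjoinRoot.root f : E) ≠ 0 := by
    intro h0
    rw [h0, zero_pow hr.ne_zero] at hρr
    exact zero_ne_one hρr
  have h3 := FiniteField.pow_card_sub_one_eq_one (AdjoinRoot.root f : E) hρ0
  rw [hcardE] at h3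
  rw [← hord]
  exact orderOf_dvd_of_pow_eq_one h3

theorem eq_zero_of_rank_eq_zero {F : Type*} [Field F] {ι : Type*} [Fintype ι] [DecidableEq ι]
    (e : Matrix ι ι F) (h : e.rank = 0) : e = 0 := by
  rw [Matrix.rank, Submodule.finrank_eq_zero, LinearMap.range_eq_bot] at h
  have h2 : Matrix.toLin' e = 0 := h
  exact (LinearEquiv.map_eq_zero_iff Matrix.toLin').1 h2

theorem fix_of_small {K : Type*} [Field K] [Fintype K] {n q : ℕ} (p a : ℕ) [Fact p.Prime] [CharP K p]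
    (hq : q = p ^ a) (hK : Fintype.card K = q ^ 2) (σ : K →+* K) (hσ : ∀ x, σ x = x ^ q)
    (hσσ : ∀ x, σ (σ x) = x) (m r : ℕ) (hr : r.Prime) (hrK : (r : K) ≠ 0)
    (hH : ∀ d : ℕ, r ∣ q ^ (2 * d) - 1 → m ∣ d ∧ (Odd d → ¬ r ∣ q ^ d + 1))
    (Y : Matrix (Fin n) (Fin n) K) (hY : (uAdj n σ hσσ).adj Y * Y = 1) (hYr : Y ^ r = 1)
    (ε : Matrix (Fin n) (Fin n) K) (hε : ε * ε = ε) (hadj : (uAdj n σ hσσ).adj ε = ε)
    (hcomm : Commute Y ε) (hrank : ε.rank < 2 * m) : Y * ε = ε := by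
  classical
  by_contra hne
  obtain ⟨A, hA⟩ : ∃ A : AdjData (Fin n) K, A = uAdj n σ hσσ := ⟨_, rfl⟩
  rw [← hA] at hY hadj
  obtain ⟨Z, hZdef⟩ : ∃ Z, Z = Y * ε + (1 - ε) := ⟨_, rfl⟩
  have hcadj : Commute (A.adj Y) ε := (commute_adj_of_commute A Y hY ε hcomm.symm).symm
  have h1ε : (1 - ε) * (1 - ε) = 1 - ε := by
    rw [sub_mul, one_mul, mul_sub, mul_one, hε, sub_self, sub_zero]
  have hZadj : A.adj Z = A.adj Y * ε + (1 - ε) := by
    rw [hZdef, A.add', A.mul', A.adj_sub, A.one', hadj, hcadj.eq]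
  have hZ : A.adj Z * Z = 1 := by
    rw [hZadj, hZdef, cmix_mul ε _ _ hε hcadj hcomm, hY, one_mul, add_sub_cancel]
  have hZr : Z ^ r = 1 := by
    rw [hZdef, cmix_pow ε Y hε hcomm, hYr, one_mul, add_sub_cancel]
  have hZ1 : Z ≠ 1 := by
    intro h
    apply hne
    rw [hZdef] at h
    have h2 : Y * ε + (1 - ε) - (1 - ε) = 1 - (1 - ε) := by rw [h]
    rw [add_sub_cancel_right, sub_sub_cancel] at h2
    exact h2
  have hZfix : Z * (1 - ε) = 1 - ε := by
    rw [hZdef, add_mul, Matrix.mul_assoc, mul_sub ε, mul_one, hε, sub_self, mul_zero, zero_add, h1ε]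
  have hZε : Commute Z ε := by
    rw [hZdef]
    apply Commute.add_left
    · exact hcomm.mul_left (Commute.refl ε)
    · exact (Commute.one_left ε).sub_left (Commute.refl ε)
  have hint : IsIntegral K Z := Algebra.IsIntegral.isIntegral Z
  have hsq : Squarefree (minpoly K Z) := by
    have hsep : Squarefree (X ^ r - C (1 : K)) :=
      (Polynomial.separable_X_pow_sub_C (1 : K) hrK one_ne_zero).squarefree
    apply hsep.squarefree_of_dvd
    apply minpoly.dvd
    rw [map_sub, map_pow, aeval_X, aeval_C, hZr, map_one, sub_self]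
  have hμ0 : minpoly K Z ≠ 0 := minpoly.ne_zero hint
  obtain ⟨Φ, hΦdef⟩ : ∃ Φ : K[X], Φ = ∑ i ∈ Finset.range r, (X : K[X]) ^ i := ⟨_, rfl⟩
  have hΦ : (X - 1) * Φ = X ^ r - 1 := by rw [hΦdef]; exact mul_geom_sum X r
  have hμdvd : minpoly K Z ∣ X ^ r - 1 := by
    apply minpoly.dvd
    rw [map_sub, map_pow, aeval_X, map_one, hZr, sub_self]
  have hncop : ¬ IsCoprime (minpoly K Z) Φ := by
    intro hc
    have h1 : minpoly K Z ∣ X - 1 := by
      rw [← hΦ] at hμdvd
      exact hc.dvd_of_dvd_mul_right hμdvd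
    have h2 : aeval Z (X - 1 : K[X]) = 0 := by
      obtain ⟨c, hc⟩ := h1
      rw [hc, map_mul, minpoly.aeval, zero_mul]
    rw [map_sub, aeval_X, map_one, sub_eq_zero] at h2
    exact hZ1 h2
  have hg : ¬ IsUnit (EuclideanDomain.gcd (minpoly K Z) Φ) := by
    rw [EuclideanDomain.gcd_isUnit_iff]
    exact hncop
  have hg0 : EuclideanDomain.gcd (minpoly K Z) Φ ≠ 0 := by
    intro h0
    rw [EuclideanDomain.gcd_eq_zero_iff] at h0
    exact hμ0 h0.1
  obtain ⟨f, hf, hfg⟩ := WfDvdMonoid.exists_irreducible_factor hg hg0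
  have hfμ : f ∣ minpoly K Z := hfg.trans (EuclideanDomain.gcd_dvd_left _ _)
  have hfΦ : f ∣ Φ := hfg.trans (EuclideanDomain.gcd_dvd_right _ _)
  rw [hΦdef] at hfΦ
  haveI hfact : Fact (Irreducible f) := ⟨hf⟩
  obtain ⟨hev, hord, hrd⟩ := root_order hK f hf r hr hrK hfΦ
  obtain ⟨hmd, hodd⟩ := hH _ hrd
  obtain ⟨d, hd⟩ : ∃ d, d = f.natDegree := ⟨_, rfl⟩
  rw [← hd] at hmd hodd hrd
  have hd1 : 1 ≤ d := by rw [hd]; exact hf.natDegree_pos
  obtain ⟨g, hee, he0, hfe⟩ := exists_idem_factor Z hint hsq f hf hfμ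
  obtain ⟨e, hedef⟩ : ∃ e, e = aeval Z g := ⟨_, rfl⟩
  rw [← hedef] at hee he0 hfe
  have hZe : Commute Z e := by rw [hedef]; exact commute_aeval Z Z (Commute.refl Z) g
  have hεe : Commute ε e := by rw [hedef]; exact commute_aeval ε Z hZε.symm g
  have hfZe : Commute e (aeval Z f) := commute_aeval e Z hZe.symm f
  have he1ε : e * (1 - ε) = 0 := by
    have h1 : aeval Z f * (1 - ε) = f.eval 1 • (1 - ε) := aeval_mul_fixed Z (1 - ε) hZfix f
    have h2 : e * (aeval Z f * (1 - ε)) = 0 := by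
      rw [← Matrix.mul_assoc, hfZe.eq, hfe, Matrix.zero_mul]
    rw [h1, Matrix.mul_smul] at h2
    exact (smul_eq_zero.1 h2).resolve_left hev
  have heε : e * ε = e := by
    rw [mul_sub, mul_one, sub_eq_zero] at he1ε
    exact he1ε.symm
  obtain ⟨es, hesdef⟩ : ∃ es, es = A.adj e := ⟨_, rfl⟩
  have hes : es * es = es := by rw [hesdef, ← A.mul', hee]
  have hεes : ε * es = es := by
    have := congrArg A.adj heε
    rw [A.mul', hadj, ← hesdef] at this
    exact this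
  have hesε : es * ε = es := by
    have h1 : ε * e = e := by rw [hεe.eq, heε]
    have := congrArg A.adj h1
    rw [A.mul', hadj, ← hesdef] at this
    exact this
  have hesaeval : es = aeval (A.adj Z) (g.map σ) := by
    rw [hesdef, hedef]
    exact Cfsg.Agent.Lib.Helper16.FCR.adj_aeval σ A.adj A.add' A.mul'
      (fun c x => by rw [A.smul', hA]; rfl) A.one' Z g
  have hese : Commute e es := by
    rw [hesaeval]
    exact commute_aeval e (A.adj Z) (commute_adj_of_commute A Z hZ e hZe.symm) _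
  have hZes : Commute Z es := by
    rw [hesaeval]
    exact commute_aeval Z (A.adj Z) (commute_adj_of_commute A Z hZ Z (Commute.refl Z)) _
  by_cases h1 : e * es = 0
  · have h2 : es * e = 0 := by rw [← hese.eq]; exact h1
    have hrk := rank_add_orth e es hee hes h1 h2
    have hradj : es.rank = e.rank := by
      rw [hesdef, hA]
      exact rank_adj σ hσσ e
    obtain ⟨k, hk, -⟩ := det_idem_block Z e f hf hee hZe hfe
    rw [← hd] at hk
    have hk1 : 1 ≤ k := by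
      rcases Nat.eq_zero_or_pos k with h0 | h0
      · exfalso
        rw [h0, mul_zero] at hk
        exact he0 (eq_zero_of_rank_eq_zero e hk)
      · exact h0
    have hle : (e + es).rank ≤ ε.rank := by
      have h3 : (e + es) * ε = e + es := by rw [add_mul, heε, hesε]
      rw [← h3]
      exact Matrix.rank_mul_le_right _ _
    have hmd' : m ≤ d := Nat.le_of_dvd (by omega) hmd
    have hdk : d ≤ d * k := Nat.le_mul_of_pos_right d hk1
    omega
  · have hadj' : A.adj (e * es) = e * es := by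
      rw [A.mul', hesdef, A.inv']
    have hcomm' : Commute Z (e * es) := hZe.mul_right hZes
    have hfe' : aeval Z f * (e * es) = 0 := by rw [← Matrix.mul_assoc, hfe, Matrix.zero_mul]
    rw [hA] at hZ hadj'
    obtain ⟨hρr, hρ0, hinv⟩ := caseA_idem σ hσσ Z hZ r hr.pos hZr (e * es) h1 hadj' hcomm' f hf hfe'
    obtain ⟨hoddd, hpow⟩ := caseA_field p a hq hK σ hσ f hf hρ0 hinv
    rw [← hd] at hoddd hpow
    have h3 : r ∣ q ^ d + 1 := by
      rw [← hord]
      exact orderOf_dvd_of_pow_eq_one hpow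
    exact hodd hoddd h3

theorem eq_one_of_commute_idem {K : Type*} [Field K] [Fintype K] {n q : ℕ} (p a : ℕ) [Fact p.Prime]
    [CharP K p]
    (hq : q = p ^ a) (hK : Fintype.card K = q ^ 2) (σ : K →+* K) (hσ : ∀ x, σ x = x ^ q)
    (hσσ : ∀ x, σ (σ x) = x) (m r : ℕ) (hnm : n = 2 * m) (hr : r.Prime) (hrK : (r : K) ≠ 0)
    (hH : ∀ d : ℕ, r ∣ q ^ (2 * d) - 1 → m ∣ d ∧ (Odd d → ¬ r ∣ q ^ d + 1))
    (Y : Matrix (Fin n) (Fin n) K) (hY : (uAdj n σ hσσ).adj Y * Y = 1) (hYr : Y ^ r = 1)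
    (ε : Matrix (Fin n) (Fin n) K) (hε : ε * ε = ε) (h0 : ε ≠ 0) (h1 : ε ≠ 1)
    (hadj : (uAdj n σ hσσ).adj ε = ε)
    (hcomm : Commute Y ε) : Y = 1 := by
  classical
  have hrk := Cfsg.Agent.Lib.helper15.SpAdj.rank_idem_add ε hε
  rw [Fintype.card_fin] at hrk
  have hr0 : ε.rank ≠ 0 := fun h => h0 (eq_zero_of_rank_eq_zero ε h)
  have hr1 : (1 - ε).rank ≠ 0 := by
    intro h
    apply h1
    have := eq_zero_of_rank_eq_zero (1 - ε) h
    exact (sub_eq_zero.1 this).symm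
  have h1ε : (1 - ε) * (1 - ε) = 1 - ε := by
    rw [sub_mul, one_mul, mul_sub, mul_one, hε, sub_self, sub_zero]
  have hadj' : (uAdj n σ hσσ).adj (1 - ε) = 1 - ε := by
    rw [(uAdj n σ hσσ).adj_sub, (uAdj n σ hσσ).one', hadj]
  have hcomm' : Commute Y (1 - ε) := (Commute.one_right Y).sub_right hcomm
  have e1 := fix_of_small p a hq hK σ hσ hσσ m r hr hrK hH Y hY hYr ε hε hadj hcomm (by omega)
  have e2 := fix_of_small p a hq hK σ hσ hσσ m r hr hrK hH Y hY hYr (1 - ε) h1ε hadj' hcomm'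
    (by omega)
  calc Y = Y * ε + Y * (1 - ε) := by rw [← mul_add, add_sub_cancel, mul_one]
    _ = 1 := by rw [e1, e2, add_sub_cancel]

theorem Nh_coprime (p a q m : ℕ) (hp : p.Prime) (hq : q = p ^ a) (ha : 1 ≤ a) (hm : 1 ≤ m) :
    Nat.Coprime (Nh q m) p := by
  rw [Nat.coprime_comm, Nat.Prime.coprime_iff_not_dvd hp]
  have h1 : p ∣ q ^ m := by
    rw [hq, ← pow_mul]
    exact dvd_pow_self p (by positivity)
  have hpos : 1 ≤ q ^ m := by
    rw [hq]
    exact Nat.one_le_pow _ _ (Nat.pow_pos hp.pos)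
  intro h
  unfold Nh at h
  have h2 : p ∣ 1 := by
    split_ifs at h
    · exact (Nat.dvd_add_right h1).1 h
    · have := Nat.dvd_sub h1 h
      rwa [Nat.sub_sub_self hpos] at this
  exact hp.one_lt.ne' (Nat.dvd_one.1 h2)

theorem of_elt_u {K : Type*} [Field K] [Fintype K] {q : ℕ} (p a : ℕ) [Fact p.Prime] [CharP K p]
    (hq : q = p ^ a) (hK : Fintype.card K = q ^ 2) (hodd : Odd q) (m : ℕ) (hm : 2 ≤ m)
    (x : Cfsg.PSU (2 * m) K q) (hx : orderOf x = Nh q m) : Nh q m ∣ Dn q (2 * m) := by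
  classical
  have hp : p.Prime := Fact.out
  have hq2 := two_le_q hK
  have ha : 1 ≤ a := by
    rcases Nat.eq_zero_or_pos a with h0 | h0
    · rw [h0, pow_zero] at hq
      omega
    · exact h0
  have hcop := Nh_coprime p a q m hp hq ha (by omega)
  obtain ⟨σ, hσ, hσσ⟩ := frob_data hK
  obtain ⟨g, rfl⟩ := QuotientGroup.mk_surjective x
  have hfin : Finite (Cfsg.SU (2 * m) K q) := inferInstance
  have ho0 : orderOf g ≠ 0 := (orderOf_pos g).ne'
  obtain ⟨w, Mg, hMg, hoMg⟩ := Nat.exists_eq_pow_mul_and_not_dvd ho0 p hp.ne_one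
  obtain ⟨s, hs⟩ : ∃ s : Cfsg.SU (2 * m) K q, s = g ^ (p ^ w) := ⟨_, rfl⟩
  have hsM : s ^ Mg = 1 := by
    rw [hs, ← pow_mul, ← hoMg, pow_orderOf_eq_one]
  obtain ⟨S, hS⟩ : ∃ S : Matrix (Fin (2 * m)) (Fin (2 * m)) K,
    S = (s.1 : Matrix (Fin (2 * m)) (Fin (2 * m)) K) := ⟨_, rfl⟩
  have hSM : S ^ Mg = 1 := by
    rw [hS, ← coe_pow_SU, hsM]
    rfl
  have hMgF : ((Mg : ℕ) : K) ≠ 0 := by
    rw [Ne, CharP.cast_eq_zero_iff K p]
    exact hMg
  have hSdet : S.det = 1 := by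
    rw [hS]
    exact s.1.det_coe
  have hSU : (uAdj (2 * m) σ hσσ).adj S * S = 1 := by
    rw [hS]
    exact SU_adj σ hσ hσσ s
  rcases u_dichotomy p a hq hK (by omega) σ hσ hσσ S hSU hSdet Mg hMgF hSM with
    ⟨ε, hε, hε0, hε1, hεadj, hεc⟩ | ⟨c, hc⟩
  · exfalso
    obtain ⟨r, hr, hrN, hrq, hH⟩ := ppd_half q m hq2 hodd hm
    have hrp : r ≠ p := by
      intro h
      apply hrq
      rw [h, hq]
      exact dvd_pow_self p (by omega)
    have hrK : (r : K) ≠ 0 := by
      rw [Ne, CharP.cast_eq_zero_iff K p]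
      intro h
      exact hrp ((Nat.prime_dvd_prime_iff_eq hp hr).1 h).symm
    have h1 : r ∣ orderOf g := by
      have h2 : orderOf (QuotientGroup.mk g : Cfsg.PSU (2 * m) K q) ∣ orderOf g :=
        orderOf_dvd_of_pow_eq_one (by rw [← QuotientGroup.mk_pow, pow_orderOf_eq_one]; rfl)
      rw [hx] at h2
      exact hrN.trans h2
    have hos : orderOf s = Mg := by
      rw [hs, orderOf_pow_of_dvd (pow_ne_zero _ hp.ne_zero) ⟨Mg, hoMg⟩, hoMg,
        Nat.mul_div_cancel_left _ (Nat.pow_pos hp.pos)]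
    have h3 : r ∣ Mg := by
      rw [hoMg] at h1
      have hc : Nat.Coprime r (p ^ w) :=
        Nat.Coprime.pow_right w ((Nat.coprime_primes hr hp).2 hrp)
      exact hc.dvd_of_dvd_mul_left h1
    obtain ⟨y, hy⟩ : ∃ y : Cfsg.SU (2 * m) K q, y = s ^ (orderOf s / r) := ⟨_, rfl⟩
    have hyo : orderOf y = r := by
      rw [hy]
      apply orderOf_pow_orderOf_div
      · rw [hos]
        intro h0
        rw [h0] at hMgF
        exact hMgF (by simp)
      · rw [hos]
        exact h3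
    obtain ⟨Y, hY⟩ : ∃ Y : Matrix (Fin (2 * m)) (Fin (2 * m)) K,
      Y = (y.1 : Matrix (Fin (2 * m)) (Fin (2 * m)) K) := ⟨_, rfl⟩
    have hYr : Y ^ r = 1 := by
      rw [hY, ← coe_pow_SU, ← hyo, pow_orderOf_eq_one]
      rfl
    have hYU : (uAdj (2 * m) σ hσσ).adj Y * Y = 1 := by
      rw [hY]
      exact SU_adj σ hσ hσσ y
    have hYε : Commute Y ε := by
      rw [hY, hy, coe_pow_SU, ← hS]
      exact (hεc S (Commute.refl S)).pow_left _
    have hY1 := eq_one_of_commute_idem p a hq hK σ hσ hσσ m r rfl hr hrK hH Y hYU hYr ε hε hε0 hε1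
      hεadj hYε
    have hy1 : y = 1 := by
      apply Subtype.ext
      apply Subtype.ext
      rw [← hY, hY1]
      rfl
    rw [hy1, orderOf_one] at hyo
    exact hr.one_lt.ne hyo
  · have h1 : (QuotientGroup.mk s : Cfsg.PSU (2 * m) K q) ^ (Dn q (2 * m)) = 1 := by
      rw [mk_pow_eq_one_iff hK (by omega)]
      exact ⟨c, by rw [← hS]; exact hc⟩
    rw [hs, QuotientGroup.mk_pow, ← pow_mul] at h1
    have h2 := orderOf_dvd_of_pow_eq_one h1
    rw [hx] at h2
    exact (Nat.Coprime.pow_right w hcop).dvd_of_dvd_mul_left h2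

end Cfsg.Agent.Lib.helper15.UHalf2
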