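import Mathlib
import Cfsg.Agent.Lib.helper15.UHalf2

set_option autoImplicit false

namespace Cfsg.Agent.Lib.helper15.UCent

open Matrix Polynomial Cfsg.Agent.Lib.Helper16.RN Cfsg.Agent.Lib.helper15.UBase
open Cfsg.Agent.Lib.helper15.UNat Cfsg.Agent.S2495 Cfsg.Agent.Lib.helper15.PslMix
open Cfsg.Agent.Lib.helper15.UDich Cfsg.Agent.Lib.helper15.UHalf Cfsg.Agent.Lib.helper15.UHalf2

theorem exists_idem_pow_monoid {R : Type*} [Monoid R] [Finite R] (x : R) :
    ∃ m, 1 ≤ m ∧ x ^ m * x ^ m = x ^ m := by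
  obtain ⟨i, j, hij, hpow⟩ : ∃ i j : ℕ, i < j ∧ x ^ i = x ^ j := by
    have hni : ¬ Function.Injective (fun n : ℕ => x ^ n) := not_injective_infinite_finite _
    rw [Function.Injective] at hni
    simp only [not_forall] at hni
    obtain ⟨a, b, hab, hne⟩ := hni
    rcases Nat.lt_or_gt_of_ne hne with h | h
    · exact ⟨a, b, h, hab⟩
    · exact ⟨b, a, h, hab.symm⟩
  obtain ⟨r, hr0, hr⟩ : ∃ r, 1 ≤ r ∧ j = i + r := ⟨j - i, by omega, by omega⟩
  have hstep : ∀ t : ℕ, ∀ a : ℕ, i ≤ a → x ^ (a + r * t) = x ^ a := by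
    intro t
    induction t with
    | zero => intro a _; simp
    | succ t ih =>
      intro a ha
      have h1 : a + r * (t + 1) = (a + r * t) + r := by ring
      obtain ⟨b, rfl⟩ : ∃ b, a = i + b := ⟨a - i, by omega⟩
      have h2 : x ^ (i + b + r * t + r) = x ^ (i + b + r * t) := by
        have e1 : i + b + r * t + r = (i + r) + (b + r * t) := by ring
        have e2 : i + b + r * t = i + (b + r * t) := by ring
        rw [e1, e2, pow_add, ← hr, ← hpow, ← pow_add]
      rw [h1, h2]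
      exact ih (i + b) ha
  refine ⟨r * (i + 1), Nat.mul_pos hr0 (Nat.succ_pos i), ?_⟩
  rw [← pow_add]
  exact hstep (i + 1) (r * (i + 1)) (by nlinarith)

theorem det_idem_block_gen {F : Type*} [Field F] {ι : Type*} [Fintype ι] [DecidableEq ι]
    (S e : Matrix ι ι F) (f : F[X]) (hf : Irreducible f) (he : e * e = e) (hSe : Commute S e)
    (hfe : aeval S f * e = 0) :
    haveI : Fact (Irreducible f) := ⟨hf⟩
    ∃ m : ℕ, e.rank = f.natDegree * m ∧ ∀ g : F[X],
      (aeval S g * e + (1 - e)).det = Algebra.norm F ((AdjoinRoot.mk f g) ^ m) := by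
  classical
  have hfact : Fact (Irreducible f) := ⟨hf⟩
  have hf0 : f ≠ 0 := hf.ne_zero
  obtain ⟨W, hWdef⟩ : ∃ W : Submodule F (ι → F), W = LinearMap.range (Matrix.toLin' e) := ⟨_, rfl⟩
  have hWmem : ∀ w : ι → F, w ∈ W ↔ Matrix.toLin' e w = w := by
    intro w
    rw [hWdef]
    constructor
    · rintro ⟨x, rfl⟩
      rw [← LinearMap.comp_apply, ← Matrix.toLin'_mul, he]
    · intro h
      exact ⟨w, h⟩
  have hcomm_mem : ∀ T : Matrix ι ι F, Commute T e → ∀ w ∈ W, Matrix.toLin' T w ∈ W := by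
    intro T hT w hw
    rw [hWmem] at hw ⊢
    rw [← LinearMap.comp_apply, ← Matrix.toLin'_mul, ← hT.eq, Matrix.toLin'_mul, LinearMap.comp_apply, hw]
  have hSW := hcomm_mem S hSe
  let SW : Module.End F W := (Matrix.toLin' S).restrict hSW
  have haevalLin : ∀ g : F[X], aeval (Matrix.toLin' S) g = Matrix.toLin' (aeval S g) := by
    intro g
    have := Polynomial.aeval_algHom_apply (Matrix.toLinAlgEquiv' : Matrix ι ι F ≃ₐ[F] _).toAlgHom S g
    exact this
  have hSWf : aeval SW f = 0 := by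
    apply LinearMap.ext
    intro w
    apply Subtype.ext
    rw [Cfsg.Agent.Lib.helper15.SpAdj.aeval_restrict_apply, LinearMap.zero_apply, Submodule.coe_zero]
    have hw := (hWmem w).1 w.2
    rw [haevalLin, ← hw, ← LinearMap.comp_apply, ← Matrix.toLin'_mul, hfe, map_zero, LinearMap.zero_apply]
  let E := AdjoinRoot f
  have hI : ∀ a : F[X], a ∈ Ideal.span {f} → (Polynomial.aeval SW) a = 0 := by
    intro a ha
    rw [Ideal.mem_span_singleton] at ha
    obtain ⟨b, rfl⟩ := ha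
    rw [map_mul, hSWf, zero_mul]
  let ψ : E →ₐ[F] Module.End F W := Ideal.Quotient.liftₐ (Ideal.span {f}) (Polynomial.aeval SW) hI
  have hψmk : ∀ q : F[X], ψ (AdjoinRoot.mk f q) = aeval SW q := fun q => rfl
  letI modE : Module E W := Module.compHom W (ψ : E →+* Module.End F W)
  have hsmul : ∀ (x : E) (w : W), x • w = ψ x w := fun x w => rfl
  haveI tower : IsScalarTower F E W := by
    refine ⟨fun c x v => ?_⟩
    rw [hsmul, hsmul, map_smul]
    rfl
  haveI finE : Module.Finite E W := Module.Finite.of_restrictScalars_finite F E W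
  haveI mfinE : Module.Finite F E := (AdjoinRoot.powerBasis hf0).finite
  obtain ⟨m, hm⟩ : ∃ m, m = Module.finrank E W := ⟨_, rfl⟩
  refine ⟨m, ?_, ?_⟩
  · have h1 : e.rank = Module.finrank F W := by
      rw [hWdef]
      rfl
    rw [h1, ← Module.finrank_mul_finrank F E W, ← hm, (AdjoinRoot.powerBasis hf0).finrank,
      AdjoinRoot.powerBasis_dim]
  · intro g
    obtain ⟨T, hTdef⟩ : ∃ T, T = aeval S g := ⟨_, rfl⟩
    rw [← hTdef]
    have hTe : Commute T e := by
      rw [hTdef]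
      exact (commute_aeval e S hSe.symm g).symm
    have hTW := hcomm_mem T hTe
    let fE : W →ₗ[E] W := (AdjoinRoot.mk f g) • (LinearMap.id : W →ₗ[E] W)
    have hfdet : LinearMap.det fE = (AdjoinRoot.mk f g) ^ m := by
      show LinearMap.det ((AdjoinRoot.mk f g) • (LinearMap.id : W →ₗ[E] W)) = _
      rw [LinearMap.det_smul, LinearMap.det_id, mul_one, hm]
    have hfres : fE.restrictScalars F = (Matrix.toLin' T).restrict hTW := by
      apply LinearMap.ext
      intro v
      apply Subtype.ext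
      show (((AdjoinRoot.mk f g) • v : W) : ι → F) = _
      rw [hsmul, hψmk, Cfsg.Agent.Lib.helper15.SpAdj.aeval_restrict_apply, haevalLin, ← hTdef]
      rfl
    have hdetSW : LinearMap.det ((Matrix.toLin' T).restrict hTW) =
        Algebra.norm F ((AdjoinRoot.mk f g) ^ m) := by
      rw [← hfdet, ← LinearMap.det_restrictScalars, hfres]
    rw [← hdetSW, ← LinearMap.det_toLin']
    have hT : W ≤ W.comap (Matrix.toLin' (T * e + (1 - e))) := by
      intro w hw
      rw [Submodule.mem_comap]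
      have hw' := (hWmem w).1 hw
      have : Matrix.toLin' (T * e + (1 - e)) w = Matrix.toLin' T w := by
        rw [map_add, LinearMap.add_apply, Matrix.toLin'_mul, LinearMap.comp_apply, hw', map_sub,
          LinearMap.sub_apply, hw', Matrix.toLin'_one, LinearMap.id_apply, sub_self, add_zero]
      rw [this]
      exact hTW w hw
    rw [LinearMap.det_eq_det_mul_det W _ hT]
    have hres : (Matrix.toLin' (T * e + (1 - e))).restrict hT = (Matrix.toLin' T).restrict hTW := by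
      apply LinearMap.ext
      intro w
      apply Subtype.ext
      have hw' := (hWmem w).1 w.2
      show Matrix.toLin' (T * e + (1 - e)) (w : ι → F) = Matrix.toLin' T (w : ι → F)
      rw [map_add, LinearMap.add_apply, Matrix.toLin'_mul, LinearMap.comp_apply, hw', map_sub,
        LinearMap.sub_apply, hw', Matrix.toLin'_one, LinearMap.id_apply, sub_self, add_zero]
    have hquot : W.mapQ W (Matrix.toLin' (T * e + (1 - e))) hT = LinearMap.id := by
      apply LinearMap.ext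
      intro x
      obtain ⟨v, rfl⟩ := Submodule.Quotient.mk_surjective W x
      rw [Submodule.mapQ_apply, LinearMap.id_apply, Submodule.Quotient.eq]
      have : Matrix.toLin' (T * e + (1 - e)) v - v =
          Matrix.toLin' T (Matrix.toLin' e v) - Matrix.toLin' e v := by
        rw [map_add, LinearMap.add_apply, Matrix.toLin'_mul, LinearMap.comp_apply, map_sub,
          LinearMap.sub_apply, Matrix.toLin'_one, LinearMap.id_apply]
        abel
      rw [this]
      have hev : Matrix.toLin' e v ∈ W := by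
        rw [hWdef]
        exact ⟨v, rfl⟩
      exact W.sub_mem (hTW _ hev) hev
    rw [hres, hquot, LinearMap.det_id, mul_one]

theorem exists_pow_pred_eq {K : Type*} [Field K] [Fintype K] {q : ℕ} (hK : Fintype.card K = q ^ 2)
    (δ : K) (hδ : δ ^ (q + 1) = 1) : ∃ a : K, a ≠ 0 ∧ a ^ (q - 1) = δ := by
  classical
  have hq2 := two_le_q hK
  have hδ0 : δ ≠ 0 := by
    intro h0
    rw [h0, zero_pow (by omega)] at hδ
    exact zero_ne_one hδ
  obtain ⟨x, hx⟩ : ∃ x : Kˣ, (x : K) = δ := ⟨Units.mk0 δ hδ0, rfl⟩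
  have hxpow : x ^ (q + 1) = 1 := by
    apply Units.ext
    rw [Units.val_pow_eq_pow_val, hx, hδ, Units.val_one]
  obtain ⟨t, rfl⟩ : ∃ t, q = t + 1 := ⟨q - 1, by omega⟩
  have hcard : Nat.card Kˣ = t * (t + 2) := by
    rw [Nat.card_units, Nat.card_eq_fintype_card, hK]
    have : (t + 1) ^ 2 = t * (t + 2) + 1 := by ring
    rw [this, Nat.add_sub_cancel]
  have hle : (powMonoidHom (t + 1 - 1) : Kˣ →* Kˣ).range ≤ (powMonoidHom (t + 1 + 1) : Kˣ →* Kˣ).ker := by
    rintro y ⟨μ, rfl⟩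
    rw [MonoidHom.mem_ker, powMonoidHom_apply, powMonoidHom_apply, ← pow_mul, Nat.add_sub_cancel]
    have : t * (t + 1 + 1) = Nat.card Kˣ := by rw [hcard]
    rw [this]
    exact pow_card_eq_one'
  have hc1 : Nat.card (powMonoidHom (t + 1 - 1) : Kˣ →* Kˣ).range = t + 2 := by
    rw [IsCyclic.card_powMonoidHom_range, hcard, Nat.add_sub_cancel]
    have : (t * (t + 2)).gcd t = t := Nat.gcd_eq_right (Dvd.intro (t + 2) rfl)
    rw [this]
    rcases Nat.eq_zero_or_pos t with h0 | h0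
    · omega
    · exact Nat.mul_div_cancel_left (t + 2) h0
  have hc2 : Nat.card (powMonoidHom (t + 1 + 1) : Kˣ →* Kˣ).ker = t + 2 := by
    rw [IsCyclic.card_powMonoidHom_ker, hcard]
    exact Nat.gcd_eq_right (Dvd.intro_left t rfl)
  have heq := Subgroup.eq_of_le_of_card_ge hle (by rw [hc1, hc2])
  have hxk : x ∈ (powMonoidHom (t + 1 + 1) : Kˣ →* Kˣ).ker := by
    rw [MonoidHom.mem_ker, powMonoidHom_apply]; exact hxpow
  rw [← heq] at hxk
  obtain ⟨μ, hμ⟩ := hxk
  refine ⟨(μ : K), μ.ne_zero, ?_⟩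
  rw [← hx, ← hμ, powMonoidHom_apply, Units.val_pow_eq_pow_val]

def avg {K : Type*} [Field K] {n : ℕ} (A : AdjData (Fin n) K) (S R : Matrix (Fin n) (Fin n) K)
    (N : ℕ) : Matrix (Fin n) (Fin n) K :=
  ∑ i ∈ Finset.range N, S ^ i * R * (A.adj S) ^ i

theorem adj_avg {K : Type*} [Field K] {n : ℕ} (A : AdjData (Fin n) K)
    (S R : Matrix (Fin n) (Fin n) K) (N : ℕ) (hR : A.adj R = R) :
    A.adj (avg A S R N) = avg A S R N := by
  unfold avg
  rw [A.adj_sum]
  apply Finset.sum_congr rfl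
  intro i _
  rw [A.mul', A.mul', A.adj_pow, A.adj_pow, A.inv', hR, Matrix.mul_assoc]

theorem conj_avg {K : Type*} [Field K] {n : ℕ} (A : AdjData (Fin n) K)
    (S R : Matrix (Fin n) (Fin n) K) (N : ℕ) (hSN : S ^ N = 1) :
    S * avg A S R N * A.adj S = avg A S R N := by
  have hadjN : (A.adj S) ^ N = 1 := by rw [← A.adj_pow, hSN, A.one']
  obtain ⟨F, hF⟩ : ∃ F : ℕ → Matrix (Fin n) (Fin n) K, F = fun i => S ^ i * R * (A.adj S) ^ i :=
    ⟨_, rfl⟩
  have h1 : S * avg A S R N * A.adj S = ∑ i ∈ Finset.range N, F (i + 1) := by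
    unfold avg
    rw [Finset.mul_sum, Finset.sum_mul]
    apply Finset.sum_congr rfl
    intro i _
    rw [hF]
    show S * (S ^ i * R * A.adj S ^ i) * A.adj S = S ^ (i + 1) * R * A.adj S ^ (i + 1)
    rw [pow_succ' S, pow_succ (A.adj S)]
    simp only [Matrix.mul_assoc]
  have h2 : avg A S R N = ∑ i ∈ Finset.range N, F i := by
    unfold avg
    rw [hF]
  have h3 := Finset.sum_range_succ F N
  have h4 := Finset.sum_range_succ' F N
  have h5 : F N = F 0 := by
    rw [hF]
    show S ^ N * R * A.adj S ^ N = S ^ 0 * R * A.adj S ^ 0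
    rw [hSN, hadjN, pow_zero, pow_zero]
  rw [h1, h2]
  rw [h3, h5] at h4
  exact (add_right_cancel h4).symm

theorem commute_avg {K : Type*} [Field K] {n : ℕ} (A : AdjData (Fin n) K)
    (S R : Matrix (Fin n) (Fin n) K) (N : ℕ) (hS : A.adj S * S = 1) (hSN : S ^ N = 1) :
    Commute S (avg A S R N) := by
  have h1 := conj_avg A S R N hSN
  show S * avg A S R N = avg A S R N * S
  calc S * avg A S R N = S * avg A S R N * (A.adj S * S) := by rw [hS, Matrix.mul_one]
    _ = (S * avg A S R N * A.adj S) * S := by simp only [Matrix.mul_assoc]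
    _ = avg A S R N * S := by rw [h1]

theorem trace_avg {K : Type*} [Field K] {n : ℕ} (A : AdjData (Fin n) K)
    (S R : Matrix (Fin n) (Fin n) K) (N : ℕ) (hS : A.adj S * S = 1) :
    (avg A S R N).trace = (N : K) * R.trace := by
  unfold avg
  rw [Matrix.trace_sum]
  have h1 : ∀ i ∈ Finset.range N, (S ^ i * R * A.adj S ^ i).trace = R.trace := by
    intro i _
    have hcomm : Commute (A.adj S) S := by
      show A.adj S * S = S * A.adj S
      rw [hS, mul_adj_of_adj_mul A S hS]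
    rw [Matrix.trace_mul_comm, ← Matrix.mul_assoc, ← hcomm.mul_pow, hS, one_pow, Matrix.one_mul]
  rw [Finset.sum_congr rfl h1, Finset.sum_const, Finset.card_range, nsmul_eq_mul]

theorem avg_mulVec {K : Type*} [Field K] {n : ℕ} (A : AdjData (Fin n) K)
    (S : Matrix (Fin n) (Fin n) K) (N : ℕ) (i₀ : Fin n) (u : Fin n → K) :
    ∃ z : K[X], (avg A S (Matrix.single i₀ i₀ (1 : K)) N) *ᵥ u = (aeval S z) *ᵥ (Pi.single i₀ 1) := by
  classical
  refine ⟨∑ i ∈ Finset.range N, Polynomial.C (((A.adj S) ^ i *ᵥ u) i₀) * X ^ i, ?_⟩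
  unfold avg
  rw [Matrix.sum_mulVec, map_sum, Matrix.sum_mulVec]
  apply Finset.sum_congr rfl
  intro i _
  rw [map_mul, aeval_C, map_pow, aeval_X, ← Matrix.mulVec_mulVec, ← Matrix.mulVec_mulVec,
    Algebra.algebraMap_eq_smul_one, Matrix.smul_mul, Matrix.one_mul, Matrix.smul_mulVec]
  have h1 : (Matrix.single i₀ i₀ (1 : K)) *ᵥ ((A.adj S) ^ i *ᵥ u) =
      (((A.adj S) ^ i *ᵥ u) i₀) • (Pi.single i₀ 1 : Fin n → K) := by
    funext j
    rw [Matrix.mulVec, dotProduct, Pi.smul_apply, smul_eq_mul]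
    by_cases hj : j = i₀
    · subst hj
      rw [Finset.sum_eq_single j]
      · simp [Matrix.single]
      · intro b _ hb
        simp [Matrix.single, hb.symm]
      · intro h
        exact absurd (Finset.mem_univ j) h
    · rw [Pi.single_apply, if_neg hj, mul_zero]
      apply Finset.sum_eq_zero
      intro b _
      simp [Matrix.single, Ne.symm hj]
  rw [h1, Matrix.mulVec_smul]

theorem adj_single {K : Type*} [Field K] {n : ℕ} (σ : K →+* K) (hσσ : ∀ x, σ (σ x) = x)
    (i₀ : Fin n) : (uAdj n σ hσσ).adj (Matrix.single i₀ i₀ (1 : K)) = Matrix.single i₀ i₀ 1 := by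
  rw [uAdj_apply]
  ext i j
  simp only [Matrix.transpose_apply, Matrix.map_apply, Matrix.single, Matrix.of_apply]
  by_cases h : i₀ = j ∧ i₀ = i
  · rw [if_pos h, if_pos ⟨h.2, h.1⟩, map_one]
  · rw [if_neg h, if_neg (fun h' => h ⟨h'.2, h'.1⟩), map_zero]

theorem exists_proj {K : Type*} [Field K] [Fintype K] {n : ℕ} (hn : 1 ≤ n) (σ : K →+* K)
    (hσσ : ∀ x, σ (σ x) = x) (S : Matrix (Fin n) (Fin n) K)
    (hS : (uAdj n σ hσσ).adj S * S = 1) (N : ℕ) (hSN : S ^ N = 1) (hN : (N : K) ≠ 0) :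
    ∃ (P : Matrix (Fin n) (Fin n) K) (i₀ : Fin n), P * P = P ∧ P ≠ 0 ∧
      (uAdj n σ hσσ).adj P = P ∧ Commute S P ∧
      ∀ u : Fin n → K, ∃ z : K[X], P *ᵥ u = (aeval S z) *ᵥ (Pi.single i₀ 1) := by
  classical
  obtain ⟨A, hA⟩ : ∃ A : AdjData (Fin n) K, A = uAdj n σ hσσ := ⟨_, rfl⟩
  rw [← hA] at hS ⊢
  obtain ⟨i₀, hi₀⟩ : ∃ i₀ : Fin n, i₀ = ⟨0, by omega⟩ := ⟨_, rfl⟩
  obtain ⟨Am, hAm⟩ : ∃ Am, Am = avg A S (Matrix.single i₀ i₀ (1 : K)) N := ⟨_, rfl⟩
  obtain ⟨m, hm1, hidem⟩ := exists_idem_pow_monoid Am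
  have hRadj : A.adj (Matrix.single i₀ i₀ (1 : K)) = Matrix.single i₀ i₀ 1 := by
    rw [hA]
    exact adj_single σ hσσ i₀
  have htr : Am.trace = (N : K) := by
    rw [hAm, trace_avg A S _ N hS, Matrix.trace_single_eq_same, mul_one]
  refine ⟨Am ^ m, i₀, hidem, ?_, ?_, ?_, ?_⟩
  · intro h0
    have hnil : IsNilpotent Am := ⟨m, h0⟩
    have h1 := (Matrix.isNilpotent_trace_of_isNilpotent hnil).eq_zero
    rw [htr] at h1
    exact hN h1
  · rw [A.adj_pow, hAm, adj_avg A S _ N hRadj]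
  · rw [hAm]
    exact (commute_avg A S _ N hS hSN).pow_right m
  · intro u
    obtain ⟨k, rfl⟩ : ∃ k, m = k + 1 := ⟨m - 1, by omega⟩
    rw [pow_succ', ← Matrix.mulVec_mulVec, hAm]
    exact avg_mulVec A S N i₀ _

theorem rank_cyclic_idem {K : Type*} [Field K] {n : ℕ}
    (S Q P : Matrix (Fin n) (Fin n) K) (f : K[X]) (hf : Irreducible f) (hQ : Q * Q = Q)
    (hQ0 : Q ≠ 0) (hSQ : Commute S Q) (hfQ : aeval S f * Q = 0) (hQP : Q * P = Q)
    (v : Fin n → K) (hrange : ∀ u : Fin n → K, ∃ z : K[X], P *ᵥ u = (aeval S z) *ᵥ v) :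
    haveI : Fact (Irreducible f) := ⟨hf⟩
    Q.rank = f.natDegree ∧ ∀ g : K[X],
      (aeval S g * Q + (1 - Q)).det = Algebra.norm K (AdjoinRoot.mk f g) := by
  classical
  haveI hfact : Fact (Irreducible f) := ⟨hf⟩
  obtain ⟨m, hrank, hdet⟩ := det_idem_block_gen S Q f hf hQ hSQ hfQ
  obtain ⟨d, hd⟩ : ∃ d, d = f.natDegree := ⟨_, rfl⟩
  rw [← hd] at hrank ⊢
  have hd1 : 1 ≤ d := by rw [hd]; exact hf.natDegree_pos
  obtain ⟨w, hw⟩ : ∃ w, w = Q *ᵥ v := ⟨_, rfl⟩
  have hfw : (aeval S f) *ᵥ w = 0 := by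
    rw [hw, Matrix.mulVec_mulVec, hfQ, Matrix.zero_mulVec]
  have hsub : LinearMap.range (Matrix.toLin' Q) ≤
      Submodule.span K (Set.range (fun j : Fin d => S ^ (j : ℕ) *ᵥ w)) := by
    rintro x ⟨u, rfl⟩
    obtain ⟨z, hz⟩ := hrange u
    have h1 : Matrix.toLin' Q u = (aeval S z) *ᵥ w := by
      rw [Matrix.toLin'_apply, ← hQP, ← Matrix.mulVec_mulVec, hz, Matrix.mulVec_mulVec, hw,
        Matrix.mulVec_mulVec, (commute_aeval Q S hSQ.symm z).eq]
    have h2 : z = f * (z / f) + z % f := (EuclideanDomain.div_add_mod z f).symm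
    have h3 : (aeval S z) *ᵥ w = (aeval S (z % f)) *ᵥ w := by
      conv_lhs => rw [h2]
      rw [map_add, map_mul, Matrix.add_mulVec,
        ((commute_aeval (aeval S f) S (commute_aeval S S (Commute.refl S) f).symm (z / f))).eq,
        ← Matrix.mulVec_mulVec, hfw, Matrix.mulVec_zero, zero_add]
    have hlt : (z % f).natDegree < d := by
      rw [hd]
      exact Polynomial.natDegree_mod_lt z (by omega)
    rw [h1, h3, Polynomial.aeval_eq_sum_range' hlt, Matrix.sum_mulVec]
    apply Submodule.sum_mem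
    intro i hi
    rw [Matrix.smul_mulVec]
    apply Submodule.smul_mem
    apply Submodule.subset_span
    exact ⟨⟨i, Finset.mem_range.1 hi⟩, rfl⟩
  have hle : Q.rank ≤ d := by
    have h1 : Q.rank = Module.finrank K (LinearMap.range (Matrix.toLin' Q)) := rfl
    have h2 := Submodule.finrank_mono hsub
    have h3 : Module.finrank K (Submodule.span K (Set.range (fun j : Fin d => S ^ (j : ℕ) *ᵥ w))) ≤
        Fintype.card (Fin d) := finrank_range_le_card (R := K) (fun j : Fin d => S ^ (j : ℕ) *ᵥ w)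
    rw [Fintype.card_fin] at h3
    omega
  have hm1 : 1 ≤ m := by
    rcases Nat.eq_zero_or_pos m with h0 | h0
    · exfalso
      rw [h0, mul_zero] at hrank
      exact hQ0 (eq_zero_of_rank_eq_zero Q hrank)
    · exact h0
  have hm : m = 1 := by
    rw [hrank] at hle
    have : d * m ≤ d * 1 := by omega
    have := Nat.le_of_mul_le_mul_left this (by omega)
    omega
  rw [hm, mul_one] at hrank
  refine ⟨hrank, ?_⟩
  intro g
  rw [hdet g, hm, pow_one]

theorem aeval_cmix_mul {K : Type*} [Field K] {R : Type*} [Ring R] [Algebra K R] (S P : R)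
    (hP : P * P = P) (hSP : Commute S P) (g : K[X]) :
    aeval (S * P + (1 - P)) g * P = aeval S g * P := by
  have hpow : ∀ k : ℕ, (S * P + (1 - P)) ^ k * P = S ^ k * P := by
    intro k
    rw [cmix_pow P S hP hSP, add_mul, mul_assoc, hP, sub_mul, one_mul, hP, sub_self, add_zero]
  induction g using Polynomial.induction_on' with
  | add p q hp hq => rw [map_add, map_add, add_mul, add_mul, hp, hq]
  | monomial k a =>
    rw [aeval_monomial, aeval_monomial, mul_assoc, hpow, mul_assoc]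

theorem exists_cyclic_idem {K : Type*} [Field K] [Fintype K] {n : ℕ} (σ : K →+* K)
    (hσσ : ∀ x, σ (σ x) = x) (S : Matrix (Fin n) (Fin n) K)
    (hS : (uAdj n σ hσσ).adj S * S = 1) (N : ℕ) (hSN : S ^ N = 1) (hN : (N : K) ≠ 0)
    (P : Matrix (Fin n) (Fin n) K) (hP : P * P = P) (hP0 : P ≠ 0)
    (hPadj : (uAdj n σ hσσ).adj P = P) (hSP : Commute S P) :
    ∃ (f : K[X]) (Q : Matrix (Fin n) (Fin n) K), Irreducible f ∧ Q * Q = Q ∧ Q ≠ 0 ∧
      Commute S Q ∧ Commute Q ((uAdj n σ hσσ).adj Q) ∧ aeval S f * Q = 0 ∧ Q * P = Q := by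
  classical
  obtain ⟨A, hA⟩ : ∃ A : AdjData (Fin n) K, A = uAdj n σ hσσ := ⟨_, rfl⟩
  rw [← hA] at hS hPadj ⊢
  obtain ⟨Z, hZdef⟩ : ∃ Z, Z = S * P + (1 - P) := ⟨_, rfl⟩
  by_cases hZ1 : Z = 1
  · refine ⟨X - C 1, P, irreducible_X_sub_C 1, hP, hP0, hSP, ?_, ?_, hP⟩
    · rw [hPadj]
    · rw [hZdef] at hZ1
      have h2 : S * P + (1 - P) - (1 - P) = 1 - (1 - P) := by rw [hZ1]
      rw [add_sub_cancel_right, sub_sub_cancel] at h2
      rw [map_sub, aeval_X, aeval_C, map_one, sub_mul, one_mul, h2, sub_self]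
  · have hcadj : Commute (A.adj S) P := (commute_adj_of_commute A S hS P hSP.symm).symm
    have hZadj : A.adj Z = A.adj S * P + (1 - P) := by
      rw [hZdef, A.add', A.mul', A.adj_sub, A.one', hPadj, hcadj.eq]
    have hZ : A.adj Z * Z = 1 := by
      rw [hZadj, hZdef, cmix_mul P _ _ hP hcadj hSP, hS, one_mul, add_sub_cancel]
    have hZr : Z ^ N = 1 := by
      rw [hZdef, cmix_pow P S hP hSP, hSN, one_mul, add_sub_cancel]
    have h1P : (1 - P) * (1 - P) = 1 - P := by
      rw [sub_mul, one_mul, mul_sub, mul_one, hP, sub_self, sub_zero]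
    have hZfix : Z * (1 - P) = 1 - P := by
      rw [hZdef, add_mul, Matrix.mul_assoc, mul_sub P, mul_one, hP, sub_self, mul_zero, zero_add, h1P]
    have hZP : Commute Z P := by
      rw [hZdef]
      apply Commute.add_left
      · exact hSP.mul_left (Commute.refl P)
      · exact (Commute.one_left P).sub_left (Commute.refl P)
    have hSZ : Commute S Z := by
      rw [hZdef]
      apply Commute.add_right
      · exact (Commute.refl S).mul_right hSP
      · exact (Commute.one_right S).sub_right hSP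
    have hint : IsIntegral K Z := Algebra.IsIntegral.isIntegral Z
    have hsq : Squarefree (minpoly K Z) := by
      have hsep : Squarefree (X ^ N - C (1 : K)) :=
        (Polynomial.separable_X_pow_sub_C (1 : K) hN one_ne_zero).squarefree
      apply hsep.squarefree_of_dvd
      apply minpoly.dvd
      rw [map_sub, map_pow, aeval_X, aeval_C, hZr, map_one, sub_self]
    have hμ0 : minpoly K Z ≠ 0 := minpoly.ne_zero hint
    obtain ⟨Φ, hΦdef⟩ : ∃ Φ : K[X], Φ = ∑ i ∈ Finset.range N, (X : K[X]) ^ i := ⟨_, rfl⟩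
    have hΦ : (X - 1) * Φ = X ^ N - 1 := by rw [hΦdef]; exact mul_geom_sum X N
    have hμdvd : minpoly K Z ∣ X ^ N - 1 := by
      apply minpoly.dvd
      rw [map_sub, map_pow, aeval_X, map_one, hZr, sub_self]
    have hncop : ¬ IsCoprime (minpoly K Z) Φ := by
      intro hc
      have h1 : minpoly K Z ∣ X - 1 := by
        rw [← hΦ] at hμdvd
        exact hc.dvd_of_dvd_mul_right hμdvd
      have h2 : aeval Z (X - 1 : K[X]) = 0 := by
        obtain ⟨c, hc⟩ := h1
        rw [hc, map_mul, minpoly.aeval, zero_mul]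
      rw [map_sub, aeval_X, map_one, sub_eq_zero] at h2
      exact hZ1 h2
    have hg : ¬ IsUnit (EuclideanDomain.gcd (minpoly K Z) Φ) := by
      rw [EuclideanDomain.gcd_isUnit_iff]
      exact hncop
    have hg0 : EuclideanDomain.gcd (minpoly K Z) Φ ≠ 0 := by
      intro h0
      rw [EuclideanDomain.gcd_eq_zero_iff] at h0
      exact hμ0 h0.1
    obtain ⟨f, hf, hfg⟩ := WfDvdMonoid.exists_irreducible_factor hg hg0
    have hfμ : f ∣ minpoly K Z := hfg.trans (EuclideanDomain.gcd_dvd_left _ _)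
    have hfΦ : f ∣ Φ := hfg.trans (EuclideanDomain.gcd_dvd_right _ _)
    have hev : f.eval 1 ≠ 0 := by
      rw [hΦdef] at hfΦ
      obtain ⟨c, hc⟩ := hfΦ
      have h1 := congrArg (Polynomial.eval 1) hc
      rw [Polynomial.eval_geom_sum, eval_mul] at h1
      simp only [one_pow, Finset.sum_const, Finset.card_range, nsmul_eq_mul, mul_one] at h1
      intro h0
      rw [h0, zero_mul] at h1
      exact hN h1
    obtain ⟨g, hee, he0, hfe⟩ := exists_idem_factor Z hint hsq f hf hfμ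
    obtain ⟨e, hedef⟩ : ∃ e, e = aeval Z g := ⟨_, rfl⟩
    rw [← hedef] at hee he0 hfe
    have hZe : Commute Z e := by rw [hedef]; exact commute_aeval Z Z (Commute.refl Z) g
    have hSe : Commute S e := by rw [hedef]; exact commute_aeval S Z hSZ g
    have hPe : Commute P e := by rw [hedef]; exact commute_aeval P Z hZP.symm g
    have hfZe : Commute e (aeval Z f) := commute_aeval e Z hZe.symm f
    have he1P : e * (1 - P) = 0 := by
      have h1 : aeval Z f * (1 - P) = f.eval 1 • (1 - P) := aeval_mul_fixed Z (1 - P) hZfix f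
      have h2 : e * (aeval Z f * (1 - P)) = 0 := by
        rw [← Matrix.mul_assoc, hfZe.eq, hfe, Matrix.zero_mul]
      rw [h1, Matrix.mul_smul] at h2
      exact (smul_eq_zero.1 h2).resolve_left hev
    have heP : e * P = e := by
      rw [mul_sub, mul_one, sub_eq_zero] at he1P
      exact he1P.symm
    refine ⟨f, e, hf, hee, he0, hSe, ?_, ?_, heP⟩
    · have hesaeval : A.adj e = aeval (A.adj Z) (g.map σ) := by
        rw [hedef]
        exact Cfsg.Agent.Lib.Helper16.FCR.adj_aeval σ A.adj A.add' A.mul'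
          (fun c x => by rw [A.smul', hA]; rfl) A.one' Z g
      rw [hesaeval]
      exact commute_aeval e (A.adj Z) (commute_adj_of_commute A Z hZ e hZe.symm) _
    · have h1 : aeval S f * e = aeval S f * P * e := by
        rw [Matrix.mul_assoc, hPe.eq, heP]
      rw [h1, ← aeval_cmix_mul S P hP hSP f, ← hZdef, Matrix.mul_assoc, hPe.eq, heP, hfe]

theorem commute_cmix {R : Type*} [Ring R] (a b Q Q' : R) (hab : Commute a b) (haQ' : Commute a Q')
    (hQb : Commute Q b) (hQQ' : Commute Q Q') :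
    Commute (a * Q + (1 - Q)) (b * Q' + (1 - Q')) := by
  have h1 : Commute (a * Q) (b * Q') := (hab.mul_right haQ').mul_left (hQb.mul_right hQQ')
  have h2 : Commute (a * Q) (1 - Q') :=
    ((Commute.one_right a).sub_right haQ').mul_left ((Commute.one_right Q).sub_right hQQ')
  have h3 : Commute (1 - Q) (b * Q') :=
    ((Commute.one_left b).sub_left hQb).mul_right ((Commute.one_left Q').sub_left hQQ')
  have h4 : Commute (1 - Q) (1 - Q') :=
    ((Commute.one_left _).sub_left ((Commute.one_right Q).sub_right hQQ'))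
  exact (h1.add_right h2).add_left (h3.add_right h4)

theorem exists_unitary_commuting_det {K : Type*} [Field K] [Fintype K] {n q : ℕ}
    (hK : Fintype.card K = q ^ 2) (hn : 1 ≤ n) (σ : K →+* K) (hσ : ∀ x, σ x = x ^ q)
    (hσσ : ∀ x, σ (σ x) = x) (S : Matrix (Fin n) (Fin n) K)
    (hS : (uAdj n σ hσσ).adj S * S = 1) (N : ℕ) (hSN : S ^ N = 1) (hN : (N : K) ≠ 0)
    (δ : K) (hδ : δ ^ (q + 1) = 1) :
    ∃ c : Matrix (Fin n) (Fin n) K, (uAdj n σ hσσ).adj c * c = 1 ∧ Commute c S ∧ c.det = δ := by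
  classical
  obtain ⟨P, i₀, hP, hP0, hPadj, hSP, hrange⟩ := exists_proj hn σ hσσ S hS N hSN hN
  obtain ⟨f, Q, hf, hQ, hQ0, hSQ, hQQ, hfQ, hQP⟩ :=
    exists_cyclic_idem σ hσσ S hS N hSN hN P hP hP0 hPadj hSP
  haveI hfact : Fact (Irreducible f) := ⟨hf⟩
  obtain ⟨-, hdet⟩ := rank_cyclic_idem S Q P f hf hQ hQ0 hSQ hfQ hQP _ hrange
  obtain ⟨A, hA⟩ : ∃ A : AdjData (Fin n) K, A = uAdj n σ hσσ := ⟨_, rfl⟩
  have hf0 : f ≠ 0 := hf.ne_zero
  let E := AdjoinRoot f
  haveI mfinE : Module.Finite K E := (AdjoinRoot.powerBasis hf0).finite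
  haveI finiteE : Finite E := Module.finite_of_finite K
  obtain ⟨b, hb0, hb⟩ := exists_pow_pred_eq hK δ hδ
  obtain ⟨x, hx⟩ := FiniteField.norm_surjective K E b⁻¹
  have hx0 : x ≠ 0 := by
    intro h0
    rw [h0, Algebra.norm_zero] at hx
    exact inv_ne_zero hb0 hx.symm
  obtain ⟨X₀, hX₀⟩ := AdjoinRoot.mk_surjective (g := f) x
  obtain ⟨X₁, hX₁⟩ := AdjoinRoot.mk_surjective (g := f) x⁻¹
  obtain ⟨c₁, hc₁⟩ : ∃ c₁, c₁ = aeval S X₀ * Q + (1 - Q) := ⟨_, rfl⟩
  obtain ⟨d₁, hd₁⟩ : ∃ d₁, d₁ = aeval S X₁ * Q + (1 - Q) := ⟨_, rfl⟩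
  have hcX₀ : Commute (aeval S X₀) Q := (commute_aeval Q S hSQ.symm X₀).symm
  have hcX₁ : Commute (aeval S X₁) Q := (commute_aeval Q S hSQ.symm X₁).symm
  have hcd : c₁ * d₁ = 1 := by
    rw [hc₁, hd₁, cmix_mul Q _ _ hQ hcX₀ hcX₁, ← map_mul]
    have h1 : f ∣ X₀ * X₁ - 1 := by
      rw [← AdjoinRoot.mk_eq_zero, map_sub, map_mul, hX₀, hX₁, map_one, mul_inv_cancel₀ hx0, sub_self]
    obtain ⟨t, ht⟩ := h1
    have h2 : aeval S (X₀ * X₁) * Q = Q := by
      have h3 : X₀ * X₁ = f * t + 1 := by rw [← ht]; ring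
      rw [h3, map_add, map_mul, map_one, add_mul, one_mul,
        (commute_aeval (aeval S f) S (commute_aeval S S (Commute.refl S) f).symm t).eq,
        Matrix.mul_assoc, hfQ, Matrix.mul_zero, zero_add]
    rw [h2, add_sub_cancel]
  have hdc : d₁ * c₁ = 1 := mul_eq_one_comm.1 hcd
  have hdetc : c₁.det = b⁻¹ := by rw [hc₁, hdet, hX₀, hx]
  have hdetd : d₁.det = b := by
    have h1 : c₁.det * d₁.det = 1 := by rw [← Matrix.det_mul, hcd, Matrix.det_one]
    rw [hdetc] at h1
    calc d₁.det = b * (b⁻¹ * d₁.det) := by rw [← mul_assoc, mul_inv_cancel₀ hb0, one_mul]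
      _ = b := by rw [h1, mul_one]
  rw [← hA] at hS hQQ ⊢
  have hSadj : Commute S (A.adj S) := by
    show S * A.adj S = A.adj S * S
    rw [hS, mul_adj_of_adj_mul A S hS]
  have hQadjS : Commute Q (A.adj S) := commute_adj_of_commute A S hS Q hSQ.symm
  have hadjQS : Commute (A.adj Q) S := by
    have h1 := congrArg A.adj hQadjS.eq
    rw [A.mul', A.mul', A.inv'] at h1
    exact h1.symm
  have hadjc₁ : A.adj c₁ = aeval (A.adj S) (X₀.map σ) * A.adj Q + (1 - A.adj Q) := by
    rw [hc₁, A.add', A.mul', A.adj_sub, A.one']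
    have h1 : A.adj (aeval S X₀) = aeval (A.adj S) (X₀.map σ) :=
      Cfsg.Agent.Lib.Helper16.FCR.adj_aeval σ A.adj A.add' A.mul'
        (fun c x => by rw [A.smul', hA]; rfl) A.one' S X₀
    rw [h1, (commute_aeval (A.adj Q) (A.adj S) (by
      have h2 := congrArg A.adj hSQ.eq
      rw [A.mul', A.mul'] at h2
      exact h2) _).eq]
  have hnormal : Commute c₁ (A.adj c₁) := by
    rw [hadjc₁, hc₁]
    apply commute_cmix
    · exact (commute_aeval (aeval S X₀) (A.adj S)
        ((commute_aeval (A.adj S) S hSadj.symm X₀).symm) _)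
    · exact (commute_aeval (A.adj Q) S hadjQS X₀).symm
    · exact commute_aeval Q (A.adj S) hQadjS _
    · exact hQQ
  refine ⟨c₁ * A.adj d₁, ?_, ?_, ?_⟩
  · rw [A.mul', A.inv']
    calc d₁ * A.adj c₁ * (c₁ * A.adj d₁) = d₁ * (A.adj c₁ * c₁) * A.adj d₁ := by
          simp only [Matrix.mul_assoc]
      _ = d₁ * (c₁ * A.adj c₁) * A.adj d₁ := by rw [hnormal.eq]
      _ = (d₁ * c₁) * (A.adj c₁ * A.adj d₁) := by simp only [Matrix.mul_assoc]
      _ = 1 := by rw [hdc, ← A.mul', hdc, A.one', Matrix.one_mul]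
  · apply Commute.mul_left
    · rw [hc₁]
      exact ((commute_aeval S S (Commute.refl S) X₀).symm.mul_left hSQ.symm).add_left
        ((Commute.one_left S).sub_left hSQ.symm)
    · have h1 : Commute d₁ (A.adj S) := by
        rw [hd₁]
        exact ((commute_aeval (A.adj S) S hSadj.symm X₁).symm.mul_left hQadjS).add_left
          ((Commute.one_left _).sub_left hQadjS)
      have h2 := congrArg A.adj h1.eq
      rw [A.mul', A.mul', A.inv'] at h2
      exact h2.symm
  · rw [Matrix.det_mul, hdetc, hA, det_adj σ hσσ, hdetd, hσ, ← hb]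
    obtain ⟨t, rfl⟩ : ∃ t, q = t + 1 := ⟨q - 1, by have := two_le_q hK; omega⟩
    rw [Nat.add_sub_cancel, pow_succ, ← mul_assoc]
    calc b⁻¹ * b ^ t * b = b ^ t * (b⁻¹ * b) := by ring
      _ = b ^ t := by rw [inv_mul_cancel₀ hb0, mul_one]

end Cfsg.Agent.Lib.helper15.UCent
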