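import Mathlib
import Cfsg.Agent.Lib.helper15.UCent
import Cfsg.Agent.Lib.helper15.SemiCount
import Cfsg.Agent.Lib.Helper16.GUDual2

set_option autoImplicit false

namespace Cfsg.Agent.Lib.helper15.UCount

open Matrix Polynomial Cfsg.Agent.Lib.Helper16.RN Cfsg.Agent.Lib.helper15.UBase
open Cfsg.Agent.Lib.helper15.UDich Cfsg.Agent.Lib.helper15.SemiCount

theorem card_fixed_semilinear {K : Type*} [Field K] [Fintype K] {q : ℕ}
    (hK : Fintype.card K = q ^ 2) (σ : K →+* K) (hσ : ∀ x, σ x = x ^ q) (hσσ : ∀ x, σ (σ x) = x)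
    (m : ℕ) (Θ : (Fin m → K) → (Fin m → K)) (hadd : ∀ a b, Θ (a + b) = Θ a + Θ b)
    (hsmul : ∀ (c : K) a, Θ (c • a) = σ c • Θ a) (hinv : ∀ a, Θ (Θ a) = a) :
    Nat.card {a : Fin m → K // Θ a = a} = q ^ m := by
  classical
  obtain ⟨ω, hω'⟩ := Cfsg.Agent.Lib.Lead.HI.exists_not_fixed hK
  have hω : σ ω ≠ ω := by rw [hσ]; exact hω'
  have hd : ω - σ ω ≠ 0 := sub_ne_zero.2 hω.symm
  have hneg : ∀ a, Θ (-a) = -Θ a := by
    intro a
    have h1 := hadd a (-a)
    have h0 : Θ 0 = 0 := by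
      have := hadd 0 0
      rw [add_zero] at this
      exact left_eq_add.mp this
    rw [add_neg_cancel, h0] at h1
    exact eq_neg_of_add_eq_zero_right h1.symm
  have hsub : ∀ a b, Θ (a - b) = Θ a - Θ b := by
    intro a b
    rw [sub_eq_add_neg, hadd, hneg, ← sub_eq_add_neg]
  let f : {a : Fin m → K // Θ a = a} × {a : Fin m → K // Θ a = a} → (Fin m → K) :=
    fun st => st.1.1 + ω • st.2.1
  have hbij : Function.Bijective f := by
    constructor
    · rintro ⟨⟨s, hs⟩, ⟨t, ht⟩⟩ ⟨⟨s', hs'⟩, ⟨t', ht'⟩⟩ hst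
      have h1 : s + ω • t = s' + ω • t' := hst
      have h2 : s + σ ω • t = s' + σ ω • t' := by
        have := congrArg Θ h1
        rw [hadd, hadd, hsmul, hsmul, hs, hs', ht, ht'] at this
        exact this
      have h3 : (ω - σ ω) • t = (ω - σ ω) • t' := by
        rw [sub_smul, sub_smul]
        have : ω • t - σ ω • t = (s + ω • t) - (s + σ ω • t) := by abel
        rw [this, h1, h2]
        abel
      have h4 : t = t' := by
        have := congrArg (fun x => (ω - σ ω)⁻¹ • x) h3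
        simp only [smul_smul, inv_mul_cancel₀ hd, one_smul] at this
        exact this
      have h5 : s = s' := by
        rw [h4] at h1
        exact add_right_cancel h1
      subst h4
      subst h5
      rfl
    · intro a
      obtain ⟨t, ht⟩ : ∃ t, t = (ω - σ ω)⁻¹ • (a - Θ a) := ⟨_, rfl⟩
      have hσd : σ ((ω - σ ω)⁻¹) = -(ω - σ ω)⁻¹ := by
        rw [map_inv₀, map_sub, hσσ, ← neg_sub ω (σ ω), inv_neg]
      have htfix : Θ t = t := by
        rw [ht, hsmul, hsub, hinv, hσd, neg_smul, ← smul_neg, neg_sub]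
      have hdt : (ω - σ ω) • t = a - Θ a := by
        rw [ht, smul_smul, mul_inv_cancel₀ hd, one_smul]
      have hsfix : Θ (a - ω • t) = a - ω • t := by
        rw [hsub, hsmul, htfix]
        have : a - ω • t - (Θ a - σ ω • t) = (a - Θ a) - (ω - σ ω) • t := by
          rw [sub_smul]; abel
        rw [← sub_eq_zero, ← neg_sub, this, hdt, sub_self, neg_zero]
      refine ⟨(⟨a - ω • t, hsfix⟩, ⟨t, htfix⟩), ?_⟩
      show a - ω • t + ω • t = a
      abel
  have hcard := Nat.card_congr (Equiv.ofBijective f hbij)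
  rw [Nat.card_prod, Nat.card_fun, Nat.card_eq_fintype_card (α := Fin m), Fintype.card_fin,
    Nat.card_eq_fintype_card (α := K), hK, ← pow_mul, mul_comm 2 m, pow_mul, ← sq] at hcard
  exact Nat.pow_left_injective (by norm_num : 2 ≠ 0) hcard

def SD {K : Type*} [Field K] (σ : K →+* K) (n : ℕ) (χ : K[X]) : Prop :=
  χ.map σ = C ((-1 : K) ^ n) * reflect n χ

noncomputable def polyEquiv {F : Type*} [Field F] [Fintype F] (n : ℕ) (c : F) :
    {χ : F[X] // χ.Monic ∧ χ.natDegree = n + 1 ∧ χ.coeff 0 = c} ≃ (Fin n → F) :=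
  ((((Equiv.subtypeEquivRight (fun χ : F[X] => by
      rw [and_assoc])).trans (Equiv.subtypeSubtypeEquivSubtypeInter
        (fun χ : F[X] => χ.Monic ∧ χ.natDegree = n + 1) (fun χ => χ.coeff 0 = c)).symm).trans
      (Equiv.subtypeEquiv (coeffEquiv (n + 1)) (fun χ => by
        rw [coeffEquiv_apply]
        rfl))).trans (consEqEquiv n c))

theorem polyEquiv_apply {F : Type*} [Field F] [Fintype F] (n : ℕ) (c : F)
    (χ : {χ : F[X] // χ.Monic ∧ χ.natDegree = n + 1 ∧ χ.coeff 0 = c}) (i : Fin n) :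
    polyEquiv n c χ i = χ.1.coeff (i + 1) := by
  show coeffEquiv (n + 1) ⟨χ.1, χ.2.1, χ.2.2.1⟩ i.succ = _
  rw [coeffEquiv_apply]
  rfl

def Theta {K : Type*} [Field K] (σ : K →+* K) (n : ℕ) (a : Fin n → K) : Fin n → K :=
  fun j => (-1 : K) ^ (n + 1) * σ (a (Fin.rev j))

theorem Theta_add {K : Type*} [Field K] (σ : K →+* K) (n : ℕ) (a b : Fin n → K) :
    Theta σ n (a + b) = Theta σ n a + Theta σ n b := by
  funext j
  simp only [Theta, Pi.add_apply, map_add, mul_add]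

theorem Theta_smul {K : Type*} [Field K] (σ : K →+* K) (n : ℕ) (c : K) (a : Fin n → K) :
    Theta σ n (c • a) = σ c • Theta σ n a := by
  funext j
  simp only [Theta, Pi.smul_apply, smul_eq_mul, map_mul]
  ring

theorem Theta_Theta {K : Type*} [Field K] (σ : K →+* K) (hσσ : ∀ x, σ (σ x) = x) (n : ℕ)
    (a : Fin n → K) : Theta σ n (Theta σ n a) = a := by
  funext j
  simp only [Theta, map_mul, map_pow, map_neg, map_one, hσσ, Fin.rev_rev]
  rw [← mul_assoc, ← mul_pow, neg_one_mul, neg_neg, one_pow, one_mul]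

theorem SD_iff {K : Type*} [Field K] [Fintype K] (σ : K →+* K) (hσσ : ∀ x, σ (σ x) = x) (n : ℕ)
    (χ : {χ : K[X] // χ.Monic ∧ χ.natDegree = n + 1 ∧ χ.coeff 0 = (-1 : K) ^ (n + 1)}) :
    SD σ (n + 1) χ.1 ↔ Theta σ n (polyEquiv n _ χ) = polyEquiv n _ χ := by
  obtain ⟨χ, hm, hd, h0⟩ := χ
  have hε2 : ((-1 : K) ^ (n + 1)) * ((-1 : K) ^ (n + 1)) = 1 := by
    rw [← mul_pow, neg_one_mul, neg_neg, one_pow]
  have hσε : σ ((-1 : K) ^ (n + 1)) = (-1 : K) ^ (n + 1) := by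
    rw [map_pow, map_neg, map_one]
  have hlead : χ.coeff (n + 1) = 1 := by
    have := hm.coeff_natDegree
    rw [hd] at this
    exact this
  constructor
  · intro h
    funext j
    rw [Theta, polyEquiv_apply, polyEquiv_apply]
    show (-1 : K) ^ (n + 1) * σ (χ.coeff (((Fin.rev j : Fin n) : ℕ) + 1)) = χ.coeff ((j : ℕ) + 1)
    have h1 := congrArg (fun P : K[X] => P.coeff (((Fin.rev j : Fin n) : ℕ) + 1)) h
    simp only [coeff_map, coeff_C_mul, coeff_reflect] at h1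
    rw [h1, ← mul_assoc, hε2, one_mul]
    congr 1
    have hj := j.2
    rw [revAt_le (by rw [Fin.val_rev]; omega), Fin.val_rev]
    omega
  · intro h
    unfold SD
    show χ.map σ = C ((-1 : K) ^ (n + 1)) * reflect (n + 1) χ
    ext k
    rw [coeff_map, coeff_C_mul, coeff_reflect]
    rcases Nat.lt_or_ge (n + 1) k with hk | hk
    · rw [revAt_eq_self_of_lt hk, coeff_eq_zero_of_natDegree_lt (by omega), map_zero, mul_zero]
    · rw [revAt_le hk]
      rcases Nat.eq_zero_or_pos k with hk0 | hk0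
      · subst hk0
        rw [h0, hσε, Nat.sub_zero, hlead, mul_one]
      · rcases Nat.lt_or_ge k (n + 1) with hk1 | hk1
        · obtain ⟨i, hi⟩ : ∃ i : Fin n, (i : ℕ) + 1 = k := ⟨⟨k - 1, by omega⟩, by simp; omega⟩
          have h1 := congrFun h (Fin.rev i)
          rw [Theta, polyEquiv_apply, polyEquiv_apply, Fin.rev_rev] at h1
          have h2 : χ.coeff (n + 1 - k) = χ.coeff (((Fin.rev i : Fin n) : ℕ) + 1) := by
            congr 1
            rw [Fin.val_rev]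
            omega
          rw [h2]
          show σ (χ.coeff k) = (-1 : K) ^ (n + 1) * χ.coeff (((Fin.rev i : Fin n) : ℕ) + 1)
          have h3 : (-1 : K) ^ (n + 1) * σ (χ.coeff ((i : ℕ) + 1)) =
              χ.coeff (((Fin.rev i : Fin n) : ℕ) + 1) := h1
          rw [← h3, ← mul_assoc, hε2, one_mul, hi]
        · have hkn : k = n + 1 := by omega
          subst hkn
          rw [hlead, map_one, Nat.sub_self, h0, hε2]

theorem card_SD {K : Type*} [Field K] [Fintype K] {q : ℕ}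
    (hK : Fintype.card K = q ^ 2) (σ : K →+* K) (hσ : ∀ x, σ x = x ^ q) (hσσ : ∀ x, σ (σ x) = x)
    (n : ℕ) :
    Nat.card {χ : K[X] // χ.Monic ∧ χ.natDegree = n + 1 ∧ χ.coeff 0 = (-1 : K) ^ (n + 1) ∧
      SD σ (n + 1) χ} = q ^ n := by
  classical
  rw [← card_fixed_semilinear hK σ hσ hσσ n (Theta σ n) (Theta_add σ n) (Theta_smul σ n)
    (Theta_Theta σ hσσ n)]
  apply Nat.card_congr
  have e1 : {χ : K[X] // χ.Monic ∧ χ.natDegree = n + 1 ∧ χ.coeff 0 = (-1 : K) ^ (n + 1) ∧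
      SD σ (n + 1) χ} ≃
      {χ : {χ : K[X] // χ.Monic ∧ χ.natDegree = n + 1 ∧ χ.coeff 0 = (-1 : K) ^ (n + 1)} //
        SD σ (n + 1) χ.1} :=
    (Equiv.subtypeEquivRight (fun χ : K[X] => by
      rw [← and_assoc, ← and_assoc, and_assoc (a := χ.Monic)])).trans
      (Equiv.subtypeSubtypeEquivSubtypeInter
        (fun χ : K[X] => χ.Monic ∧ χ.natDegree = n + 1 ∧ χ.coeff 0 = (-1 : K) ^ (n + 1))
        (fun χ => SD σ (n + 1) χ)).symm
  exact e1.trans (Equiv.subtypeEquiv (polyEquiv n _) (fun χ => SD_iff σ hσσ n χ))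

theorem charpoly_adj {K : Type*} [Field K] {n : ℕ} (σ : K →+* K) (hσσ : ∀ x, σ (σ x) = x)
    (G : Matrix (Fin n) (Fin n) K) :
    ((uAdj n σ hσσ).adj G).charpoly = G.charpoly.map σ := by
  rw [uAdj_apply, Matrix.charpoly_transpose, Matrix.charpoly_map]

theorem charpoly_inv_reflect {K : Type*} [Field K] {n : ℕ} (G : Matrix (Fin n) (Fin n) K)
    (hG : IsUnit G) :
    G⁻¹.charpoly = C ((-1 : K) ^ n * (G.det)⁻¹) * reflect n G.charpoly := by
  rw [Matrix.charpoly_inv G hG, ← Matrix.reverse_charpoly, Fintype.card_fin, Ring.inverse_eq_inv',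
    map_mul, map_pow, map_neg, map_one]
  have h1 : G.charpoly.reverse = reflect n G.charpoly := by
    unfold Polynomial.reverse
    rw [Matrix.charpoly_natDegree_eq_dim, Fintype.card_fin]
  rw [h1]

theorem SD_charpoly {K : Type*} [Field K] {n : ℕ} (σ : K →+* K) (hσσ : ∀ x, σ (σ x) = x)
    (G : Matrix (Fin n) (Fin n) K) (hGU : (uAdj n σ hσσ).adj G * G = 1) (hdet : G.det = 1) :
    SD σ n G.charpoly := by
  unfold SD
  have hunit : IsUnit G := by
    rw [Matrix.isUnit_iff_isUnit_det, hdet]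
    exact isUnit_one
  have hinv : G⁻¹ = (uAdj n σ hσσ).adj G := Matrix.inv_eq_left_inv hGU
  rw [← charpoly_adj σ hσσ, ← hinv, charpoly_inv_reflect G hunit, hdet, inv_one, mul_one]

theorem exists_SU_of_charpoly {K : Type*} [Field K] [Fintype K] {q : ℕ}
    (hK : Fintype.card K = q ^ 2) (p : ℕ) [Fact p.Prime] [CharP K p]
    (σ : K →+* K) (hσ : ∀ x, σ x = x ^ q) (hσσ : ∀ x, σ (σ x) = x) (n : ℕ) (χ : K[X])
    (hχ : χ.Monic) (hdeg : χ.natDegree = n) (h0 : χ.coeff 0 = (-1 : K) ^ n) (hSD : SD σ n χ) :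
    ∃ g : Cfsg.SU n K q, (orderOf g).Coprime p ∧
      (g.1 : Matrix (Fin n) (Fin n) K).charpoly = χ := by
  classical
  have hp : p.Prime := Fact.out
  have hne : χ.coeff 0 ≠ 0 := by
    rw [h0]
    exact pow_ne_zero _ (neg_ne_zero.2 one_ne_zero)
  obtain ⟨A, hAo, hAc⟩ := Cfsg.Agent.Lib.helper15.SemiReal.exists_GL_of_charpoly p n χ hχ hdeg hne
  obtain ⟨Am, hAm⟩ : ∃ Am : Matrix (Fin n) (Fin n) K, Am = (A : Matrix (Fin n) (Fin n) K) :=
    ⟨_, rfl⟩
  have hε2 : ((-1 : K) ^ n) * ((-1 : K) ^ n) = 1 := by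
    rw [← mul_pow, neg_one_mul, neg_neg, one_pow]
  have hAdet : Am.det = 1 := by
    rw [hAm, Matrix.det_eq_sign_charpoly_coeff, hAc, h0, Fintype.card_fin, hε2]
  obtain ⟨M, hM⟩ : ∃ M, M = orderOf A := ⟨_, rfl⟩
  have hMK : ((M : ℕ) : K) ≠ 0 := by
    rw [Ne, CharP.cast_eq_zero_iff K p, hM]
    exact (Nat.Prime.coprime_iff_not_dvd hp).1 hAo.symm
  have hAM : Am ^ M = 1 := by
    rw [hAm, hM, ← Units.val_pow_eq_pow_val, pow_orderOf_eq_one]
    rfl
  have hAunit : IsUnit Am := by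
    rw [Matrix.isUnit_iff_isUnit_det, hAdet]
    exact isUnit_one
  obtain ⟨A', hA'⟩ : ∃ A' : Matrix (Fin n) (Fin n) K, A' = ((uAdj n σ hσσ).adj Am)⁻¹ := ⟨_, rfl⟩
  have hadjunit : IsUnit ((uAdj n σ hσσ).adj Am) := by
    rw [Matrix.isUnit_iff_isUnit_det, det_adj σ hσσ, hAdet, map_one]
    exact isUnit_one
  have hA'M : A' ^ M = 1 := by
    rw [hA', Matrix.inv_pow', ← (uAdj n σ hσσ).adj_pow, hAM, (uAdj n σ hσσ).one', inv_one]
  have hA'c : A'.charpoly = χ := by
    rw [hA', charpoly_inv_reflect _ hadjunit, det_adj σ hσσ, hAdet, map_one, inv_one, mul_one,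
      charpoly_adj σ hσσ, hAm, hAc]
    have h1 : reflect n (χ.map σ) = C ((-1 : K) ^ n) * χ := by
      have h2 := congrArg (reflect n) hSD
      rw [reflect_C_mul, reflect_reflect] at h2
      exact h2
    rw [h1, ← mul_assoc, ← map_mul, hε2, map_one, one_mul]
  obtain ⟨Qm, hQm⟩ := Cfsg.Agent.Lib.helper15.SemiConj.exists_GL_conj_of_charpoly_eq n M hMK Am A'
    hAM hA'M (by rw [hA'c, hAm, hAc])
  have hconj : IsConj (A : Matrix (Fin n) (Fin n) K)
      (((A : Matrix (Fin n) (Fin n) K).map (fun x : K => x ^ q)).transpose)⁻¹ := by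
    refine ⟨Qm, ?_⟩
    show (Qm : Matrix (Fin n) (Fin n) K) * A = _ * Qm
    have h1 : (((A : Matrix (Fin n) (Fin n) K).map (fun x : K => x ^ q)).transpose)⁻¹ = A' := by
      rw [hA', uAdj_apply, ← hAm]
      congr 2
      ext i j
      simp only [Matrix.map_apply, hσ]
    rw [h1, ← hAm]
    exact hQm
  obtain ⟨B, hB⟩ := (Cfsg.Agent.Lib.Helper16.FCR.gu_conj_iff_self_dual hK A).2 hconj
  obtain ⟨Bm, hBm⟩ : ∃ Bm : Matrix (Fin n) (Fin n) K,
    Bm = ((B.1 : GL (Fin n) K) : Matrix (Fin n) (Fin n) K) := ⟨_, rfl⟩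
  have hBU : (uAdj n σ hσσ).adj Bm * Bm = 1 := by
    rw [hBm]
    exact (mem_GU_iff σ hσ hσσ B.1).1 B.2
  have hBc : Bm.charpoly = χ := by
    rw [hBm, ← charpoly_eq_of_isConj n A B.1 hB, hAc]
  have hBdet : Bm.det = 1 := by
    rw [Matrix.det_eq_sign_charpoly_coeff, hBc, h0, Fintype.card_fin, hε2]
  have hBM : Bm ^ M = 1 := by
    have h1 : (B.1 : GL (Fin n) K) ^ M = 1 := by
      obtain ⟨c, hc⟩ := isConj_iff.1 hB
      rw [← hc, conj_pow, hM, pow_orderOf_eq_one, mul_one, mul_inv_cancel]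
    rw [hBm, ← Units.val_pow_eq_pow_val, h1]
    rfl
  refine ⟨mkSU σ hσ hσσ Bm hBdet hBU, ?_, hBc⟩
  have h1 : (mkSU σ hσ hσσ Bm hBdet hBU : Cfsg.SU n K q) ^ M = 1 := by
    apply Subtype.ext
    apply Subtype.ext
    rw [coe_pow_SU]
    exact hBM
  have h2 := orderOf_dvd_of_pow_eq_one h1
  rw [hM] at h2
  exact Nat.Coprime.coprime_dvd_left h2 hAo

end Cfsg.Agent.Lib.helper15.UCount
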