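import Mathlib
import Cfsg.Agent.Lib.helper15.SemiCount
import Cfsg.Agent.Lib.helper15.SpRegSemi
import Cfsg.Agent.Lib.Helper16.SpReal3
import Cfsg.Agent.Lib.helper15.SemiReal
import Cfsg.Agent.Lib.helper15.SemiConj
import Cfsg.Agent.Lib.helper15.UCount
import Cfsg.Agent.Lib.helper15.SpCons

set_option autoImplicit false
set_option linter.unusedSectionVars false
set_option linter.unusedSimpArgs false
set_option linter.unusedVariables false
set_option linter.unusedTactic false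

namespace Cfsg.Agent.Lib.helper15.SpCnt

open Matrix Polynomial Cfsg.Agent.Lib.helper15.SemiCount
open Cfsg.Agent.Lib.Helper16 Cfsg.Agent.Lib.Helper16.SpSemi

def Pal {F : Type*} [Field F] (n : ℕ) (χ : F[X]) : Prop :=
  χ.Monic ∧ χ.natDegree = n + n ∧ reflect (n + n) χ = χ

def PalV {F : Type*} [Field F] (n : ℕ) (a : Fin (n + n) → F) : Prop :=
  (∀ i : Fin (n + n), (i : ℕ) = 0 → a i = 1) ∧
    ∀ i j : Fin (n + n), (i : ℕ) + j = n + n → a i = a j

theorem pal_iff {F : Type*} [Field F] (n : ℕ) (χ : F[X]) (hm : χ.Monic)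
    (hd : χ.natDegree = n + n) :
    reflect (n + n) χ = χ ↔ PalV n (fun i : Fin (n + n) => χ.coeff i) := by
  constructor
  · intro h
    have hc : ∀ k, χ.coeff (revAt (n + n) k) = χ.coeff k := by
      intro k
      rw [← coeff_reflect, h]
    refine ⟨?_, ?_⟩
    · intro i hi
      show χ.coeff i = 1
      rw [hi, ← hc 0, revAt_le (Nat.zero_le _), Nat.sub_zero, ← hd]
      exact hm.coeff_natDegree
    · intro i j hij
      show χ.coeff i = χ.coeff j
      rw [← hc i, revAt_le (by omega)]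
      congr 1
      omega
  · rintro ⟨h0, hs⟩
    ext k
    rw [coeff_reflect]
    by_cases hk : k ≤ n + n
    · rw [revAt_le hk]
      by_cases hk0 : k = 0
      · subst hk0
        rw [Nat.sub_zero]
        by_cases hn : n = 0
        · subst hn
          rfl
        · have h1 : χ.coeff 0 = 1 := h0 ⟨0, by omega⟩ rfl
          rw [h1, ← hd]
          exact hm.coeff_natDegree
      · by_cases hkN : k = n + n
        · subst hkN
          rw [Nat.sub_self]
          have h1 : χ.coeff 0 = 1 := h0 ⟨0, by omega⟩ rfl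
          have h2 : χ.coeff (n + n) = 1 := by
            rw [← hd]
            exact hm.coeff_natDegree
          rw [h2]
          exact h1
        · exact hs ⟨n + n - k, by omega⟩ ⟨k, by omega⟩ (by simp only []; omega)
    · have hk' : n + n < k := by omega
      rw [revAt_eq_self_of_lt hk']

theorem card_palV {F : Type*} [Field F] [Fintype F] (n : ℕ) :
    Nat.card {a : Fin (n + n) → F // PalV n a} = Fintype.card F ^ n := by
  classical
  have h1 : Nat.card (Fin n → F) = Fintype.card F ^ n := by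
    rw [Nat.card_fun, Nat.card_eq_fintype_card (α := Fin n), Fintype.card_fin,
      Nat.card_eq_fintype_card]
  rw [← h1]
  apply Nat.card_congr
  refine Equiv.ofBijective
    (fun a => fun i : Fin n => a.1 ⟨(i : ℕ) + 1, by have := i.2; omega⟩) ⟨?_, ?_⟩
  · rintro ⟨a, ha0, has⟩ ⟨b, hb0, hbs⟩ hab
    apply Subtype.ext
    funext j
    have hab' : ∀ (k : ℕ) (hk : k < n),
        a ⟨k + 1, by omega⟩ = b ⟨k + 1, by omega⟩ := by
      intro k hk
      exact congrFun hab ⟨k, hk⟩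
    show a j = b j
    by_cases hj0 : (j : ℕ) = 0
    · rw [ha0 j hj0, hb0 j hj0]
    · by_cases hjn : (j : ℕ) ≤ n
      · have h2 := hab' ((j : ℕ) - 1) (by omega)
        have h3 : (⟨(j : ℕ) - 1 + 1, by have := j.2; omega⟩ : Fin (n + n)) = j := by
          apply Fin.ext
          simp only []
          omega
        rw [h3] at h2
        exact h2
      · have hj2 := j.2
        have h2 := hab' (n + n - (j : ℕ) - 1) (by omega)
        rw [has j ⟨n + n - (j : ℕ) - 1 + 1, by omega⟩ (by simp only []; omega),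
          hbs j ⟨n + n - (j : ℕ) - 1 + 1, by omega⟩ (by simp only []; omega)]
        exact h2
  · intro v
    obtain ⟨v', hv'⟩ : ∃ v' : ℕ → F, ∀ (k : ℕ) (hk : k < n), v' k = v ⟨k, hk⟩ :=
      ⟨fun k => if hk : k < n then v ⟨k, hk⟩ else 0, fun k hk => dif_pos hk⟩
    refine ⟨⟨fun j : Fin (n + n) => if (j : ℕ) = 0 then 1 else
      if (j : ℕ) ≤ n then v' ((j : ℕ) - 1) else v' (n + n - (j : ℕ) - 1), ?_, ?_⟩, ?_⟩
    · intro i hi
      simp only []
      rw [if_pos hi]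
    · intro i j hij
      have hi2 := i.2
      have hj2 := j.2
      simp only []
      rw [if_neg (show ¬ (i : ℕ) = 0 by omega), if_neg (show ¬ (j : ℕ) = 0 by omega)]
      by_cases hin : (i : ℕ) ≤ n
      · rw [if_pos hin]
        by_cases hjn : (j : ℕ) ≤ n
        · rw [if_pos hjn]
          congr 1
          omega
        · rw [if_neg hjn]
          congr 1
          omega
      · rw [if_neg hin, if_pos (show (j : ℕ) ≤ n by omega)]
        congr 1
        omega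
    · funext i
      have hi2 := i.2
      simp only []
      rw [if_neg (show ¬ (i : ℕ) + 1 = 0 by omega), if_pos (show (i : ℕ) + 1 ≤ n by omega), Nat.add_sub_cancel, hv' _ i.2]

theorem card_pal {F : Type*} [Field F] [Fintype F] (n : ℕ) :
    Nat.card {χ : F[X] // Pal n χ} = Fintype.card F ^ n := by
  classical
  rw [← card_palV n]
  apply Nat.card_congr
  refine ((Equiv.subtypeEquivRight (fun χ : F[X] => ?_)).trans
    (Equiv.subtypeSubtypeEquivSubtypeInter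
      (fun χ : F[X] => χ.Monic ∧ χ.natDegree = n + n)
      (fun χ => reflect (n + n) χ = χ)).symm).trans
    (Equiv.subtypeEquiv (coeffEquiv (n + n)) (fun χ => ?_))
  · unfold Pal
    rw [and_assoc]
  · rw [pal_iff n χ.1 χ.2.1 χ.2.2]
    have : (fun i : Fin (n + n) => χ.1.coeff i) = coeffEquiv (n + n) χ := by
      funext i
      rw [coeffEquiv_apply]
    rw [this]

theorem pal_charpoly {F : Type*} [Field F] (n : ℕ) (A : Matrix.symplecticGroup (Fin n) F) :
    Pal n (A : Matrix (Fin n ⊕ Fin n) (Fin n ⊕ Fin n) F).charpoly := by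
  have hdeg : (A : Matrix (Fin n ⊕ Fin n) (Fin n ⊕ Fin n) F).charpoly.natDegree = n + n := by
    rw [Matrix.charpoly_natDegree_eq_dim, Fintype.card_sum, Fintype.card_fin]
  refine ⟨Matrix.charpoly_monic _, hdeg, ?_⟩
  have hdet : (A : Matrix (Fin n ⊕ Fin n) (Fin n ⊕ Fin n) F).det = 1 :=
    SymplecticGroup.det_eq_one A.2
  have hunit : IsUnit (A : Matrix (Fin n ⊕ Fin n) (Fin n ⊕ Fin n) F) := by
    rw [Matrix.isUnit_iff_isUnit_det, hdet]
    exact isUnit_one
  have h1 := Cfsg.Agent.Lib.helper15.SpRegSemi.charpoly_symp_inv A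
  rw [SymplecticGroup.coe_inv', Matrix.charpoly_inv _ hunit, hdet, Ring.inverse_one,
    map_one, mul_one, Fintype.card_sum, Fintype.card_fin, ← two_mul, pow_mul, neg_one_sq, one_pow,
    one_mul, ← Matrix.reverse_charpoly] at h1
  unfold Polynomial.reverse at h1
  rw [hdeg] at h1
  exact h1

theorem exists_skew_of_unit {K : Type*} [Field K] [Fintype K] {ι : Type} [Fintype ι]
    [DecidableEq ι] (G P : Matrix ι ι K) (r : ℕ)
    (hrF : (r : K) ≠ 0) (hG : G ^ r = 1) (hP : IsUnit P) (hGP : Gᵀ * P * G = P)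
    (hu : IsUnit (G * G - 1)) :
    ∃ H : Matrix ι ι K, Hᵀ = -H ∧ IsUnit H ∧ Gᵀ * H * G = H := by
  classical
  obtain ⟨Pi, hPi⟩ := hP.exists_right_inv
  have hPi' : Pi * P = 1 := mul_eq_one_comm.mp hPi
  have hr0 : r ≠ 0 := by rintro rfl; simp at hrF
  obtain ⟨r', rfl⟩ : ∃ r', r = r' + 1 := ⟨r - 1, by omega⟩
  obtain ⟨Gi, hGi⟩ : ∃ Gi, Gi = G ^ (r' + 1 - 1) := ⟨_, rfl⟩
  have hGGi : G * Gi = 1 := by rw [hGi, Nat.add_sub_cancel, ← pow_succ', hG]
  have hGiG : Gi * G = 1 := mul_eq_one_comm.mp hGGi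
  obtain ⟨dag, hdag⟩ : ∃ dag : Matrix ι ι K → Matrix ι ι K, ∀ a, dag a = Pi * aᵀ * P :=
    ⟨_, fun a => rfl⟩
  have hadd : ∀ a b, dag (a + b) = dag a + dag b := by
    intro a b; rw [hdag, hdag, hdag, Matrix.transpose_add, mul_add, add_mul]
  have hmul : ∀ a b, dag (a * b) = dag b * dag a := by
    intro a b
    rw [hdag, hdag, hdag, Matrix.transpose_mul]
    calc Pi * (bᵀ * aᵀ) * P = Pi * bᵀ * 1 * aᵀ * P := by rw [mul_one]; simp only [mul_assoc]
      _ = Pi * bᵀ * P * (Pi * aᵀ * P) := by rw [← hPi]; simp only [mul_assoc]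
  have hone : dag 1 = 1 := by rw [hdag, Matrix.transpose_one, mul_one, hPi']
  have hsmul : ∀ (a : K) x, dag (a • x) = a • dag x := by
    intro a x
    rw [hdag, hdag, Matrix.transpose_smul, Matrix.mul_smul, Matrix.smul_mul]
  obtain ⟨T, hT⟩ : ∃ T, T = Pi * Pᵀ := ⟨_, rfl⟩
  obtain ⟨Ti, hTi⟩ : ∃ Ti, Ti = Piᵀ * P := ⟨_, rfl⟩
  have hPiT : Pᵀ * Piᵀ = 1 := by rw [← Matrix.transpose_mul, hPi', Matrix.transpose_one]
  have hPiT' : Piᵀ * Pᵀ = 1 := by rw [← Matrix.transpose_mul, hPi, Matrix.transpose_one]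
  have hTTi : T * Ti = 1 := by
    rw [hT, hTi]
    calc Pi * Pᵀ * (Piᵀ * P) = Pi * (Pᵀ * Piᵀ) * P := by simp only [mul_assoc]
      _ = 1 := by rw [hPiT, mul_one, hPi']
  have hTiT : Ti * T = 1 := mul_eq_one_comm.mp hTTi
  have hdagdag : ∀ x, dag (dag x) = T * x * Ti := by
    intro x
    rw [hdag, hdag, Matrix.transpose_mul, Matrix.transpose_mul, Matrix.transpose_transpose, hT, hTi]
    simp only [mul_assoc]
  have hdagG : dag G = Gi := by
    rw [hdag]
    calc Pi * Gᵀ * P = Pi * Gᵀ * P * (G * Gi) := by rw [hGGi, mul_one]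
      _ = Pi * (Gᵀ * P * G) * Gi := by simp only [mul_assoc]
      _ = Gi := by rw [hGP, hPi', one_mul]
  have hdagGi : dag Gi = G := by
    have h1 : dag Gi * Gi = 1 := by
      calc dag Gi * Gi = dag Gi * dag G := by rw [hdagG]
        _ = dag (G * Gi) := (hmul _ _).symm
        _ = 1 := by rw [hGGi, hone]
    calc dag Gi = dag Gi * (Gi * G) := by rw [hGiG, mul_one]
      _ = G := by rw [← mul_assoc, h1, one_mul]
  have hGiT : Giᵀ * Gᵀ = 1 := by rw [← Matrix.transpose_mul, hGGi, Matrix.transpose_one]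
  have hGPT : Gᵀ * Pᵀ * G = Pᵀ := by
    have := congrArg Matrix.transpose hGP
    rw [Matrix.transpose_mul, Matrix.transpose_mul, Matrix.transpose_transpose] at this
    rw [← mul_assoc] at this
    exact this
  have hPG : P * G = Giᵀ * P := by
    calc P * G = (Giᵀ * Gᵀ) * P * G := by rw [hGiT, one_mul]
      _ = Giᵀ * (Gᵀ * P * G) := by simp only [mul_assoc]
      _ = Giᵀ * P := by rw [hGP]
  have hPTG : Pᵀ * G = Giᵀ * Pᵀ := by
    calc Pᵀ * G = (Giᵀ * Gᵀ) * Pᵀ * G := by rw [hGiT, one_mul]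
      _ = Giᵀ * (Gᵀ * Pᵀ * G) := by simp only [mul_assoc]
      _ = Giᵀ * Pᵀ := by rw [hGPT]
  have hGPi : G * Pi = Pi * Giᵀ := by
    calc G * Pi = (Pi * P) * G * Pi := by rw [hPi', one_mul]
      _ = Pi * (P * G) * Pi := by simp only [mul_assoc]
      _ = Pi * Giᵀ * (P * Pi) := by rw [hPG]; simp only [mul_assoc]
      _ = Pi * Giᵀ := by rw [hPi, mul_one]
  have cGT : T * G = G * T := by
    rw [hT, mul_assoc, hPTG, ← mul_assoc, ← hGPi, mul_assoc]
  have conjcomm : ∀ (a ai x : Matrix ι ι K), a * ai = 1 → ai * a = 1 → a * x = x * a →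
      ai * x = x * ai := by
    intro a ai x h1 h2 h
    calc ai * x = ai * x * (a * ai) := by rw [h1, mul_one]
      _ = ai * (x * a) * ai := by simp only [mul_assoc]
      _ = ai * (a * x) * ai := by rw [h]
      _ = (ai * a) * x * ai := by simp only [mul_assoc]
      _ = x * ai := by rw [h2, one_mul]
  have cGiT : Gi * T = T * Gi := conjcomm G Gi T hGGi hGiG cGT.symm
  have cGTi : Ti * G = G * Ti := conjcomm T Ti G hTTi hTiT cGT
  have cGiTi : Ti * Gi = Gi * Ti := conjcomm T Ti Gi hTTi hTiT cGiT.symm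
  have hdagT : dag T = Ti := by
    rw [hdag, hT, hTi, Matrix.transpose_mul, Matrix.transpose_transpose]
    calc Pi * (P * Piᵀ) * P = (Pi * P) * Piᵀ * P := by simp only [mul_assoc]
      _ = Piᵀ * P := by rw [hPi', one_mul]
  have hdagTi : dag Ti = T := by
    rw [hdag, hT, hTi, Matrix.transpose_mul, Matrix.transpose_transpose]
    calc Pi * (Pᵀ * Pi) * P = Pi * Pᵀ * (Pi * P) := by simp only [mul_assoc]
      _ = Pi * Pᵀ := by rw [hPi', mul_one]
  obtain ⟨S, hSdef⟩ : ∃ S : Set (Matrix ι ι K),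
      S = {x | x = G ∨ x = Gi ∨ x = T ∨ x = Ti ∨ ∃ a : K, x = a • 1} := ⟨_, rfl⟩
  have hsc : ∀ (a : K) (x : Matrix ι ι K), (a • (1 : Matrix ι ι K)) * x = x * (a • 1) := by
    intro a x
    rw [Matrix.mul_smul, Matrix.smul_mul, mul_one, one_mul]
  have hcomm : ∀ a ∈ S, ∀ b ∈ S, a * b = b * a := by
    intro a ha b hb
    rw [hSdef] at ha hb
    rcases ha with rfl | rfl | rfl | rfl | ⟨a, rfl⟩ <;>
      rcases hb with rfl | rfl | rfl | rfl | ⟨b, rfl⟩
    · rfl
    · rw [hGGi, hGiG]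
    · exact cGT.symm
    · exact cGTi.symm
    · exact (hsc _ _).symm
    · rw [hGGi, hGiG]
    · rfl
    · exact cGiT
    · exact cGiTi.symm
    · exact (hsc _ _).symm
    · exact cGT
    · exact cGiT.symm
    · rfl
    · rw [hTTi, hTiT]
    · exact (hsc _ _).symm
    · exact cGTi
    · exact cGiTi
    · rw [hTTi, hTiT]
    · rfl
    · exact (hsc _ _).symm
    · exact hsc _ _
    · exact hsc _ _
    · exact hsc _ _
    · exact hsc _ _
    · exact hsc _ _
  have hS : ∀ a ∈ S, dag a ∈ S := by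
    intro a ha
    rw [hSdef] at ha ⊢
    rcases ha with rfl | rfl | rfl | rfl | ⟨a, rfl⟩
    · right; left; exact hdagG
    · left; exact hdagGi
    · right; right; right; left; exact hdagT
    · right; right; left; exact hdagTi
    · right; right; right; right; exact ⟨a, by rw [hsmul, hone]⟩
  have hSS : ∀ a ∈ S, dag (dag a) = a := by
    intro a ha
    rw [hSdef] at ha
    rcases ha with rfl | rfl | rfl | rfl | ⟨a, rfl⟩
    · rw [hdagG, hdagGi]
    · rw [hdagGi, hdagG]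
    · rw [hdagT, hdagTi]
    · rw [hdagTi, hdagT]
    · rw [hsmul, hone, hsmul, hone]
  have hGS : G ∈ Subring.closure S := Subring.subset_closure (by rw [hSdef]; left; rfl)
  have hGiS : Gi ∈ Subring.closure S :=
    Subring.subset_closure (by rw [hSdef]; right; left; rfl)
  have hTS : T ∈ Subring.closure S :=
    Subring.subset_closure (by rw [hSdef]; right; right; left; rfl)
  have hcl := fun {x y : Matrix ι ι K} (hx : x ∈ Subring.closure S)
    (hy : y ∈ Subring.closure S) => FCR.commute_closure S hcomm hx hy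
  have hadjcl := fun {x : Matrix ι ι K} (hx : x ∈ Subring.closure S) =>
    FCR.adj_mem_closure dag hadd hmul hone S hS hx
  obtain ⟨k, hk1, hidem, hadjε, -, H2⟩ := FCR.key2 dag hadd hmul hone S hcomm hS hSS G hGS
  rw [hdagG] at hidem hadjε H2
  have hfit : (G - Gi) * (1 - (G - Gi) ^ k) = 0 := by
    have := fitting_zero G (r' + 1) hrF hG k hk1 (by rw [← hGi]; exact hidem)
    rw [← hGi] at this
    exact this
  obtain ⟨ε, hε⟩ : ∃ ε, ε = (G - Gi) ^ k := ⟨_, rfl⟩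
  obtain ⟨e, he⟩ : ∃ e, e = 1 - ε := ⟨_, rfl⟩
  rw [← hε] at hidem hadjε H2 hfit
  rw [← he] at H2 hfit
  have hεS : ε ∈ Subring.closure S := by rw [hε]; exact pow_mem (sub_mem hGS hGiS) k
  have heS : e ∈ Subring.closure S := by rw [he]; exact sub_mem (one_mem _) hεS
  have hεe : ε + e = 1 := by rw [he]; abel
  have hGe : G * e = Gi * e := by
    have := hfit
    rw [sub_mul, sub_eq_zero] at this
    exact this
  have hGGe : G * (G * e) = e := by rw [hGe, ← mul_assoc, hGGi, one_mul]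
  have he0 : e = 0 := by
    have h1 : (G * G - 1) * e = 0 := by
      rw [sub_mul, one_mul, mul_assoc, hGGe, sub_self]
    obtain ⟨w, hw⟩ := hu.exists_left_inv
    calc e = (w * (G * G - 1)) * e := by rw [hw, one_mul]
      _ = w * ((G * G - 1) * e) := by rw [mul_assoc]
      _ = 0 := by rw [h1, mul_zero]
  have hε1 : ε = 1 := by rw [← hεe, he0, add_zero]
  have hnegT : dag (-T) * (-T) = 1 := by
    rw [FCR.adj_neg' dag hadd, hdagT, neg_mul_neg, hTiT]
  obtain ⟨c, hcS, d, hdS, hcd, hce, hTc⟩ := H2 (-T) (neg_mem hTS) hnegT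
  have hdc : d * c = ε := by rw [hcl hdS hcS]; exact hcd
  have hdc : d * c = ε := by rw [hcl hdS hcS]; exact hcd
  have hcT : cᵀ = P * dag c * Pi := by
    rw [hdag]
    calc cᵀ = (P * Pi) * cᵀ * (P * Pi) := by rw [hPi, one_mul, mul_one]
      _ = P * (Pi * cᵀ * P) * Pi := by simp only [mul_assoc]
  have hdc1 : d * c = 1 := by rw [hdc, hε1]
  have hcu : IsUnit c := IsUnit.of_mul_eq_one d (mul_eq_one_comm.mp hdc1)
  refine ⟨P * c, ?_, hP.mul hcu, ?_⟩
  · rw [Matrix.transpose_mul, hcT]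
    have h1 : T * dag c = -c := by
      have := hTc
      rw [neg_mul] at this
      exact neg_eq_iff_eq_neg.mp this
    calc P * dag c * Pi * Pᵀ = P * (dag c * (Pi * Pᵀ)) := by simp only [mul_assoc]
      _ = P * (T * dag c) := by rw [← hT, hcl (hadjcl hcS) hTS]
      _ = -(P * c) := by rw [h1, mul_neg]
  · calc Gᵀ * (P * c) * G = Gᵀ * P * (c * G) := by simp only [mul_assoc]
      _ = (Gᵀ * P * G) * c := by rw [hcl hcS hGS]; simp only [mul_assoc]
      _ = P * c := by rw [hGP]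

theorem reverse_pow' {F : Type*} [Field F] (f : F[X]) (k : ℕ) :
    (f ^ k).reverse = f.reverse ^ k := by
  induction k with
  | zero =>
    rw [pow_zero, pow_zero]
    have := reverse_C (1 : F)
    rw [map_one] at this
    exact this
  | succ k ih => rw [pow_succ, pow_succ, reverse_mul_of_domain, ih]

theorem reverse_X_sub_C' {F : Type*} [Field F] (c : F) :
    (X - C c : F[X]).reverse = 1 - C c * X := by
  unfold Polynomial.reverse
  rw [natDegree_X_sub_C, reflect_sub, reflect_one_X, reflect_C, pow_one]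

theorem eval_one_reverse {F : Type*} [Field F] (f : F[X]) :
    f.reverse.eval 1 = f.eval 1 := by
  letI : Invertible (1 : F) := invertibleOne
  have h := eval₂_reverse_mul_pow (RingHom.id F) (1 : F) f
  rw [invOf_eq_inv, inv_one, one_pow, mul_one] at h
  exact h

theorem eval_neg_one_reverse {F : Type*} [Field F] (f : F[X]) :
    f.reverse.eval (-1) * (-1) ^ f.natDegree = f.eval (-1) := by
  letI : Invertible (-1 : F) := invertibleOfNonzero (neg_ne_zero.2 one_ne_zero)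
  have h := eval₂_reverse_mul_pow (RingHom.id F) (-1 : F) f
  rw [invOf_eq_inv, inv_neg_one] at h
  exact h

theorem neg_one_pow_eq_one {F : Type*} [Field F] (h2 : (2 : F) ≠ 0) (k : ℕ)
    (h : (-1 : F) ^ k = 1) : Even k := by
  rcases Nat.even_or_odd k with hk | hk
  · exact hk
  · exfalso
    rw [hk.neg_one_pow] at h
    apply h2
    have : (2 : F) = 1 - (-1) := by ring
    rw [this, h, sub_self]

theorem pal_factor {F : Type*} [Field F] (h2 : (2 : F) ≠ 0) (n : ℕ) (χ : F[X])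
    (hχ : Pal n χ) :
    ∃ (a b m : ℕ) (ψ : F[X]),
      χ = (X - C (1 : F)) ^ (a + a) * ((X - C (-1 : F)) ^ (b + b) * ψ) ∧ Pal m ψ ∧
      ψ.eval 1 ≠ 0 ∧ ψ.eval (-1) ≠ 0 ∧ a + b + m = n := by
  obtain ⟨hm, hd, hr⟩ := hχ
  have hrev : χ.reverse = χ := by
    unfold Polynomial.reverse
    rw [hd]
    exact hr
  have hχ0 : χ ≠ 0 := hm.ne_zero
  obtain ⟨ψ₁, hψ₁, hnd₁⟩ := exists_eq_pow_rootMultiplicity_mul_and_not_dvd χ hχ0 (1 : F)
  obtain ⟨a₀, ha₀⟩ : ∃ a₀, a₀ = rootMultiplicity (1 : F) χ := ⟨_, rfl⟩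
  rw [← ha₀] at hψ₁
  have hψ₁0 : ψ₁ ≠ 0 := by
    rintro rfl
    rw [mul_zero] at hψ₁
    exact hχ0 hψ₁
  obtain ⟨ψ, hψ, hnd⟩ := exists_eq_pow_rootMultiplicity_mul_and_not_dvd ψ₁ hψ₁0 (-1 : F)
  obtain ⟨b₀, hb₀⟩ : ∃ b₀, b₀ = rootMultiplicity (-1 : F) ψ₁ := ⟨_, rfl⟩
  rw [← hb₀] at hψ
  have hψ0 : ψ ≠ 0 := by
    rintro rfl
    rw [mul_zero] at hψ
    exact hψ₁0 hψ
  have he1 : ψ.eval 1 ≠ 0 := by
    intro h
    apply hnd₁
    rw [hψ]
    exact Dvd.dvd.mul_left (dvd_iff_isRoot.2 h) _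
  have he2 : ψ.eval (-1) ≠ 0 := by
    intro h
    exact hnd (dvd_iff_isRoot.2 h)
  have hA0 : (X - C (1 : F)) ^ a₀ ≠ 0 := pow_ne_zero _ (X_sub_C_ne_zero _)
  have hB0 : (X - C (-1 : F)) ^ b₀ ≠ 0 := pow_ne_zero _ (X_sub_C_ne_zero _)
  have hχe : χ = (X - C (1 : F)) ^ a₀ * ((X - C (-1 : F)) ^ b₀ * ψ) := by
    rw [← hψ]
    exact hψ₁
  have hr1 : (X - C (1 : F)).reverse = C (-1 : F) * (X - C (1 : F)) := by
    rw [reverse_X_sub_C', map_neg, map_one]
    ring
  have hr2 : (X - C (-1 : F)).reverse = X - C (-1 : F) := by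
    rw [reverse_X_sub_C', map_neg, map_one]
    ring
  have hψrev : ψ = C ((-1 : F) ^ a₀) * ψ.reverse := by
    have h1 := hrev
    rw [hχe, reverse_mul_of_domain, reverse_mul_of_domain, reverse_pow', reverse_pow', hr1, hr2,
      mul_pow, ← map_pow] at h1
    have h3 : (X - C (1 : F)) ^ a₀ * ((X - C (-1 : F)) ^ b₀ * (C ((-1 : F) ^ a₀) * ψ.reverse)) =
        (X - C (1 : F)) ^ a₀ * ((X - C (-1 : F)) ^ b₀ * ψ) := by
      rw [← h1]
      ring
    exact (mul_left_cancel₀ hB0 (mul_left_cancel₀ hA0 h3)).symm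
  have hae : Even a₀ := by
    apply neg_one_pow_eq_one h2
    have h1 := congrArg (eval (1 : F)) hψrev
    rw [eval_mul, eval_C, eval_one_reverse] at h1
    have h3 : ((-1 : F) ^ a₀ - 1) * ψ.eval 1 = 0 := by
      rw [sub_mul, one_mul, ← h1, sub_self]
    rcases mul_eq_zero.1 h3 with h4 | h4
    · exact sub_eq_zero.1 h4
    · exact absurd h4 he1
  have hψrev' : ψ.reverse = ψ := by
    have h1 := hψrev
    rw [hae.neg_one_pow, map_one, one_mul] at h1
    exact h1.symm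
  have hde : Even ψ.natDegree := by
    apply neg_one_pow_eq_one h2
    have h1 := eval_neg_one_reverse ψ
    rw [hψrev'] at h1
    have h3 : ((-1 : F) ^ ψ.natDegree - 1) * ψ.eval (-1) = 0 := by
      rw [sub_mul, one_mul, mul_comm, h1, sub_self]
    rcases mul_eq_zero.1 h3 with h4 | h4
    · exact sub_eq_zero.1 h4
    · exact absurd h4 he2
  have hdeg : a₀ + (b₀ + ψ.natDegree) = n + n := by
    rw [← hd, hχe, natDegree_mul hA0 (mul_ne_zero hB0 hψ0), natDegree_mul hB0 hψ0,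
      natDegree_pow, natDegree_pow, natDegree_X_sub_C, natDegree_X_sub_C, mul_one, mul_one]
  obtain ⟨a, ha⟩ := hae
  obtain ⟨m, hm'⟩ := hde
  have hbe : Even b₀ := by
    rw [Nat.even_iff]
    omega
  obtain ⟨b, hb⟩ := hbe
  have hψm : ψ.Monic := by
    have h1 : ((X - C (1 : F)) ^ a₀ * (X - C (-1 : F)) ^ b₀).Monic :=
      ((monic_X_sub_C _).pow _).mul ((monic_X_sub_C _).pow _)
    apply h1.of_mul_monic_left
    rw [mul_assoc, ← hχe]
    exact hm
  refine ⟨a, b, m, ψ, ?_, ⟨hψm, hm', ?_⟩, he1, he2, by omega⟩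
  · rw [← ha, ← hb]
    exact hχe
  · have h1 := hψrev'
    unfold Polynomial.reverse at h1
    rw [hm'] at h1
    exact h1

theorem pal_coeff_zero {K : Type*} [Field K] (m : ℕ) (ψ : K[X]) (hψ : Pal m ψ) :
    ψ.coeff 0 = 1 := by
  obtain ⟨hm, hd, hr⟩ := hψ
  rw [← hr, coeff_reflect, revAt_le (Nat.zero_le _), Nat.sub_zero, ← hd]
  exact hm.coeff_natDegree

theorem exists_core {K : Type*} [Field K] [Fintype K] (p : ℕ) [Fact p.Prime] [CharP K p]
    (m : ℕ) (ψ : K[X]) (hψ : Pal m ψ) :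
    ∃ (G P : Matrix (Fin (m + m)) (Fin (m + m)) K) (r : ℕ), r.Coprime p ∧ 0 < r ∧ G ^ r = 1 ∧
      G.charpoly = ψ ∧ IsUnit P ∧ Gᵀ * P * G = P := by
  classical
  have hp : p.Prime := Fact.out
  have h0 := pal_coeff_zero m ψ hψ
  obtain ⟨hm, hd, hr⟩ := hψ
  obtain ⟨A, hAo, hAc⟩ := Cfsg.Agent.Lib.helper15.SemiReal.exists_GL_of_charpoly p (m + m) ψ hm hd
    (by rw [h0]; exact one_ne_zero)
  obtain ⟨G, hG⟩ : ∃ G : Matrix (Fin (m + m)) (Fin (m + m)) K,
    G = (A : Matrix (Fin (m + m)) (Fin (m + m)) K) := ⟨_, rfl⟩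
  obtain ⟨r, hrdef⟩ : ∃ r, r = orderOf A := ⟨_, rfl⟩
  have hr0 : 0 < r := by
    rw [hrdef]
    exact orderOf_pos A
  have hrK : ((r : ℕ) : K) ≠ 0 := by
    rw [Ne, CharP.cast_eq_zero_iff K p, hrdef]
    exact (Nat.Prime.coprime_iff_not_dvd hp).1 hAo.symm
  have hGr : G ^ r = 1 := by
    rw [hG, hrdef, ← Units.val_pow_eq_pow_val, pow_orderOf_eq_one]
    rfl
  have hdet : G.det = 1 := by
    rw [Matrix.det_eq_sign_charpoly_coeff, hG, hAc, h0, Fintype.card_fin, ← two_mul, pow_mul,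
      neg_one_sq, one_pow, mul_one]
  have hdetT : Gᵀ.det = 1 := by rw [Matrix.det_transpose, hdet]
  have hunitT : IsUnit Gᵀ := by
    rw [Matrix.isUnit_iff_isUnit_det, hdetT]
    exact isUnit_one
  obtain ⟨G', hG'⟩ : ∃ G' : Matrix (Fin (m + m)) (Fin (m + m)) K, G' = (Gᵀ)⁻¹ := ⟨_, rfl⟩
  have hG'r : G' ^ r = 1 := by
    rw [hG', Matrix.inv_pow', ← Matrix.transpose_pow, hGr, Matrix.transpose_one, inv_one]
  have hG'c : G'.charpoly = G.charpoly := by
    rw [hG', Cfsg.Agent.Lib.helper15.UCount.charpoly_inv_reflect _ hunitT, hdetT, inv_one,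
      mul_one, Matrix.charpoly_transpose, hG, hAc, hr, ← two_mul, pow_mul, neg_one_sq, one_pow,
      map_one, one_mul]
  obtain ⟨Q, hQ⟩ := Cfsg.Agent.Lib.helper15.SemiConj.exists_GL_conj_of_charpoly_eq (m + m) r hrK
    G G' hGr hG'r hG'c.symm
  refine ⟨G, (Q : Matrix (Fin (m + m)) (Fin (m + m)) K), r, ?_, hr0, hGr, by rw [hG, hAc], ?_, ?_⟩
  · rw [hrdef]
    exact hAo
  · exact ⟨Q, rfl⟩
  · rw [mul_assoc, hQ, ← mul_assoc, hG', Matrix.mul_nonsing_inv _ ((Matrix.isUnit_iff_isUnit_det _).1 hunitT),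
      one_mul]

theorem isUnit_sq_sub_one {K : Type*} [Field K] {ι : Type*} [Fintype ι] [DecidableEq ι]
    (G : Matrix ι ι K) (h1 : G.charpoly.eval 1 ≠ 0) (h2 : G.charpoly.eval (-1) ≠ 0) :
    IsUnit (G * G - 1) := by
  rw [Matrix.eval_charpoly] at h1 h2
  have h3 : G * G - 1 = (Matrix.scalar ι (1 : K) - G) * (Matrix.scalar ι (-1 : K) - G) := by
    rw [map_one, map_neg, map_one]
    noncomm_ring
  rw [h3, Matrix.isUnit_iff_isUnit_det, Matrix.det_mul]
  exact (isUnit_iff_ne_zero.2 h1).mul (isUnit_iff_ne_zero.2 h2)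

theorem alt_of_skew {K : Type*} [Field K] (h2 : (2 : K) ≠ 0) {ι : Type*} [Fintype ι]
    [DecidableEq ι] (H : Matrix ι ι K) (hH : Hᵀ = -H) (x : ι → K) : x ⬝ᵥ H *ᵥ x = 0 := by
  have h1 : x ⬝ᵥ H *ᵥ x = -(x ⬝ᵥ H *ᵥ x) := by
    conv_lhs => rw [Matrix.dotProduct_mulVec, ← Matrix.mulVec_transpose, hH, Matrix.neg_mulVec,
      neg_dotProduct, dotProduct_comm]
  have h3 : (2 : K) * (x ⬝ᵥ H *ᵥ x) = 0 := by
    rw [two_mul]
    nth_rewrite 1 [h1]
    rw [neg_add_cancel]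
  rcases mul_eq_zero.1 h3 with h4 | h4
  · exact absurd h4 h2
  · exact h4

theorem transport {K : Type*} [Field K] {ι κ : Type} [Fintype ι] [DecidableEq ι] [Fintype κ]
    [DecidableEq κ] (e : ι ≃ κ) (G P : Matrix ι ι K) (k : ℕ) (hG : G ^ k = 1) (hP : IsUnit P)
    (hGP : Gᵀ * P * G = P) :
    ∃ G' P' : Matrix κ κ K, G' ^ k = 1 ∧ IsUnit P' ∧ G'ᵀ * P' * G' = P' ∧
      G'.charpoly = G.charpoly ∧ (Pᵀ = -P → P'ᵀ = -P') := by
  obtain ⟨R, hR⟩ : ∃ R : Matrix ι ι K ≃ₐ[K] Matrix κ κ K, R = Matrix.reindexAlgEquiv K K e :=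
    ⟨_, rfl⟩
  have hRT : ∀ a, R aᵀ = (R a)ᵀ := by
    intro a
    rw [hR, Matrix.coe_reindexAlgEquiv]
    rfl
  refine ⟨R G, R P, ?_, hP.map R, ?_, ?_, ?_⟩
  · rw [← map_pow, hG, map_one]
  · rw [← hRT, ← map_mul, ← map_mul, hGP]
  · rw [hR, Matrix.coe_reindexAlgEquiv]
    exact Matrix.charpoly_reindex e G
  · intro h
    rw [← hRT, h, map_neg]

theorem sp_of_form {K : Type*} [Field K] (n : ℕ)
    (G H : Matrix (Fin n ⊕ Fin n) (Fin n ⊕ Fin n) K) (k : ℕ) (hG : G ^ k = 1)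
    (halt : ∀ x : Fin n ⊕ Fin n → K, x ⬝ᵥ H *ᵥ x = 0) (hH : IsUnit H)
    (hinv : Gᵀ * H * G = H) :
    ∃ B : Matrix.symplecticGroup (Fin n) K, B ^ k = 1 ∧
      (B : Matrix (Fin n ⊕ Fin n) (Fin n ⊕ Fin n) K).charpoly = G.charpoly := by
  obtain ⟨Q, B, hQu, hQG⟩ := exists_sp_conj G H halt hH hinv
  obtain ⟨u, hu⟩ := hQu
  have hB : B.1 = u.1 * G * u⁻¹.1 := by
    rw [hu]
    calc B.1 = B.1 * (Q * u⁻¹.1) := by rw [← hu, ← Units.val_mul, mul_inv_cancel, Units.val_one,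
        mul_one]
      _ = (B.1 * Q) * u⁻¹.1 := by rw [mul_assoc]
      _ = Q * G * u⁻¹.1 := by rw [hQG]
  have hBpow : ∀ j : ℕ, B.1 ^ j = u.1 * G ^ j * u⁻¹.1 := by
    intro j
    induction j with
    | zero => rw [pow_zero, pow_zero, mul_one, ← Units.val_mul, mul_inv_cancel, Units.val_one]
    | succ j ih =>
      rw [pow_succ, ih, hB, pow_succ]
      calc u.1 * G ^ j * u⁻¹.1 * (u.1 * G * u⁻¹.1)
          = u.1 * G ^ j * (u⁻¹.1 * u.1) * G * u⁻¹.1 := by simp only [mul_assoc]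
        _ = u.1 * (G ^ j * G) * u⁻¹.1 := by
          rw [← Units.val_mul, inv_mul_cancel, Units.val_one, mul_one]
          simp only [mul_assoc]
  refine ⟨B, ?_, ?_⟩
  · apply Subtype.ext
    rw [SubmonoidClass.coe_pow, hBpow, hG, mul_one, ← Units.val_mul, mul_inv_cancel, Units.val_one]
    rfl
  · rw [hB, Matrix.coe_units_inv]
    exact Matrix.charpoly_units_conj u G

theorem fromBlocks_diag_pow {K : Type*} [Field K] {ι κ : Type*} [Fintype ι] [DecidableEq ι]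
    [Fintype κ] [DecidableEq κ] (A : Matrix ι ι K) (D : Matrix κ κ K) (k : ℕ) :
    (Matrix.fromBlocks A 0 0 D) ^ k = Matrix.fromBlocks (A ^ k) 0 0 (D ^ k) := by
  induction k with
  | zero => rw [pow_zero, pow_zero, pow_zero, Matrix.fromBlocks_one]
  | succ k ih =>
    rw [pow_succ, ih, Matrix.fromBlocks_multiply, pow_succ, pow_succ]
    simp only [Matrix.mul_zero, Matrix.zero_mul, add_zero, zero_add]

theorem coprime_of_pow_eq_one {G : Type*} [Monoid G] (g : G) (k p : ℕ) (hk : k.Coprime p)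
    (h : g ^ k = 1) : (orderOf g).Coprime p :=
  Nat.Coprime.coprime_dvd_left (orderOf_dvd_of_pow_eq_one h) hk

theorem exists_sp_of_pal_two {K : Type*} [Field K] [Fintype K] [CharP K 2]
    (n : ℕ) (χ : K[X]) (hχ : Pal n χ) :
    ∃ g : Matrix.symplecticGroup (Fin n) K, (orderOf g).Coprime 2 ∧
      (g : Matrix (Fin n ⊕ Fin n) (Fin n ⊕ Fin n) K).charpoly = χ := by
  classical
  haveI : Fact (Nat.Prime 2) := ⟨Nat.prime_two⟩
  obtain ⟨G, P, r, hrp, hr0, hGr, hGc, hPu, hGP⟩ := exists_core 2 n χ hχ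
  obtain ⟨G', P', hG'r, hP'u, hG'P', hG'c, -⟩ :=
    transport (finSumFinEquiv (m := n) (n := n)).symm G P r hGr hPu hGP
  have hrodd : Odd r := by
    rcases Nat.even_or_odd r with h | h
    · exfalso
      have h1 : 2 ∣ Nat.gcd r 2 := Nat.dvd_gcd h.two_dvd (dvd_refl 2)
      rw [hrp] at h1
      omega
    · exact h
  have hrF : (r : K) ≠ 0 := by
    rw [Ne, CharP.cast_eq_zero_iff K 2]
    exact (Nat.Prime.coprime_iff_not_dvd Nat.prime_two).1 hrp.symm
  have hcard : Even (Fintype.card (Fin n ⊕ Fin n)) :=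
    ⟨n, by rw [Fintype.card_sum, Fintype.card_fin]⟩
  obtain ⟨H, halt, hHu, hHinv⟩ := exists_alt_invariant G' P' r hrodd hrF hG'r hP'u hG'P' hcard
  obtain ⟨B, hBr, hBc⟩ := sp_of_form n G' H r hG'r halt hHu hHinv
  exact ⟨B, coprime_of_pow_eq_one B r 2 hrp hBr, by rw [hBc, hG'c, hGc]⟩

theorem exists_sp_of_pal_odd {K : Type*} [Field K] [Fintype K] (p : ℕ) [Fact p.Prime] [CharP K p]
    (h2 : (2 : K) ≠ 0) (n : ℕ) (χ : K[X]) (hχ : Pal n χ) :
    ∃ g : Matrix.symplecticGroup (Fin n) K, (orderOf g).Coprime p ∧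
      (g : Matrix (Fin n ⊕ Fin n) (Fin n ⊕ Fin n) K).charpoly = χ := by
  classical
  have hp : p.Prime := Fact.out
  have hp2 : ¬ p ∣ 2 := by
    intro h
    apply h2
    have h3 : ((2 : ℕ) : K) = 0 := (CharP.cast_eq_zero_iff K p 2).2 h
    exact_mod_cast h3
  obtain ⟨a, b, m, ψ, hχe, hψ, he1, he2, habm⟩ := pal_factor h2 n χ hχ
  obtain ⟨G₁, P₁, r, hrp, hr0, hGr, hGc, hPu, hGP⟩ := exists_core p m ψ hψ
  have hrF : (r : K) ≠ 0 := by
    rw [Ne, CharP.cast_eq_zero_iff K p]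
    exact (Nat.Prime.coprime_iff_not_dvd hp).1 hrp.symm
  have hu : IsUnit (G₁ * G₁ - 1) :=
    isUnit_sq_sub_one G₁ (by rw [hGc]; exact he1) (by rw [hGc]; exact he2)
  obtain ⟨H₁, hskew, hH₁u, hH₁inv⟩ := exists_skew_of_unit G₁ P₁ r hrF hGr hPu hGP hu
  obtain ⟨s, hs⟩ : ∃ s : Fin b ⊕ Fin a → K, s = Sum.elim (fun _ => -1) (fun _ => 1) := ⟨_, rfl⟩
  have hss : ∀ i, s i * s i = 1 := by
    intro i
    rw [hs]
    rcases i with i | i
    · simp
    · simp
  obtain ⟨Dd, hDd⟩ : ∃ Dd : Matrix (Fin b ⊕ Fin a) (Fin b ⊕ Fin a) K, Dd = Matrix.diagonal s :=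
    ⟨_, rfl⟩
  have hDdT : Ddᵀ = Dd := by rw [hDd, Matrix.diagonal_transpose]
  have hDdsq : Dd * Dd = 1 := by
    rw [hDd, Matrix.diagonal_mul_diagonal, ← Matrix.diagonal_one]
    congr 1
    funext i
    exact hss i
  have hDdc : Dd.charpoly = (X - C (-1 : K)) ^ b * (X - C (1 : K)) ^ a := by
    rw [hDd, Matrix.charpoly_diagonal, Fintype.prod_sum_type, hs]
    simp only [Sum.elim_inl, Sum.elim_inr, Finset.prod_const, Finset.card_univ, Fintype.card_fin]
  obtain ⟨D, hD⟩ : ∃ D : Matrix ((Fin b ⊕ Fin a) ⊕ (Fin b ⊕ Fin a))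
    ((Fin b ⊕ Fin a) ⊕ (Fin b ⊕ Fin a)) K, D = Matrix.fromBlocks Dd 0 0 Dd := ⟨_, rfl⟩
  have hDT : Dᵀ = D := by
    rw [hD, Matrix.fromBlocks_transpose, hDdT, Matrix.transpose_zero]
  have hDsq : D * D = 1 := by
    rw [hD, Matrix.fromBlocks_multiply]
    simp only [Matrix.mul_zero, Matrix.zero_mul, add_zero, zero_add, hDdsq]
    exact Matrix.fromBlocks_one
  have hDJ : Dᵀ * Matrix.J (Fin b ⊕ Fin a) K * D = Matrix.J (Fin b ⊕ Fin a) K := by
    rw [hDT, hD, Matrix.J, Matrix.fromBlocks_multiply, Matrix.fromBlocks_multiply]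
    simp only [Matrix.mul_zero, Matrix.zero_mul, add_zero, zero_add, Matrix.mul_neg, Matrix.mul_one,
      Matrix.neg_mul, hDdsq, neg_zero]
  have hDc : D.charpoly = Dd.charpoly * Dd.charpoly := by
    rw [hD, Matrix.charpoly_fromBlocks_zero₁₂]
  obtain ⟨Gt, hGt⟩ : ∃ Gt : Matrix (Fin (m + m) ⊕ ((Fin b ⊕ Fin a) ⊕ (Fin b ⊕ Fin a)))
    (Fin (m + m) ⊕ ((Fin b ⊕ Fin a) ⊕ (Fin b ⊕ Fin a))) K, Gt = Matrix.fromBlocks G₁ 0 0 D :=
    ⟨_, rfl⟩
  obtain ⟨Ht, hHt⟩ : ∃ Ht : Matrix (Fin (m + m) ⊕ ((Fin b ⊕ Fin a) ⊕ (Fin b ⊕ Fin a)))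
    (Fin (m + m) ⊕ ((Fin b ⊕ Fin a) ⊕ (Fin b ⊕ Fin a))) K,
    Ht = Matrix.fromBlocks H₁ 0 0 (Matrix.J (Fin b ⊕ Fin a) K) := ⟨_, rfl⟩
  have hGtpow : Gt ^ (2 * r) = 1 := by
    rw [hGt, fromBlocks_diag_pow, mul_comm 2 r, pow_mul G₁, hGr, one_pow, mul_comm r 2, pow_mul D,
      pow_two, hDsq, one_pow]
    exact Matrix.fromBlocks_one
  have hHtT : Htᵀ = -Ht := by
    rw [hHt, Matrix.fromBlocks_transpose, hskew, Matrix.J_transpose, Matrix.transpose_zero,
      Matrix.fromBlocks_neg, Matrix.transpose_zero, neg_zero, neg_zero]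
  have hHtu : IsUnit Ht := by
    rw [Matrix.isUnit_iff_isUnit_det, hHt, Matrix.det_fromBlocks_zero₂₁]
    exact ((Matrix.isUnit_iff_isUnit_det _).1 hH₁u).mul (Matrix.isUnit_det_J _ _)
  have hinv : Gtᵀ * Ht * Gt = Ht := by
    rw [hGt, hHt, Matrix.fromBlocks_transpose, Matrix.fromBlocks_multiply,
      Matrix.fromBlocks_multiply]
    simp only [Matrix.mul_zero, Matrix.zero_mul, add_zero, zero_add, Matrix.transpose_zero,
      hH₁inv, hDJ]
  have hGtc : Gt.charpoly = χ := by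
    rw [hGt, Matrix.charpoly_fromBlocks_zero₁₂, hGc, hDc, hDdc, hχe]
    ring
  have hcard : Fintype.card (Fin (m + m) ⊕ ((Fin b ⊕ Fin a) ⊕ (Fin b ⊕ Fin a))) =
      Fintype.card (Fin n ⊕ Fin n) := by
    simp only [Fintype.card_sum, Fintype.card_fin]
    omega
  obtain ⟨G', H', hG'r, hH'u, hG'H', hG'c, hsk'⟩ :=
    transport (Fintype.equivOfCardEq hcard) Gt Ht (2 * r) hGtpow hHtu hinv
  have halt := alt_of_skew h2 H' (hsk' hHtT)
  obtain ⟨B, hBr, hBc⟩ := sp_of_form n G' H' (2 * r) hG'r halt hH'u hG'H'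
  refine ⟨B, coprime_of_pow_eq_one B (2 * r) p ?_ hBr, by rw [hBc, hG'c, hGtc]⟩
  exact Nat.Coprime.mul_left ((Nat.Prime.coprime_iff_not_dvd hp).2 hp2).symm hrp

theorem exists_sp_of_pal {K : Type*} [Field K] [Fintype K] (p : ℕ) [Fact p.Prime] [CharP K p]
    (n : ℕ) (χ : K[X]) (hχ : Pal n χ) :
    ∃ g : Matrix.symplecticGroup (Fin n) K, (orderOf g).Coprime p ∧
      (g : Matrix (Fin n ⊕ Fin n) (Fin n ⊕ Fin n) K).charpoly = χ := by
  by_cases hp2 : p = 2
  · subst hp2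
    exact exists_sp_of_pal_two n χ hχ
  · exact exists_sp_of_pal_odd p (Cfsg.Agent.Lib.helper15.SpCons.two_ne_zero_of_char p hp2) n χ hχ

end Cfsg.Agent.Lib.helper15.SpCnt
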