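import Mathlib
import Cfsg.Agent.S2280
import Cfsg.Agent.Lib.helper15.SpGen4

set_option autoImplicit false

namespace Cfsg.Agent.Lib.helper15.SpRU

open Matrix Cfsg.Agent.Lib.helper6 Cfsg.Agent.S0269 Cfsg.Agent.Lib.helper15.SpGen
open Cfsg.Agent.S2280 (lmat linv lmat_mul_linv)

variable {F : Type*} [Field F] {m : ℕ}

local notation:max "𝐞[" k "]" => bv (Sum.inl k)
local notation:max "𝐟[" k "]" => bv (Sum.inr k)

lemma sf_ee (x : Fin m ⊕ Fin m → F) (k : Fin m) :
    Cfsg.sympForm m F x 𝐞[k] = x (Sum.inr k) := by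
  rw [sf_bv]
  simp [sg]

lemma sf_ff (x : Fin m ⊕ Fin m → F) (k : Fin m) :
    Cfsg.sympForm m F x 𝐟[k] = - x (Sum.inl k) := by
  rw [sf_bv]
  simp [sg]

lemma ee_inl (k j : Fin m) : (𝐞[k] : Fin m ⊕ Fin m → F) (Sum.inl j) = if j = k then 1 else 0 := by
  rw [bv_apply]
  simp

lemma ee_inr (k j : Fin m) : (𝐞[k] : Fin m ⊕ Fin m → F) (Sum.inr j) = 0 := by
  rw [bv_apply]
  simp

lemma ff_inr (k j : Fin m) : (𝐟[k] : Fin m ⊕ Fin m → F) (Sum.inr j) = if j = k then 1 else 0 := by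
  rw [bv_apply]
  simp

lemma ff_inl (k j : Fin m) : (𝐟[k] : Fin m ⊕ Fin m → F) (Sum.inl j) = 0 := by
  rw [bv_apply]
  simp

lemma mulVec_bv (M : Matrix (Fin m ⊕ Fin m) (Fin m ⊕ Fin m) F) (j : Fin m ⊕ Fin m) :
    M *ᵥ bv j = fun i => M i j := by
  unfold bv
  rw [Matrix.mulVec_single_one]
  rfl

lemma blk_mem (M N : Matrix (Fin m) (Fin m) F) (h : M * Nᵀ = 1) :
    fromBlocks M 0 0 N ∈ Matrix.symplecticGroup (Fin m) F := by
  have h' : N * Mᵀ = 1 := by
    have := congrArg Matrix.transpose h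
    rwa [Matrix.transpose_mul, Matrix.transpose_transpose, Matrix.transpose_one] at this
  rw [SymplecticGroup.mem_iff, Matrix.J, fromBlocks_multiply, fromBlocks_transpose,
    fromBlocks_multiply]
  simp [h, h']

lemma linv_mul_lmat : linv m * lmat (F := F) m m = 1 :=
  mul_eq_one_comm.mp lmat_mul_linv

def Ael (F : Type*) [Field F] (m : ℕ) : Matrix.symplecticGroup (Fin m) F :=
  ⟨fromBlocks (linv m)ᵀ 0 0 (lmat m m), blk_mem _ _ (by
    rw [← Matrix.transpose_mul, lmat_mul_linv, Matrix.transpose_one])⟩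

def Aiel (F : Type*) [Field F] (m : ℕ) : Matrix.symplecticGroup (Fin m) F :=
  ⟨fromBlocks (lmat m m)ᵀ 0 0 (linv m), blk_mem _ _ (by
    rw [← Matrix.transpose_mul, linv_mul_lmat, Matrix.transpose_one])⟩

lemma Ael_mul_Aiel : Ael F m * Aiel F m = 1 := by
  apply Subtype.ext
  show fromBlocks (linv m)ᵀ 0 0 (lmat m m) * fromBlocks (lmat m m)ᵀ 0 0 (linv m) = 1
  rw [fromBlocks_multiply]
  simp only [Matrix.zero_mul, Matrix.mul_zero, add_zero, zero_add]
  rw [← Matrix.transpose_mul, lmat_mul_linv, Matrix.transpose_one, Matrix.fromBlocks_one]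

lemma Aiel_mul_Ael : Aiel F m * Ael F m = 1 := mul_eq_one_comm.mp Ael_mul_Aiel

lemma Ael_ff (k k' : Fin m) (h : k.val + 1 = k'.val) :
    (Ael F m).1 *ᵥ 𝐟[k] = 𝐟[k] + 𝐟[k'] := by
  rw [mulVec_bv]
  ext i
  rcases i with r | r
  · simp [Ael, ff_inl]
  · simp only [Ael, fromBlocks_apply₂₂, Pi.add_apply, ff_inr]
    by_cases h1 : r = k
    · subst h1
      have : r ≠ k' := by
        intro h2
        rw [h2] at h
        omega
      rw [Cfsg.Agent.S2280.lmat_self, if_pos rfl, if_neg this, add_zero]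
    · by_cases h2 : r = k'
      · subst h2
        rw [Cfsg.Agent.S2280.lmat_succ m r k h.symm k.isLt, if_neg h1, if_pos rfl, zero_add]
      · rw [Cfsg.Agent.S2280.lmat_zero m r k h1, if_neg h1, if_neg h2, add_zero]
        rintro ⟨h3, -⟩
        apply h2
        apply Fin.ext
        omega

lemma Ael_ff_last (k : Fin m) (h : k.val + 1 = m) :
    (Ael F m).1 *ᵥ 𝐟[k] = 𝐟[k] := by
  rw [mulVec_bv]
  ext i
  rcases i with r | r
  · simp [Ael, ff_inl]
  · simp only [Ael, fromBlocks_apply₂₂, ff_inr]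
    by_cases h1 : r = k
    · subst h1
      rw [Cfsg.Agent.S2280.lmat_self, if_pos rfl]
    · rw [Cfsg.Agent.S2280.lmat_zero m r k h1, if_neg h1]
      rintro ⟨h3, -⟩
      have := r.isLt
      omega

lemma Ael_ee_inl (k r : Fin m) :
    ((Ael F m).1 *ᵥ 𝐞[k]) (Sum.inl r) = if r.val ≤ k.val then (-1) ^ (k.val - r.val) else 0 := by
  rw [mulVec_bv]
  simp [Ael, linv]

lemma Ael_ee_inr (k r : Fin m) :
    ((Ael F m).1 *ᵥ 𝐞[k]) (Sum.inr r) = 0 := by
  rw [mulVec_bv]
  simp [Ael]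

lemma Aiel_ee (k k' : Fin m) (h : k'.val + 1 = k.val) :
    (Aiel F m).1 *ᵥ 𝐞[k] = 𝐞[k] + 𝐞[k'] := by
  rw [mulVec_bv]
  ext i
  rcases i with r | r
  · simp only [Aiel, fromBlocks_apply₁₁, Matrix.transpose_apply, Pi.add_apply, ee_inl]
    by_cases h1 : r = k
    · subst h1
      have : r ≠ k' := by
        intro h2
        rw [h2] at h
        omega
      rw [Cfsg.Agent.S2280.lmat_self, if_pos rfl, if_neg this, add_zero]
    · by_cases h2 : r = k'
      · subst h2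
        rw [Cfsg.Agent.S2280.lmat_succ m k r h.symm r.isLt, if_neg h1, if_pos rfl, zero_add]
      · rw [Cfsg.Agent.S2280.lmat_zero m k r (Ne.symm h1), if_neg h1, if_neg h2, add_zero]
        rintro ⟨h3, -⟩
        apply h2
        apply Fin.ext
        omega
  · simp [Aiel, ee_inr]

lemma Aiel_ee_zero (k : Fin m) (h : k.val = 0) :
    (Aiel F m).1 *ᵥ 𝐞[k] = 𝐞[k] := by
  rw [mulVec_bv]
  ext i
  rcases i with r | r
  · simp only [Aiel, fromBlocks_apply₁₁, Matrix.transpose_apply, ee_inl]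
    by_cases h1 : r = k
    · subst h1
      rw [Cfsg.Agent.S2280.lmat_self, if_pos rfl]
    · rw [Cfsg.Agent.S2280.lmat_zero m k r (Ne.symm h1), if_neg h1]
      rintro ⟨h3, -⟩
      omega
  · simp [Aiel, ee_inr]

lemma Aiel_ff_last (k : Fin m) (h : k.val + 1 = m) :
    (Aiel F m).1 *ᵥ 𝐟[k] = 𝐟[k] := by
  rw [mulVec_bv]
  ext i
  rcases i with r | r
  · simp [Aiel, ff_inl]
  · simp only [Aiel, fromBlocks_apply₂₂, ff_inr, linv, Matrix.of_apply]
    by_cases h1 : r = k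
    · subst h1
      simp
    · rw [if_neg h1, if_neg]
      intro h2
      apply h1
      apply Fin.ext
      have := r.isLt
      omega


section urdef

variable {n : ℕ}

def ur (F : Type*) [Field F] (n : ℕ) (r : F) : Matrix.symplecticGroup (Fin (n + 2)) F :=
  τ 𝐞[0] r * Ael F (n + 2) * τ 𝐞[Fin.last (n + 1)] 1

def uri (F : Type*) [Field F] (n : ℕ) (r : F) : Matrix.symplecticGroup (Fin (n + 2)) F :=
  τ 𝐞[Fin.last (n + 1)] (-1) * Aiel F (n + 2) * τ 𝐞[0] (-r)

lemma ur_mul_uri (r : F) : ur F n r * uri F n r = 1 := by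
  unfold ur uri
  have e1 : τ (𝐞[Fin.last (n + 1)] : Fin (n + 2) ⊕ Fin (n + 2) → F) 1 * τ 𝐞[Fin.last (n + 1)] (-1) = 1 := by
    rw [τ_add, add_neg_cancel, τ_zero]
  have e2 : τ (𝐞[0] : Fin (n + 2) ⊕ Fin (n + 2) → F) r * τ 𝐞[0] (-r) = 1 := by
    rw [τ_add, add_neg_cancel, τ_zero]
  calc τ 𝐞[0] r * Ael F (n + 2) * τ 𝐞[Fin.last (n + 1)] 1 *
        (τ 𝐞[Fin.last (n + 1)] (-1) * Aiel F (n + 2) * τ 𝐞[0] (-r))
      = τ 𝐞[0] r * Ael F (n + 2) * (τ 𝐞[Fin.last (n + 1)] 1 * τ 𝐞[Fin.last (n + 1)] (-1)) *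
          Aiel F (n + 2) * τ 𝐞[0] (-r) := by group
    _ = τ 𝐞[0] r * (Ael F (n + 2) * Aiel F (n + 2)) * τ 𝐞[0] (-r) := by rw [e1]; group
    _ = 1 := by rw [Ael_mul_Aiel, mul_one, e2]

lemma ur_inv (r : F) : (ur F n r)⁻¹ = uri F n r := inv_eq_of_mul_eq_one_right (ur_mul_uri r)

lemma last_ne_zero : (Fin.last (n + 1) : Fin (n + 2)) ≠ 0 := by
  intro h
  have := congrArg Fin.val h
  simp at this

lemma τ_ee_ff (c : F) (j k : Fin m) (h : k ≠ j) :
    (τ (𝐞[j] : Fin m ⊕ Fin m → F) c).1 *ᵥ 𝐟[k] = 𝐟[k] := by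
  rw [τ_mulVec, sf_ee, ff_inr, if_neg (Ne.symm h), mul_zero, zero_smul, add_zero]

lemma τ_ee_ff_self (c : F) (j : Fin m) :
    (τ (𝐞[j] : Fin m ⊕ Fin m → F) c).1 *ᵥ 𝐟[j] = 𝐟[j] + c • 𝐞[j] := by
  rw [τ_mulVec, sf_ee, ff_inr, if_pos rfl, mul_one]

lemma τ_ee_ee (c : F) (j k : Fin m) :
    (τ (𝐞[j] : Fin m ⊕ Fin m → F) c).1 *ᵥ 𝐞[k] = 𝐞[k] := by
  rw [τ_mulVec, sf_ee, ee_inr, mul_zero, zero_smul, add_zero]

lemma ur_ff (r : F) (k k' : Fin (n + 2)) (h : k.val + 1 = k'.val) :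
    (ur F n r).1 *ᵥ 𝐟[k] = 𝐟[k] + 𝐟[k'] + (if k.val = 0 then r else 0) • 𝐞[0] := by
  have hk : k ≠ Fin.last (n + 1) := by
    intro h1
    rw [h1] at h
    have := k'.isLt
    simp at h
    omega
  have hk' : k' ≠ 0 := by
    intro h1
    rw [h1] at h
    simp at h
  unfold ur
  rw [mmv, mmv, τ_ee_ff 1 _ k hk, Ael_ff k k' h, Matrix.mulVec_add, τ_ee_ff r 0 k' hk']
  by_cases h0 : k.val = 0
  · have : k = 0 := Fin.ext (by simp [h0])
    rw [if_pos h0, this, τ_ee_ff_self]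
    abel
  · have : k ≠ 0 := by
      intro h1
      apply h0
      rw [h1]
      rfl
    rw [if_neg h0, τ_ee_ff r 0 k this, zero_smul, add_zero]

lemma ur_ff_last (r : F) :
    (ur F n r).1 *ᵥ 𝐟[Fin.last (n + 1)] =
      𝐟[Fin.last (n + 1)] + (Ael F (n + 2)).1 *ᵥ 𝐞[Fin.last (n + 1)] := by
  unfold ur
  rw [mmv, mmv, τ_ee_ff_self, one_smul, Matrix.mulVec_add, Ael_ff_last _ (by simp),
    Matrix.mulVec_add, τ_ee_ff r 0 _ last_ne_zero, τ_mulVec, sf_ee, Ael_ee_inr, mul_zero,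
    zero_smul, add_zero]

lemma ur_ee (r : F) (k : Fin (n + 2)) :
    (ur F n r).1 *ᵥ 𝐞[k] = (Ael F (n + 2)).1 *ᵥ 𝐞[k] := by
  unfold ur
  rw [mmv, mmv, τ_ee_ee, τ_mulVec, sf_ee, Ael_ee_inr, mul_zero, zero_smul, add_zero]

lemma uri_ee (r : F) (k k' : Fin (n + 2)) (h : k'.val + 1 = k.val) :
    (uri F n r).1 *ᵥ 𝐞[k] = 𝐞[k] + 𝐞[k'] := by
  unfold uri
  rw [mmv, mmv, τ_ee_ee, Aiel_ee k k' h, Matrix.mulVec_add, τ_ee_ee, τ_ee_ee]

lemma uri_ee_zero (r : F) :
    (uri F n r).1 *ᵥ 𝐞[0] = (𝐞[0] : Fin (n + 2) ⊕ Fin (n + 2) → F) := by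
  unfold uri
  rw [mmv, mmv, τ_ee_ee, Aiel_ee_zero 0 rfl, τ_ee_ee]

lemma uri_ff_last (r : F) :
    (uri F n r).1 *ᵥ 𝐟[Fin.last (n + 1)] =
      𝐟[Fin.last (n + 1)] - 𝐞[Fin.last (n + 1)] := by
  unfold uri
  rw [mmv, mmv, τ_ee_ff (-r) 0 _ last_ne_zero, Aiel_ff_last _ (by simp), τ_ee_ff_self, neg_smul,
    one_smul, sub_eq_add_neg]

lemma ur_ee_zero (r : F) :
    (ur F n r).1 *ᵥ 𝐞[0] = (𝐞[0] : Fin (n + 2) ⊕ Fin (n + 2) → F) := by
  have h := uri_ee_zero (n := n) r
  have h2 : (ur F n r).1 *ᵥ ((uri F n r).1 *ᵥ 𝐞[0]) = (𝐞[0] : Fin (n + 2) ⊕ Fin (n + 2) → F) := by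
    rw [← mmv, ur_mul_uri, one_mv]
  rwa [h] at h2

end urdef


section level

variable {ι : Type*} [Fintype ι] [DecidableEq ι]

lemma pow_entry_zero (N : Matrix ι ι F) (ℓ : ι → ℕ) (h0 : ∀ i j, ℓ i ≤ ℓ j → N i j = 0) :
    ∀ (k : ℕ) (i j : ι), ℓ i < ℓ j + k → (N ^ k) i j = 0 := by
  intro k
  induction k with
  | zero =>
    intro i j h
    rw [pow_zero, Matrix.one_apply, if_neg]
    rintro rfl
    omega
  | succ k ih =>
    intro i j h
    rw [pow_succ, Matrix.mul_apply]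
    apply Finset.sum_eq_zero
    intro x _
    by_cases hx : ℓ x ≤ ℓ j
    · rw [h0 x j hx, mul_zero]
    · rw [ih i x (by omega), zero_mul]

lemma pow_entry_ne_zero (N : Matrix ι ι F) (ℓ : ι → ℕ) (hinj : Function.Injective ℓ)
    (h0 : ∀ i j, ℓ i ≤ ℓ j → N i j = 0) (h1 : ∀ i j, ℓ i = ℓ j + 1 → N i j ≠ 0)
    (hsucc : ∀ i j, ℓ j < ℓ i → ∃ x, ℓ x = ℓ j + 1) :
    ∀ (k : ℕ) (i j : ι), ℓ i = ℓ j + k → (N ^ k) i j ≠ 0 := by
  intro k
  induction k with
  | zero =>
    intro i j h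
    have : i = j := hinj (by omega)
    rw [pow_zero, this, Matrix.one_apply_eq]
    exact one_ne_zero
  | succ k ih =>
    intro i j h
    obtain ⟨x0, hx0⟩ := hsucc i j (by omega)
    rw [pow_succ, Matrix.mul_apply, Finset.sum_eq_single x0]
    · exact mul_ne_zero (ih i x0 (by omega)) (h1 x0 j hx0)
    · intro x _ hx
      by_cases hxj : ℓ x ≤ ℓ j
      · rw [h0 x j hxj, mul_zero]
      · have hne : ℓ x ≠ ℓ j + 1 := by
          intro h2
          apply hx
          apply hinj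
          rw [h2, hx0]
        rw [pow_entry_zero N ℓ h0 k i x (by omega), zero_mul]
    · intro h2
      exact absurd (Finset.mem_univ _) h2

end level

section regular

variable {n : ℕ}

def lev (n : ℕ) : Fin (n + 2) ⊕ Fin (n + 2) → ℕ :=
  Sum.elim (fun k => 2 * n + 3 - k.val) (fun k => k.val)

lemma lev_inl (k : Fin (n + 2)) : lev n (Sum.inl k) = 2 * n + 3 - k.val := rfl
lemma lev_inr (k : Fin (n + 2)) : lev n (Sum.inr k) = k.val := rfl

lemma lev_inj : Function.Injective (lev n) := by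
  intro a b h
  rcases a with a | a <;> rcases b with b | b
  · rw [lev_inl, lev_inl] at h
    have := a.isLt
    have := b.isLt
    congr 1
    apply Fin.ext
    omega
  · rw [lev_inl, lev_inr] at h
    have := a.isLt
    have := b.isLt
    omega
  · rw [lev_inl, lev_inr] at h
    have := a.isLt
    have := b.isLt
    omega
  · rw [lev_inr, lev_inr] at h
    congr 1
    exact Fin.ext h

lemma sub_one_entry (M : Matrix (Fin (n + 2) ⊕ Fin (n + 2)) (Fin (n + 2) ⊕ Fin (n + 2)) F)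
    (i j : Fin (n + 2) ⊕ Fin (n + 2)) :
    (M - 1) i j = (M *ᵥ bv j) i - (bv j : Fin (n + 2) ⊕ Fin (n + 2) → F) i := by
  rw [mulVec_bv, Matrix.sub_apply, Matrix.one_apply, bv_apply]

lemma ur_sub_entry_inr (r : F) (k k' : Fin (n + 2)) (h : k.val + 1 = k'.val)
    (i : Fin (n + 2) ⊕ Fin (n + 2)) :
    ((ur F n r).1 - 1) i (Sum.inr k) =
      (𝐟[k'] : Fin (n + 2) ⊕ Fin (n + 2) → F) i + (if k.val = 0 then r else 0) * (𝐞[0] : Fin (n + 2) ⊕ Fin (n + 2) → F) i := by
  rw [sub_one_entry, ur_ff r k k' h]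
  simp only [Pi.add_apply, Pi.smul_apply, smul_eq_mul]
  ring

lemma ur_sub_entry_inr_last (r : F) (i : Fin (n + 2) ⊕ Fin (n + 2)) :
    ((ur F n r).1 - 1) i (Sum.inr (Fin.last (n + 1))) =
      ((Ael F (n + 2)).1 *ᵥ 𝐞[Fin.last (n + 1)]) i := by
  rw [sub_one_entry, ur_ff_last r]
  simp only [Pi.add_apply]
  ring

lemma ur_sub_entry_inl (r : F) (k : Fin (n + 2)) (i : Fin (n + 2) ⊕ Fin (n + 2)) :
    ((ur F n r).1 - 1) i (Sum.inl k) =
      ((Ael F (n + 2)).1 *ᵥ 𝐞[k]) i - (𝐞[k] : Fin (n + 2) ⊕ Fin (n + 2) → F) i := by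
  rw [sub_one_entry, ur_ee r]

lemma ur_h0 (r : F) : ∀ i j, lev n i ≤ lev n j → ((ur F n r).1 - 1) i j = 0 := by
  intro i j hij
  rcases j with k | k
  · rw [ur_sub_entry_inl]
    rcases i with a | a
    · rw [lev_inl, lev_inl] at hij
      have := a.isLt
      have := k.isLt
      rw [Ael_ee_inl, ee_inl]
      by_cases hak : a = k
      · subst hak
        simp
      · have hv : a.val ≠ k.val := fun h => hak (Fin.ext h)
        rw [if_neg (by omega), if_neg hak, sub_zero]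
    · rw [Ael_ee_inr, ee_inr, sub_zero]
  · by_cases hk : k.val + 1 < n + 2
    · rw [ur_sub_entry_inr r k ⟨k.val + 1, hk⟩ rfl]
      rcases i with a | a
      · rw [lev_inl, lev_inr] at hij
        have := a.isLt
        omega
      · rw [lev_inr, lev_inr] at hij
        rw [ff_inr, ee_inr, mul_zero, add_zero, if_neg]
        intro h
        rw [h] at hij
        simp at hij
    · have hk' : k = Fin.last (n + 1) := by
        apply Fin.ext
        have := k.isLt
        simp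
        omega
      rw [hk', ur_sub_entry_inr_last]
      rcases i with a | a
      · rw [lev_inl, lev_inr] at hij
        have := a.isLt
        have := k.isLt
        omega
      · rw [Ael_ee_inr]

lemma ur_h1 (r : F) : ∀ i j, lev n i = lev n j + 1 → ((ur F n r).1 - 1) i j ≠ 0 := by
  intro i j hij
  rcases j with k | k
  · rw [ur_sub_entry_inl]
    rcases i with a | a
    · rw [lev_inl, lev_inl] at hij
      have := a.isLt
      have := k.isLt
      rw [Ael_ee_inl, ee_inl, if_pos (by omega), if_neg]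
      · have : k.val - a.val = 1 := by omega
        rw [this]
        simp
      · intro h
        rw [h] at hij
        omega
    · rw [lev_inr, lev_inl] at hij
      have := a.isLt
      have := k.isLt
      omega
  · by_cases hk : k.val + 1 < n + 2
    · rw [ur_sub_entry_inr r k ⟨k.val + 1, hk⟩ rfl]
      rcases i with a | a
      · rw [lev_inl, lev_inr] at hij
        have := a.isLt
        omega
      · rw [lev_inr, lev_inr] at hij
        have : a = ⟨k.val + 1, hk⟩ := Fin.ext hij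
        rw [ff_inr, ee_inr, mul_zero, add_zero, if_pos this]
        exact one_ne_zero
    · have hk' : k = Fin.last (n + 1) := by
        apply Fin.ext
        have := k.isLt
        simp
        omega
      rw [hk', ur_sub_entry_inr_last]
      rcases i with a | a
      · rw [lev_inl, lev_inr, hk'] at hij
        simp at hij
        have : a = Fin.last (n + 1) := by
          apply Fin.ext
          have := a.isLt
          simp
          omega
        rw [Ael_ee_inl, this, if_pos le_rfl, Nat.sub_self, pow_zero]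
        exact one_ne_zero
      · rw [lev_inr, lev_inr, hk'] at hij
        have := a.isLt
        simp at hij
        omega

lemma ur_hsucc : ∀ i j : Fin (n + 2) ⊕ Fin (n + 2), lev n j < lev n i → ∃ x, lev n x = lev n j + 1 := by
  intro i j hij
  rcases j with k | k
  · have hk : 0 < k.val := by
      rcases i with a | a
      · rw [lev_inl, lev_inl] at hij
        omega
      · rw [lev_inl, lev_inr] at hij
        have := a.isLt
        have := k.isLt
        omega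
    refine ⟨Sum.inl ⟨k.val - 1, by have := k.isLt; omega⟩, ?_⟩
    rw [lev_inl, lev_inl]
    have := k.isLt
    simp
    omega
  · by_cases hk : k.val + 1 < n + 2
    · exact ⟨Sum.inr ⟨k.val + 1, hk⟩, rfl⟩
    · refine ⟨Sum.inl (Fin.last (n + 1)), ?_⟩
      rw [lev_inl, lev_inr]
      have := k.isLt
      simp
      omega

theorem ur_nilpotent (r : F) : IsNilpotent ((ur F n r).1 - 1) := by
  refine ⟨2 * n + 4, ?_⟩
  ext i j
  rw [Matrix.zero_apply]
  apply pow_entry_zero _ (lev n) (ur_h0 r)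
  have : lev n i ≤ 2 * n + 3 := by
    rcases i with a | a
    · rw [lev_inl]
      omega
    · rw [lev_inr]
      have := a.isLt
      omega
  omega

theorem ur_pow_ne_zero (r : F) : ((ur F n r).1 - 1) ^ (2 * (n + 2) - 1) ≠ 0 := by
  intro h
  have h1 := pow_entry_ne_zero _ (lev n) lev_inj (ur_h0 r) (ur_h1 r) ur_hsucc (2 * (n + 2) - 1)
    (Sum.inl 0) (Sum.inr 0) (by
      rw [lev_inl, lev_inr]
      simp
      omega)
  apply h1
  rw [h, Matrix.zero_apply]

end regular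

end Cfsg.Agent.Lib.helper15.SpRU
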