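import Mathlib
import Cfsg.Agent.Lib.helper15.SpRU1

set_option autoImplicit false

namespace Cfsg.Agent.Lib.helper15.SpRU

open Matrix Cfsg.Agent.Lib.helper6 Cfsg.Agent.S0269 Cfsg.Agent.Lib.helper15.SpGen

variable {F : Type*} [Field F] {m : ℕ}

local notation:max "𝐞[" k "]" => bv (Sum.inl k)
local notation:max "𝐟[" k "]" => bv (Sum.inr k)

lemma act_inv_act (g : Matrix.symplecticGroup (Fin m) F) (x : Fin m ⊕ Fin m → F) :
    g.1 *ᵥ ((g⁻¹).1 *ᵥ x) = x := by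
  rw [← mmv, mul_inv_cancel, one_mv]

lemma inv_act_act (g : Matrix.symplecticGroup (Fin m) F) (x : Fin m ⊕ Fin m → F) :
    (g⁻¹).1 *ᵥ (g.1 *ᵥ x) = x := by
  rw [← mmv, inv_mul_cancel, one_mv]

lemma iso_plane_id (a b : Fin m ⊕ Fin m → F) (hab : Cfsg.sympForm m F a b = 0) (k1 k2 t : F) :
    τ a ((k2 - k1) * t) =
      τ (a + k1 • b) (k2 * t) * τ (a + k2 • b) (-(k1 * t)) * τ b (k1 * k2 * (k2 - k1) * t) := by
  have hba : Cfsg.sympForm m F b a = 0 := by rw [sympForm_swap, hab, neg_zero]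
  apply sp_ext
  intro x
  rw [mmv, mmv, τ_mulVec, τ_mulVec, τ_mulVec, τ_mulVec]
  simp only [sympForm_add_left, sympForm_add_right, sympForm_smul_left, sympForm_smul_right,
    sympForm_self, hab, hba, mul_zero, add_zero, zero_add]
  module

lemma iso_plane {G : Subgroup (Matrix.symplecticGroup (Fin m) F)} (a b : Fin m ⊕ Fin m → F)
    (hab : Cfsg.sympForm m F a b = 0) (k1 k2 : F) (hk : k1 ≠ k2)
    (hb : b ∈ DD G) (h1 : a + k1 • b ∈ DD G) (h2 : a + k2 • b ∈ DD G) : a ∈ DD G := by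
  intro t
  have hd : k2 - k1 ≠ 0 := sub_ne_zero.mpr (Ne.symm hk)
  have e := iso_plane_id a b hab k1 k2 (t / (k2 - k1))
  rw [mul_div_cancel₀ _ hd] at e
  rw [e]
  exact G.mul_mem (G.mul_mem (h1 _) (h2 _)) (hb _)

lemma QQ_of_ne {G : Subgroup (Matrix.symplecticGroup (Fin m) F)}
    (hb : ∀ j : Fin m ⊕ Fin m, (bv j : Fin m ⊕ Fin m → F) ∈ DD G)
    {j l : Fin m ⊕ Fin m} (h : typ j ≠ typ l) (c0 : F) (hc0 : c0 ≠ 0)
    (h1 : (bv j + c0 • bv l : Fin m ⊕ Fin m → F) ∈ DD G) : QQ G j l := by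
  intro c
  have e1 : (bv j + c0 • bv l + (1 : F) • bv l.swap : Fin m ⊕ Fin m → F) ∈ DD G := by
    apply DD_move (hb _) h1
    rw [sf_bv]
    simp [bv_typ h.symm, sg_ne_zero, hc0]
  have e2 : (bv j + c0 • bv l + (1 : F) • bv l.swap + (c - c0) • bv l : Fin m ⊕ Fin m → F) ∈ DD G := by
    apply DD_move (hb _) e1
    rw [sf_bv]
    have : typ l.swap ≠ typ j := by simpa using h.symm
    simp [bv_typ this, sg_ne_zero]
  by_cases hc : c = 0
  · subst hc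
    simpa using hb j
  have e3 : (bv j + c0 • bv l + (1 : F) • bv l.swap + (c - c0) • bv l + (-1 : F) • bv l.swap :
      Fin m ⊕ Fin m → F) ∈ DD G := by
    apply DD_move (hb _) e2
    rw [sf_bv]
    simp [bv_typ h.symm, sg_ne_zero, hc]
  convert e3 using 1
  module


section spread

variable {n : ℕ} {H : Subgroup (Matrix.symplecticGroup (Fin (n + 2)) F)}

theorem spread_top (u v : Matrix.symplecticGroup (Fin (n + 2)) F) (hu : u ∈ H) (hv : v ∈ H)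
    (κ : F) (hκ : κ ≠ 0)
    (hu_f : ∀ k k' : Fin (n + 2), k.val + 1 = k'.val → u.1 *ᵥ 𝐟[k] = 𝐟[k] + 𝐟[k'])
    (hui_e : ∀ k k' : Fin (n + 2), k'.val + 1 = k.val → (u⁻¹).1 *ᵥ 𝐞[k] = 𝐞[k] + 𝐞[k'])
    (hui_e0 : (u⁻¹).1 *ᵥ 𝐞[0] = (𝐞[0] : Fin (n + 2) ⊕ Fin (n + 2) → F))
    (hv_e0 : v.1 *ᵥ 𝐞[0] = (𝐞[0] + κ • 𝐞[1] : Fin (n + 2) ⊕ Fin (n + 2) → F))
    (hv_e : ∀ k k' : Fin (n + 2), 1 ≤ k.val → k.val + 1 = k'.val → v.1 *ᵥ 𝐞[k] = 𝐞[k] + 𝐞[k'])
    (hvi_last : (v⁻¹).1 *ᵥ 𝐞[Fin.last (n + 1)] = 𝐞[Fin.last (n + 1)] + 𝐟[Fin.last (n + 1)])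
    (hvi_f : ∀ k k' : Fin (n + 2), 1 ≤ k'.val → k'.val + 1 = k.val →
      (v⁻¹).1 *ᵥ 𝐟[k] = 𝐟[k] + 𝐟[k'])
    (hvi_f1 : (v⁻¹).1 *ᵥ 𝐟[1] = (𝐟[1] + κ • 𝐟[0] : Fin (n + 2) ⊕ Fin (n + 2) → F))
    (hcase : κ = 1 ∨ ∃ c1 c2 : F, c1 ≠ 0 ∧ c2 ≠ 0 ∧ c1 ≠ c2)
    (h0 : (𝐞[0] : Fin (n + 2) ⊕ Fin (n + 2) → F) ∈ DD H) : H = ⊤ := by
  have hui : u⁻¹ ∈ H := H.inv_mem hu
  have hvi : v⁻¹ ∈ H := H.inv_mem hv
  have hu_e0 : u.1 *ᵥ 𝐞[0] = (𝐞[0] : Fin (n + 2) ⊕ Fin (n + 2) → F) := by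
    have := act_inv_act u (𝐞[0] : Fin (n + 2) ⊕ Fin (n + 2) → F)
    rwa [hui_e0] at this
  have hz' : (𝐞[0] + κ • 𝐞[1] : Fin (n + 2) ⊕ Fin (n + 2) → F) ∈ DD H := by
    rw [← hv_e0]
    exact DD_act h0 hv
  have hu_e1 : u.1 *ᵥ 𝐞[1] = (𝐞[1] - 𝐞[0] : Fin (n + 2) ⊕ Fin (n + 2) → F) := by
    have h1 := act_inv_act u (𝐞[1] : Fin (n + 2) ⊕ Fin (n + 2) → F)
    rw [hui_e 1 0 (by simp), Matrix.mulVec_add, hu_e0] at h1
    rw [eq_sub_iff_add_eq]
    exact h1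
  have he1 : (𝐞[1] : Fin (n + 2) ⊕ Fin (n + 2) → F) ∈ DD H := by
    have hz'' := DD_act hz' hu
    rw [Matrix.mulVec_add, Matrix.mulVec_smul, hu_e0, hu_e1] at hz''
    have hab : Cfsg.sympForm (n + 2) F (κ • 𝐞[1]) 𝐞[0] = 0 := by
      rw [sf_ee]
      simp [ee_inr]
    have hk12 : (1 : F) ≠ 1 - κ := by
      intro h
      apply hκ
      linear_combination h
    have h1 : (κ • 𝐞[1] + (1 : F) • 𝐞[0] : Fin (n + 2) ⊕ Fin (n + 2) → F) ∈ DD H := by
      convert hz' using 1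
      module
    have h2 : (κ • 𝐞[1] + (1 - κ) • 𝐞[0] : Fin (n + 2) ⊕ Fin (n + 2) → F) ∈ DD H := by
      convert hz'' using 1
      module
    have h3 := iso_plane _ _ hab 1 (1 - κ) hk12 h0 h1 h2
    have h4 := DD_smul h3 κ⁻¹
    rwa [smul_smul, inv_mul_cancel₀ hκ, one_smul] at h4
  have hepair : ∀ k k' : Fin (n + 2), 1 ≤ k.val → k.val + 1 = k'.val →
      (𝐞[k] : Fin (n + 2) ⊕ Fin (n + 2) → F) ∈ DD H →
      (𝐞[k] + 𝐞[k'] : Fin (n + 2) ⊕ Fin (n + 2) → F) ∈ DD H := by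
    intro k k' hk hkk' hek
    rw [← hv_e k k' hk hkk']
    exact DD_act hek hv
  have he : ∀ d : ℕ, ∀ k : Fin (n + 2), k.val = d + 1 →
      (𝐞[k] : Fin (n + 2) ⊕ Fin (n + 2) → F) ∈ DD H := by
    intro d
    induction d with
    | zero =>
      intro k hk
      have : k = 1 := Fin.ext (by simp [hk])
      rw [this]
      exact he1
    | succ d ih =>
      intro k hk
      have hlt : d + 1 < n + 2 := by
        have := k.isLt
        omega
      have h1 := hepair ⟨d + 1, hlt⟩ k (by simp) (by simp [hk]) (ih ⟨d + 1, hlt⟩ rfl)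
      have h2 := DD_act h1 hu
      have h3 := act_inv_act u (𝐞[k] : Fin (n + 2) ⊕ Fin (n + 2) → F)
      rw [hui_e k ⟨d + 1, hlt⟩ (by simp [hk])] at h3
      rw [add_comm (bv (Sum.inl (⟨d + 1, hlt⟩ : Fin (n + 2))) : Fin (n + 2) ⊕ Fin (n + 2) → F),
        h3] at h2
      exact h2
  have hlast : (𝐞[Fin.last (n + 1)] : Fin (n + 2) ⊕ Fin (n + 2) → F) ∈ DD H :=
    he n (Fin.last (n + 1)) (by simp)
  have hflast : (𝐟[Fin.last (n + 1)] : Fin (n + 2) ⊕ Fin (n + 2) → F) ∈ DD H := by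
    have h1 := DD_act hlast hvi
    rw [hvi_last] at h1
    have h2 := DD_move hlast h1 (by
      rw [sf_ee]
      simp [ee_inr, ff_inr]) (-1)
    convert h2 using 1
    module
  have hf : ∀ d : ℕ, ∀ k : Fin (n + 2), k.val + d = n + 1 → 1 ≤ k.val →
      (𝐟[k] : Fin (n + 2) ⊕ Fin (n + 2) → F) ∈ DD H := by
    intro d
    induction d with
    | zero =>
      intro k hk _
      have : k = Fin.last (n + 1) := Fin.ext (by simp; omega)
      rw [this]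
      exact hflast
    | succ d ih =>
      intro k hk hk1
      have hlt : k.val + 1 < n + 2 := by omega
      have h1 := DD_act (ih ⟨k.val + 1, hlt⟩ (by simp; omega) (by simp)) hvi
      rw [hvi_f ⟨k.val + 1, hlt⟩ k hk1 rfl] at h1
      have h2 := DD_act h1 hui
      have h3 := inv_act_act u (𝐟[k] : Fin (n + 2) ⊕ Fin (n + 2) → F)
      rw [hu_f k ⟨k.val + 1, hlt⟩ rfl] at h3
      rw [add_comm (bv (Sum.inr (⟨k.val + 1, hlt⟩ : Fin (n + 2))) : Fin (n + 2) ⊕ Fin (n + 2) → F),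
        h3] at h2
      exact h2
  have hf1 : (𝐟[1] : Fin (n + 2) ⊕ Fin (n + 2) → F) ∈ DD H := hf n 1 (by simp; omega) (by simp)
  have hy : (𝐟[1] + κ • 𝐟[0] : Fin (n + 2) ⊕ Fin (n + 2) → F) ∈ DD H := by
    rw [← hvi_f1]
    exact DD_act hf1 hvi
  have h10 : (1 : Fin (n + 2)) ≠ 0 := by
    intro h
    have := congrArg Fin.val h
    simp at this
  have hf0 : (𝐟[0] : Fin (n + 2) ⊕ Fin (n + 2) → F) ∈ DD H := by
    rcases hcase with hκ1 | ⟨c1, c2, hc1, hc2, hc12⟩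
    · rw [hκ1, one_smul] at hy
      have h2 := DD_act hy hui
      have h3 := inv_act_act u (𝐟[0] : Fin (n + 2) ⊕ Fin (n + 2) → F)
      rw [hu_f 0 1 (by simp)] at h3
      rw [add_comm (bv (Sum.inr (1 : Fin (n + 2))) : Fin (n + 2) ⊕ Fin (n + 2) → F), h3] at h2
      exact h2
    · have key : ∀ c : F, c ≠ 0 →
          (κ • 𝐟[0] + c • 𝐞[1] : Fin (n + 2) ⊕ Fin (n + 2) → F) ∈ DD H := by
        intro c hc
        have a1 := DD_move he1 hy (by
          rw [sf_ee]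
          simp [ff_inr, h10]) c
        have a2 := DD_move hf1 a1 (by
          rw [sf_ff]
          simp [ff_inl, ee_inl, hc]) (-1)
        convert a2 using 1
        module
      have hab : Cfsg.sympForm (n + 2) F (κ • 𝐟[0]) 𝐞[1] = 0 := by
        rw [sf_ee]
        simp [ff_inr, h10]
      have h3 := iso_plane _ _ hab c1 c2 hc12 he1 (key c1 hc1) (key c2 hc2)
      have h4 := DD_smul h3 κ⁻¹
      rwa [smul_smul, inv_mul_cancel₀ hκ, one_smul] at h4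
  have hb : ∀ j : Fin (n + 2) ⊕ Fin (n + 2), (bv j : Fin (n + 2) ⊕ Fin (n + 2) → F) ∈ DD H := by
    intro j
    rcases j with k | k
    · by_cases hk : k.val = 0
      · have : k = 0 := Fin.ext (by simp [hk])
        rw [this]
        exact h0
      · exact he (k.val - 1) k (by omega)
    · by_cases hk : k.val = 0
      · have : k = 0 := Fin.ext (by simp [hk])
        rw [this]
        exact hf0
      · have := k.isLt
        exact hf (n + 1 - k.val) k (by omega) (by omega)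
  have adj : ∀ i : Fin (n + 1), QQ H (Sum.inl i.castSucc) (Sum.inl i.succ) := by
    intro i
    have ht : typ (Sum.inl i.castSucc : Fin (n + 2) ⊕ Fin (n + 2)) ≠
        typ (Sum.inl i.succ : Fin (n + 2) ⊕ Fin (n + 2)) := by
      rw [typ_inl, typ_inl]
      exact (Fin.castSucc_lt_succ).ne
    by_cases hi : i.val = 0
    · have hi0 : i = 0 := Fin.ext (by simp [hi])
      refine QQ_of_ne hb ht κ hκ ?_
      rw [hi0]
      exact hz'
    · refine QQ_of_one hb ht ?_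
      exact hepair i.castSucc i.succ (by simp; omega) (by simp) (hb _)
  have hlt := gen_pairs hb adj
  have hll : ∀ a b : Fin (n + 2), a ≠ b → QQ H (Sum.inl a) (Sum.inl b) := by
    intro a b hab
    have hv : a.val ≠ b.val := fun h => hab (Fin.ext h)
    rcases Nat.lt_or_ge a.val b.val with h | h
    · exact hlt (b.val - a.val - 1) a b (by omega)
    · exact QQ_symm hb (hlt (a.val - b.val - 1) b a (by omega))
  exact top_of_all_DD (all_DD hb (gen_hq hb hll))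

end spread

end Cfsg.Agent.Lib.helper15.SpRU
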