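import Mathlib
import Cfsg.Agent.Lib.helper15.SpRU2

set_option autoImplicit false

namespace Cfsg.Agent.Lib.helper15.SpRU

open Matrix Cfsg.Agent.Lib.helper6 Cfsg.Agent.S0269 Cfsg.Agent.Lib.helper15.SpGen

variable {F : Type*} [Field F] {m : ℕ}

local notation:max "𝐞[" k "]" => bv (Sum.inl k)
local notation:max "𝐟[" k "]" => bv (Sum.inr k)

def εw : Fin m ⊕ Fin m → F := Sum.elim (fun _ => 1) (fun _ => -1)
def εwi : Fin m ⊕ Fin m → F := Sum.elim (fun _ => -1) (fun _ => 1)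

def w0el (F : Type*) [Field F] (m : ℕ) : Matrix.symplecticGroup (Fin m) F :=
  ⟨monoM Sum.swap εw, monoM_mem _ _ (fun _ => rfl) Sum.swap_leftInverse.injective (by
    intro l
    rcases l with a | a <;> simp [εw, sg])⟩

def w0iel (F : Type*) [Field F] (m : ℕ) : Matrix.symplecticGroup (Fin m) F :=
  ⟨monoM Sum.swap εwi, monoM_mem _ _ (fun _ => rfl) Sum.swap_leftInverse.injective (by
    intro l
    rcases l with a | a <;> simp [εwi, sg])⟩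

lemma w0_ee (k : Fin m) : (w0el F m).1 *ᵥ 𝐞[k] = 𝐟[k] := by
  show monoM Sum.swap εw *ᵥ bv (Sum.inl k) = _
  rw [monoM_mulVec_bv]
  simp [εw]

lemma w0_ff (k : Fin m) : (w0el F m).1 *ᵥ 𝐟[k] = -𝐞[k] := by
  show monoM Sum.swap εw *ᵥ bv (Sum.inr k) = _
  rw [monoM_mulVec_bv]
  simp [εw]

lemma w0i_ee (k : Fin m) : (w0iel F m).1 *ᵥ 𝐞[k] = -𝐟[k] := by
  show monoM Sum.swap εwi *ᵥ bv (Sum.inl k) = _
  rw [monoM_mulVec_bv]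
  simp [εwi]

lemma w0i_ff (k : Fin m) : (w0iel F m).1 *ᵥ 𝐟[k] = 𝐞[k] := by
  show monoM Sum.swap εwi *ᵥ bv (Sum.inr k) = _
  rw [monoM_mulVec_bv]
  simp [εwi]

lemma w0_mul_w0i : w0el F m * w0iel F m = 1 := by
  apply sp_ext_bv
  intro j
  rw [mmv, one_mv]
  rcases j with k | k
  · rw [w0i_ee, Matrix.mulVec_neg, w0_ff, neg_neg]
  · rw [w0i_ff, w0_ee]


section conj

variable {n : ℕ}

def dd (κ : F) (k : Fin (n + 2)) : F := if k = 0 then κ else 1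

lemma dd_ne_zero (κ : F) (hκ : κ ≠ 0) (k : Fin (n + 2)) : dd κ k ≠ 0 := by
  unfold dd
  split_ifs
  · exact hκ
  · exact one_ne_zero

lemma dd_zero (κ : F) : dd κ (0 : Fin (n + 2)) = κ := by
  unfold dd
  rw [if_pos rfl]

lemma dd_pos (κ : F) (k : Fin (n + 2)) (hk : 1 ≤ k.val) : dd κ k = 1 := by
  unfold dd
  rw [if_neg]
  intro h
  rw [h] at hk
  simp at hk

def hh (n : ℕ) (κ : F) (hκ : κ ≠ 0) : Matrix.symplecticGroup (Fin (n + 2)) F :=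
  hEl (Sum.inl 0) κ hκ * w0el F (n + 2)

def hhi (n : ℕ) (κ : F) (hκ : κ ≠ 0) : Matrix.symplecticGroup (Fin (n + 2)) F :=
  w0iel F (n + 2) * hEl (Sum.inl 0) κ⁻¹ (inv_ne_zero hκ)

lemma hh_mul_hhi (κ : F) (hκ : κ ≠ 0) : hh n κ hκ * hhi n κ hκ = 1 := by
  unfold hh hhi
  calc hEl (Sum.inl 0) κ hκ * w0el F (n + 2) * (w0iel F (n + 2) * hEl (Sum.inl 0) κ⁻¹ (inv_ne_zero hκ))
      = hEl (Sum.inl 0) κ hκ * (w0el F (n + 2) * w0iel F (n + 2)) *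
          hEl (Sum.inl 0) κ⁻¹ (inv_ne_zero hκ) := by group
    _ = 1 := by rw [w0_mul_w0i, mul_one, ← hEl_inv (Sum.inl 0) κ hκ, mul_inv_cancel]

lemma hhi_eq_inv (κ : F) (hκ : κ ≠ 0) : hhi n κ hκ = (hh n κ hκ)⁻¹ :=
  (inv_eq_of_mul_eq_one_right (hh_mul_hhi κ hκ)).symm

lemma eh_inl (κ : F) (k : Fin (n + 2)) :
    eh (Sum.inl (0 : Fin (n + 2))) κ (Sum.inl k) = dd κ k := by
  unfold eh dd
  by_cases h : k = 0
  · subst h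
    simp
  · simp [h]

lemma eh_inr (κ : F) (k : Fin (n + 2)) :
    eh (Sum.inl (0 : Fin (n + 2))) κ (Sum.inr k) = (dd κ k)⁻¹ := by
  unfold eh dd
  by_cases h : k = 0
  · subst h
    simp
  · simp [h]

lemma dd_inv (κ : F) (k : Fin (n + 2)) : dd κ⁻¹ k = (dd κ k)⁻¹ := by
  unfold dd
  split_ifs <;> simp

lemma hh_ff (κ : F) (hκ : κ ≠ 0) (k : Fin (n + 2)) :
    (hh n κ hκ).1 *ᵥ 𝐟[k] = (-(dd κ k)) • 𝐞[k] := by
  unfold hh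
  rw [mmv, w0_ff, Matrix.mulVec_neg, hEl_bv, eh_inl, neg_smul]

lemma hh_ee (κ : F) (hκ : κ ≠ 0) (k : Fin (n + 2)) :
    (hh n κ hκ).1 *ᵥ 𝐞[k] = (dd κ k)⁻¹ • 𝐟[k] := by
  unfold hh
  rw [mmv, w0_ee, hEl_bv, eh_inr]

lemma hhi_ee (κ : F) (hκ : κ ≠ 0) (k : Fin (n + 2)) :
    (hhi n κ hκ).1 *ᵥ 𝐞[k] = (-(dd κ k)⁻¹) • 𝐟[k] := by
  unfold hhi
  rw [mmv, hEl_bv, eh_inl, Matrix.mulVec_smul, w0i_ee, dd_inv, smul_neg, neg_smul]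

lemma hhi_ff (κ : F) (hκ : κ ≠ 0) (k : Fin (n + 2)) :
    (hhi n κ hκ).1 *ᵥ 𝐟[k] = (dd κ k) • 𝐞[k] := by
  unfold hhi
  rw [mmv, hEl_bv, eh_inr, Matrix.mulVec_smul, w0i_ff, dd_inv, inv_inv]

def vv (n : ℕ) (κ : F) (hκ : κ ≠ 0) : Matrix.symplecticGroup (Fin (n + 2)) F :=
  hh n κ hκ * ur F n 0 * hhi n κ hκ

lemma vv_eq (κ : F) (hκ : κ ≠ 0) :
    vv n κ hκ = hh n κ hκ * ur F n 0 * (hh n κ hκ)⁻¹ := by
  unfold vv
  rw [hhi_eq_inv]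

lemma vv_inv (κ : F) (hκ : κ ≠ 0) :
    (vv n κ hκ)⁻¹ = hh n κ hκ * uri F n 0 * hhi n κ hκ := by
  rw [vv_eq, hhi_eq_inv, ← ur_inv]
  group

lemma vv_ee (κ : F) (hκ : κ ≠ 0) (k k' : Fin (n + 2)) (h : k.val + 1 = k'.val) :
    (vv n κ hκ).1 *ᵥ 𝐞[k] = 𝐞[k] + (dd κ k' / dd κ k) • 𝐞[k'] := by
  unfold vv
  rw [mmv, mmv, hhi_ee, Matrix.mulVec_smul, ur_ff 0 k k' h, Matrix.mulVec_smul]
  simp only [ite_self, zero_smul, add_zero]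
  rw [Matrix.mulVec_add, hh_ff, hh_ff, smul_add, smul_smul, smul_smul]
  have hd := dd_ne_zero κ hκ k
  congr 1
  · rw [neg_mul_neg, inv_mul_cancel₀ hd, one_smul]
  · congr 1
    field_simp

lemma vvi_ff (κ : F) (hκ : κ ≠ 0) (k k' : Fin (n + 2)) (h : k'.val + 1 = k.val) :
    ((vv n κ hκ)⁻¹).1 *ᵥ 𝐟[k] = 𝐟[k] + (dd κ k / dd κ k') • 𝐟[k'] := by
  rw [vv_inv, mmv, mmv, hhi_ff, Matrix.mulVec_smul, uri_ee 0 k k' h, Matrix.mulVec_smul,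
    Matrix.mulVec_add, hh_ee, hh_ee, smul_add, smul_smul, smul_smul]
  have hd := dd_ne_zero κ hκ k
  congr 1
  · rw [mul_inv_cancel₀ hd, one_smul]
  · rw [div_eq_mul_inv]

lemma vvi_ee_last (κ : F) (hκ : κ ≠ 0) :
    ((vv n κ hκ)⁻¹).1 *ᵥ 𝐞[Fin.last (n + 1)] = 𝐞[Fin.last (n + 1)] + 𝐟[Fin.last (n + 1)] := by
  have hd : dd κ (Fin.last (n + 1)) = 1 := dd_pos κ _ (by simp)
  rw [vv_inv, mmv, mmv, hhi_ee, Matrix.mulVec_smul, uri_ff_last, Matrix.mulVec_smul,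
    Matrix.mulVec_sub, hh_ff, hh_ee, hd]
  module



theorem low_top {H : Subgroup (Matrix.symplecticGroup (Fin (n + 2)) F)} (κ : F) (hκ : κ ≠ 0)
    (hu : ur F n 0 ∈ H) (hv : vv n κ hκ ∈ H)
    (hcase : κ = 1 ∨ ∃ c1 c2 : F, c1 ≠ 0 ∧ c2 ≠ 0 ∧ c1 ≠ c2)
    (h0 : (𝐞[0] : Fin (n + 2) ⊕ Fin (n + 2) → F) ∈ DD H) : H = ⊤ := by
  have h10 : (1 : Fin (n + 2)).val = 1 := by simp
  refine spread_top (ur F n 0) (vv n κ hκ) hu hv κ⁻¹ (inv_ne_zero hκ) ?_ ?_ ?_ ?_ ?_ ?_ ?_ ?_ ?_ h0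
  · intro k k' h
    rw [ur_ff 0 k k' h]
    simp
  · intro k k' h
    rw [ur_inv]
    exact uri_ee 0 k k' h
  · rw [ur_inv]
    exact uri_ee_zero 0
  · rw [vv_ee κ hκ 0 1 (by simp), dd_zero, dd_pos κ 1 (by simp), one_div]
  · intro k k' hk h
    rw [vv_ee κ hκ k k' h, dd_pos κ k hk, dd_pos κ k' (by omega), div_one, one_smul]
  · exact vvi_ee_last κ hκ
  · intro k k' hk' h
    rw [vvi_ff κ hκ k k' h, dd_pos κ k (by omega), dd_pos κ k' hk', div_one, one_smul]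
  · rw [vvi_ff κ hκ 1 0 (by simp), dd_zero, dd_pos κ 1 (by simp), one_div]
  · rcases hcase with h | h
    · left
      rw [h, inv_one]
    · right
      exact h

end conj

end Cfsg.Agent.Lib.helper15.SpRU
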