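import Mathlib
import Cfsg.Agent.Lib.helper15.SpRU3

set_option autoImplicit false
set_option linter.unusedSimpArgs false

namespace Cfsg.Agent.Lib.helper15.SpRU

open Matrix Cfsg.Agent.Lib.helper6 Cfsg.Agent.S0269 Cfsg.Agent.Lib.helper15.SpGen

variable {F : Type*} [Field F] {m : ℕ}

local notation:max "𝐞[" k "]" => bv (Sum.inl k)
local notation:max "𝐟[" k "]" => bv (Sum.inr k)

lemma SS_add_self (a b : Fin m ⊕ Fin m → F) (hab : Cfsg.sympForm m F a b = 0) (t : F) :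
    SS a (b + a) t = SS a b t * τ a (2 * t) := by
  have hba : Cfsg.sympForm m F b a = 0 := by rw [sympForm_swap, hab, neg_zero]
  have h1 : Cfsg.sympForm m F a (b + a) = 0 := by
    rw [sympForm_add_right, hab, sympForm_self, add_zero]
  apply sp_ext
  intro x
  rw [mmv, SS_mulVec h1, SS_mulVec hab, τ_mulVec]
  simp only [sympForm_add_left, sympForm_add_right, sympForm_smul_left, sympForm_self, hab, hba,
    mul_zero, add_zero]
  module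

lemma theta_id (a b : Fin m ⊕ Fin m → F) (hab : Cfsg.sympForm m F a b = 0) (x : F) :
    τ (a + b) x * τ (a - b) x * τ a (-(2 * x)) = τ b (2 * x) := by
  have hba : Cfsg.sympForm m F b a = 0 := by rw [sympForm_swap, hab, neg_zero]
  apply sp_ext
  intro y
  rw [mmv, mmv, τ_mulVec, τ_mulVec, τ_mulVec, τ_mulVec]
  simp only [sympForm_add_left, sympForm_add_right, sympForm_sub_left, sympForm_sub_right,
    sympForm_smul_left, sympForm_self, hab, hba, mul_zero, add_zero, sub_zero, zero_sub, zero_add]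
  module

lemma three_id (a b c : Fin m ⊕ Fin m → F) (hab : Cfsg.sympForm m F a b = 0)
    (hac : Cfsg.sympForm m F a c = 0) (hbc : Cfsg.sympForm m F b c = 0) (t : F) :
    SS a (c + b) t * τ (b + a) t = SS a c t * τ b t * τ a t * SS a b (2 * t) := by
  have hba : Cfsg.sympForm m F b a = 0 := by rw [sympForm_swap, hab, neg_zero]
  have hca : Cfsg.sympForm m F c a = 0 := by rw [sympForm_swap, hac, neg_zero]
  have hcb : Cfsg.sympForm m F c b = 0 := by rw [sympForm_swap, hbc, neg_zero]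
  have h1 : Cfsg.sympForm m F a (c + b) = 0 := by
    rw [sympForm_add_right, hab, hac, add_zero]
  apply sp_ext
  intro x
  rw [mmv, mmv, mmv, mmv, SS_mulVec h1, SS_mulVec hac, SS_mulVec hab, τ_mulVec, τ_mulVec,
    τ_mulVec]
  simp only [sympForm_add_left, sympForm_add_right, sympForm_smul_left, sympForm_self, hab, hba,
    hac, hca, hbc, hcb, mul_zero, add_zero, zero_add]
  module


lemma tau_act {G : Subgroup (Matrix.symplecticGroup (Fin m) F)} {y : Fin m ⊕ Fin m → F} {x : F}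
    (hy : τ y x ∈ G) {g : Matrix.symplecticGroup (Fin m) F} (hg : g ∈ G) :
    τ (g.1 *ᵥ y) x ∈ G := by
  have h1 := conj_τ g y x
  have h2 : τ (g.1 *ᵥ y) x = g * τ y x * g⁻¹ := by
    rw [h1]
    group
  rw [h2]
  exact G.mul_mem (G.mul_mem hg hy) (G.inv_mem hg)

lemma halves [Finite F] (S : AddSubgroup F) (h2 : (2 : F) ≠ 0) :
    ∀ y ∈ S, ∃ x ∈ S, 2 * x = y := by
  let φ : S → S := fun x => ⟨2 * x.1, by
    rw [two_mul]
    exact S.add_mem x.2 x.2⟩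
  have hinj : Function.Injective φ := by
    intro a b hab
    have h := congrArg Subtype.val hab
    exact Subtype.ext (mul_left_cancel₀ h2 h)
  have hsurj := Finite.injective_iff_surjective.mp hinj
  intro y hy
  obtain ⟨x, hx⟩ := hsurj ⟨y, hy⟩
  exact ⟨x.1, x.2, congrArg Subtype.val hx⟩

section odd

variable [Fintype F] {n : ℕ}

theorem odd_top (h2 : (2 : F) ≠ 0) (n : ℕ) :
    ∃ u g h : Matrix.symplecticGroup (Fin (n + 2)) F,
      IsNilpotent (u.1 - 1) ∧ (u.1 - 1) ^ (2 * (n + 2) - 1) ≠ 0 ∧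
      Subgroup.closure ({u, g * u * g⁻¹, h * u * h⁻¹} :
        Set (Matrix.symplecticGroup (Fin (n + 2)) F)) = ⊤ := by
  obtain ⟨k, hk⟩ := IsCyclic.exists_generator (α := Fˣ)
  have hk0 : (k : F) ≠ 0 := k.ne_zero
  obtain ⟨κ, hκdef⟩ : ∃ κ : F, κ = (k : F)⁻¹ := ⟨_, rfl⟩
  have hκ : κ ≠ 0 := by
    rw [hκdef]
    exact inv_ne_zero hk0
  obtain ⟨u, hudef⟩ : ∃ u : Matrix.symplecticGroup (Fin (n + 2)) F, u = ur F n 0 := ⟨_, rfl⟩
  obtain ⟨g, hgdef⟩ : ∃ g : Matrix.symplecticGroup (Fin (n + 2)) F,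
      g = SS 𝐞[0] 𝐞[1] 1 := ⟨_, rfl⟩
  refine ⟨u, g, hh n κ hκ, ?_, ?_, ?_⟩
  · rw [hudef]
    exact ur_nilpotent 0
  · rw [hudef]
    exact ur_pow_ne_zero 0
  obtain ⟨H, hH⟩ : ∃ H : Subgroup (Matrix.symplecticGroup (Fin (n + 2)) F),
      H = Subgroup.closure {u, g * u * g⁻¹, hh n κ hκ * u * (hh n κ hκ)⁻¹} := ⟨_, rfl⟩
  rw [← hH]
  have hu : u ∈ H := by
    rw [hH]
    exact Subgroup.subset_closure (by simp)
  have hgu : g * u * g⁻¹ ∈ H := by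
    rw [hH]
    exact Subgroup.subset_closure (by simp)
  have hv : vv n κ hκ ∈ H := by
    rw [vv_eq, ← hudef, hH]
    exact Subgroup.subset_closure (by simp)
  have hui : u⁻¹ ∈ H := H.inv_mem hu
  have h01 : Cfsg.sympForm (n + 2) F 𝐞[0] 𝐞[1] = 0 := by
    rw [sf_ee, ee_inr]
  have hg0 : g.1 *ᵥ 𝐞[0] = (𝐞[0] : Fin (n + 2) ⊕ Fin (n + 2) → F) := by
    rw [hgdef, SS_mulVec h01, h01, sympForm_self]
    simp
  have hA : τ (𝐞[0] : Fin (n + 2) ⊕ Fin (n + 2) → F) 2 ∈ H := by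
    have e1 : u⁻¹ * g = SS 𝐞[0] (𝐞[1] + 𝐞[0]) 1 * u⁻¹ := by
      rw [hgdef, SS_conj, hudef, ur_inv, uri_ee_zero, uri_ee 0 1 0 (by simp)]
    have e2 : SS (𝐞[0] : Fin (n + 2) ⊕ Fin (n + 2) → F) (𝐞[1] + 𝐞[0]) 1 = g * τ 𝐞[0] 2 := by
      rw [SS_add_self _ _ h01, mul_one, hgdef]
    have e3 : τ (𝐞[0] : Fin (n + 2) ⊕ Fin (n + 2) → F) 2 = u⁻¹ * (g * u * g⁻¹) := by
      have e4 := conj_τ g (𝐞[0] : Fin (n + 2) ⊕ Fin (n + 2) → F) 2
      rw [hg0] at e4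
      calc τ (𝐞[0] : Fin (n + 2) ⊕ Fin (n + 2) → F) 2
          = (g * τ 𝐞[0] 2) * g⁻¹ := by rw [e4]; group
        _ = (u⁻¹ * g) * u * g⁻¹ := by rw [← e2, e1]; group
        _ = u⁻¹ * (g * u * g⁻¹) := by group
    rw [e3]
    exact H.mul_mem hui hgu
  have hkk : ((k : F)⁻¹)⁻¹ = (k : F) := inv_inv _
  have hvz : (vv n κ hκ).1 *ᵥ 𝐞[0] =
      (𝐞[0] + (k : F) • 𝐞[1] : Fin (n + 2) ⊕ Fin (n + 2) → F) := by
    rw [vv_ee κ hκ 0 1 (by simp), dd_zero, dd_pos κ 1 (by simp), one_div, hκdef, hkk]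
  have hu0 : u.1 *ᵥ 𝐞[0] = (𝐞[0] : Fin (n + 2) ⊕ Fin (n + 2) → F) := by
    rw [hudef]
    exact ur_ee_zero 0
  have hui0 : (u⁻¹).1 *ᵥ 𝐞[0] = (𝐞[0] : Fin (n + 2) ⊕ Fin (n + 2) → F) := by
    rw [hudef, ur_inv]
    exact uri_ee_zero 0
  have hui1 : (u⁻¹).1 *ᵥ 𝐞[1] = (𝐞[1] + 𝐞[0] : Fin (n + 2) ⊕ Fin (n + 2) → F) := by
    rw [hudef, ur_inv]
    exact uri_ee 0 1 0 (by simp)
  have hu1 : u.1 *ᵥ 𝐞[1] = (𝐞[1] - 𝐞[0] : Fin (n + 2) ⊕ Fin (n + 2) → F) := by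
    have h1 := act_inv_act u (𝐞[1] : Fin (n + 2) ⊕ Fin (n + 2) → F)
    rw [hui1, Matrix.mulVec_add, hu0] at h1
    rw [eq_sub_iff_add_eq]
    exact h1
  have hB : ∀ x : F, τ (𝐞[0] : Fin (n + 2) ⊕ Fin (n + 2) → F) x ∈ H →
      τ (𝐞[0] : Fin (n + 2) ⊕ Fin (n + 2) → F) ((k : F) * (k : F) * (2 * x)) ∈ H := by
    intro x hx
    have hz : ∀ y : F, τ (𝐞[0] : Fin (n + 2) ⊕ Fin (n + 2) → F) y ∈ H →
        τ (𝐞[0] + (k : F) • 𝐞[1] : Fin (n + 2) ⊕ Fin (n + 2) → F) y ∈ H := by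
      intro y hy
      rw [← hvz]
      exact tau_act hy hv
    have hab : Cfsg.sympForm (n + 2) F (𝐞[0] + (k : F) • 𝐞[1]) ((k : F) • 𝐞[0]) = 0 := by
      rw [sympForm_smul_right, sf_ee]
      simp [ee_inr]
    have a1 := tau_act (hz x hx) hui
    have a2 := tau_act (hz x hx) hu
    rw [Matrix.mulVec_add, Matrix.mulVec_smul, hui0, hui1] at a1
    rw [Matrix.mulVec_add, Matrix.mulVec_smul, hu0, hu1] at a2
    have hx2 : τ (𝐞[0] : Fin (n + 2) ⊕ Fin (n + 2) → F) (-(2 * x)) ∈ H := by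
      have := H.inv_mem (H.mul_mem hx hx)
      rwa [τ_add, τ_inv', ← two_mul] at this
    have a3 := hz _ hx2
    have e := theta_id (𝐞[0] + (k : F) • 𝐞[1] : Fin (n + 2) ⊕ Fin (n + 2) → F) ((k : F) • 𝐞[0]) hab x
    rw [τ_smul] at e
    rw [← e]
    refine H.mul_mem (H.mul_mem ?_ ?_) a3
    · convert a1 using 2
      module
    · convert a2 using 2
      module
  have hall : ∀ t : F, t ∈ tauSubV H (𝐞[0] : Fin (n + 2) ⊕ Fin (n + 2) → F) := by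
    apply additive_gen_sq k hk (tauSubV H 𝐞[0]) 2 hA h2
    intro t ht
    obtain ⟨x, hx, hxt⟩ := halves (tauSubV H (𝐞[0] : Fin (n + 2) ⊕ Fin (n + 2) → F)) h2 t ht
    rw [← hxt]
    exact hB x hx
  have h0 : (𝐞[0] : Fin (n + 2) ⊕ Fin (n + 2) → F) ∈ DD H := fun t => hall t
  refine low_top κ hκ (by rw [← hudef]; exact hu) hv (Or.inr ⟨1, -1, one_ne_zero, ?_, ?_⟩) h0
  · exact neg_ne_zero.mpr one_ne_zero
  · intro h
    apply h2
    linear_combination h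

end odd


section two

variable [Fintype F]

theorem two_top (hq : Fintype.card F = 2) (n : ℕ) :
    ∃ u g h : Matrix.symplecticGroup (Fin (n + 1 + 2)) F,
      IsNilpotent (u.1 - 1) ∧ (u.1 - 1) ^ (2 * (n + 1 + 2) - 1) ≠ 0 ∧
      Subgroup.closure ({u, g * u * g⁻¹, h * u * h⁻¹} :
        Set (Matrix.symplecticGroup (Fin (n + 1 + 2)) F)) = ⊤ := by
  have h2 : (2 : F) = 0 := by
    have := FiniteField.cast_card_eq_zero F
    rw [hq] at this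
    exact_mod_cast this
  obtain ⟨u, hudef⟩ : ∃ u : Matrix.symplecticGroup (Fin (n + 1 + 2)) F, u = ur F (n + 1) 0 :=
    ⟨_, rfl⟩
  obtain ⟨g, hgdef⟩ : ∃ g : Matrix.symplecticGroup (Fin (n + 1 + 2)) F,
      g = SS 𝐞[0] 𝐞[2] 1 * τ 𝐞[1] 1 := ⟨_, rfl⟩
  refine ⟨u, g, hh (n + 1) 1 one_ne_zero, ?_, ?_, ?_⟩
  · rw [hudef]
    exact ur_nilpotent 0
  · rw [hudef]
    exact ur_pow_ne_zero 0
  obtain ⟨H, hH⟩ : ∃ H : Subgroup (Matrix.symplecticGroup (Fin (n + 1 + 2)) F),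
      H = Subgroup.closure {u, g * u * g⁻¹,
        hh (n + 1) 1 one_ne_zero * u * (hh (n + 1) (1 : F) one_ne_zero)⁻¹} := ⟨_, rfl⟩
  rw [← hH]
  have hu : u ∈ H := by
    rw [hH]
    exact Subgroup.subset_closure (by simp)
  have hgu : g * u * g⁻¹ ∈ H := by
    rw [hH]
    exact Subgroup.subset_closure (by simp)
  have hv : vv (n + 1) (1 : F) one_ne_zero ∈ H := by
    rw [vv_eq, ← hudef, hH]
    exact Subgroup.subset_closure (by simp)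
  have hui : u⁻¹ ∈ H := H.inv_mem hu
  have h01 : Cfsg.sympForm (n + 1 + 2) F 𝐞[0] 𝐞[1] = 0 := by
    rw [sf_ee, ee_inr]
  have h02 : Cfsg.sympForm (n + 1 + 2) F 𝐞[0] 𝐞[2] = 0 := by
    rw [sf_ee, ee_inr]
  have h12 : Cfsg.sympForm (n + 1 + 2) F 𝐞[1] 𝐞[2] = 0 := by
    rw [sf_ee, ee_inr]
  have hg0 : g.1 *ᵥ 𝐞[0] = (𝐞[0] : Fin (n + 1 + 2) ⊕ Fin (n + 1 + 2) → F) := by
    rw [hgdef, mmv, τ_ee_ee, SS_mulVec h02, h02, sympForm_self]
    simp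
  have v1 : (1 : Fin (n + 1 + 2)).val = 1 := by simp
  have v2 : (2 : Fin (n + 1 + 2)).val = 2 := by
    rw [Fin.val_two]
  have hA : τ (𝐞[0] : Fin (n + 1 + 2) ⊕ Fin (n + 1 + 2) → F) 1 ∈ H := by
    have e1 : u⁻¹ * g = SS 𝐞[0] (𝐞[2] + 𝐞[1]) 1 * τ (𝐞[1] + 𝐞[0]) 1 * u⁻¹ := by
      rw [hgdef, ← mul_assoc, SS_conj, mul_assoc, conj_τ, hudef, ur_inv, uri_ee_zero,
        uri_ee 0 2 1 (by rw [v1, v2]), uri_ee 0 1 0 (by simp), mul_assoc]
    have e2 : SS (𝐞[0] : Fin (n + 1 + 2) ⊕ Fin (n + 1 + 2) → F) (𝐞[2] + 𝐞[1]) 1 *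
        τ (𝐞[1] + 𝐞[0]) 1 = g * τ 𝐞[0] 1 := by
      rw [three_id _ _ _ h01 h02 h12, mul_one, h2, SS_zero, mul_one, hgdef]
    have e3 : τ (𝐞[0] : Fin (n + 1 + 2) ⊕ Fin (n + 1 + 2) → F) 1 = u⁻¹ * (g * u * g⁻¹) := by
      have e4 := conj_τ g (𝐞[0] : Fin (n + 1 + 2) ⊕ Fin (n + 1 + 2) → F) 1
      rw [hg0] at e4
      calc τ (𝐞[0] : Fin (n + 1 + 2) ⊕ Fin (n + 1 + 2) → F) 1
          = (g * τ 𝐞[0] 1) * g⁻¹ := by rw [e4]; group
        _ = (u⁻¹ * g) * u * g⁻¹ := by rw [← e2, e1]; group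
        _ = u⁻¹ * (g * u * g⁻¹) := by group
    rw [e3]
    exact H.mul_mem hui hgu
  have h0 : (𝐞[0] : Fin (n + 1 + 2) ⊕ Fin (n + 1 + 2) → F) ∈ DD H := DD_of_one_two hq H _ hA
  exact low_top 1 one_ne_zero (by rw [← hudef]; exact hu) hv (Or.inl rfl) h0

end two

end Cfsg.Agent.Lib.helper15.SpRU
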