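import Mathlib
import Cfsg.Agent.Lib.helper15.SpRU4

set_option autoImplicit false
set_option linter.unusedSimpArgs false

namespace Cfsg.Agent.Lib.helper15.SpRU

open Matrix Cfsg.Agent.Lib.helper6 Cfsg.Agent.S0269 Cfsg.Agent.Lib.helper15.SpGen

variable {F : Type*} [Field F] {m : ℕ}

local notation "𝐁" => Cfsg.sympForm _ _

section acl

variable {D : Set (Fin m ⊕ Fin m → F)}

def Good (D : Set (Fin m ⊕ Fin m → F)) (W : Submodule F (Fin m ⊕ Fin m → F)) : Prop :=
  ∀ t ∈ W, (∃ t' ∈ W, Cfsg.sympForm m F t t' ≠ 0) → t ∈ D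

variable (hs : ∀ v ∈ D, ∀ k : F, k • v ∈ D)
  (hm : ∀ u v : Fin m ⊕ Fin m → F, u ∈ D → v ∈ D → Cfsg.sympForm m F v u ≠ 0 →
    ∀ c : F, v + c • u ∈ D)

include hs hm

lemma acl_plane {w y : Fin m ⊕ Fin m → F} (hw : w ∈ D) (hy : y ∈ D)
    (hwy : Cfsg.sympForm m F w y ≠ 0) (p q : F) (hpq : p ≠ 0 ∨ q ≠ 0) :
    p • w + q • y ∈ D := by
  by_cases hp : p = 0
  · subst hp
    rw [zero_smul, zero_add]
    exact hs y hy q
  · have h1 := hm y w hy hw hwy (q / p)
    have h2 := hs _ h1 p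
    convert h2 using 1
    rw [smul_add, smul_smul, mul_div_cancel₀ _ hp]

lemma acl_shift1 {w y : Fin m ⊕ Fin m → F} (hw : w ∈ D) (hy : y ∈ D)
    (hwy : Cfsg.sympForm m F w y ≠ 0) (z : Fin m ⊕ Fin m → F)
    (hzw : Cfsg.sympForm m F z w = 0) (hzy : Cfsg.sympForm m F z y = 0)
    (p0 q0 p q : F) (hΔ : p0 * q - q0 * p ≠ 0)
    (h : z + p0 • w + q0 • y ∈ D) : z + p • w + q • y ∈ D := by
  have hyw : Cfsg.sympForm m F y w = -Cfsg.sympForm m F w y := sympForm_swap m y w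
  have hd : (p - p0) • w + (q - q0) • y ∈ D := by
    apply acl_plane hs hm hw hy hwy
    by_contra hcon
    rw [not_or, not_not, not_not] at hcon
    apply hΔ
    have e1 : p = p0 := by linear_combination hcon.1
    have e2 : q = q0 := by linear_combination hcon.2
    rw [e1, e2]
    ring
  have hB : Cfsg.sympForm m F (z + p0 • w + q0 • y) ((p - p0) • w + (q - q0) • y) ≠ 0 := by
    simp only [sympForm_add_left, sympForm_add_right, sympForm_smul_left, sympForm_smul_right,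
      sympForm_self, hzw, hzy, hyw, mul_zero, add_zero, zero_add]
    intro h0
    apply hΔ
    have : (p0 * q - q0 * p) * Cfsg.sympForm m F w y = 0 := by linear_combination h0
    rcases mul_eq_zero.mp this with h1 | h1
    · exact h1
    · exact absurd h1 hwy
  have := hm _ _ hd h hB 1
  convert this using 1
  module

lemma acl_shift {w y : Fin m ⊕ Fin m → F} (hw : w ∈ D) (hy : y ∈ D)
    (hwy : Cfsg.sympForm m F w y ≠ 0) (z : Fin m ⊕ Fin m → F)
    (hzw : Cfsg.sympForm m F z w = 0) (hzy : Cfsg.sympForm m F z y = 0)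
    (p0 q0 p q : F) (h0 : p0 ≠ 0 ∨ q0 ≠ 0) (h1 : p ≠ 0 ∨ q ≠ 0)
    (h : z + p0 • w + q0 • y ∈ D) : z + p • w + q • y ∈ D := by
  by_cases hΔ : p0 * q - q0 * p = 0
  · by_cases hp0 : p0 = 0
    · have hq0 : q0 ≠ 0 := by
        rcases h0 with h0 | h0
        · exact absurd hp0 h0
        · exact h0
      have hp : p = 0 := by
        rw [hp0, zero_mul, zero_sub, neg_eq_zero] at hΔ
        rcases mul_eq_zero.mp hΔ with h2 | h2
        · exact absurd h2 hq0
        · exact h2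
      have hq : q ≠ 0 := by
        rcases h1 with h1 | h1
        · exact absurd hp h1
        · exact h1
      have a1 := acl_shift1 hs hm hw hy hwy z hzw hzy p0 q0 1 0 (by
        rw [hp0]
        simpa using hq0) h
      exact acl_shift1 hs hm hw hy hwy z hzw hzy 1 0 p q (by
        rw [hp]
        simpa using hq) a1
    · have hp : p ≠ 0 := by
        intro hp
        rw [hp, mul_zero, sub_zero] at hΔ
        rcases mul_eq_zero.mp hΔ with h2 | h2
        · exact hp0 h2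
        · rcases h1 with h1 | h1
          · exact h1 hp
          · exact h1 h2
      have a1 := acl_shift1 hs hm hw hy hwy z hzw hzy p0 q0 0 1 (by simpa using hp0) h
      exact acl_shift1 hs hm hw hy hwy z hzw hzy 0 1 p q (by simpa using hp) a1
  · exact acl_shift1 hs hm hw hy hwy z hzw hzy p0 q0 p q hΔ h



omit hs hm in
lemma acl_exists {W : Submodule F (Fin m ⊕ Fin m → F)} (hW : Good D W)
    {w y : Fin m ⊕ Fin m → F} (hwW : w ∈ W)
    (hwnr : ∃ w0 ∈ W, Cfsg.sympForm m F w w0 ≠ 0)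
    (l1 l2 : F) (hl1 : l1 ≠ 0) (hl2 : l2 ≠ 0) (hl12 : l1 ≠ l2)
    (z : Fin m ⊕ Fin m → F) (hz : z ∈ W ⊔ Submodule.span F {y}) :
    ∃ p q : F, (p ≠ 0 ∨ q ≠ 0) ∧ z + p • w + q • y ∈ D := by
  obtain ⟨w', hw', y', hy', hzeq⟩ := Submodule.mem_sup.mp hz
  obtain ⟨c, hc⟩ := Submodule.mem_span_singleton.mp hy'
  obtain ⟨w0, hw0, hw0ne⟩ := hwnr
  have hx : ∀ l : F, w' + l • w ∈ W := fun l => W.add_mem hw' (W.smul_mem l hwW)
  have key : ∃ l : F, l ≠ 0 ∧ ∃ t' ∈ W, Cfsg.sympForm m F (w' + l • w) t' ≠ 0 := by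
    by_contra hcon
    have h1 : Cfsg.sympForm m F (w' + l1 • w) w0 = 0 := by
      by_contra h
      exact hcon ⟨l1, hl1, w0, hw0, h⟩
    have h2 : Cfsg.sympForm m F (w' + l2 • w) w0 = 0 := by
      by_contra h
      exact hcon ⟨l2, hl2, w0, hw0, h⟩
    rw [sympForm_add_left, sympForm_smul_left] at h1 h2
    have h3 : (l1 - l2) * Cfsg.sympForm m F w w0 = 0 := by linear_combination h1 - h2
    rcases mul_eq_zero.mp h3 with h4 | h4
    · exact hl12 (sub_eq_zero.mp h4)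
    · exact hw0ne h4
  obtain ⟨l, hl, t', ht', hne⟩ := key
  refine ⟨l, -c, Or.inl hl, ?_⟩
  have h1 := hW _ (hx l) ⟨t', ht', hne⟩
  convert h1 using 1
  rw [← hzeq, ← hc]
  module

lemma acl_step {W : Submodule F (Fin m ⊕ Fin m → F)} (hW : Good D W)
    {w y : Fin m ⊕ Fin m → F} (hwW : w ∈ W) (hw : w ∈ D) (hy : y ∈ D)
    (hwnr : ∃ w0 ∈ W, Cfsg.sympForm m F w w0 ≠ 0)
    (hwy : Cfsg.sympForm m F w y ≠ 0)
    (l1 l2 : F) (hl1 : l1 ≠ 0) (hl2 : l2 ≠ 0) (hl12 : l1 ≠ l2) :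
    Good D (W ⊔ Submodule.span F {y}) := by
  have hyw : Cfsg.sympForm m F y w = -Cfsg.sympForm m F w y := sympForm_swap m y w
  have hwS : w ∈ W ⊔ Submodule.span F {y} := Submodule.mem_sup_left hwW
  have hyS : y ∈ W ⊔ Submodule.span F {y} :=
    Submodule.mem_sup_right (Submodule.mem_span_singleton_self y)
  have hperp : ∀ t : Fin m ⊕ Fin m → F, t ∈ W ⊔ Submodule.span F {y} →
      ∃ p q : F, ∃ z : Fin m ⊕ Fin m → F, z ∈ W ⊔ Submodule.span F {y} ∧
        t = z + p • w + q • y ∧ Cfsg.sympForm m F z w = 0 ∧ Cfsg.sympForm m F z y = 0 ∧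
        p = Cfsg.sympForm m F t y / Cfsg.sympForm m F w y ∧
        q = -(Cfsg.sympForm m F t w / Cfsg.sympForm m F w y) := by
    intro t ht
    refine ⟨Cfsg.sympForm m F t y / Cfsg.sympForm m F w y,
      -(Cfsg.sympForm m F t w / Cfsg.sympForm m F w y),
      t - (Cfsg.sympForm m F t y / Cfsg.sympForm m F w y) • w -
        (-(Cfsg.sympForm m F t w / Cfsg.sympForm m F w y)) • y, ?_, ?_, ?_, ?_, rfl, rfl⟩
    · exact Submodule.sub_mem _ (Submodule.sub_mem _ ht (Submodule.smul_mem _ _ hwS))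
        (Submodule.smul_mem _ _ hyS)
    · module
    · simp only [sympForm_sub_left, sympForm_smul_left, sympForm_self, hyw, mul_zero, sub_zero]
      field_simp
      ring
    · simp only [sympForm_sub_left, sympForm_smul_left, sympForm_self, hyw, mul_zero, sub_zero]
      field_simp
      ring
  have hcase1 : ∀ z : Fin m ⊕ Fin m → F, z ∈ W ⊔ Submodule.span F {y} →
      Cfsg.sympForm m F z w = 0 → Cfsg.sympForm m F z y = 0 →
      ∀ p q : F, (p ≠ 0 ∨ q ≠ 0) → z + p • w + q • y ∈ D := by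
    intro z hz hzw hzy p q hpq
    obtain ⟨p0, q0, h0, hD⟩ := acl_exists hW hwW hwnr l1 l2 hl1 hl2 hl12 z hz
    exact acl_shift hs hm hw hy hwy z hzw hzy p0 q0 p q h0 hpq hD
  intro t ht ⟨t', ht', htt'⟩
  obtain ⟨p, q, z, hz, hteq, hzw, hzy, hp, hq⟩ := hperp t ht
  by_cases hpq : p ≠ 0 ∨ q ≠ 0
  · rw [hteq]
    exact hcase1 z hz hzw hzy p q hpq
  · rw [not_or, not_not, not_not] at hpq
    have htz : t = z := by
      rw [hteq, hpq.1, hpq.2]
      module
    obtain ⟨p', q', z', hz', ht'eq, hz'w, hz'y, -, -⟩ := hperp t' ht'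
    have hzz' : Cfsg.sympForm m F z z' ≠ 0 := by
      intro h0
      apply htt'
      rw [htz, ht'eq]
      simp only [sympForm_add_right, sympForm_smul_right, hzw, hzy, h0, mul_zero, add_zero]
    have ha : (z + z') + (1 : F) • w + (0 : F) • y ∈ D := by
      apply hcase1 (z + z') (Submodule.add_mem _ hz hz')
      · rw [sympForm_add_left, hzw, hz'w, add_zero]
      · rw [sympForm_add_left, hzy, hz'y, add_zero]
      · exact Or.inl one_ne_zero
    have ha' : z' + (1 : F) • w + (0 : F) • y ∈ D :=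
      hcase1 z' hz' hz'w hz'y 1 0 (Or.inl one_ne_zero)
    have hwz' : Cfsg.sympForm m F w z' = 0 := by
      rw [sympForm_swap, hz'w, neg_zero]
    have hB : Cfsg.sympForm m F ((z + z') + (1 : F) • w + (0 : F) • y)
        (z' + (1 : F) • w + (0 : F) • y) ≠ 0 := by
      simp only [sympForm_add_left, sympForm_add_right, sympForm_smul_left, sympForm_smul_right,
        sympForm_self, hzw, hz'w, hwz', mul_zero, zero_mul, add_zero, zero_add, one_mul]
      exact hzz'
    have := hm _ _ ha' ha hB (-1)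
    rw [htz]
    convert this using 1
    module



def Wc (y : ℕ → Fin m ⊕ Fin m → F) : ℕ → Submodule F (Fin m ⊕ Fin m → F)
  | 0 => Submodule.span F {y 0} ⊔ Submodule.span F {y 1}
  | (j + 1) => Wc y j ⊔ Submodule.span F {y (j + 2)}

omit hs hm in
lemma Wc_mono (y : ℕ → Fin m ⊕ Fin m → F) : Monotone (Wc y) := by
  apply monotone_nat_of_le_succ
  intro j
  show Wc y j ≤ Wc y j ⊔ Submodule.span F {y (j + 2)}
  exact le_sup_left

omit hs hm in
lemma Wc_mem (y : ℕ → Fin m ⊕ Fin m → F) : ∀ j i : ℕ, i ≤ j + 1 → y i ∈ Wc y j := by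
  intro j
  induction j with
  | zero =>
    intro i hi
    show y i ∈ Submodule.span F {y 0} ⊔ Submodule.span F {y 1}
    have : i = 0 ∨ i = 1 := by omega
    rcases this with rfl | rfl
    · exact Submodule.mem_sup_left (Submodule.mem_span_singleton_self _)
    · exact Submodule.mem_sup_right (Submodule.mem_span_singleton_self _)
  | succ j ih =>
    intro i hi
    show y i ∈ Wc y j ⊔ Submodule.span F {y (j + 2)}
    by_cases h : i ≤ j + 1
    · exact Submodule.mem_sup_left (ih i h)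
    · have : i = j + 2 := by omega
      rw [this]
      exact Submodule.mem_sup_right (Submodule.mem_span_singleton_self _)

lemma Wc_good (y : ℕ → Fin m ⊕ Fin m → F) (hy : ∀ j, y j ∈ D)
    (hadj : ∀ j, Cfsg.sympForm m F (y (j + 1)) (y j) ≠ 0)
    (l1 l2 : F) (hl1 : l1 ≠ 0) (hl2 : l2 ≠ 0) (hl12 : l1 ≠ l2) :
    ∀ j, Good D (Wc y j) := by
  have hadj' : ∀ j, Cfsg.sympForm m F (y j) (y (j + 1)) ≠ 0 := by
    intro j h
    apply hadj j
    rw [sympForm_swap, h, neg_zero]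
  intro j
  induction j with
  | zero =>
    intro t ht ⟨t', _, htt'⟩
    obtain ⟨a, ha, b, hb, hab⟩ := Submodule.mem_sup.mp ht
    obtain ⟨p, hp⟩ := Submodule.mem_span_singleton.mp ha
    obtain ⟨q, hq⟩ := Submodule.mem_span_singleton.mp hb
    rw [← hab, ← hp, ← hq]
    apply acl_plane hs hm (hy 0) (hy 1) (hadj' 0)
    by_contra hcon
    rw [not_or, not_not, not_not] at hcon
    apply htt'
    rw [← hab, ← hp, ← hq, hcon.1, hcon.2]
    simp [sympForm_zero_left]
  | succ j ih =>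
    show Good D (Wc y j ⊔ Submodule.span F {y (j + 2)})
    exact acl_step hs hm ih (Wc_mem y j (j + 1) le_rfl) (hy (j + 1)) (hy (j + 2))
      ⟨y j, Wc_mem y j j (by omega), hadj j⟩ (hadj' (j + 1)) l1 l2 hl1 hl2 hl12

theorem chain_all (y : ℕ → Fin m ⊕ Fin m → F) (hy : ∀ j, y j ∈ D)
    (hadj : ∀ j, Cfsg.sympForm m F (y (j + 1)) (y j) ≠ 0)
    (l1 l2 : F) (hl1 : l1 ≠ 0) (hl2 : l2 ≠ 0) (hl12 : l1 ≠ l2)
    (hspan : ∀ x : Fin m ⊕ Fin m → F, ∃ j, x ∈ Wc y j) :
    ∀ t : Fin m ⊕ Fin m → F, t ≠ 0 → t ∈ D := by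
  intro t ht
  obtain ⟨t', htt'⟩ := sympForm_nondeg m t ht
  obtain ⟨j1, h1⟩ := hspan t
  obtain ⟨j2, h2⟩ := hspan t'
  have g := Wc_good hs hm y hy hadj l1 l2 hl1 hl2 hl12 (max j1 j2)
  exact g t (Wc_mono y (le_max_left j1 j2) h1) ⟨t', Wc_mono y (le_max_right j1 j2) h2, htt'⟩

end acl

end Cfsg.Agent.Lib.helper15.SpRU
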