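import Mathlib
import Cfsg.Agent.Lib.helper15.SpRU5

set_option autoImplicit false
set_option linter.unusedSimpArgs false

namespace Cfsg.Agent.Lib.helper15.SpRU

open Matrix Cfsg.Agent.Lib.helper6 Cfsg.Agent.S0269 Cfsg.Agent.Lib.helper15.SpGen

variable {F : Type*} [Field F] {m : ℕ}

local notation:max "𝐞[" k "]" => bv (Sum.inl k)
local notation:max "𝐟[" k "]" => bv (Sum.inr k)

lemma span_bv_top (T : Submodule F (Fin m ⊕ Fin m → F))
    (hb : ∀ j : Fin m ⊕ Fin m, (bv j : Fin m ⊕ Fin m → F) ∈ T) : T = ⊤ := by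
  rw [Submodule.eq_top_iff']
  intro x
  rw [pi_eq_sum_univ x]
  apply Submodule.sum_mem
  intro j _
  apply Submodule.smul_mem
  convert hb j using 1
  ext l
  rw [bv_apply]
  simp [eq_comm]

lemma span_act (g : Matrix.symplecticGroup (Fin m) F) (S : Set (Fin m ⊕ Fin m → F))
    (hS : ∀ x ∈ S, g.1 *ᵥ x ∈ Submodule.span F S) :
    ∀ x ∈ Submodule.span F S, g.1 *ᵥ x ∈ Submodule.span F S := by
  intro x hx
  induction hx using Submodule.span_induction with
  | mem x hx => exact hS x hx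
  | zero => rw [Matrix.mulVec_zero]; exact Submodule.zero_mem _
  | add x y _ _ hx hy => rw [Matrix.mulVec_add]; exact Submodule.add_mem _ hx hy
  | smul a x _ hx => rw [Matrix.mulVec_smul]; exact Submodule.smul_mem _ a hx

lemma pow_act (g : Matrix.symplecticGroup (Fin m) F) (T : Submodule F (Fin m ⊕ Fin m → F))
    (hT : ∀ x ∈ T, g.1 *ᵥ x ∈ T) : ∀ k : ℕ, ∀ x ∈ T, (g ^ k).1 *ᵥ x ∈ T := by
  intro k
  induction k with
  | zero =>
    intro x hx
    rw [pow_zero, one_mv]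
    exact hx
  | succ k ih =>
    intro x hx
    rw [pow_succ, mmv]
    exact ih _ (hT x hx)

lemma inv_act_mem [Finite F] (g : Matrix.symplecticGroup (Fin m) F)
    (T : Submodule F (Fin m ⊕ Fin m → F))
    (hT : ∀ x ∈ T, g.1 *ᵥ x ∈ T) : ∀ x ∈ T, (g⁻¹).1 *ᵥ x ∈ T := by
  have hfin : Finite (Matrix.symplecticGroup (Fin m) F) := Subtype.finite
  have hN : 0 < orderOf g := orderOf_pos g
  have e : g⁻¹ = g ^ (orderOf g - 1) := by
    apply inv_eq_of_mul_eq_one_right
    rw [← pow_succ', Nat.sub_add_cancel hN, pow_orderOf_eq_one]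
  rw [e]
  exact pow_act g T hT _


section cyc

variable [Finite F] {n : ℕ}

lemma cyc_span (r : F) (T : Submodule F (Fin (n + 2) ⊕ Fin (n + 2) → F))
    (hT : ∀ x ∈ T, (ur F n r).1 *ᵥ x ∈ T)
    (h0 : (𝐟[0] : Fin (n + 2) ⊕ Fin (n + 2) → F) ∈ T) : T = ⊤ := by
  have hTi : ∀ x ∈ T, (uri F n r).1 *ᵥ x ∈ T := by
    rw [← ur_inv]
    exact inv_act_mem _ T hT
  have hX : ∀ d : ℕ, ∀ k : Fin (n + 2), k.val = d + 1 →
      (𝐟[k] + (if k.val = 1 then r else 0) • 𝐞[0] : Fin (n + 2) ⊕ Fin (n + 2) → F) ∈ T := by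
    intro d
    induction d with
    | zero =>
      intro k hk
      have hk1 : k = 1 := Fin.ext (by simp [hk])
      have h1 := T.sub_mem (hT _ h0) h0
      rw [ur_ff r 0 1 (by simp)] at h1
      rw [hk1]
      convert h1 using 1
      simp only [Fin.val_zero, Fin.val_one, if_true]
      module
    | succ d ih =>
      intro k hk
      have hlt : d + 1 < n + 2 := by
        have := k.isLt
        omega
      have h1 := ih ⟨d + 1, hlt⟩ rfl
      have h2 := T.sub_mem (hT _ h1) h1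
      rw [Matrix.mulVec_add, Matrix.mulVec_smul, ur_ee_zero, ur_ff r ⟨d + 1, hlt⟩ k (by simp [hk])] at h2
      convert h2 using 1
      rw [if_neg (by omega), if_neg (by simp)]
      module
  have helast : (𝐞[Fin.last (n + 1)] : Fin (n + 2) ⊕ Fin (n + 2) → F) ∈ T := by
    have h1 := hX n (Fin.last (n + 1)) (by simp)
    have h2 := T.sub_mem h1 (hTi _ h1)
    rw [Matrix.mulVec_add, Matrix.mulVec_smul, uri_ee_zero, uri_ff_last] at h2
    convert h2 using 1
    module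
  have he : ∀ d : ℕ, ∀ k : Fin (n + 2), k.val + d = n + 1 →
      (𝐞[k] : Fin (n + 2) ⊕ Fin (n + 2) → F) ∈ T := by
    intro d
    induction d with
    | zero =>
      intro k hk
      have : k = Fin.last (n + 1) := Fin.ext (by simp; omega)
      rw [this]
      exact helast
    | succ d ih =>
      intro k hk
      have hlt : k.val + 1 < n + 2 := by omega
      have h1 := ih ⟨k.val + 1, hlt⟩ (by simp; omega)
      have h2 := T.sub_mem (hTi _ h1) h1
      rw [uri_ee r ⟨k.val + 1, hlt⟩ k rfl] at h2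
      convert h2 using 1
      module
  apply span_bv_top
  intro j
  rcases j with k | k
  · have := k.isLt
    exact he (n + 1 - k.val) k (by omega)
  · by_cases hk : k.val = 0
    · have : k = 0 := Fin.ext (by simp [hk])
      rw [this]
      exact h0
    · have h1 := hX (k.val - 1) k (by omega)
      have h2 := T.sub_mem h1 (T.smul_mem (if k.val = 1 then r else 0)
        (he (n + 1) 0 (by simp)))
      convert h2 using 1
      module



theorem cyc_top (l1 l2 : F) (hl1 : l1 ≠ 0) (hl2 : l2 ≠ 0) (hl12 : l1 ≠ l2) (r : F) (hr : r ≠ 0)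
    {H : Subgroup (Matrix.symplecticGroup (Fin (n + 2)) F)} (hu : ur F n r ∈ H)
    (h0 : (𝐟[0] : Fin (n + 2) ⊕ Fin (n + 2) → F) ∈ DD H) : H = ⊤ := by
  obtain ⟨y, hydef⟩ : ∃ y : ℕ → Fin (n + 2) ⊕ Fin (n + 2) → F,
      y = fun j => ((ur F n r) ^ j).1 *ᵥ 𝐟[0] := ⟨_, rfl⟩
  have hy0 : y 0 = 𝐟[0] := by
    rw [hydef]
    show ((ur F n r) ^ 0).1 *ᵥ 𝐟[0] = 𝐟[0]
    rw [pow_zero, one_mv]
  have hysucc : ∀ j, y (j + 1) = (ur F n r).1 *ᵥ y j := by
    intro j
    rw [hydef]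
    show ((ur F n r) ^ (j + 1)).1 *ᵥ 𝐟[0] = (ur F n r).1 *ᵥ (((ur F n r) ^ j).1 *ᵥ 𝐟[0])
    rw [pow_succ', mmv]
  have hy : ∀ j, y j ∈ DD H := by
    intro j
    rw [hydef]
    exact DD_act h0 (H.pow_mem hu j)
  have hadj : ∀ j, Cfsg.sympForm (n + 2) F (y (j + 1)) (y j) ≠ 0 := by
    intro j
    have e : y (j + 1) = ((ur F n r) ^ j).1 *ᵥ ((ur F n r).1 *ᵥ 𝐟[0]) := by
      rw [hydef]
      show ((ur F n r) ^ (j + 1)).1 *ᵥ 𝐟[0] = _
      rw [pow_succ, mmv]
    have e2 : y j = ((ur F n r) ^ j).1 *ᵥ 𝐟[0] := by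
      rw [hydef]
    rw [e, e2, (mem_symplecticGroup_iff_sympForm (n + 2) _).mp ((ur F n r) ^ j).2,
      ur_ff r 0 1 (by simp), sf_ff]
    simp [ff_inl, ee_inl, hr]
  obtain ⟨T, hTdef⟩ : ∃ T : Submodule F (Fin (n + 2) ⊕ Fin (n + 2) → F),
      T = Submodule.span F (Set.range y) := ⟨_, rfl⟩
  have hT : ∀ x ∈ T, (ur F n r).1 *ᵥ x ∈ T := by
    rw [hTdef]
    apply span_act
    rintro x ⟨j, rfl⟩
    rw [← hysucc]
    exact Submodule.subset_span ⟨j + 1, rfl⟩
  have hT0 : (𝐟[0] : Fin (n + 2) ⊕ Fin (n + 2) → F) ∈ T := by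
    rw [hTdef, ← hy0]
    exact Submodule.subset_span ⟨0, rfl⟩
  have hTtop := cyc_span r T hT hT0
  have hspan : ∀ x : Fin (n + 2) ⊕ Fin (n + 2) → F, ∃ j, x ∈ Wc y j := by
    intro x
    have hx : x ∈ Submodule.span F (Set.range y) := by
      rw [← hTdef, hTtop]
      exact Submodule.mem_top
    induction hx using Submodule.span_induction with
    | mem x hx =>
      obtain ⟨j, rfl⟩ := hx
      exact ⟨j, Wc_mem y j j (by omega)⟩
    | zero => exact ⟨0, Submodule.zero_mem _⟩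
    | add a b _ _ ha hb =>
      obtain ⟨j1, h1⟩ := ha
      obtain ⟨j2, h2⟩ := hb
      exact ⟨max j1 j2, Submodule.add_mem _ (Wc_mono y (le_max_left j1 j2) h1)
        (Wc_mono y (le_max_right j1 j2) h2)⟩
    | smul c a _ ha =>
      obtain ⟨j1, h1⟩ := ha
      exact ⟨j1, Submodule.smul_mem _ c h1⟩
  have hall := chain_all (D := DD H) (fun v hv k => DD_smul hv k)
    (fun a b ha hb h c => DD_move ha hb h c) y hy hadj l1 l2 hl1 hl2 hl12 hspan
  apply top_of_all_DD
  intro t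
  by_cases ht : t = 0
  · rw [ht]
    exact DD_zero H
  · exact hall t ht

end cyc

end Cfsg.Agent.Lib.helper15.SpRU
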