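import Mathlib
import Cfsg.Agent.Lib.helper15.SpRU6

set_option autoImplicit false
set_option linter.unusedSimpArgs false

namespace Cfsg.Agent.Lib.helper15.SpRU

open Matrix Cfsg.Agent.Lib.helper6 Cfsg.Agent.S0269 Cfsg.Agent.Lib.helper15.SpGen

variable {F : Type*} [Field F] {m : ℕ}

def Rr (z z1 : Fin m ⊕ Fin m → F) (s : F) : Matrix.symplecticGroup (Fin m) F :=
  τ z s * τ z1 s

section pure

variable {z z1 : Fin m ⊕ Fin m → F} (hzz1 : Cfsg.sympForm m F z z1 = 1)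

include hzz1

lemma sf_z1z : Cfsg.sympForm m F z1 z = -1 := by
  rw [sympForm_swap, hzz1]

lemma Rr_act (s : F) (x : Fin m ⊕ Fin m → F) :
    (Rr z z1 s).1 *ᵥ x = x + (s * (Cfsg.sympForm m F x z - s * Cfsg.sympForm m F x z1)) • z +
      (s * Cfsg.sympForm m F x z1) • z1 := by
  unfold Rr
  rw [mmv, τ_mulVec, τ_mulVec]
  simp only [sympForm_add_left, sympForm_smul_left, sf_z1z hzz1]
  module

lemma Rr_comb (s a b : F) :
    (Rr z z1 s).1 *ᵥ (a • z + b • z1) = (a - s * (b + s * a)) • z + (b + s * a) • z1 := by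
  rw [Rr_act hzz1]
  simp only [sympForm_add_left, sympForm_smul_left, sympForm_self, hzz1, sf_z1z hzz1]
  module

lemma UU_eq (h2 : (2 : F) = 0) (μ ν : F) (hμν : μ * ν = 1) :
    Rr z z1 (1 + μ) * Rr z z1 (1 + ν) = τ (z + ν • z1) (1 + μ * μ) := by
  apply sp_ext
  intro x
  rw [mmv, Rr_act hzz1, Rr_act hzz1, τ_mulVec]
  simp only [sympForm_add_left, sympForm_add_right, sympForm_smul_left, sympForm_smul_right,
    sympForm_self, hzz1, sf_z1z hzz1]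
  match_scalars <;> grind

end pure


section torus

variable [Fintype F]

lemma ringChar_two (h2 : (2 : F) = 0) : ringChar F = 2 := by
  have h : ringChar F ∣ 2 := by
    apply ringChar.dvd
    exact_mod_cast h2
  rcases (Nat.dvd_prime Nat.prime_two).mp h with h1 | h1
  · exfalso
    have := CharP.ringChar_ne_one (R := F)
    exact this h1
  · exact h1

lemma sqrt_two (h2 : (2 : F) = 0) (a : F) : ∃ c : F, c * c = a := by
  obtain ⟨c, hc⟩ := FiniteField.isSquare_of_char_two (ringChar_two h2) a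
  exact ⟨c, hc.symm⟩

theorem torus_trick (h2 : (2 : F) = 0) (k : Fˣ) (hk : ∀ u : Fˣ, u ∈ Subgroup.zpowers k)
    {H : Subgroup (Matrix.symplecticGroup (Fin m) F)}
    (R : Matrix.symplecticGroup (Fin m) F) (hR : R ∈ H) (yp ym : Fin m ⊕ Fin m → F) (b' : F)
    (hb : Cfsg.sympForm m F yp ym = b') (hb0 : b' ≠ 0)
    (hRp : R.1 *ᵥ yp = (k : F) • yp) (hRm : R.1 *ᵥ ym = (k : F)⁻¹ • ym)
    (α β t0 : F) (hα : α ≠ 0) (hβ : β ≠ 0) (ht0 : t0 ≠ 0)
    (hU : τ (α • yp + β • ym) t0 ∈ H) (hγ : t0 * α * β * b' ≠ 1) : yp ∈ DD H := by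
  have hbm : Cfsg.sympForm m F ym yp = -b' := by
    rw [sympForm_swap, hb]
  have hRpow : ∀ j : ℕ, (R ^ j).1 *ᵥ yp = ((k : F) ^ j) • yp ∧
      (R ^ j).1 *ᵥ ym = (((k : F)⁻¹) ^ j) • ym := by
    intro j
    induction j with
    | zero =>
      rw [pow_zero, one_mv, one_mv, pow_zero, pow_zero, one_smul, one_smul]
      exact ⟨rfl, rfl⟩
    | succ j ih =>
      rw [pow_succ, mmv, mmv, hRp, hRm, Matrix.mulVec_smul, Matrix.mulVec_smul, ih.1, ih.2,
        smul_smul, smul_smul, pow_succ, pow_succ]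
      constructor
      · rw [mul_comm]
      · rw [mul_comm]
  obtain ⟨γ, hγdef⟩ : ∃ γ : F, γ = t0 * α * β * b' := ⟨_, rfl⟩
  rw [← hγdef] at hγ
  have hγ0 : γ ≠ 0 := by
    rw [hγdef]
    exact mul_ne_zero (mul_ne_zero (mul_ne_zero ht0 hα) hβ) hb0
  have hγinv : γ * γ⁻¹ = 1 := mul_inv_cancel₀ hγ0
  obtain ⟨l, hl⟩ := sqrt_two h2 (1 + γ⁻¹)
  have hl0 : l ≠ 0 := by
    intro h
    rw [h, mul_zero] at hl
    apply hγ
    have : γ * (1 + γ⁻¹) = 0 := by rw [← hl, mul_zero]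
    grind
  have hlinv : l * l⁻¹ = 1 := mul_inv_cancel₀ hl0
  obtain ⟨j, hj⟩ := exists_pow_eq k hk l hl0
  have hRj : (R ^ j).1 *ᵥ (α • yp + β • ym) = (α * l) • yp + (β * l⁻¹) • ym := by
    rw [Matrix.mulVec_add, Matrix.mulVec_smul, Matrix.mulVec_smul, (hRpow j).1, (hRpow j).2,
      smul_smul, smul_smul, inv_pow, hj]
  obtain ⟨c, hcdef⟩ : ∃ c : F, c = α * l⁻¹ * γ⁻¹ := ⟨_, rfl⟩
  have hc0 : c ≠ 0 := by
    rw [hcdef]
    exact mul_ne_zero (mul_ne_zero hα (inv_ne_zero hl0)) (inv_ne_zero hγ0)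
  have hw : (τ (α • yp + β • ym) t0).1 *ᵥ ((R ^ j).1 *ᵥ (α • yp + β • ym)) = c • yp := by
    rw [hRj, τ_mulVec]
    simp only [sympForm_add_left, sympForm_add_right, sympForm_smul_left, sympForm_smul_right,
      sympForm_self, hb, hbm]
    match_scalars <;> grind
  have h1 : τ (c • yp) t0 ∈ H := by
    rw [← hw]
    exact tau_act (tau_act hU (H.pow_mem hR j)) hU
  rw [τ_smul] at h1
  intro t
  by_cases ht : t = 0
  · rw [ht, τ_zero]
    exact H.one_mem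
  have hden : c * c * t0 ≠ 0 := mul_ne_zero (mul_ne_zero hc0 hc0) ht0
  obtain ⟨v, hv⟩ := sqrt_two h2 (t / (c * c * t0))
  have hv0 : v ≠ 0 := by
    intro h
    rw [h, mul_zero] at hv
    exact (div_ne_zero ht hden) hv.symm
  obtain ⟨i, hi⟩ := exists_pow_eq k hk v hv0
  have h3 := tau_act h1 (H.pow_mem hR i)
  rw [(hRpow i).1, τ_smul, hi] at h3
  have e : v * v * (c * c * t0) = t := by
    rw [hv]
    field_simp
  rwa [e] at h3

end torus


section core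

variable [Fintype F] {z z1 : Fin m ⊕ Fin m → F}

lemma inv_gen (k : Fˣ) (hk : ∀ u : Fˣ, u ∈ Subgroup.zpowers k) :
    ∀ u : Fˣ, u ∈ Subgroup.zpowers k⁻¹ := by
  intro u
  rw [Subgroup.zpowers_inv]
  exact hk u

theorem even_core (hzz1 : Cfsg.sympForm m F z z1 = 1) (h2 : (2 : F) = 0) (k : Fˣ)
    (hk : ∀ u : Fˣ, u ∈ Subgroup.zpowers k) (hk1 : (k : F) ≠ 1) (σ : F)
    (hσ : σ * σ = (k : F) + (k : F)⁻¹)
    {H : Subgroup (Matrix.symplecticGroup (Fin m) F)} (hR : Rr z z1 σ ∈ H)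
    (α β t0 : F) (hα : α ≠ 0) (hβ : β ≠ 0) (ht0 : t0 ≠ 0)
    (hU : τ (α • (σ • z + (1 + (k : F)⁻¹) • z1) + β • (σ • z + (1 + (k : F)) • z1)) t0 ∈ H)
    (hγ : t0 * α * β * (σ * ((k : F) - (k : F)⁻¹)) ≠ 1) : z ∈ DD H := by
  have hk0 : (k : F) ≠ 0 := k.ne_zero
  have hkinv : (k : F) * (k : F)⁻¹ = 1 := mul_inv_cancel₀ hk0
  have hkk : (k : F) - (k : F)⁻¹ ≠ 0 := by
    intro h
    apply hk1
    have h3 : ((k : F) - 1) ^ 2 = 0 := by grind
    have h4 := pow_eq_zero_iff (two_ne_zero) |>.mp h3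
    linear_combination h4
  have hσ0 : σ ≠ 0 := by
    intro h
    apply hkk
    rw [h, mul_zero] at hσ
    grind
  have hσinv : σ * σ⁻¹ = 1 := mul_inv_cancel₀ hσ0
  have hb0 : σ * ((k : F) - (k : F)⁻¹) ≠ 0 := mul_ne_zero hσ0 hkk
  have hpm : Cfsg.sympForm m F (σ • z + (1 + (k : F)⁻¹) • z1) (σ • z + (1 + (k : F)) • z1) =
      σ * ((k : F) - (k : F)⁻¹) := by
    simp only [sympForm_add_left, sympForm_add_right, sympForm_smul_left, sympForm_smul_right,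
      sympForm_self, hzz1, sf_z1z hzz1]
    ring
  have hmp : Cfsg.sympForm m F (σ • z + (1 + (k : F)) • z1) (σ • z + (1 + (k : F)⁻¹) • z1) =
      σ * ((k : F) - (k : F)⁻¹) := by
    simp only [sympForm_add_left, sympForm_add_right, sympForm_smul_left, sympForm_smul_right,
      sympForm_self, hzz1, sf_z1z hzz1]
    grind
  have hRp : (Rr z z1 σ).1 *ᵥ (σ • z + (1 + (k : F)⁻¹) • z1) =
      (k : F) • (σ • z + (1 + (k : F)⁻¹) • z1) := by
    rw [Rr_comb hzz1]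
    match_scalars <;> grind
  have hRm : (Rr z z1 σ).1 *ᵥ (σ • z + (1 + (k : F)) • z1) =
      (k : F)⁻¹ • (σ • z + (1 + (k : F)) • z1) := by
    rw [Rr_comb hzz1]
    match_scalars <;> grind
  have hp := torus_trick h2 k hk (Rr z z1 σ) hR _ _ _ hpm hb0 hRp hRm α β t0 hα hβ ht0 hU hγ
  have hRp' : (Rr z z1 σ).1 *ᵥ (σ • z + (1 + (k : F)⁻¹) • z1) =
      ((k⁻¹ : Fˣ) : F)⁻¹ • (σ • z + (1 + (k : F)⁻¹) • z1) := by
    rw [hRp]
    simp
  have hRm' : (Rr z z1 σ).1 *ᵥ (σ • z + (1 + (k : F)) • z1) =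
      ((k⁻¹ : Fˣ) : F) • (σ • z + (1 + (k : F)) • z1) := by
    rw [hRm]
    simp
  have hU' : τ (β • (σ • z + (1 + (k : F)) • z1) + α • (σ • z + (1 + (k : F)⁻¹) • z1)) t0 ∈ H := by
    rw [add_comm]
    exact hU
  have hγ' : t0 * β * α * (σ * ((k : F) - (k : F)⁻¹)) ≠ 1 := by
    intro h
    apply hγ
    rw [← h]
    ring
  have hm := torus_trick h2 k⁻¹ (inv_gen k hk) (Rr z z1 σ) hR _ _ _ hmp hb0 hRm' hRp' β α t0
    hβ hα ht0 hU' hγ'
  have hk1' : (1 : F) + (k : F) ≠ 0 := by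
    intro h
    apply hk1
    grind
  have hcomb := acl_plane (D := DD H) (fun v hv c => DD_smul hv c)
    (fun a b ha hb h c => DD_move ha hb h c) hp hm (by rw [hpm]; exact hb0)
    ((1 + (k : F)) * (σ⁻¹) ^ 3) ((1 + (k : F)⁻¹) * (σ⁻¹) ^ 3)
    (Or.inl (mul_ne_zero hk1' (pow_ne_zero 3 (inv_ne_zero hσ0))))
  convert hcomb using 1
  match_scalars <;> grind

end core

end Cfsg.Agent.Lib.helper15.SpRU
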