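import Mathlib
import Cfsg.Agent.Lib.helper15.SpRU7

set_option autoImplicit false
set_option linter.unusedSimpArgs false
set_option linter.unusedSectionVars false

namespace Cfsg.Agent.Lib.helper15.SpRU

open Matrix Cfsg.Agent.Lib.helper6 Cfsg.Agent.S0269 Cfsg.Agent.Lib.helper15.SpGen

variable {F : Type*} [Field F] {m : ℕ}

local notation:max "𝐞[" k "]" => bv (Sum.inl k)
local notation:max "𝐟[" k "]" => bv (Sum.inr k)

lemma neg_self2 (h2 : (2 : F) = 0) (s : F) : -s = s := by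
  have : s + s = 0 := by
    rw [← two_mul, h2, zero_mul]
  exact neg_eq_of_add_eq_zero_left this

lemma Rr_mem (h2 : (2 : F) = 0) (u : Matrix.symplecticGroup (Fin m) F) (z : Fin m ⊕ Fin m → F)
    (s : F) {H : Subgroup (Matrix.symplecticGroup (Fin m) F)} (hu : u ∈ H)
    (hg : τ z s * u * (τ z s)⁻¹ ∈ H) : Rr z (u.1 *ᵥ z) s ∈ H := by
  have e : Rr z (u.1 *ᵥ z) s = (τ z s * u * (τ z s)⁻¹) * u⁻¹ := by
    unfold Rr
    have h1 := conj_τ u z (-s)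
    rw [neg_self2 h2] at h1
    rw [τ_inv', neg_self2 h2]
    calc τ z s * τ (u.1 *ᵥ z) s = τ z s * (τ (u.1 *ᵥ z) s * u) * u⁻¹ := by group
      _ = τ z s * (u * τ z s) * u⁻¹ := by rw [h1]
      _ = τ z s * u * τ z s * u⁻¹ := by group
  rw [e]
  exact H.mul_mem hg (H.inv_mem hu)


section even

variable [Fintype F] {n : ℕ}

lemma sf_f0_z1 : Cfsg.sympForm (n + 2) F 𝐟[0] ((ur F n 1).1 *ᵥ 𝐟[0]) = 1 := by
  rw [ur_ff 1 0 1 (by simp)]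
  simp only [sympForm_add_right, sympForm_smul_right, sympForm_self, sf_ff, sf_ee, ff_inl, ff_inr]
  simp

lemma gen_ne_one (hq : 4 ≤ Fintype.card F) (k : Fˣ) (hk : ∀ u : Fˣ, u ∈ Subgroup.zpowers k) :
    (k : F) ≠ 1 := by
  classical
  intro h
  have hk1 : k = 1 := Units.ext h
  have hall : ∀ u : Fˣ, u = 1 := by
    intro u
    have := hk u
    rw [hk1, Subgroup.zpowers_one_eq_bot, Subgroup.mem_bot] at this
    exact this
  have hsub : (Finset.univ : Finset Fˣ) ⊆ {1} := by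
    intro u _
    rw [Finset.mem_singleton]
    exact hall u
  have h1 := Finset.card_le_card hsub
  rw [Finset.card_univ, Fintype.card_units, Finset.card_singleton] at h1
  omega

theorem even_finish (h2 : (2 : F) = 0) (k : Fˣ) (hk1 : (k : F) ≠ 1) (s s' : F)
    (hfin : ∀ H : Subgroup (Matrix.symplecticGroup (Fin (n + 2)) F),
      Rr 𝐟[0] ((ur F n 1).1 *ᵥ 𝐟[0]) s ∈ H → Rr 𝐟[0] ((ur F n 1).1 *ᵥ 𝐟[0]) s' ∈ H →
      (𝐟[0] : Fin (n + 2) ⊕ Fin (n + 2) → F) ∈ DD H) :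
    ∃ u g h : Matrix.symplecticGroup (Fin (n + 2)) F,
      IsNilpotent (u.1 - 1) ∧ (u.1 - 1) ^ (2 * (n + 2) - 1) ≠ 0 ∧
      Subgroup.closure ({u, g * u * g⁻¹, h * u * h⁻¹} :
        Set (Matrix.symplecticGroup (Fin (n + 2)) F)) = ⊤ := by
  refine ⟨ur F n 1, τ 𝐟[0] s, τ 𝐟[0] s', ur_nilpotent 1, ur_pow_ne_zero 1, ?_⟩
  obtain ⟨H, hH⟩ : ∃ H : Subgroup (Matrix.symplecticGroup (Fin (n + 2)) F),
      H = Subgroup.closure {ur F n 1, τ 𝐟[0] s * ur F n 1 * (τ 𝐟[0] s)⁻¹,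
        τ 𝐟[0] s' * ur F n 1 * (τ 𝐟[0] s')⁻¹} := ⟨_, rfl⟩
  rw [← hH]
  have hu : ur F n 1 ∈ H := by
    rw [hH]
    exact Subgroup.subset_closure (by simp)
  have hg : τ 𝐟[0] s * ur F n 1 * (τ 𝐟[0] s)⁻¹ ∈ H := by
    rw [hH]
    exact Subgroup.subset_closure (by simp)
  have hh : τ 𝐟[0] s' * ur F n 1 * (τ 𝐟[0] s')⁻¹ ∈ H := by
    rw [hH]
    exact Subgroup.subset_closure (by simp)
  have h0 := hfin H (Rr_mem h2 _ _ s hu hg) (Rr_mem h2 _ _ s' hu hh)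
  exact cyc_top 1 (k : F) one_ne_zero k.ne_zero (Ne.symm hk1) 1 one_ne_zero hu h0

end even


section cases

variable {z z1 : Fin m ⊕ Fin m → F}

lemma caseA_e1 (hzz1 : Cfsg.sympForm m F z z1 = 1) (h2 : (2 : F) = 0) (k : F)
    (hA : k * k + k + 1 = 0) :
    Rr z z1 1 * τ z (k * k) = Rr z z1 k * Rr z z1 k := by
  apply sp_ext
  intro x
  rw [mmv, mmv, Rr_act hzz1, Rr_act hzz1, Rr_act hzz1, τ_mulVec]
  simp only [sympForm_add_left, sympForm_add_right, sympForm_smul_left, sympForm_smul_right,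
    sympForm_self, hzz1, sf_z1z hzz1]
  match_scalars
  · ring
  · grind
  · grind

lemma caseA_vec (h2 : (2 : F) = 0) (k ki : F) (hki : k * ki = 1) (hA : k * k + k + 1 = 0) :
    (k * k) • ((1 : F) • z + (1 + ki) • z1) + k • ((1 : F) • z + (1 + k) • z1) = z := by
  match_scalars <;> grind

lemma caseA_gam (h2 : (2 : F) = 0) (k ki : F) (hki : k * ki = 1) (hA : k * k + k + 1 = 0) :
    k * k * (k * k) * k * (1 * (k - ki)) = k * k := by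
  grind

lemma caseA_sig (h2 : (2 : F) = 0) (k ki : F) (hki : k * ki = 1) (hA : k * k + k + 1 = 0) :
    (1 : F) * 1 = k + ki := by
  grind

lemma sq_sub_one (h2 : (2 : F) = 0) (k : F) (h : k * k = 1) : k = 1 := by
  have h3 : (k - 1) ^ 2 = 0 := by grind
  have h4 := pow_eq_zero_iff (two_ne_zero) |>.mp h3
  linear_combination h4

lemma cube_sub_one (k : F) (h : (k - 1) ^ 3 = 0) : k = 1 := by
  have h4 := pow_eq_zero_iff (by norm_num) |>.mp h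
  linear_combination h4

lemma caseB_a (h2 : (2 : F) = 0) (k ki μ σ : F) (hki : k * ki = 1) (hσ : σ = 1 + μ)
    (hμ : σ * σ = k + ki) (h : 1 + k * μ = 0) : (k - 1) ^ 3 = 0 := by
  grind

lemma caseB_b (h2 : (2 : F) = 0) (k ki μ σ : F) (hki : k * ki = 1) (hσ : σ = 1 + μ)
    (hμ : σ * σ = k + ki) (h : 1 + μ * ki = 0) : (k - 1) ^ 3 = 0 := by
  grind

lemma caseB_vec (h2 : (2 : F) = 0) (k ki μ ν σ ρ : F) (hki : k * ki = 1) (hσ : σ = 1 + μ)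
    (hμ : σ * σ = k + ki) (hμν : μ * ν = 1) (hρ : σ * ρ = 1) :
    ((1 + k * μ) * ν * (ρ * ρ * ρ)) • (σ • z + (1 + ki) • z1) +
      ((1 + μ * ki) * ν * (ρ * ρ * ρ)) • (σ • z + (1 + k) • z1) = z + ν • z1 := by
  have f1 : (1 + k * μ) + (1 + μ * ki) = μ * (σ * σ) := by grind
  have f2 : (1 + k * μ) * (1 + ki) + (1 + μ * ki) * (1 + k) = σ * σ * σ := by grind
  have f3 : ρ * ρ * ρ * (σ * σ * σ) = 1 := by grind
  match_scalars
  · linear_combination (ν * (ρ * ρ * ρ) * σ) * f1 + (ρ * ρ * ρ * (σ * σ * σ)) * hμν + f3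
  · linear_combination (ν * (ρ * ρ * ρ)) * f2 + ν * f3

lemma caseB_gam (h2 : (2 : F) = 0) (k ki μ ν σ ρ : F) (hki : k * ki = 1) (hσ : σ = 1 + μ)
    (hμ : σ * σ = k + ki) (hμν : μ * ν = 1) (hρ : σ * ρ = 1) :
    (1 + μ * μ) * ((1 + k * μ) * ν * (ρ * ρ * ρ)) * ((1 + μ * ki) * ν * (ρ * ρ * ρ)) *
      (σ * (k - ki)) = 1 + ν * ν := by
  have f1 : 1 + μ * μ = σ * σ := by grind
  have f2 : (1 + k * μ) * (1 + μ * ki) = σ * σ * σ := by grind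
  have f3 : k - ki = σ * σ := by grind
  have f4 : σ * ν = ν + 1 := by grind
  have f5 : ρ * ρ * ρ * (σ * σ * σ) = 1 := by grind
  have e : (1 + μ * μ) * ((1 + k * μ) * ν * (ρ * ρ * ρ)) * ((1 + μ * ki) * ν * (ρ * ρ * ρ)) *
      (σ * (k - ki)) = (1 + μ * μ) * ((1 + k * μ) * (1 + μ * ki)) * (σ * (k - ki)) *
        (ν * ν) * ((ρ * ρ * ρ) * (ρ * ρ * ρ)) := by ring
  rw [e, f1, f2, f3]
  have e2 : σ * σ * (σ * σ * σ) * (σ * (σ * σ)) * (ν * ν) * (ρ * ρ * ρ * (ρ * ρ * ρ)) =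
      (ρ * ρ * ρ * (σ * σ * σ)) * (ρ * ρ * ρ * (σ * σ * σ)) * ((σ * ν) * (σ * ν)) := by ring
  rw [e2, f5, f4]
  grind

lemma caseB_t0 (h2 : (2 : F) = 0) (μ σ : F) (hσ : σ = 1 + μ) : 1 + μ * μ = σ * σ := by
  grind

lemma caseB_mu (h2 : (2 : F) = 0) (k ki : F) (hki : k * ki = 1) (h : (1 : F) * 1 = k + ki) :
    k * k + k + 1 = 0 := by
  grind

lemma nu_sq (h2 : (2 : F) = 0) (ν : F) (h : 1 + ν * ν = 1) : ν = 0 := by
  have h3 : ν ^ 2 = 0 := by grind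
  exact pow_eq_zero_iff (two_ne_zero) |>.mp h3



variable [Fintype F]

theorem caseA (hzz1 : Cfsg.sympForm m F z z1 = 1) (h2 : (2 : F) = 0) (k : Fˣ)
    (hk : ∀ u : Fˣ, u ∈ Subgroup.zpowers k) (hk1 : (k : F) ≠ 1)
    (hA : (k : F) * (k : F) + (k : F) + 1 = 0)
    {H : Subgroup (Matrix.symplecticGroup (Fin m) F)} (hR : Rr z z1 1 ∈ H)
    (hR' : Rr z z1 (k : F) ∈ H) : z ∈ DD H := by
  have hk0 : (k : F) ≠ 0 := k.ne_zero
  have hkinv : (k : F) * (k : F)⁻¹ = 1 := mul_inv_cancel₀ hk0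
  have e1 := caseA_e1 hzz1 h2 (k : F) hA
  have hτ : τ z ((k : F) * (k : F)) ∈ H := by
    have e2 : τ z ((k : F) * (k : F)) = (Rr z z1 1)⁻¹ * (Rr z z1 (k : F) * Rr z z1 (k : F)) := by
      rw [← e1]
      group
    rw [e2]
    exact H.mul_mem (H.inv_mem hR) (H.mul_mem hR' hR')
  have hkk0 : (k : F) * (k : F) ≠ 0 := mul_ne_zero hk0 hk0
  refine even_core hzz1 h2 k hk hk1 1 (caseA_sig h2 _ _ hkinv hA) hR ((k : F) * (k : F)) (k : F)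
    ((k : F) * (k : F)) hkk0 hk0 hkk0 ?_ ?_
  · rw [caseA_vec h2 _ _ hkinv hA]
    exact hτ
  · rw [caseA_gam h2 _ _ hkinv hA]
    intro h
    exact hk1 (sq_sub_one h2 _ h)

theorem caseB (hzz1 : Cfsg.sympForm m F z z1 = 1) (h2 : (2 : F) = 0) (k : Fˣ)
    (hk : ∀ u : Fˣ, u ∈ Subgroup.zpowers k) (hk1 : (k : F) ≠ 1)
    (hA : (k : F) * (k : F) + (k : F) + 1 ≠ 0) (μ : F)
    (hμ : (1 + μ) * (1 + μ) = (k : F) + (k : F)⁻¹)
    {H : Subgroup (Matrix.symplecticGroup (Fin m) F)} (hR : Rr z z1 (1 + μ) ∈ H)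
    (hR' : Rr z z1 (1 + μ⁻¹) ∈ H) : z ∈ DD H := by
  have hk0 : (k : F) ≠ 0 := k.ne_zero
  have hkinv : (k : F) * (k : F)⁻¹ = 1 := mul_inv_cancel₀ hk0
  have hμ0 : μ ≠ 0 := by
    intro h
    apply hA
    rw [h, add_zero] at hμ
    exact caseB_mu h2 _ _ hkinv hμ
  obtain ⟨ν, hνdef⟩ : ∃ ν : F, ν = μ⁻¹ := ⟨_, rfl⟩
  rw [← hνdef] at hR'
  have hμν : μ * ν = 1 := by
    rw [hνdef]
    exact mul_inv_cancel₀ hμ0
  have hν0 : ν ≠ 0 := by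
    rw [hνdef]
    exact inv_ne_zero hμ0
  obtain ⟨σ, hσdef⟩ : ∃ σ : F, σ = 1 + μ := ⟨_, rfl⟩
  rw [← hσdef] at hR hμ
  have hσ0 : σ ≠ 0 := by
    intro h
    apply hk1
    rw [h, mul_zero] at hμ
    apply sq_sub_one h2
    have : (k : F) * ((k : F) + (k : F)⁻¹) = 0 := by rw [← hμ, mul_zero]
    rw [mul_add, hkinv] at this
    linear_combination this - h2
  obtain ⟨ρ, hρdef⟩ : ∃ ρ : F, ρ = σ⁻¹ := ⟨_, rfl⟩
  have hρ : σ * ρ = 1 := by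
    rw [hρdef]
    exact mul_inv_cancel₀ hσ0
  have hρ0 : ρ ≠ 0 := by
    rw [hρdef]
    exact inv_ne_zero hσ0
  have hU : τ (z + ν • z1) (1 + μ * μ) ∈ H := by
    rw [← UU_eq hzz1 h2 μ ν hμν, ← hσdef]
    exact H.mul_mem hR hR'
  have hα1 : 1 + (k : F) * μ ≠ 0 := by
    intro h
    exact hk1 (cube_sub_one _ (caseB_a h2 _ _ μ σ hkinv hσdef hμ h))
  have hβ1 : 1 + μ * (k : F)⁻¹ ≠ 0 := by
    intro h
    exact hk1 (cube_sub_one _ (caseB_b h2 _ _ μ σ hkinv hσdef hμ h))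
  have hr3 : ρ * ρ * ρ ≠ 0 := mul_ne_zero (mul_ne_zero hρ0 hρ0) hρ0
  have ht0 : 1 + μ * μ ≠ 0 := by
    rw [caseB_t0 h2 μ σ hσdef]
    exact mul_ne_zero hσ0 hσ0
  refine even_core hzz1 h2 k hk hk1 σ hμ hR ((1 + (k : F) * μ) * ν * (ρ * ρ * ρ))
    ((1 + μ * (k : F)⁻¹) * ν * (ρ * ρ * ρ)) (1 + μ * μ)
    (mul_ne_zero (mul_ne_zero hα1 hν0) hr3) (mul_ne_zero (mul_ne_zero hβ1 hν0) hr3) ht0 ?_ ?_
  · rw [caseB_vec h2 _ _ μ ν σ ρ hkinv hσdef hμ hμν hρ]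
    exact hU
  · rw [caseB_gam h2 _ _ μ ν σ ρ hkinv hσdef hμ hμν hρ]
    intro h
    exact hν0 (nu_sq h2 ν h)

end cases

section final

variable [Fintype F]

theorem even_top (h2 : (2 : F) = 0) (hq : 4 ≤ Fintype.card F) (n : ℕ) :
    ∃ u g h : Matrix.symplecticGroup (Fin (n + 2)) F,
      IsNilpotent (u.1 - 1) ∧ (u.1 - 1) ^ (2 * (n + 2) - 1) ≠ 0 ∧
      Subgroup.closure ({u, g * u * g⁻¹, h * u * h⁻¹} :
        Set (Matrix.symplecticGroup (Fin (n + 2)) F)) = ⊤ := by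
  obtain ⟨k, hk⟩ := IsCyclic.exists_generator (α := Fˣ)
  have hk1 := gen_ne_one hq k hk
  by_cases hA : (k : F) * (k : F) + (k : F) + 1 = 0
  · exact even_finish h2 k hk1 1 (k : F) (fun H hR hR' =>
      caseA sf_f0_z1 h2 k hk hk1 hA hR hR')
  · obtain ⟨σ, hσ⟩ := sqrt_two h2 ((k : F) + (k : F)⁻¹)
    have hσ' : (1 + (σ - 1)) * (1 + (σ - 1)) = (k : F) + (k : F)⁻¹ := by
      rw [← hσ]
      ring
    exact even_finish h2 k hk1 (1 + (σ - 1)) (1 + (σ - 1)⁻¹) (fun H hR hR' =>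
      caseB sf_f0_z1 h2 k hk hk1 hA (σ - 1) hσ' hR hR')

end final

end Cfsg.Agent.Lib.helper15.SpRU
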