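import Mathlib
import Cfsg.Agent.Lib.helper15.Spec3

set_option autoImplicit false

namespace Cfsg.Agent.Lib.helper15.Spec3U

open Polynomial Cfsg.Agent.Lib.helper15.Spec3

section poly

universe u

variable {F : Type u} [Field F]

noncomputable def chi (q : ℕ) (a : F) : F[X] := X ^ 3 - C a * X ^ 2 + C (a ^ q) * X - 1

theorem chi_monic (q : ℕ) (a : F) : (chi q a).Monic := by
  unfold chi
  monicity!

theorem chi_natDegree (q : ℕ) (a : F) : (chi q a).natDegree = 3 := by
  unfold chi
  compute_degree!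

theorem chi_coeff_zero (q : ℕ) (a : F) : (chi q a).coeff 0 = -1 := by
  unfold chi
  simp

theorem chi_aeval {E : Type*} [Field E] [Algebra F E] (q : ℕ) (a : F) (r : E) :
    aeval r (chi q a) = r ^ 3 - algebraMap F E a * r ^ 2 + algebraMap F E (a ^ q) * r - 1 := by
  unfold chi
  simp

theorem chi_eval (q : ℕ) (a : F) (r : F) :
    (chi q a).eval r = r ^ 3 - a * r ^ 2 + a ^ q * r - 1 := by
  unfold chi
  simp

theorem chi_factor (q : ℕ) (a lam mu : F) (hl : (chi q a).eval lam = 0)
    (hm : mu ^ 2 - (a - lam) * mu + lam⁻¹ = 0) :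
    chi q a = (X - C lam) * (X - C mu) * (X - C (a - lam - mu)) ∧ lam * mu * (a - lam - mu) = 1 := by
  rw [chi_eval] at hl
  have hl0 : lam ≠ 0 := by
    rintro rfl
    simp at hl
  have h1 : a ^ q = lam⁻¹ + lam * (a - lam) := by
    field_simp
    linear_combination hl
  have h2 : mu * (a - lam - mu) = lam⁻¹ := by linear_combination (-1 : F) * hm
  have h3 : lam * mu * (a - lam - mu) = 1 := by
    rw [mul_assoc, h2, mul_inv_cancel₀ hl0]
  refine ⟨?_, h3⟩
  unfold chi
  rw [h1]
  have e1 : (X - C lam) * (X - C mu) * (X - C (a - lam - mu)) =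
      X ^ 3 - C a * X ^ 2 + C (lam * mu + (lam + mu) * (a - lam - mu)) * X
        - C (lam * mu * (a - lam - mu)) := by
    simp only [C_add, C_sub, C_mul]
    ring
  rw [e1, h3, C_1]
  congr 3
  have : lam * mu + (lam + mu) * (a - lam - mu) = lam⁻¹ + lam * (a - lam) := by
    linear_combination h2
  rw [this]

end poly

section sym

universe u

variable {F : Type u} [Field F] [Fintype F] (p : ℕ) [Fact p.Prime] [CharP F p]

theorem pow_card_sq (q : ℕ) (hF : Fintype.card F = q ^ 2) (a : F) : (a ^ q) ^ q = a := by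
  rw [← pow_mul, ← sq, ← hF, FiniteField.pow_card]

theorem sym_root {E : Type*} [Field E] [Algebra F E] (q k : ℕ) (hq : q = p ^ k)
    (hF : Fintype.card F = q ^ 2) (a : F) (r : E) (hr0 : r ≠ 0)
    (hr : aeval r (chi q a) = 0) : aeval ((r⁻¹) ^ q) (chi q a) = 0 := by
  haveI : CharP E p := charP_of_injective_algebraMap (algebraMap F E).injective p
  have hτ : ∀ x : E, iterateFrobenius E p k x = x ^ q := by
    intro x
    rw [iterateFrobenius_def, hq]
  rw [chi_aeval] at hr ⊢
  have h1 := congrArg (iterateFrobenius E p k) hr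
  rw [map_zero, map_sub, map_add, map_sub, map_mul, map_mul, map_pow, map_pow, map_one] at h1
  simp only [hτ] at h1
  rw [← map_pow, ← map_pow, pow_card_sq q hF] at h1
  have hR : r ^ q ≠ 0 := pow_ne_zero _ hr0
  rw [inv_pow]
  field_simp
  linear_combination (-1 : E) * h1

end sym

section irr

universe u

theorem psi_eq (q : ℕ) (hq : 2 ≤ q) : q ^ 2 - q + 1 = (q + 1) * (q - 2) + 3 := by
  obtain ⟨k, rfl⟩ : ∃ k, q = k + 2 := ⟨q - 2, by omega⟩
  simp only [Nat.add_sub_cancel]
  have : (k + 2) ^ 2 = (k + 2 + 1) * k + 3 + (k + 2) - 1 := by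
    have : (k + 2) ^ 2 = k * k + 4 * k + 4 := by ring
    have h2 : (k + 2 + 1) * k = k * k + 3 * k := by ring
    omega
  have h3 : k + 2 ≤ (k + 2) ^ 2 := Nat.le_self_pow (by norm_num) _
  omega

theorem gcd3_dvd_psi (q : ℕ) (hq : 2 ≤ q) : Nat.gcd 3 (q + 1) ∣ q ^ 2 - q + 1 := by
  rw [psi_eq q hq]
  exact dvd_add (dvd_mul_of_dvd_left (Nat.gcd_dvd_right _ _) _) (Nat.gcd_dvd_left _ _)

theorem q4_eq (q : ℕ) (hq : 1 ≤ q) : q ^ 4 + q ^ 2 + 1 = q * (q ^ 3 + 1) + (q ^ 2 - q + 1) := by
  have h3 : q ≤ q ^ 2 := Nat.le_self_pow (by norm_num) _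
  have : q * (q ^ 3 + 1) = q ^ 4 + q := by ring
  omega

theorem geom3_sq (q : ℕ) (hq : 2 ≤ q) : ((q ^ 2) ^ 3 - 1) / (q ^ 2 - 1) = q ^ 4 + q ^ 2 + 1 := by
  have h2 : 2 ≤ q ^ 2 := by
    have : 2 ^ 2 ≤ q ^ 2 := Nat.pow_le_pow_left hq 2
    omega
  rw [geom3 (q ^ 2) h2]
  ring

variable {F : Type u} [Field F] [Fintype F] (p : ℕ) [Fact p.Prime] [CharP F p]

theorem psu_irr (q k : ℕ) (hq : q = p ^ k) (hF : Fintype.card F = q ^ 2) (a : F)
    (hirr : Irreducible (chi q a)) :
    ∃ c : F, chi q a ∣ X ^ ((q ^ 2 - q + 1) / Nat.gcd 3 (q + 1)) - C c := by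
  have hq2 : 2 ≤ q := by
    by_contra hcon
    have hq1 : q ≤ 1 := by omega
    have h2 : 2 ≤ Fintype.card F := Fintype.one_lt_card
    rw [hF] at h2
    have : q ^ 2 ≤ 1 ^ 2 := Nat.pow_le_pow_left hq1 2
    omega
  obtain ⟨E, _, _, _, β, hfr, hnorm, hroot, hdvd, hroots⟩ :=
    exists_root_field (chi q a) hirr (chi_monic q a)
  rw [chi_natDegree] at hfr hnorm hroots
  haveI : CharP E p := charP_of_injective_algebraMap (algebraMap F E).injective p
  have hτ : ∀ x : E, iterateFrobenius E p k x = x ^ q := by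
    intro x
    rw [iterateFrobenius_def, hq]
  have hτinj : ∀ x : E, x ^ q = 1 → x = 1 := by
    intro x hx
    apply (iterateFrobenius E p k).injective
    rw [hτ, hx, map_one]
  have hβ0 : β ≠ 0 := by
    rintro rfl
    rw [chi_aeval] at hroot
    simp at hroot
  have hnot : ¬ β ^ (q + 1) = 1 := by
    intro h
    have h1 : β ^ (Fintype.card F - 1) = 1 := by
      rw [hF, sq_sub_one q (by omega), pow_mul, h, one_pow]
    obtain ⟨c, hc⟩ := torsion_mem (F := F) (L := E) β h1
    have h2 : chi q a ∣ X - C c := by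
      apply hdvd
      rw [map_sub, aeval_X, aeval_C, hc, sub_self]
    have h3 := natDegree_le_of_dvd h2 (X_sub_C_ne_zero c)
    rw [chi_natDegree, natDegree_X_sub_C] at h3
    omega
  have h1 := sym_root p q k hq hF a β hβ0 hroot
  obtain ⟨i, hi3, hi⟩ := hroots _ h1
  have h2 : β ^ (Fintype.card F ^ i) * β ^ q = 1 := by
    rw [← hi, ← mul_pow, inv_mul_cancel₀ hβ0, one_pow]
  rw [hF] at h2
  have hq3 : β ^ (q ^ 3 + 1) = 1 := by
    interval_cases i
    · exfalso
      apply hnot
      rw [pow_zero, pow_one, mul_comm, ← pow_succ] at h2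
      exact h2
    · exfalso
      apply hnot
      apply hτinj
      rw [← pow_mul, ← h2, ← pow_add]
      congr 1
      ring
    · apply hτinj
      rw [← pow_mul, ← h2, ← pow_add]
      congr 1
      ring
  have h3 := norm_pow_formula (F := F) (E := E) 3 hfr β
  rw [hF, geom3_sq q hq2, hnorm, chi_coeff_zero] at h3
  have h4 : β ^ (q ^ 4 + q ^ 2 + 1) = 1 := by
    rw [h3]
    norm_num
  have h5 : β ^ (q ^ 2 - q + 1) = 1 := by
    rw [q4_eq q (by omega), pow_add, pow_mul', hq3, one_pow, one_mul] at h4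
    exact h4
  obtain ⟨N, hN⟩ := gcd3_dvd_psi q hq2
  have hdpos : 0 < Nat.gcd 3 (q + 1) := Nat.gcd_pos_of_pos_left _ (by norm_num)
  rw [Nat.div_eq_of_eq_mul_right hdpos hN]
  obtain ⟨m, hm⟩ : Nat.gcd 3 (q + 1) ∣ q + 1 := Nat.gcd_dvd_right _ _
  have h6 : (β ^ N) ^ (Fintype.card F - 1) = 1 := by
    rw [hF, sq_sub_one q (by omega), hm, ← pow_mul]
    have : N * (Nat.gcd 3 (q + 1) * m * (q - 1)) = (Nat.gcd 3 (q + 1) * N) * (m * (q - 1)) := by
      ring
    rw [this, ← hN, pow_mul, h5, one_pow]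
  obtain ⟨c, hc⟩ := torsion_mem (F := F) (L := E) (β ^ N) h6
  refine ⟨c, hdvd _ ?_⟩
  rw [map_sub, map_pow, aeval_X, aeval_C, hc, sub_self]

end irr

section split

universe u

variable {F : Type u} [Field F] [Fintype F] (p : ℕ) [Fact p.Prime] [CharP F p]

theorem lemL (q : ℕ) (hF : Fintype.card F = q ^ 2) (lam : F) (hl0 : lam ≠ 0)
    (hn : lam ^ (q + 1) ≠ 1) (h : lam * (lam⁻¹) ^ q * lam = 1) : False := by
  have hq0 : lam ^ q ≠ 0 := pow_ne_zero _ hl0
  have h1 : lam ^ 2 = lam ^ q := by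
    rw [inv_pow] at h
    have h' : lam ^ 2 * (lam ^ q)⁻¹ = 1 := by
      rw [← h]
      ring
    exact (mul_inv_eq_one₀ hq0).mp h'
  have h2 : lam ^ 4 = lam := by
    have e1 : (lam ^ q) ^ q = lam := pow_card_sq q hF lam
    have e2 : (lam ^ q) ^ q = (lam ^ 2) ^ 2 := by
      rw [← h1, ← pow_mul, mul_comm, pow_mul, ← h1]
    calc lam ^ 4 = (lam ^ 2) ^ 2 := by ring
      _ = lam := by rw [← e2, e1]
  have h3 : lam ^ 3 = 1 := by
    have : lam * lam ^ 3 = lam * 1 := by
      rw [mul_one, ← pow_succ']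
      exact h2
    exact mul_left_cancel₀ hl0 this
  apply hn
  rw [pow_succ, ← h1, ← pow_succ]
  exact h3

theorem psu_b1 (q k : ℕ) (hq : q = p ^ k) (hF : Fintype.card F = q ^ 2) (a lam : F)
    (hl : (chi q a).eval lam = 0) (hn : lam ^ (q + 1) ≠ 1) :
    ∃ c : F, chi q a ∣ X ^ ((q ^ 2 - 1) / Nat.gcd 3 (q + 1)) - C c := by
  have hl0 : lam ≠ 0 := by
    rintro rfl
    rw [chi_eval] at hl
    simp at hl
  set lam' := (lam⁻¹) ^ q with hlam'
  have hl'0 : lam' ≠ 0 := pow_ne_zero _ (inv_ne_zero hl0)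
  have hroot' : (chi q a).eval lam' = 0 := by
    have h := sym_root p q k hq hF a lam hl0 (by rw [Polynomial.coe_aeval_eq_eval]; exact hl)
    rwa [Polynomial.coe_aeval_eq_eval] at h
  have hne : lam' ≠ lam := by
    intro h
    apply hn
    rw [hlam', inv_pow] at h
    have hq0 : lam ^ q ≠ 0 := pow_ne_zero _ hl0
    rw [pow_succ]
    field_simp at h
    exact h.symm
  have hg : lam' ^ 2 - (a - lam) * lam' + lam⁻¹ = 0 := by
    have h1 := hl
    have h2 := hroot'
    rw [chi_eval] at h1 h2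
    have h3 : a ^ q = lam⁻¹ + lam * (a - lam) := by
      field_simp
      linear_combination h1
    have h4 : (lam' - lam) * (lam' ^ 2 - (a - lam) * lam' + lam⁻¹) = 0 := by
      rw [h3] at h2
      have : lam * lam⁻¹ = 1 := mul_inv_cancel₀ hl0
      linear_combination h2 - this
    rcases mul_eq_zero.mp h4 with h5 | h5
    · exact absurd (sub_eq_zero.mp h5) hne
    · exact h5
  obtain ⟨hfac, hprod⟩ := chi_factor q a lam lam' hl hg
  set nu := a - lam - lam' with hnu
  have hdpos : 0 < Nat.gcd 3 (q + 1) := Nat.gcd_pos_of_pos_left _ (by norm_num)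
  obtain ⟨m, hm⟩ : Nat.gcd 3 (q + 1) ∣ q + 1 := Nat.gcd_dvd_right _ _
  obtain ⟨k', hk'⟩ : Nat.gcd 3 (q + 1) ∣ 3 := Nat.gcd_dvd_left _ _
  have hq1 : 1 ≤ q := by
    rcases Nat.eq_zero_or_pos q with h | h
    · exfalso
      have h2 : 2 ≤ Fintype.card F := Fintype.one_lt_card
      rw [hF, h] at h2
      norm_num at h2
    · exact h
  have hsq : q ^ 2 - 1 = Nat.gcd 3 (q + 1) * (m * (q - 1)) := by
    rw [sq_sub_one q hq1]
    conv_lhs => rw [hm]
    ring
  rw [Nat.div_eq_of_eq_mul_right hdpos hsq]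
  set N := m * (q - 1) with hN
  have hcard : lam ^ (q ^ 2 - 1) = 1 := by
    have := FiniteField.pow_card_sub_one_eq_one lam hl0
    rwa [hF] at this
  have hA : lam ^ ((q + 1) * N) = 1 := by
    have : (q + 1) * N = m * (q ^ 2 - 1) := by
      rw [hsq]
      conv_lhs => rw [hm]
      ring
    rw [this, mul_comm, pow_mul, hcard, one_pow]
  have hB : lam ^ (3 * N) = 1 := by
    have : 3 * N = k' * (q ^ 2 - 1) := by
      rw [hsq]
      conv_lhs => rw [hk']
      ring
    rw [this, mul_comm, pow_mul, hcard, one_pow]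
  have hlN0 : lam ^ N ≠ 0 := pow_ne_zero _ hl0
  have h1 : lam' ^ N = lam ^ N := by
    have e1 : lam' ^ N * lam ^ (q * N) = 1 := by
      rw [hlam', ← pow_mul, ← mul_pow, inv_mul_cancel₀ hl0, one_pow]
    have e2 : lam ^ N * lam ^ (q * N) = 1 := by
      rw [← pow_add, ← hA]
      congr 1
      ring
    have hne0 : lam ^ (q * N) ≠ 0 := pow_ne_zero _ hl0
    exact mul_right_cancel₀ hne0 (e1.trans e2.symm)
  have h2 : nu ^ N = lam ^ N := by
    have e1 : lam ^ N * lam ^ N * nu ^ N = 1 := by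
      have := congrArg (fun x => x ^ N) hprod
      simp only [mul_pow, one_pow] at this
      rw [h1] at this
      exact this
    have e2 : lam ^ N * lam ^ N * lam ^ N = 1 := by
      rw [← pow_add, ← pow_add, ← hB]
      congr 1
      ring
    exact mul_left_cancel₀ (mul_ne_zero hlN0 hlN0) (e1.trans e2.symm)
  have hd1 : lam ≠ nu := by
    intro h
    apply lemL q hF lam hl0 hn
    rw [← hlam']
    rw [← h] at hprod
    exact hprod
  have hd2 : lam' ≠ nu := by
    intro h
    have hn' : lam' ^ (q + 1) ≠ 1 := by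
      intro h3
      apply hn
      have h4 : (lam ^ (q + 1)) ^ q = 1 := by
        have : (lam ^ (q + 1)) ^ q * lam' ^ (q + 1) = 1 := by
          rw [hlam', ← pow_mul, ← pow_mul, mul_comm q (q + 1), ← mul_pow, mul_inv_cancel₀ hl0,
            one_pow]
        rwa [h3, mul_one] at this
      have h5 := pow_card_sq q hF (lam ^ (q + 1))
      rw [h4, one_pow] at h5
      exact h5.symm
    apply lemL q hF lam' hl'0 hn'
    have h6 : (lam'⁻¹) ^ q = lam := by
      rw [hlam', ← inv_pow, inv_inv]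
      exact pow_card_sq q hF lam
    rw [h6]
    rw [← h] at hprod
    rw [← hprod]
    ring
  refine ⟨lam ^ N, ?_⟩
  rw [hfac]
  exact three_dvd lam lam' nu _ N (Ne.symm hne) hd1 hd2 rfl h1 h2

theorem two_ne_zero' (hp2 : p ≠ 2) : (2 : F) ≠ 0 := by
  intro h
  have h1 : ((2 : ℕ) : F) = 0 := by exact_mod_cast h
  rw [CharP.cast_eq_zero_iff F p 2] at h1
  have := (Nat.prime_dvd_prime_iff_eq (Fact.out : p.Prime) Nat.prime_two).mp h1
  exact hp2 this

theorem psu_b2 (hp2 : p ≠ 2) (q k : ℕ) (hq : q = p ^ k) (hF : Fintype.card F = q ^ 2) (a lam : F)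
    (hl : (chi q a).eval lam = 0)
    (hall : ∀ r : F, (chi q a).eval r = 0 → r ^ (q + 1) = 1) :
    (∃ c : F, chi q a ∣ X ^ (q + 1) - C c) ∨
    (∃ c : F, chi q a ∣ X ^ (p * ((q + 1) / Nat.gcd 3 (q + 1))) - C c) := by
  have hl0 : lam ≠ 0 := by
    rintro rfl
    rw [chi_eval] at hl
    simp at hl
  have h2F : (2 : F) ≠ 0 := two_ne_zero' p hp2
  have hlq : lam ^ (q + 1) = 1 := hall lam hl
  have hlq' : lam ^ q = lam⁻¹ := by
    rw [pow_succ] at hlq
    exact eq_inv_of_mul_eq_one_left hlq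
  have hσ : ∀ x : F, iterateFrobenius F p k x = x ^ q := by
    intro x
    rw [iterateFrobenius_def, hq]
  set s := a - lam with hs
  have h3 : a ^ q = lam⁻¹ + lam * s := by
    have h1 := hl
    rw [chi_eval] at h1
    field_simp
    linear_combination h1
  have hsq : s ^ q = lam * s := by
    have e1 : a ^ q = s ^ q + lam ^ q := by
      have : a = s + lam := by rw [hs]; ring
      rw [this, ← hσ, ← hσ, ← hσ, map_add]
    rw [h3, hlq'] at e1
    linear_combination (-1 : F) * e1
  set D := s ^ 2 - 4 * lam⁻¹ with hD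
  have hDq : D ^ q = lam ^ 2 * D := by
    have hσs : iterateFrobenius F p k s = lam * s := by rw [hσ, hsq]
    have hσl : iterateFrobenius F p k lam = lam⁻¹ := by rw [hσ, hlq']
    have hσ4 : iterateFrobenius F p k (4 : F) = 4 := map_ofNat _ 4
    calc D ^ q = iterateFrobenius F p k D := (hσ D).symm
      _ = (iterateFrobenius F p k s) ^ 2 -
            iterateFrobenius F p k 4 * (iterateFrobenius F p k lam)⁻¹ := by
          rw [hD]
          simp only [map_sub, map_mul, map_pow, map_inv₀]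
      _ = lam ^ 2 * D := by
          rw [hσs, hσl, hσ4, inv_inv, hD]
          field_simp
  have hex : ∃ mu : F, mu ^ 2 - s * mu + lam⁻¹ = 0 := by
    by_cases hD0 : D = 0
    · refine ⟨s / 2, ?_⟩
      rw [hD] at hD0
      field_simp
      field_simp at hD0
      linear_combination (-1 : F) * hD0
    · have hodd : Odd q := by
        rw [hq]
        apply Odd.pow
        exact (Fact.out : p.Prime).odd_of_ne_two hp2
      obtain ⟨j, hj⟩ := hodd
      have hDq1 : D ^ (q - 1) = lam ^ 2 := by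
        have hq1 : q = (q - 1) + 1 := by omega
        rw [hq1, pow_succ] at hDq
        exact mul_right_cancel₀ hD0 hDq
      have hsquare : IsSquare D := by
        rw [FiniteField.isSquare_iff (by rw [ringChar.eq F p]; exact hp2) hD0, hF]
        have e1 : q ^ 2 / 2 = (q - 1) * (j + 1) := by
          rw [hj]
          have : (2 * j + 1) ^ 2 = 2 * ((2 * j + 1 - 1) * (j + 1)) + 1 := by
            have : 2 * j + 1 - 1 = 2 * j := by omega
            rw [this]
            ring
          rw [this]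
          omega
        rw [e1, pow_mul, hDq1, ← pow_mul]
        have : 2 * (j + 1) = q + 1 := by omega
        rw [this, hlq]
      obtain ⟨r, hr⟩ := hsquare
      refine ⟨(s + r) / 2, ?_⟩
      rw [hD] at hr
      field_simp
      field_simp at hr
      linear_combination (-1 : F) * hr
  obtain ⟨mu, hmu⟩ := hex
  obtain ⟨hfac, hprod⟩ := chi_factor q a lam mu hl hmu
  set nu := a - lam - mu with hnu
  have hmu_root : (chi q a).eval mu = 0 := by
    rw [hfac]
    simp
  have hnu_root : (chi q a).eval nu = 0 := by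
    rw [hfac]
    simp
  have e2 := hall mu hmu_root
  have e3 := hall nu hnu_root
  rw [hfac]
  rcases split_dvd p lam mu nu (q + 1) hprod hlq e2 e3 with h | h | h
  · left; exact h
  · right; exact h
  · exact absurd h.1 hp2

theorem psu3_poly (hp2 : p ≠ 2) (q k : ℕ) (hq : q = p ^ k) (hF : Fintype.card F = q ^ 2) (a : F) :
    (∃ c : F, chi q a ∣ X ^ (q + 1) - C c) ∨
    (∃ c : F, chi q a ∣ X ^ (p * ((q + 1) / Nat.gcd 3 (q + 1))) - C c) ∨
    (∃ c : F, chi q a ∣ X ^ ((q ^ 2 - 1) / Nat.gcd 3 (q + 1)) - C c) ∨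
    (∃ c : F, chi q a ∣ X ^ ((q ^ 2 - q + 1) / Nat.gcd 3 (q + 1)) - C c) := by
  by_cases hroots : (chi q a).roots = 0
  · right; right; right
    have hirr : Irreducible (chi q a) :=
      ((chi_monic q a).irreducible_iff_roots_eq_zero_of_degree_le_three
        (by rw [chi_natDegree]; omega) (by rw [chi_natDegree])).mpr hroots
    exact psu_irr p q k hq hF a hirr
  · by_cases hall : ∀ r : F, (chi q a).eval r = 0 → r ^ (q + 1) = 1
    · obtain ⟨lam, hlam⟩ := exists_root_of_roots_ne_zero _ hroots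
      rcases psu_b2 p hp2 q k hq hF a lam hlam hall with h | h
      · left; exact h
      · right; left; exact h
    · push Not at hall
      obtain ⟨lam, hlam, hn⟩ := hall
      right; right; left
      exact psu_b1 p q k hq hF a lam hlam hn

end split

end Cfsg.Agent.Lib.helper15.Spec3U
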