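import Mathlib
set_option autoImplicit false

namespace Cfsg.Agent.Lib.helper15.StV

open Finset

section mob

variable {L : Type*} [Fintype L] [PartialOrder L] [OrderBot L]

open Classical in
def IsMob (m : L → ℤ) : Prop :=
  ∀ x : L, (∑ y ∈ univ.filter (fun y => y ≤ x), m y) = if x = ⊥ then 1 else 0

open Classical in
theorem IsMob.eq_sub {m : L → ℤ} (hm : IsMob m) (x : L) :
    m x = (if x = ⊥ then 1 else 0) - ∑ y ∈ univ.filter (fun y => y < x), m y := by
  have h := hm x
  have h1 : univ.filter (fun y : L => y ≤ x) = insert x (univ.filter (fun y : L => y < x)) := by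
    ext y
    simp only [mem_filter, mem_univ, true_and, mem_insert]
    rw [le_iff_eq_or_lt]
  rw [h1, sum_insert (by simp)] at h
  rw [← h]
  ring

theorem IsMob.unique {m m' : L → ℤ} (hm : IsMob m) (hm' : IsMob m') : m = m' := by
  classical
  funext x
  induction x using WellFoundedLT.induction with
  | ind x ih =>
    rw [hm.eq_sub x, hm'.eq_sub x]
    congr 1
    apply sum_congr rfl
    intro y hy
    rw [mem_filter] at hy
    exact ih y hy.2

theorem IsMob.bot {m : L → ℤ} (hm : IsMob m) : m ⊥ = 1 := by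
  classical
  rw [hm.eq_sub ⊥, if_pos rfl]
  have : univ.filter (fun y : L => y < ⊥) = ∅ := by
    ext y
    simp
  rw [this, sum_empty, sub_zero]

theorem exists_isMob : ∃ m : L → ℤ, IsMob m := by
  classical
  let _ : LocallyFiniteOrder L := Fintype.toLocallyFiniteOrder
  refine ⟨fun x => IncidenceAlgebra.mu ℤ (⊥ : L) x, ?_⟩
  intro x
  have h := IncidenceAlgebra.sum_Icc_mu_right (𝕜 := ℤ) (⊥ : L) x
  have h1 : Icc (⊥ : L) x = univ.filter (fun y => y ≤ x) := by
    ext y
    simp
  rw [h1] at h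
  rw [eq_comm (a := x)]
  convert h using 2

end mob

section prod

variable {L₁ L₂ : Type*} [Fintype L₁] [PartialOrder L₁] [OrderBot L₁]
  [Fintype L₂] [PartialOrder L₂] [OrderBot L₂]

theorem IsMob.prod {m₁ : L₁ → ℤ} {m₂ : L₂ → ℤ} (h₁ : IsMob m₁) (h₂ : IsMob m₂) :
    IsMob (fun p : L₁ × L₂ => m₁ p.1 * m₂ p.2) := by
  classical
  intro x
  have e : univ.filter (fun y : L₁ × L₂ => y ≤ x) =
      (univ.filter (fun a : L₁ => a ≤ x.1)) ×ˢ (univ.filter (fun b : L₂ => b ≤ x.2)) := by
    ext y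
    simp [Prod.le_def]
  have h := h₁ x.1
  have h' := h₂ x.2
  have key : (∑ y ∈ univ.filter (fun y : L₁ × L₂ => y ≤ x), m₁ y.1 * m₂ y.2) =
      (if x.1 = ⊥ then 1 else 0) * (if x.2 = ⊥ then 1 else 0) := by
    rw [e, sum_product, ← sum_mul_sum, h, h']
  have hx : x = ⊥ ↔ x.1 = ⊥ ∧ x.2 = ⊥ := by
    rw [Prod.ext_iff]
    rfl
  refine Eq.trans ?_ (Eq.trans key ?_)
  · apply sum_congr _ (fun _ _ => rfl)
    ext y
    simp only [mem_filter, mem_univ, true_and]
  · by_cases h1 : x.1 = ⊥ <;> by_cases h2 : x.2 = ⊥ <;> simp [hx, h1, h2]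

end prod

section iso

variable {L L' : Type*} [Fintype L] [PartialOrder L] [OrderBot L]
  [Fintype L'] [PartialOrder L'] [OrderBot L']

theorem IsMob.iso {m : L → ℤ} (hm : IsMob m) (e : L ≃o L') : IsMob (fun y => m (e.symm y)) := by
  classical
  intro x
  have h := hm (e.symm x)
  have h1 : (∑ y ∈ univ.filter (fun y : L' => y ≤ x), m (e.symm y)) =
      ∑ y ∈ univ.filter (fun y : L => y ≤ e.symm x), m y := by
    apply sum_equiv e.symm.toEquiv
    · intro y
      simp only [mem_filter, mem_univ, true_and]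
      show y ≤ x ↔ e.symm y ≤ e.symm x
      rw [e.symm.le_iff_le]
    · intro y _
      rfl
  have h2 : (e.symm x = ⊥) ↔ x = ⊥ := by
    rw [← e.symm.map_bot]
    exact e.symm.injective.eq_iff
  calc _ = _ := by convert h1 using 2
    _ = _ := by convert h using 2
    _ = _ := by simp only [h2]

theorem IsMob.top_eq_of_iso [OrderTop L] [OrderTop L'] {m : L → ℤ} {m' : L' → ℤ} (hm : IsMob m)
    (hm' : IsMob m') (e : L ≃o L') : m ⊤ = m' ⊤ := by
  have h := (hm.iso e).unique hm'
  have h2 := congrFun h ⊤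
  rw [← h2, e.symm.map_top]

end iso

end Cfsg.Agent.Lib.helper15.StV
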