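import Mathlib
import Cfsg.Agent.S2420
set_option autoImplicit false

namespace Cfsg.Agent.Lib.helper15.StV

open Finset Equiv Cfsg.Agent.S2420

def hes {k : ℕ} (κ : Perm (Fin k)) : Prop := ∀ i : Fin k, (κ i).val ≤ 1 + i.val

instance {k : ℕ} (κ : Perm (Fin k)) : Decidable (hes κ) := by
  unfold hes
  infer_instance

def dseq {k : ℕ} (κ : Perm (Fin k)) (j : ℕ) : ℕ :=
  pre (fun i : Fin k => 1 + i.val - (κ i).val) j

def extP {k : ℕ} (κ : Perm (Fin k)) : Perm (Fin (k + 1)) :=
  κ.viaFintypeEmbedding Fin.castSuccEmb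

theorem extP_castSucc {k : ℕ} (κ : Perm (Fin k)) (i : Fin k) :
    extP κ i.castSucc = (κ i).castSucc := by
  unfold extP
  exact Equiv.Perm.viaFintypeEmbedding_apply_image κ Fin.castSuccEmb i

theorem extP_last {k : ℕ} (κ : Perm (Fin k)) : extP κ (Fin.last k) = Fin.last k := by
  unfold extP
  apply Equiv.Perm.viaFintypeEmbedding_apply_notMem_range
  rintro ⟨i, hi⟩
  exact Fin.castSucc_ne_last i hi

theorem sign_extP {k : ℕ} (κ : Perm (Fin k)) : Perm.sign (extP κ) = Perm.sign κ := by
  unfold extP
  exact Equiv.Perm.viaFintypeEmbedding_sign κ Fin.castSuccEmb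

theorem extP_injective {k : ℕ} : Function.Injective (extP (k := k)) := by
  intro κ κ' h
  ext i
  have := congrArg (fun σ : Perm (Fin (k + 1)) => (σ i.castSucc).val) h
  simpa [extP_castSucc] using this

def restr {k : ℕ} (κ : Perm (Fin (k + 1))) (h : κ (Fin.last k) = Fin.last k) : Perm (Fin k) where
  toFun i := (κ i.castSucc).castPred (by
    intro h'
    rw [← h] at h'
    exact Fin.castSucc_ne_last i (κ.injective h'))
  invFun i := (κ.symm i.castSucc).castPred (by
    intro h'
    have h2 : κ.symm (Fin.last k) = Fin.last k := by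
      rw [Equiv.symm_apply_eq, h]
    rw [← h2] at h'
    exact Fin.castSucc_ne_last i (κ.symm.injective h'))
  left_inv i := by simp
  right_inv i := by simp

theorem extP_restr {k : ℕ} (κ : Perm (Fin (k + 1))) (h : κ (Fin.last k) = Fin.last k) :
    extP (restr κ h) = κ := by
  ext i
  induction i using Fin.lastCases with
  | last => rw [extP_last, h]
  | cast i =>
    rw [extP_castSucc]
    simp [restr]

theorem hes_extP {k : ℕ} (κ : Perm (Fin k)) : hes (extP κ) ↔ hes κ := by
  constructor
  · intro h i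
    have := h i.castSucc
    rw [extP_castSucc] at this
    simpa using this
  · intro h i
    induction i using Fin.lastCases with
    | last =>
      rw [extP_last]
      omega
    | cast i =>
      rw [extP_castSucc]
      simpa using h i

abbrev pa (k : ℕ) : Fin (k + 2) := (Fin.last k).castSucc

abbrev pb (k : ℕ) : Fin (k + 2) := Fin.last (k + 1)

theorem pa_val (k : ℕ) : (pa k).val = k := rfl

theorem pb_val (k : ℕ) : (pb k).val = k + 1 := rfl

theorem pa_ne_pb (k : ℕ) : pa k ≠ pb k := by
  intro h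
  have := congrArg Fin.val h
  rw [pa_val, pb_val] at this
  omega

def extS {k : ℕ} (κ : Perm (Fin (k + 1))) : Perm (Fin (k + 2)) :=
  extP κ * swap (pa k) (pb k)

theorem extS_pb {k : ℕ} (κ : Perm (Fin (k + 1))) :
    extS κ (pb k) = (κ (Fin.last k)).castSucc := by
  unfold extS
  rw [Perm.mul_apply, swap_apply_right]
  exact extP_castSucc κ (Fin.last k)

theorem extS_pa {k : ℕ} (κ : Perm (Fin (k + 1))) : extS κ (pa k) = pb k := by
  unfold extS
  rw [Perm.mul_apply, swap_apply_left]
  exact extP_last κ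

theorem extS_cc {k : ℕ} (κ : Perm (Fin (k + 1))) (i : Fin k) :
    extS κ i.castSucc.castSucc = (κ i.castSucc).castSucc := by
  unfold extS
  rw [Perm.mul_apply, swap_apply_of_ne_of_ne, extP_castSucc]
  · intro h
    have := congrArg Fin.val h
    rw [pa_val] at this
    simp at this
    omega
  · intro h
    have := congrArg Fin.val h
    rw [pb_val] at this
    simp at this
    omega

theorem sign_extS {k : ℕ} (κ : Perm (Fin (k + 1))) : Perm.sign (extS κ) = - Perm.sign κ := by
  unfold extS
  rw [Perm.sign_mul, sign_extP, Perm.sign_swap (pa_ne_pb k), mul_neg, mul_one]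

theorem extS_injective {k : ℕ} : Function.Injective (extS (k := k)) := by
  intro κ κ' h
  unfold extS at h
  exact extP_injective (mul_right_cancel h)

theorem fin_cases2 {k : ℕ} (i : Fin (k + 2)) :
    i = pb k ∨ i = pa k ∨ ∃ i' : Fin k, i = i'.castSucc.castSucc := by
  induction i using Fin.lastCases with
  | last => exact Or.inl rfl
  | cast i =>
    induction i using Fin.lastCases with
    | last => exact Or.inr (Or.inl rfl)
    | cast i => exact Or.inr (Or.inr ⟨i, rfl⟩)

theorem hes_extS {k : ℕ} (κ : Perm (Fin (k + 1))) : hes (extS κ) ↔ hes κ := by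
  constructor
  · intro h i
    induction i using Fin.lastCases with
    | last =>
      have := (κ (Fin.last k)).2
      simp
      omega
    | cast i =>
      have := h i.castSucc.castSucc
      rw [extS_cc] at this
      simpa using this
  · intro h i
    rcases fin_cases2 i with rfl | rfl | ⟨i', rfl⟩
    · rw [extS_pb, pb_val]
      have := (κ (Fin.last k)).2
      simp
      omega
    · rw [extS_pa, pb_val, pa_val]
      omega
    · rw [extS_cc]
      simpa using h i'.castSucc

theorem hes_pa_of_ne {k : ℕ} (κ : Perm (Fin (k + 2))) (h : hes κ) (hne : κ (pb k) ≠ pb k) :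
    κ (pa k) = pb k := by
  have h1 := h (κ.symm (pb k))
  rw [Equiv.apply_symm_apply, pb_val] at h1
  rcases fin_cases2 (κ.symm (pb k)) with h2 | h2 | ⟨i', h2⟩
  · exfalso
    apply hne
    rw [Equiv.symm_apply_eq] at h2
    exact h2.symm
  · rw [Equiv.symm_apply_eq] at h2
    exact h2.symm
  · exfalso
    rw [h2] at h1
    simp at h1
    omega

theorem hes_cases {k : ℕ} (κ : Perm (Fin (k + 2))) (h : hes κ) :
    (∃ κ₀ : Perm (Fin (k + 1)), hes κ₀ ∧ extP κ₀ = κ) ∨
      (∃ κ₀ : Perm (Fin (k + 1)), hes κ₀ ∧ extS κ₀ = κ) := by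
  by_cases hl : κ (pb k) = pb k
  · left
    refine ⟨restr κ hl, ?_, extP_restr κ hl⟩
    rw [← hes_extP, extP_restr]
    exact h
  · right
    have h1 := hes_pa_of_ne κ h hl
    have h2 : (κ * swap (pa k) (pb k)) (Fin.last (k + 1)) = Fin.last (k + 1) := by
      rw [Perm.mul_apply]
      show κ (swap (pa k) (pb k) (pb k)) = pb k
      rw [swap_apply_right, h1]
    have h3 : extS (restr (κ * swap (pa k) (pb k)) h2) = κ := by
      unfold extS
      rw [extP_restr, mul_assoc, swap_mul_self, mul_one]
    refine ⟨restr (κ * swap (pa k) (pb k)) h2, ?_, h3⟩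
    rw [← hes_extS, h3]
    exact h

theorem hes_sum {k : ℕ} (G : Perm (Fin (k + 2)) → ℤ) :
    (∑ κ : Perm (Fin (k + 2)), if hes κ then G κ else 0) =
      ∑ κ₀ : Perm (Fin (k + 1)), if hes κ₀ then G (extP κ₀) + G (extS κ₀) else 0 := by
  classical
  rw [← sum_filter, ← sum_filter, sum_add_distrib]
  have hA : univ.filter (fun κ : Perm (Fin (k + 2)) => hes κ) =
      (univ.filter (fun κ₀ : Perm (Fin (k + 1)) => hes κ₀)).image extP ∪
        (univ.filter (fun κ₀ : Perm (Fin (k + 1)) => hes κ₀)).image extS := by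
    ext κ
    simp only [mem_filter, mem_univ, true_and, mem_union, mem_image]
    constructor
    · intro h
      exact hes_cases κ h
    · rintro (⟨κ₀, h, rfl⟩ | ⟨κ₀, h, rfl⟩)
      · exact (hes_extP κ₀).2 h
      · exact (hes_extS κ₀).2 h
  have hdis : Disjoint ((univ.filter (fun κ₀ : Perm (Fin (k + 1)) => hes κ₀)).image extP)
      ((univ.filter (fun κ₀ : Perm (Fin (k + 1)) => hes κ₀)).image extS) := by
    rw [Finset.disjoint_left]
    intro κ h1 h2
    simp only [mem_image, mem_filter, mem_univ, true_and] at h1 h2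
    obtain ⟨κ₀, _, rfl⟩ := h1
    obtain ⟨κ₁, _, h⟩ := h2
    have := congrArg (fun σ : Perm (Fin (k + 2)) => (σ (pb k)).val) h
    simp only [extS_pb] at this
    have h3 : extP κ₀ (pb k) = pb k := extP_last κ₀
    rw [h3, pb_val] at this
    have := (κ₁ (Fin.last k)).2
    simp at *
    omega
  rw [hA, sum_union hdis, sum_image (fun _ _ _ _ h => extP_injective h),
    sum_image (fun _ _ _ _ h => extS_injective h)]

theorem pre_castSucc {n : ℕ} (μ : Fin (n + 1) → ℕ) (j : ℕ) (hj : j ≤ n) :
    pre μ j = pre (fun i : Fin n => μ i.castSucc) j := by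
  unfold pre
  have : univ.filter (fun i : Fin (n + 1) => i.val < j) =
      (univ.filter (fun i : Fin n => i.val < j)).map Fin.castSuccEmb := by
    ext i
    simp only [mem_filter, mem_univ, true_and, mem_map, Fin.coe_castSuccEmb]
    constructor
    · intro h
      exact ⟨⟨i.val, by omega⟩, h, rfl⟩
    · rintro ⟨i', h, rfl⟩
      simpa using h
  rw [this, sum_map]
  rfl

theorem pre_congr {n : ℕ} (μ μ' : Fin n → ℕ) (j : ℕ) (h : ∀ i : Fin n, i.val < j → μ i = μ' i) :
    pre μ j = pre μ' j := by
  unfold pre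
  apply sum_congr rfl
  intro i hi
  rw [mem_filter] at hi
  exact h i hi.2

theorem dseq_zero {k : ℕ} (κ : Perm (Fin k)) : dseq κ 0 = 0 := pre_zero _

theorem dseq_extP {n : ℕ} (κ : Perm (Fin n)) (j : ℕ) (hj : j ≤ n) :
    dseq (extP κ) j = dseq κ j := by
  unfold dseq
  rw [pre_castSucc _ j hj]
  apply pre_congr
  intro i _
  rw [extP_castSucc]
  simp

theorem dseq_extS {k : ℕ} (κ : Perm (Fin (k + 1))) (j : ℕ) (hj : j ≤ k) :
    dseq (extS κ) j = dseq κ j := by
  unfold dseq
  rw [pre_castSucc _ j (by omega)]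
  apply pre_congr
  intro i hi
  have hi' : i.val < k := by omega
  have : i = (⟨i.val, hi'⟩ : Fin k).castSucc := rfl
  rw [this, extS_cc]
  simp

theorem dseq_extS_succ {k : ℕ} (κ : Perm (Fin (k + 1))) :
    dseq (extS κ) (k + 1) = dseq κ k := by
  have h := pre_succ (fun i : Fin (k + 2) => 1 + i.val - (extS κ i).val) (pa k)
  rw [extS_pa] at h
  have h2 : dseq (extS κ) (k + 1) = dseq (extS κ) k + (1 + k - (k + 1)) := h
  have h3 : 1 + k - (k + 1) = 0 := by omega
  rw [h2, h3, add_zero, dseq_extS κ k le_rfl]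

theorem dseq_top {n : ℕ} (κ : Perm (Fin n)) (h : hes κ) : dseq κ n = n := by
  unfold dseq
  rw [pre_top]
  have h1 : ∑ i : Fin n, (1 + i.val - (κ i).val) + ∑ i : Fin n, (κ i).val =
      ∑ i : Fin n, (1 + i.val) := by
    rw [← sum_add_distrib]
    apply sum_congr rfl
    intro i _
    have := h i
    omega
  have h2 : ∑ i : Fin n, (κ i).val = ∑ i : Fin n, i.val := Equiv.sum_comp κ (fun i => i.val)
  rw [h2, sum_add_distrib] at h1
  simp at h1
  omega

end Cfsg.Agent.Lib.helper15.StV
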