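import Mathlib
import Cfsg.Agent.Lib.helper15.StV1
import Cfsg.Agent.Lib.helper15.StV3
set_option autoImplicit false

namespace Cfsg.Agent.Lib.helper15.StV

open Finset Equiv

section flags

variable {L : Type*} [Fintype L] [PartialOrder L] (r : L → ℕ)

open Classical in
noncomputable def flagCount (k : ℕ) (d : ℕ → ℕ) (B : L) : ℕ :=
  Fintype.card {V : Fin k → L // Monotone V ∧ (∀ j, V j ≤ B) ∧ ∀ j, r (V j) = d j.val}

theorem flagCount_zero (d : ℕ → ℕ) (B : L) : flagCount r 0 d B = 1 := by
  classical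
  unfold flagCount
  rw [Fintype.card_eq_one_iff]
  refine ⟨⟨fun j => j.elim0, fun i => i.elim0, fun j => j.elim0, fun j => j.elim0⟩, ?_⟩
  intro V
  apply Subtype.ext
  funext j
  exact j.elim0

theorem flagCount_congr (k : ℕ) (d d' : ℕ → ℕ) (B : L) (h : ∀ j < k, d j = d' j) :
    flagCount r k d B = flagCount r k d' B := by
  classical
  unfold flagCount
  apply Fintype.card_congr
  refine Equiv.subtypeEquivRight ?_
  intro V
  constructor
  · rintro ⟨h1, h2, h3⟩
    exact ⟨h1, h2, fun j => by rw [h3 j, h j.val j.2]⟩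
  · rintro ⟨h1, h2, h3⟩
    exact ⟨h1, h2, fun j => by rw [h3 j, h j.val j.2]⟩

theorem snoc_mono {k : ℕ} (W : Fin k → L) (C : L) (hW : Monotone W) (hC : ∀ j, W j ≤ C) :
    Monotone (Fin.snoc W C : Fin (k + 1) → L) := by
  intro i j hij
  induction j using Fin.lastCases with
  | last =>
    induction i using Fin.lastCases with
    | last => exact le_rfl
    | cast i =>
      rw [Fin.snoc_castSucc, Fin.snoc_last]
      exact hC i
  | cast j =>
    induction i using Fin.lastCases with
    | last =>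
      exfalso
      have := Fin.le_def.mp hij
      simp at this
      omega
    | cast i =>
      rw [Fin.snoc_castSucc, Fin.snoc_castSucc]
      exact hW (by simpa using hij)

open Classical in
theorem flagCount_succ (k : ℕ) (d : ℕ → ℕ) (B : L) :
    flagCount r (k + 1) d B =
      ∑ C ∈ univ.filter (fun C : L => C ≤ B ∧ r C = d k), flagCount r k d C := by
  unfold flagCount
  rw [Finset.sum_subtype (p := fun C : L => C ≤ B ∧ r C = d k) _ (by simp)]
  rw [← Fintype.card_sigma]
  apply Fintype.card_congr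
  refine ⟨fun V => ⟨⟨V.1 (Fin.last k), V.2.2.1 _, V.2.2.2 _⟩,
      ⟨fun j => V.1 j.castSucc, fun i j hij => V.2.1 (by simpa using hij),
        fun j => V.2.1 (Fin.le_last _), fun j => V.2.2.2 j.castSucc⟩⟩,
    fun p => ⟨Fin.snoc p.2.1 p.1.1, snoc_mono _ _ p.2.2.1 p.2.2.2.1, ?_, ?_⟩, ?_, ?_⟩
  · intro j
    induction j using Fin.lastCases with
    | last =>
      rw [Fin.snoc_last]
      exact p.1.2.1
    | cast j =>
      rw [Fin.snoc_castSucc]
      exact (p.2.2.2.1 j).trans p.1.2.1
  · intro j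
    induction j using Fin.lastCases with
    | last =>
      rw [Fin.snoc_last]
      exact p.1.2.2
    | cast j =>
      rw [Fin.snoc_castSucc]
      exact p.2.2.2.2 j
  · intro V
    apply Subtype.ext
    funext j
    induction j using Fin.lastCases with
    | last => simp
    | cast j => simp
  · rintro ⟨⟨C, hC⟩, ⟨W, hW⟩⟩
    refine Sigma.ext (Subtype.ext (by simp)) ?_
    refine (Subtype.heq_iff_coe_eq ?_).2 ?_
    · intro V
      simp
    · funext j
      simp

end flags

section ssum

variable {L : Type*} [Fintype L] [PartialOrder L] (r : L → ℕ)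

open Classical in
theorem flagCount_succ_succ_of_eq (hr : StrictMono r) (k : ℕ) (d : ℕ → ℕ) (B : L)
    (h : d (k + 1) = d k) : flagCount r (k + 2) d B = flagCount r (k + 1) d B := by
  rw [flagCount_succ r (k + 1) d B, flagCount_succ r k d B, h]
  apply sum_congr rfl
  intro C hC
  rw [mem_filter] at hC
  rw [flagCount_succ r k d C]
  rw [sum_eq_single C]
  · intro C' hC' hne
    exfalso
    rw [mem_filter] at hC'
    apply hne
    by_contra hne'
    have hlt : C' < C := lt_of_le_of_ne hC'.2.1 hne'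
    have := hr hlt
    omega
  · intro hn
    exfalso
    apply hn
    rw [mem_filter]
    exact ⟨mem_univ _, le_rfl, hC.2.2⟩

noncomputable def Ssum (k : ℕ) (B : L) : ℤ :=
  ∑ κ : Perm (Fin k), if hes κ then ((Perm.sign κ : ℤˣ) : ℤ) * (flagCount r k (dseq κ) B : ℤ) else 0

open Classical in
theorem Ssum_succ_succ (hr : StrictMono r) (k : ℕ) (B : L) :
    Ssum r (k + 2) B =
      ∑ C ∈ univ.filter (fun C : L => C ≤ B ∧ r C = k + 1), Ssum r (k + 1) C - Ssum r (k + 1) B := by
  unfold Ssum
  rw [hes_sum]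
  have key : ∀ κ₀ : Perm (Fin (k + 1)), hes κ₀ →
      ((Perm.sign (extP κ₀) : ℤˣ) : ℤ) * (flagCount r (k + 2) (dseq (extP κ₀)) B : ℤ) +
        ((Perm.sign (extS κ₀) : ℤˣ) : ℤ) * (flagCount r (k + 2) (dseq (extS κ₀)) B : ℤ) =
      ∑ C ∈ univ.filter (fun C : L => C ≤ B ∧ r C = k + 1),
        ((Perm.sign κ₀ : ℤˣ) : ℤ) * (flagCount r (k + 1) (dseq κ₀) C : ℤ) -
        ((Perm.sign κ₀ : ℤˣ) : ℤ) * (flagCount r (k + 1) (dseq κ₀) B : ℤ) := by
    intro κ₀ h
    rw [sign_extP, sign_extS]
    have e1 : flagCount r (k + 2) (dseq (extP κ₀)) B =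
        ∑ C ∈ univ.filter (fun C : L => C ≤ B ∧ r C = k + 1), flagCount r (k + 1) (dseq κ₀) C := by
      rw [flagCount_succ r (k + 1) _ B, dseq_extP κ₀ (k + 1) le_rfl, dseq_top κ₀ h]
      apply sum_congr rfl
      intro C _
      apply flagCount_congr
      intro j hj
      exact dseq_extP κ₀ j (by omega)
    have e2 : flagCount r (k + 2) (dseq (extS κ₀)) B = flagCount r (k + 1) (dseq κ₀) B := by
      rw [flagCount_succ_succ_of_eq r hr k _ B
        (by rw [dseq_extS_succ, dseq_extS κ₀ k le_rfl])]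
      apply flagCount_congr
      intro j hj
      exact dseq_extS κ₀ j (by omega)
    rw [e1, e2, Nat.cast_sum, mul_sum]
    push_cast
    ring
  rw [sum_congr rfl (fun κ₀ _ => ite_congr rfl (fun h => key κ₀ h) (fun _ => rfl))]
  rw [← sum_filter, sum_sub_distrib, sum_comm]
  congr 1
  · apply sum_congr rfl
    intro C _
    rw [sum_filter]
  · rw [sum_filter]

end ssum

section ssum2

variable {L : Type*} [Fintype L] [PartialOrder L] [OrderBot L] (r : L → ℕ)

theorem eq_bot_of_rank_zero (hr : StrictMono r) (h0 : r ⊥ = 0) (C : L) (hC : r C = 0) : C = ⊥ := by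
  by_contra h
  have := hr (bot_lt_iff_ne_bot.mpr h)
  omega

open Classical in
theorem sum_lower (hr : StrictMono r) (h0 : r ⊥ = 0) (m : L → ℤ) (hm : IsMob m) (k : ℕ) (B : L)
    (hB : r B = k + 1) :
    ∑ C ∈ univ.filter (fun C : L => C ≤ B ∧ r C ≤ k), m C = - m B := by
  have h1 : univ.filter (fun C : L => C ≤ B ∧ r C ≤ k) = univ.filter (fun C : L => C < B) := by
    ext C
    simp only [mem_filter, mem_univ, true_and]
    constructor
    · rintro ⟨h1, h2⟩
      apply lt_of_le_of_ne h1
      rintro rfl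
      omega
    · intro h
      have := hr h
      exact ⟨h.le, by omega⟩
  rw [h1, hm.eq_sub B, if_neg]
  · ring
  · rintro rfl
    omega

open Classical in
theorem Ssum_one (hr : StrictMono r) (h0 : r ⊥ = 0) (B : L) : Ssum r 1 B = 1 := by
  unfold Ssum
  rw [Fintype.sum_subsingleton _ (1 : Perm (Fin 1))]
  have h1 : hes (1 : Perm (Fin 1)) := by
    intro i
    simp
  rw [if_pos h1, Perm.sign_one, flagCount_succ r 0 _ B, dseq_zero]
  have h2 : univ.filter (fun C : L => C ≤ B ∧ r C = 0) = {⊥} := by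
    ext C
    simp only [mem_filter, mem_univ, true_and, mem_singleton]
    constructor
    · rintro ⟨_, h⟩
      exact eq_bot_of_rank_zero r hr h0 C h
    · rintro rfl
      exact ⟨bot_le, h0⟩
  rw [h2, sum_singleton, flagCount_zero]
  simp

open Classical in
theorem Ssum_formula (hr : StrictMono r) (h0 : r ⊥ = 0) (m : L → ℤ) (hm : IsMob m) (k : ℕ) :
    ∀ B : L, Ssum r (k + 1) B =
      (-1 : ℤ) ^ k * ∑ C ∈ univ.filter (fun C : L => C ≤ B ∧ r C ≤ k), m C := by
  induction k with
  | zero =>
    intro B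
    rw [Ssum_one r hr h0, pow_zero, one_mul]
    have h2 : univ.filter (fun C : L => C ≤ B ∧ r C ≤ 0) = {⊥} := by
      ext C
      simp only [mem_filter, mem_univ, true_and, mem_singleton]
      constructor
      · rintro ⟨_, h⟩
        exact eq_bot_of_rank_zero r hr h0 C (by omega)
      · rintro rfl
        exact ⟨bot_le, by omega⟩
    rw [h2, sum_singleton, hm.bot]
  | succ k ih =>
    intro B
    rw [Ssum_succ_succ r hr k B, ih B]
    have h1 : ∀ C ∈ univ.filter (fun C : L => C ≤ B ∧ r C = k + 1),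
        Ssum r (k + 1) C = (-1 : ℤ) ^ (k + 1) * m C := by
      intro C hC
      rw [mem_filter] at hC
      rw [ih C, sum_lower r hr h0 m hm k C hC.2.2]
      ring
    rw [sum_congr rfl h1, ← mul_sum]
    have h2 : univ.filter (fun C : L => C ≤ B ∧ r C ≤ k + 1) =
        univ.filter (fun C : L => C ≤ B ∧ r C = k + 1) ∪
          univ.filter (fun C : L => C ≤ B ∧ r C ≤ k) := by
      ext C
      simp only [mem_filter, mem_univ, true_and, mem_union]
      constructor
      · rintro ⟨h, h'⟩
        by_cases hk : r C = k + 1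
        · exact Or.inl ⟨h, hk⟩
        · exact Or.inr ⟨h, by omega⟩
      · rintro (⟨h, h'⟩ | ⟨h, h'⟩)
        · exact ⟨h, by omega⟩
        · exact ⟨h, by omega⟩
    have h3 : Disjoint (univ.filter (fun C : L => C ≤ B ∧ r C = k + 1))
        (univ.filter (fun C : L => C ≤ B ∧ r C ≤ k)) := by
      rw [Finset.disjoint_left]
      intro C h h'
      rw [mem_filter] at h h'
      omega
    rw [h2, sum_union h3]
    ring

theorem Ssum_zero (B : L) : Ssum r 0 B = 1 := by
  unfold Ssum
  rw [Fintype.sum_subsingleton _ (1 : Perm (Fin 0))]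
  have h1 : hes (1 : Perm (Fin 0)) := fun i => i.elim0
  rw [if_pos h1, Perm.sign_one, flagCount_zero]
  simp

theorem Ssum_top [OrderTop L] (hr : StrictMono r) (h0 : r ⊥ = 0) (m : L → ℤ) (hm : IsMob m) (n : ℕ)
    (hn : r ⊤ = n) : Ssum r n ⊤ = (-1 : ℤ) ^ n * m ⊤ := by
  classical
  cases n with
  | zero =>
    rw [Ssum_zero, pow_zero, one_mul, eq_bot_of_rank_zero r hr h0 ⊤ hn, hm.bot]
  | succ k =>
    rw [Ssum_formula r hr h0 m hm k ⊤, sum_lower r hr h0 m hm k ⊤ hn]
    ring

end ssum2

end Cfsg.Agent.Lib.helper15.StV
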