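import Mathlib
import Cfsg.Prelude.Def_ParabolicCharacters
set_option autoImplicit false

namespace Cfsg.Agent.Lib.helper15.Stb

open Finset

section generic

variable {G : Type*} [Group G] (H K : Subgroup G) {T : Type*}

noncomputable def pairInv (f : G → T)
    (hinv : ∀ h ∈ H, ∀ k ∈ K, ∀ z, f (h * z * k) = f z) : (G ⧸ H) × (G ⧸ K) → T :=
  fun p => Quotient.liftOn₂' p.1 p.2 (fun x y => f (x⁻¹ * y)) (by
    intro a1 b1 a2 b2 h1 h2
    rw [QuotientGroup.leftRel_apply] at h1 h2
    have e : a2⁻¹ * b2 = (a1⁻¹ * a2)⁻¹ * (a1⁻¹ * b1) * (b1⁻¹ * b2) := by group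
    show f (a1⁻¹ * b1) = f (a2⁻¹ * b2)
    rw [e, hinv _ (H.inv_mem h1) _ h2])

theorem pairInv_mk (f : G → T)
    (hinv : ∀ h ∈ H, ∀ k ∈ K, ∀ z, f (h * z * k) = f z) (x y : G) :
    pairInv H K f hinv ((x : G ⧸ H), (y : G ⧸ K)) = f (x⁻¹ * y) := rfl

theorem pairInv_smul (f : G → T)
    (hinv : ∀ h ∈ H, ∀ k ∈ K, ∀ z, f (h * z * k) = f z) (g : G) (p : (G ⧸ H) × (G ⧸ K)) :
    pairInv H K f hinv (g • p) = pairInv H K f hinv p := by
  obtain ⟨x, y⟩ := p
  induction x using QuotientGroup.induction_on with | _ x => ?_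
  induction y using QuotientGroup.induction_on with | _ y => ?_
  show pairInv H K f hinv (((g * x : G) : G ⧸ H), ((g * y : G) : G ⧸ K)) = _
  rw [pairInv_mk, pairInv_mk]
  congr 1
  group

theorem pairInv_orbit (f : G → T)
    (hinv : ∀ h ∈ H, ∀ k ∈ K, ∀ z, f (h * z * k) = f z)
    (hinj : ∀ z z', f z = f z' → ∃ h ∈ H, ∃ k ∈ K, z' = h * z * k)
    (p p' : (G ⧸ H) × (G ⧸ K)) (h : pairInv H K f hinv p = pairInv H K f hinv p') :
    ∃ g : G, g • p = p' := by
  obtain ⟨x, y⟩ := p
  obtain ⟨x', y'⟩ := p'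
  induction x using QuotientGroup.induction_on with | _ x => ?_
  induction y using QuotientGroup.induction_on with | _ y => ?_
  induction x' using QuotientGroup.induction_on with | _ x' => ?_
  induction y' using QuotientGroup.induction_on with | _ y' => ?_
  rw [pairInv_mk, pairInv_mk] at h
  obtain ⟨a, ha, b, hb, e⟩ := hinj _ _ h
  refine ⟨x' * a * x⁻¹, ?_⟩
  show (((x' * a * x⁻¹ * x : G) : G ⧸ H), ((x' * a * x⁻¹ * y : G) : G ⧸ K)) = _
  refine Prod.ext ?_ ?_
  · show ((x' * a * x⁻¹ * x : G) : G ⧸ H) = (x' : G ⧸ H)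
    rw [QuotientGroup.eq]
    have : (x' * a * x⁻¹ * x)⁻¹ * x' = a⁻¹ := by group
    rw [this]
    exact H.inv_mem ha
  · show ((x' * a * x⁻¹ * y : G) : G ⧸ K) = (y' : G ⧸ K)
    rw [QuotientGroup.eq]
    have : (x' * a * x⁻¹ * y)⁻¹ * y' = (a * (x⁻¹ * y))⁻¹ * (x'⁻¹ * y') := by group
    rw [this, e]
    have : (a * (x⁻¹ * y))⁻¹ * (a * (x⁻¹ * y) * b) = b := by group
    rw [this]
    exact hb

theorem fixedBy_prod_card [Finite G] (g : G) :
    Nat.card (MulAction.fixedBy ((G ⧸ H) × (G ⧸ K)) g) =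
      Nat.card (MulAction.fixedBy (G ⧸ H) g) * Nat.card (MulAction.fixedBy (G ⧸ K) g) := by
  rw [← Nat.card_prod]
  apply Nat.card_congr
  refine ⟨fun p => (⟨p.1.1, ?_⟩, ⟨p.1.2, ?_⟩), fun p => ⟨(p.1.1, p.2.1), ?_⟩, ?_, ?_⟩
  · have := p.2
    rw [MulAction.mem_fixedBy] at this ⊢
    exact congrArg Prod.fst this
  · have := p.2
    rw [MulAction.mem_fixedBy] at this ⊢
    exact congrArg Prod.snd this
  · rw [MulAction.mem_fixedBy]
    have h1 := p.1.2
    have h2 := p.2.2
    rw [MulAction.mem_fixedBy] at h1 h2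
    exact Prod.ext h1 h2
  · intro p
    rfl
  · intro p
    rfl

theorem fpc_inner_eq_card [Fintype G] [Fintype T] (f : G → T)
    (hinv : ∀ h ∈ H, ∀ k ∈ K, ∀ z, f (h * z * k) = f z)
    (hinj : ∀ z z', f z = f z' → ∃ h ∈ H, ∃ k ∈ K, z' = h * z * k)
    (hsurj : Function.Surjective f) :
    (Nat.card G : ℂ)⁻¹ * ∑ g : G, Cfsg.fixedPointCharacter H g * Cfsg.fixedPointCharacter K g =
      (Fintype.card T : ℂ) := by
  classical
  let X := (G ⧸ H) × (G ⧸ K)
  have : Fintype X := Fintype.ofFinite X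
  have : ∀ g : G, Fintype (MulAction.fixedBy X g) := fun g => Fintype.ofFinite _
  have : Fintype (Quotient (MulAction.orbitRel G X)) := Fintype.ofFinite _
  have hB := MulAction.sum_card_fixedBy_eq_card_orbits_mul_card_group G X
  have hO : Fintype.card (Quotient (MulAction.orbitRel G X)) = Fintype.card T := by
    let φ : Quotient (MulAction.orbitRel G X) → T :=
      Quotient.lift (pairInv H K f hinv) (by
        intro p p' hpp
        obtain ⟨g, hg⟩ := (MulAction.orbitRel_apply.mp hpp)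
        rw [← hg]
        exact pairInv_smul H K f hinv g p')
    apply Fintype.card_of_bijective (f := φ)
    constructor
    · intro a b hab
      induction a using Quotient.inductionOn with | _ p => ?_
      induction b using Quotient.inductionOn with | _ p' => ?_
      apply Quotient.sound
      obtain ⟨g, hg⟩ := pairInv_orbit H K f hinv hinj p' p hab.symm
      exact MulAction.orbitRel_apply.mpr ⟨g, hg⟩
    · intro t
      obtain ⟨z, hz⟩ := hsurj t
      refine ⟨Quotient.mk _ (((1 : G) : G ⧸ H), ((z : G) : G ⧸ K)), ?_⟩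
      show pairInv H K f hinv _ = t
      rw [pairInv_mk]
      simpa using hz
  have hsum : ∑ g : G, Cfsg.fixedPointCharacter H g * Cfsg.fixedPointCharacter K g =
      ((∑ g : G, Fintype.card (MulAction.fixedBy X g) : ℕ) : ℂ) := by
    push_cast
    apply sum_congr rfl
    intro g _
    unfold Cfsg.fixedPointCharacter
    rw [← Nat.cast_mul, ← fixedBy_prod_card H K g, Nat.card_eq_fintype_card]
  rw [hsum, hB, hO, Nat.card_eq_fintype_card]
  push_cast
  have : (Fintype.card G : ℂ) ≠ 0 := by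
    exact_mod_cast Fintype.card_ne_zero
  field_simp

end generic

end Cfsg.Agent.Lib.helper15.Stb
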