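import Mathlib
import Cfsg.Prelude.Def_LinearParabolics
import Cfsg.Agent.S2420
import Cfsg.Agent.Lib.helper15.Stb1
import Cfsg.Agent.Lib.helper15.Stb2
set_option autoImplicit false

namespace Cfsg.Agent.Lib.helper15.Stb

open Matrix Finset
open scoped MatrixGroups

variable {n : ℕ}

theorem compLabel_mono (μ : Fin n → ℕ) {r s : Fin n} (h : r ≤ s) :
    Cfsg.compLabel μ r ≤ Cfsg.compLabel μ s := by
  unfold Cfsg.compLabel
  apply Finset.card_le_card
  intro j hj
  simp only [mem_filter, mem_univ, true_and] at hj ⊢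
  exact hj.trans (Fin.le_def.mp h)

section lin

variable {F : Type*} [Field F]

theorem ut_le_parabolic (μ : Fin n → ℕ) :
    Cfsg.upperTriangularGL n F ≤ Cfsg.parabolicGL n F μ := by
  intro g hg
  show (g : Matrix (Fin n) (Fin n) F).BlockTriangular (Cfsg.compLabel μ)
  intro i j hij
  apply hg
  show j < i
  by_contra h
  push Not at h
  exact absurd (compLabel_mono μ h) (not_le.mpr hij)

theorem pmGL_mem_parabolic (μ : Fin n → ℕ) (α : Equiv.Perm (Fin n))
    (hα : α ∈ Cfsg.youngSubgroup μ) : (pmGL α : GL (Fin n) F) ∈ Cfsg.parabolicGL n F μ := by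
  show (pm α : Matrix (Fin n) (Fin n) F).BlockTriangular (Cfsg.compLabel μ)
  intro i j hij
  rw [pm_apply, if_neg]
  rintro rfl
  have := hα j
  omega

def coordSub (F : Type*) [Field F] (S : Finset (Fin n)) : Submodule F (Fin n → F) where
  carrier := {v | ∀ r, r ∉ S → v r = 0}
  add_mem' := by
    intro v w hv hw r hr
    simp [hv r hr, hw r hr]
  zero_mem' := by
    intro r _
    rfl
  smul_mem' := by
    intro c v hv r hr
    simp [hv r hr]

theorem mem_coordSub (S : Finset (Fin n)) (v : Fin n → F) :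
    v ∈ coordSub F S ↔ ∀ r, r ∉ S → v r = 0 := Iff.rfl

theorem finrank_coordSub (S : Finset (Fin n)) : Module.finrank F (coordSub F S) = S.card := by
  classical
  let e : coordSub F S ≃ₗ[F] (↥S → F) :=
    { toFun := fun v s => v.1 s.1
      map_add' := fun _ _ => rfl
      map_smul' := fun _ _ => rfl
      invFun := fun w => ⟨fun r => if h : r ∈ S then w ⟨r, h⟩ else 0, fun r hr => by simp [hr]⟩
      left_inv := by
        intro v
        ext r
        by_cases h : r ∈ S
        · simp [h]
        · simp [h, v.2 r h]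
      right_inv := by
        intro w
        ext s
        simp [s.2] }
  rw [e.finrank_eq, Module.finrank_fintype_fun_eq_card, Fintype.card_coe]

theorem coordSub_inf (S S' : Finset (Fin n)) :
    coordSub F S ⊓ coordSub F S' = coordSub F (S ∩ S') := by
  classical
  ext v
  simp only [Submodule.mem_inf, mem_coordSub, Finset.mem_inter, not_and_or]
  constructor
  · rintro ⟨h1, h2⟩ r (hr | hr)
    · exact h1 r hr
    · exact h2 r hr
  · intro h
    exact ⟨fun r hr => h r (Or.inl hr), fun r hr => h r (Or.inr hr)⟩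

theorem map_pm_coordSub (σ : Equiv.Perm (Fin n)) (S : Finset (Fin n)) :
    (coordSub F S).map (Matrix.toLin' (pm σ : Matrix (Fin n) (Fin n) F)) =
      coordSub F (S.map σ.toEmbedding) := by
  ext w
  simp only [Submodule.mem_map, mem_coordSub, Finset.mem_map, Equiv.coe_toEmbedding, not_exists,
    not_and]
  constructor
  · rintro ⟨v, hv, rfl⟩ r hr
    rw [Matrix.toLin'_apply, pm_mulVec]
    apply hv
    intro hmem
    exact hr _ hmem (by simp)
  · intro hw
    refine ⟨fun c => w (σ c), ?_, ?_⟩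
    · intro c hc
      apply hw
      intro c' hc' he
      rw [σ.injective he] at hc'
      exact hc hc'
    · ext r
      rw [Matrix.toLin'_apply, pm_mulVec]
      simp

theorem parabolic_maps_into (μ : Fin n → ℕ) (p : GL (Fin n) F) (hp : p ∈ Cfsg.parabolicGL n F μ)
    (i : ℕ) (v : Fin n → F)
    (hv : v ∈ coordSub F (univ.filter fun r : Fin n => Cfsg.compLabel μ r ≤ i)) :
    Matrix.toLin' (p : Matrix (Fin n) (Fin n) F) v ∈
      coordSub F (univ.filter fun r : Fin n => Cfsg.compLabel μ r ≤ i) := by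
  intro r hr
  simp only [mem_filter, mem_univ, true_and, not_le] at hr
  rw [Matrix.toLin'_apply]
  simp only [Matrix.mulVec, dotProduct]
  apply Finset.sum_eq_zero
  intro s _
  by_cases hs : Cfsg.compLabel μ s ≤ i
  · have : (p : Matrix (Fin n) (Fin n) F) r s = 0 := hp (by omega)
    rw [this, zero_mul]
  · have : v s = 0 := hv s (by simpa using hs)
    rw [this, mul_zero]

theorem toLin'_inv_apply (p : GL (Fin n) F) (v : Fin n → F) :
    Matrix.toLin' ((p⁻¹ : GL (Fin n) F) : Matrix (Fin n) (Fin n) F)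
      (Matrix.toLin' (p : Matrix (Fin n) (Fin n) F) v) = v := by
  rw [← LinearMap.comp_apply, ← Matrix.toLin'_mul, ← Units.val_mul, inv_mul_cancel, Units.val_one,
    Matrix.toLin'_one]
  rfl

theorem toLin'_apply_inv (p : GL (Fin n) F) (v : Fin n → F) :
    Matrix.toLin' (p : Matrix (Fin n) (Fin n) F)
      (Matrix.toLin' ((p⁻¹ : GL (Fin n) F) : Matrix (Fin n) (Fin n) F) v) = v := by
  have := toLin'_inv_apply p⁻¹ v
  rwa [inv_inv] at this

theorem toLin'_injective (p : GL (Fin n) F) :
    Function.Injective (Matrix.toLin' (p : Matrix (Fin n) (Fin n) F)) :=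
  Function.LeftInverse.injective (toLin'_inv_apply p)

theorem map_parabolic_coordSub (μ : Fin n → ℕ) (p : GL (Fin n) F)
    (hp : p ∈ Cfsg.parabolicGL n F μ) (i : ℕ) :
    (coordSub F (univ.filter fun r : Fin n => Cfsg.compLabel μ r ≤ i)).map
      (Matrix.toLin' (p : Matrix (Fin n) (Fin n) F)) =
      coordSub F (univ.filter fun r : Fin n => Cfsg.compLabel μ r ≤ i) := by
  apply le_antisymm
  · rintro w ⟨v, hv, rfl⟩
    exact parabolic_maps_into μ p hp i v hv
  · intro w hw
    refine ⟨Matrix.toLin' ((p⁻¹ : GL (Fin n) F) : Matrix (Fin n) (Fin n) F) w,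
      parabolic_maps_into μ p⁻¹ (Subgroup.inv_mem _ hp) i w hw, toLin'_apply_inv p w⟩

end lin

section counts

variable (a b : Fin n → ℕ)

def cum (σ : Equiv.Perm (Fin n)) (i j : ℕ) : ℕ :=
  (univ.filter fun c : Fin n => Cfsg.compLabel b c ≤ j ∧ Cfsg.compLabel a (σ c) ≤ i).card

def half (σ : Equiv.Perm (Fin n)) (i j : ℕ) : ℕ :=
  (univ.filter fun c : Fin n => Cfsg.compLabel b c ≤ j ∧ Cfsg.compLabel a (σ c) = i).card

def tab (σ : Equiv.Perm (Fin n)) (i j : ℕ) : ℕ :=
  (univ.filter fun c : Fin n => Cfsg.compLabel b c = j ∧ Cfsg.compLabel a (σ c) = i).card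

theorem cum_zero (σ : Equiv.Perm (Fin n)) (j : ℕ) : cum a b σ 0 j = half a b σ 0 j := by
  unfold cum half
  congr 1
  ext c
  simp

theorem cum_succ (σ : Equiv.Perm (Fin n)) (i j : ℕ) :
    cum a b σ (i + 1) j = cum a b σ i j + half a b σ (i + 1) j := by
  unfold cum half
  rw [← Finset.card_union_of_disjoint]
  · congr 1
    ext c
    simp only [mem_filter, mem_univ, true_and, mem_union]
    constructor
    · rintro ⟨h1, h2⟩
      rcases Nat.lt_or_ge (Cfsg.compLabel a (σ c)) (i + 1) with h | h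
      · exact Or.inl ⟨h1, by omega⟩
      · exact Or.inr ⟨h1, by omega⟩
    · rintro (⟨h1, h2⟩ | ⟨h1, h2⟩)
      · exact ⟨h1, by omega⟩
      · exact ⟨h1, by omega⟩
  · rw [Finset.disjoint_filter]
    intro c _ h1 h2
    omega

theorem half_zero (σ : Equiv.Perm (Fin n)) (i : ℕ) : half a b σ i 0 = tab a b σ i 0 := by
  unfold half tab
  congr 1
  ext c
  simp

theorem half_succ (σ : Equiv.Perm (Fin n)) (i j : ℕ) :
    half a b σ i (j + 1) = half a b σ i j + tab a b σ i (j + 1) := by
  unfold half tab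
  rw [← Finset.card_union_of_disjoint]
  · congr 1
    ext c
    simp only [mem_filter, mem_univ, true_and, mem_union]
    constructor
    · rintro ⟨h1, h2⟩
      rcases Nat.lt_or_ge (Cfsg.compLabel b c) (j + 1) with h | h
      · exact Or.inl ⟨by omega, h2⟩
      · exact Or.inr ⟨by omega, h2⟩
    · rintro (⟨h1, h2⟩ | ⟨h1, h2⟩)
      · exact ⟨by omega, h2⟩
      · exact ⟨by omega, h2⟩
  · rw [Finset.disjoint_filter]
    intro c _ h1 h2
    omega

theorem tab_eq_of_cum_eq (σ τ : Equiv.Perm (Fin n))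
    (h : ∀ i j, cum a b σ i j = cum a b τ i j) : ∀ i j, tab a b σ i j = tab a b τ i j := by
  have hh : ∀ i j, half a b σ i j = half a b τ i j := by
    intro i j
    cases i with
    | zero => rw [← cum_zero, ← cum_zero, h]
    | succ i =>
      have h1 := cum_succ a b σ i j
      have h2 := cum_succ a b τ i j
      rw [h, h i j] at h1
      omega
  intro i j
  cases j with
  | zero => rw [← half_zero, ← half_zero, hh]
  | succ j =>
    have h1 := half_succ a b σ i j
    have h2 := half_succ a b τ i j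
    rw [hh, hh i j] at h1
    omega

theorem cum_eq_card_inter (σ : Equiv.Perm (Fin n)) (i j : ℕ) :
    cum a b σ i j = ((univ.filter fun r : Fin n => Cfsg.compLabel a r ≤ i) ∩
      (univ.filter fun c : Fin n => Cfsg.compLabel b c ≤ j).map σ.toEmbedding).card := by
  unfold cum
  rw [← Finset.card_map σ.toEmbedding]
  congr 1
  ext r
  simp only [mem_map, mem_filter, mem_univ, true_and, Equiv.coe_toEmbedding, mem_inter]
  constructor
  · rintro ⟨c, ⟨h1, h2⟩, rfl⟩
    exact ⟨h2, c, h1, rfl⟩
  · rintro ⟨h2, c, h1, rfl⟩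
    exact ⟨c, ⟨h1, h2⟩, rfl⟩

end counts

section core

variable {F : Type*} [Field F] (a b : Fin n → ℕ)

theorem cum_eq_finrank (σ : Equiv.Perm (Fin n)) (i j : ℕ) :
    cum a b σ i j = Module.finrank F
      ↥(coordSub F (univ.filter fun r : Fin n => Cfsg.compLabel a r ≤ i) ⊓
        (coordSub F (univ.filter fun c : Fin n => Cfsg.compLabel b c ≤ j)).map
          (Matrix.toLin' (pm σ : Matrix (Fin n) (Fin n) F))) := by
  rw [map_pm_coordSub, coordSub_inf, finrank_coordSub, cum_eq_card_inter]

theorem cum_eq_of_dcoset (σ τ : Equiv.Perm (Fin n)) (p p' : GL (Fin n) F)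
    (hp : p ∈ Cfsg.parabolicGL n F a) (hp' : p' ∈ Cfsg.parabolicGL n F b)
    (h : (pmGL τ : GL (Fin n) F) = p * pmGL σ * p') (i j : ℕ) :
    cum a b τ i j = cum a b σ i j := by
  rw [cum_eq_finrank (F := F) a b τ, cum_eq_finrank (F := F) a b σ]
  have hm : (pm τ : Matrix (Fin n) (Fin n) F) =
      (p : Matrix (Fin n) (Fin n) F) * pm σ * (p' : Matrix (Fin n) (Fin n) F) := by
    have := congrArg (fun g : GL (Fin n) F => (g : Matrix (Fin n) (Fin n) F)) h
    simpa [pmGL_coe] using this
  rw [hm, Matrix.toLin'_mul, Matrix.toLin'_mul, Submodule.map_comp, Submodule.map_comp,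
    map_parabolic_coordSub b p' hp' j]
  conv_lhs => rw [← map_parabolic_coordSub a p hp i]
  rw [← Submodule.map_inf _ (toLin'_injective p)]
  exact (Submodule.equivMapOfInjective _ (toLin'_injective p) _).finrank_eq.symm

end core

section fibers

theorem exists_equiv_of_fiber_card {α β γ : Type*} [Fintype α] [Fintype β] [DecidableEq γ]
    (f : α → γ) (g : β → γ)
    (h : ∀ y, Fintype.card {x // f x = y} = Fintype.card {x // g x = y}) :
    ∃ e : β ≃ α, ∀ x, f (e x) = g x := by
  let e : β ≃ α := (Equiv.sigmaFiberEquiv g).symm.trans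
    ((Equiv.sigmaCongrRight fun y => Fintype.equivOfCardEq (h y).symm).trans (Equiv.sigmaFiberEquiv f))
  refine ⟨e, ?_⟩
  intro x
  have : e x = ((Fintype.equivOfCardEq (h (g x)).symm) ⟨x, rfl⟩ : {x' // f x' = g x}).1 := rfl
  rw [this]
  exact (Fintype.equivOfCardEq (h (g x)).symm ⟨x, rfl⟩).2

end fibers

section sym

variable (a b : Fin n → ℕ)

theorem tab_eq_card (σ : Equiv.Perm (Fin n)) (i j : ℕ) :
    tab a b σ i j = Fintype.card
      {c : Fin n // (fun c => (Cfsg.compLabel a (σ c), Cfsg.compLabel b c)) c = (i, j)} := by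
  unfold tab
  rw [Fintype.card_subtype]
  congr 1
  ext c
  simp only [mem_filter, mem_univ, true_and, Prod.mk.injEq]
  tauto

theorem exists_young_of_tab_eq (σ τ : Equiv.Perm (Fin n))
    (h : ∀ i j, tab a b σ i j = tab a b τ i j) :
    ∃ α ∈ Cfsg.youngSubgroup a, ∃ β ∈ Cfsg.youngSubgroup b, τ = α * σ * β := by
  classical
  obtain ⟨β, hβ⟩ := exists_equiv_of_fiber_card
    (fun c : Fin n => (Cfsg.compLabel a (σ c), Cfsg.compLabel b c))
    (fun c : Fin n => (Cfsg.compLabel a (τ c), Cfsg.compLabel b c)) (by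
      rintro ⟨i, j⟩
      rw [← tab_eq_card, ← tab_eq_card, h])
  have h1 : ∀ c, Cfsg.compLabel a (σ (β c)) = Cfsg.compLabel a (τ c) := fun c =>
    congrArg Prod.fst (hβ c)
  have h2 : ∀ c, Cfsg.compLabel b (β c) = Cfsg.compLabel b c := fun c =>
    congrArg Prod.snd (hβ c)
  refine ⟨τ * β⁻¹ * σ⁻¹, ?_, β, h2, by group⟩
  intro r
  show Cfsg.compLabel a (τ (β⁻¹ (σ⁻¹ r))) = Cfsg.compLabel a r
  rw [← h1]
  simp

theorem tab_young (σ α β : Equiv.Perm (Fin n)) (hα : α ∈ Cfsg.youngSubgroup a)
    (hβ : β ∈ Cfsg.youngSubgroup b) (i j : ℕ) : tab a b (α * σ * β) i j = tab a b σ i j := by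
  unfold tab
  rw [← Finset.card_map β.toEmbedding]
  congr 1
  ext c
  simp only [mem_map, mem_filter, mem_univ, true_and, Equiv.coe_toEmbedding]
  simp only [Equiv.Perm.coe_mul, Function.comp_apply]
  constructor
  · rintro ⟨c', ⟨h1, h2⟩, rfl⟩
    exact ⟨by rw [hβ c']; exact h1, by rw [← hα (σ (β c'))]; exact h2⟩
  · rintro ⟨h1, h2⟩
    refine ⟨β⁻¹ c, ⟨?_, ?_⟩, by simp⟩
    · have := hβ (β⁻¹ c)
      have e : β (β⁻¹ c) = c := by simp
      rw [e] at this
      rw [← this]
      exact h1
    · have e : β (β⁻¹ c) = c := by simp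
      rw [e, hα]
      exact h2

def Tfin : Finset (Fin n → Fin n → ℕ) :=
  (Fintype.piFinset fun j : Fin n => Finset.piAntidiag (univ : Finset (Fin n)) (b j)).filter
    fun p => ∀ i, ∑ j, p j i = a i

theorem mem_Tfin (p : Fin n → Fin n → ℕ) :
    p ∈ Tfin a b ↔ (∀ j, ∑ i, p j i = b j) ∧ ∀ i, ∑ j, p j i = a i := by
  unfold Tfin
  simp [Fintype.mem_piFinset, Finset.mem_piAntidiag]

def tabF (σ : Equiv.Perm (Fin n)) : Fin n → Fin n → ℕ := fun j i => tab a b σ i.val j.val

theorem tabF_mem (ha : ∑ i, a i = n) (hb : ∑ i, b i = n) (σ : Equiv.Perm (Fin n)) :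
    tabF a b σ ∈ Tfin a b := by
  classical
  rw [mem_Tfin]
  constructor
  · intro j
    rw [← Cfsg.Agent.S2420.fiber_card b hb j]
    unfold tabF tab
    rw [Finset.card_eq_sum_card_fiberwise (f := fun c : Fin n =>
      (⟨Cfsg.compLabel a (σ c), Cfsg.Agent.S2420.compLabel_lt a ha (σ c)⟩ : Fin n))
      (t := univ) (fun c _ => mem_univ _)]
    apply Finset.sum_congr rfl
    intro i _
    congr 1
    ext c
    simp only [mem_filter, mem_univ, true_and, Fin.ext_iff]
  · intro i
    have hfa := Cfsg.Agent.S2420.fiber_card a ha i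
    have : (univ.filter fun c : Fin n => Cfsg.compLabel a (σ c) = i.val).card = a i := by
      rw [← hfa, ← Finset.card_map σ.toEmbedding]
      congr 1
      ext r
      simp only [mem_map, mem_filter, mem_univ, true_and, Equiv.coe_toEmbedding]
      constructor
      · rintro ⟨c, hc, rfl⟩
        exact hc
      · intro hr
        exact ⟨σ⁻¹ r, by simpa using hr, by simp⟩
    rw [← this]
    unfold tabF tab
    rw [Finset.card_eq_sum_card_fiberwise (f := fun c : Fin n =>
      (⟨Cfsg.compLabel b c, Cfsg.Agent.S2420.compLabel_lt b hb c⟩ : Fin n))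
      (t := univ) (fun c _ => mem_univ _)]
    apply Finset.sum_congr rfl
    intro j _
    congr 1
    ext c
    simp only [mem_filter, mem_univ, true_and, Fin.ext_iff]
    tauto

theorem tab_of_tabF (ha : ∑ i, a i = n) (hb : ∑ i, b i = n) (σ τ : Equiv.Perm (Fin n))
    (h : tabF a b σ = tabF a b τ) : ∀ i j, tab a b σ i j = tab a b τ i j := by
  intro i j
  by_cases hi : i < n
  · by_cases hj : j < n
    · exact congrFun (congrFun h ⟨j, hj⟩) ⟨i, hi⟩
    · unfold tab
      rw [Finset.card_eq_zero.mpr, Finset.card_eq_zero.mpr]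
      · rw [Finset.filter_eq_empty_iff]
        intro c _ hc
        have := Cfsg.Agent.S2420.compLabel_lt b hb c
        omega
      · rw [Finset.filter_eq_empty_iff]
        intro c _ hc
        have := Cfsg.Agent.S2420.compLabel_lt b hb c
        omega
  · unfold tab
    rw [Finset.card_eq_zero.mpr, Finset.card_eq_zero.mpr]
    · rw [Finset.filter_eq_empty_iff]
      intro c _ hc
      have := Cfsg.Agent.S2420.compLabel_lt a ha (τ c)
      omega
    · rw [Finset.filter_eq_empty_iff]
      intro c _ hc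
      have := Cfsg.Agent.S2420.compLabel_lt a ha (σ c)
      omega

theorem tabF_surj (ha : ∑ i, a i = n) (hb : ∑ i, b i = n) (p : Fin n → Fin n → ℕ)
    (hp : p ∈ Tfin a b) : ∃ σ : Equiv.Perm (Fin n), tabF a b σ = p := by
  classical
  rw [mem_Tfin] at hp
  obtain ⟨hpb, hpa⟩ := hp
  let X := Σ (j : Fin n) (i : Fin n), Fin (p j i)
  have hcardA : ∀ y : Fin n, Fintype.card {r : Fin n //
      (⟨Cfsg.compLabel a r, Cfsg.Agent.S2420.compLabel_lt a ha r⟩ : Fin n) = y} =
      Fintype.card {x : X // x.2.1 = y} := by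
    intro y
    rw [Fintype.card_subtype]
    have h1 : (univ.filter fun r : Fin n =>
        (⟨Cfsg.compLabel a r, Cfsg.Agent.S2420.compLabel_lt a ha r⟩ : Fin n) = y) =
        univ.filter fun r : Fin n => Cfsg.compLabel a r = y.val := by
      ext r
      simp [Fin.ext_iff]
    rw [h1, Cfsg.Agent.S2420.fiber_card a ha y, ← hpa y]
    have e : {x : X // x.2.1 = y} ≃ Σ j : Fin n, Fin (p j y) :=
      { toFun := fun x => match x with
          | ⟨⟨j, i, k⟩, h⟩ => ⟨j, Fin.cast (congrArg (fun t => p j t) h) k⟩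
        invFun := fun z => ⟨⟨z.1, y, z.2⟩, rfl⟩
        left_inv := by
          rintro ⟨⟨j, i, k⟩, h⟩
          simp only at h
          subst h
          rfl
        right_inv := by
          rintro ⟨j, k⟩
          rfl }
    rw [Fintype.card_congr e, Fintype.card_sigma]
    simp
  have hcardB : ∀ y : Fin n, Fintype.card {c : Fin n //
      (⟨Cfsg.compLabel b c, Cfsg.Agent.S2420.compLabel_lt b hb c⟩ : Fin n) = y} =
      Fintype.card {x : X // x.1 = y} := by
    intro y
    rw [Fintype.card_subtype]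
    have h1 : (univ.filter fun r : Fin n =>
        (⟨Cfsg.compLabel b r, Cfsg.Agent.S2420.compLabel_lt b hb r⟩ : Fin n) = y) =
        univ.filter fun r : Fin n => Cfsg.compLabel b r = y.val := by
      ext r
      simp [Fin.ext_iff]
    rw [h1, Cfsg.Agent.S2420.fiber_card b hb y, ← hpb y]
    have e : {x : X // x.1 = y} ≃ Σ i : Fin n, Fin (p y i) :=
      { toFun := fun x => match x with
          | ⟨⟨j, i, k⟩, h⟩ => ⟨i, Fin.cast (congrArg (fun t => p t i) h) k⟩
        invFun := fun z => ⟨⟨y, z⟩, rfl⟩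
        left_inv := by
          rintro ⟨⟨j, i, k⟩, h⟩
          simp only at h
          subst h
          rfl
        right_inv := by
          rintro ⟨i, k⟩
          rfl }
    rw [Fintype.card_congr e, Fintype.card_sigma]
    simp
  obtain ⟨e1, he1⟩ := exists_equiv_of_fiber_card
    (fun r : Fin n => (⟨Cfsg.compLabel a r, Cfsg.Agent.S2420.compLabel_lt a ha r⟩ : Fin n))
    (fun x : X => x.2.1) hcardA
  obtain ⟨e2, he2⟩ := exists_equiv_of_fiber_card
    (fun c : Fin n => (⟨Cfsg.compLabel b c, Cfsg.Agent.S2420.compLabel_lt b hb c⟩ : Fin n))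
    (fun x : X => x.1) hcardB
  refine ⟨e2.symm.trans e1, ?_⟩
  funext j i
  unfold tabF tab
  have : (univ.filter fun c : Fin n => Cfsg.compLabel b c = j.val ∧
      Cfsg.compLabel a ((e2.symm.trans e1) c) = i.val) =
      (univ.filter fun x : X => x.1 = j ∧ x.2.1 = i).map e2.toEmbedding := by
    ext c
    simp only [mem_filter, mem_univ, true_and, mem_map, Equiv.coe_toEmbedding]
    simp only [Equiv.trans_apply]
    constructor
    · rintro ⟨h1, h2⟩
      refine ⟨e2.symm c, ⟨?_, ?_⟩, by simp⟩
      · have := he2 (e2.symm c)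
        simp only [Equiv.apply_symm_apply] at this
        rw [← this]
        exact Fin.ext h1
      · have := he1 (e2.symm c)
        rw [← this]
        exact Fin.ext h2
    · rintro ⟨x, ⟨h1, h2⟩, rfl⟩
      refine ⟨?_, ?_⟩
      · have := he2 x
        rw [h1] at this
        exact congrArg Fin.val this
      · simp only [Equiv.symm_apply_apply]
        have := he1 x
        rw [h2] at this
        exact congrArg Fin.val this
  rw [this, Finset.card_map]
  have e : {x : X // x.1 = j ∧ x.2.1 = i} ≃ Fin (p j i) :=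
    { toFun := fun x => match x with
        | ⟨⟨j', i', k⟩, h1, h2⟩ => Fin.cast (congrArg₂ p h1 h2) k
      invFun := fun k => ⟨⟨j, i, k⟩, rfl, rfl⟩
      left_inv := by
        rintro ⟨⟨j', i', k⟩, h1, h2⟩
        simp only at h1 h2
        subst h1
        subst h2
        rfl
      right_inv := by
        intro k
        rfl }
  rw [← Fintype.card_subtype, Fintype.card_congr e, Fintype.card_fin]

end sym

end Cfsg.Agent.Lib.helper15.Stb
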