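import Mathlib
import Cfsg.Prelude.Def_LinearParabolics
import Cfsg.Agent.S2420
import Cfsg.Agent.Lib.helper15.Stb3
import Cfsg.Agent.Lib.helper15.StV2
set_option autoImplicit false

namespace Cfsg.Agent.Lib.helper15.StV

open Matrix Finset Cfsg.Agent.S2420 Cfsg.Agent.Lib.helper15.Stb
open scoped MatrixGroups

section std

variable {n : ℕ} {F : Type*} [Field F]

def stdE (F : Type*) [Field F] (μ : Fin n → ℕ) (j : ℕ) : Submodule F (Fin n → F) :=
  coordSub F (univ.filter fun r : Fin n => r.val < pre μ j)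

theorem mem_stdE (μ : Fin n → ℕ) (j : ℕ) (v : Fin n → F) :
    v ∈ stdE F μ j ↔ ∀ r : Fin n, pre μ j ≤ r.val → v r = 0 := by
  unfold stdE
  rw [mem_coordSub]
  constructor
  · intro h r hr
    apply h
    simp only [mem_filter, mem_univ, true_and]
    omega
  · intro h r hr
    apply h
    simp only [mem_filter, mem_univ, true_and] at hr
    omega

theorem label_lt_iff (μ : Fin n → ℕ) (hμ : ∑ i, μ i = n) (r : Fin n) (j : ℕ) :
    Cfsg.compLabel μ r < j ↔ r.val < pre μ j := by
  obtain ⟨c, hc, h1, h2⟩ := exists_block μ hμ r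
  rw [label_of_mem μ c hc.le r h1 h2]
  constructor
  · intro h
    have := pre_mono μ (show c + 1 ≤ j by omega)
    omega
  · intro h
    by_contra hcj
    have := pre_mono μ (show j ≤ c by omega)
    omega

theorem card_filter_val_lt (m : ℕ) (hm : m ≤ n) :
    (univ.filter fun r : Fin n => r.val < m).card = m := by
  have h4 : (univ.filter fun r : Fin n => r.val < m).map Fin.valEmbedding = Finset.range m := by
    ext x
    simp only [Finset.mem_map, Finset.mem_filter, Finset.mem_univ, true_and, Fin.valEmbedding_apply,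
      Finset.mem_range]
    constructor
    · rintro ⟨j, hj, rfl⟩
      exact hj
    · intro hx
      exact ⟨⟨x, by omega⟩, hx, rfl⟩
  rw [← Finset.card_map Fin.valEmbedding, h4, Finset.card_range]

theorem pre_le (μ : Fin n → ℕ) (hμ : ∑ i, μ i = n) (j : ℕ) : pre μ j ≤ n := by
  have h1 : pre μ j ≤ ∑ i, μ i := by
    unfold pre
    apply Finset.sum_le_sum_of_subset
    exact Finset.subset_univ _
  omega

theorem finrank_stdE (μ : Fin n → ℕ) (hμ : ∑ i, μ i = n) (j : ℕ) :
    Module.finrank F (stdE F μ j) = pre μ j := by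
  unfold stdE
  rw [finrank_coordSub, card_filter_val_lt _ (pre_le μ hμ j)]

theorem stdE_mono (μ : Fin n → ℕ) {j j' : ℕ} (h : j ≤ j') : stdE F μ j ≤ stdE F μ j' := by
  intro v hv
  rw [mem_stdE] at hv ⊢
  intro r hr
  apply hv
  have := pre_mono μ h
  omega

theorem parabolic_map_le (μ : Fin n → ℕ) (hμ : ∑ i, μ i = n) (g : GL (Fin n) F)
    (hg : g ∈ Cfsg.parabolicGL n F μ) (j : ℕ) :
    (stdE F μ j).map (Matrix.toLin' (g : Matrix (Fin n) (Fin n) F)) ≤ stdE F μ j := by
  rintro w ⟨v, hv, rfl⟩
  rw [SetLike.mem_coe, mem_stdE] at hv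
  rw [mem_stdE]
  intro r hr
  rw [Matrix.toLin'_apply]
  simp only [Matrix.mulVec, dotProduct]
  apply Finset.sum_eq_zero
  intro s _
  by_cases hs : pre μ j ≤ s.val
  · rw [hv s hs, mul_zero]
  · have h1 : Cfsg.compLabel μ s < j := (label_lt_iff μ hμ s j).2 (by omega)
    have h2 : ¬ Cfsg.compLabel μ r < j := by
      rw [label_lt_iff μ hμ r j]
      omega
    have : (g : Matrix (Fin n) (Fin n) F) r s = 0 := hg (by omega)
    rw [this, zero_mul]

theorem parabolic_of_map_le (μ : Fin n → ℕ) (hμ : ∑ i, μ i = n) (g : GL (Fin n) F)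
    (h : ∀ j : ℕ, j < n →
      (stdE F μ j).map (Matrix.toLin' (g : Matrix (Fin n) (Fin n) F)) ≤ stdE F μ j) :
    g ∈ Cfsg.parabolicGL n F μ := by
  show (g : Matrix (Fin n) (Fin n) F).BlockTriangular (Cfsg.compLabel μ)
  intro r s hrs
  have hlt : Cfsg.compLabel μ r < n := compLabel_lt μ hμ r
  have h1 := h (Cfsg.compLabel μ s + 1) (by omega)
  have h2 : (Pi.single s (1 : F) : Fin n → F) ∈ stdE F μ (Cfsg.compLabel μ s + 1) := by
    rw [mem_stdE]
    intro t ht
    rw [Pi.single_apply, if_neg]
    rintro rfl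
    have := (label_lt_iff μ hμ t (Cfsg.compLabel μ t + 1)).1 (by omega)
    omega
  have h3 := h1 (Submodule.mem_map_of_mem h2)
  rw [mem_stdE] at h3
  have h4 := h3 r (by
    by_contra hc
    have := (label_lt_iff μ hμ r (Cfsg.compLabel μ s + 1)).2 (by omega)
    omega)
  rw [Matrix.toLin'_apply, Matrix.mulVec_single_one] at h4
  exact h4

end std

section adapted

variable {F : Type*} [Field F] {M : Type*} [AddCommGroup M] [Module F M]

theorem ext_step (b : ℕ → M) (a : ℕ) (W : Submodule F M) [FiniteDimensional F W]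
    (hb : ∀ s < a, b s ∈ W) (hli : LinearIndependent F (fun s : Fin a => b s)) :
    ∀ N, a ≤ N → N ≤ Module.finrank F W →
      ∃ b' : ℕ → M, (∀ s < a, b' s = b s) ∧ (∀ s < N, b' s ∈ W) ∧
        LinearIndependent F (fun s : Fin N => b' s) := by
  intro N hN
  induction N, hN using Nat.le_induction with
  | base =>
    intro _
    exact ⟨b, fun _ _ => rfl, hb, hli⟩
  | succ N hN ih =>
    intro hle
    obtain ⟨b', h1, h2, h3⟩ := ih (by omega)
    set S := Submodule.span F (Set.range (fun s : Fin N => b' s)) with hS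
    have hSW : S ≤ W := by
      rw [hS, Submodule.span_le]
      rintro _ ⟨s, rfl⟩
      exact h2 s.val s.2
    have hfr : Module.finrank F S = N := by
      rw [hS, finrank_span_eq_card h3, Fintype.card_fin]
    have hlt : S < W := by
      apply lt_of_le_of_ne hSW
      intro h
      rw [h] at hfr
      omega
    obtain ⟨x, hxW, hxS⟩ := SetLike.exists_of_lt hlt
    refine ⟨Function.update b' N x, ?_, ?_, ?_⟩
    · intro s hs
      rw [Function.update_of_ne (by omega), h1 s hs]
    · intro s hs
      by_cases hsN : s = N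
      · rw [hsN, Function.update_self]
        exact hxW
      · rw [Function.update_of_ne hsN]
        exact h2 s (by omega)
    · have e : (fun s : Fin (N + 1) => Function.update b' N x s.val) =
          Fin.snoc (fun s : Fin N => b' s.val) x := by
        funext s
        induction s using Fin.lastCases with
        | last => simp
        | cast s =>
          rw [Fin.snoc_castSucc]
          simp only [Fin.val_castSucc]
          rw [Function.update_of_ne]
          exact s.2.ne
      rw [e]
      exact h3.finSnoc hxS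

theorem chain_basis [FiniteDimensional F M] (V : ℕ → Submodule F M) (hV : Monotone V) :
    ∀ k : ℕ, ∃ b : ℕ → M, (∀ j ≤ k, ∀ s < Module.finrank F (V j), b s ∈ V j) ∧
      LinearIndependent F (fun s : Fin (Module.finrank F (V k)) => b s) := by
  intro k
  induction k with
  | zero =>
    obtain ⟨b', _, h2, h3⟩ := ext_step (fun _ => (0 : M)) 0 (V 0) (by intro s hs; omega)
      (linearIndependent_empty_type) (Module.finrank F (V 0)) (Nat.zero_le _) le_rfl
    refine ⟨b', ?_, h3⟩
    intro j hj s hs
    have : j = 0 := by omega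
    subst this
    exact h2 s hs
  | succ k ih =>
    obtain ⟨b, hb1, hb2⟩ := ih
    have hmono : Module.finrank F (V k) ≤ Module.finrank F (V (k + 1)) :=
      Submodule.finrank_mono (hV (Nat.le_succ k))
    obtain ⟨b', h1, h2, h3⟩ := ext_step b (Module.finrank F (V k)) (V (k + 1))
      (fun s hs => hV (Nat.le_succ k) (hb1 k le_rfl s hs)) hb2 (Module.finrank F (V (k + 1)))
      hmono le_rfl
    refine ⟨b', ?_, h3⟩
    intro j hj s hs
    by_cases hjk : j = k + 1
    · subst hjk
      exact h2 s hs
    · have hjk' : j ≤ k := by omega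
      have : s < Module.finrank F (V k) :=
        lt_of_lt_of_le hs (Submodule.finrank_mono (hV hjk'))
      rw [h1 s this]
      exact hb1 j hjk' s hs

end adapted

section trans

variable {n : ℕ} {F : Type*} [Field F]

theorem finrank_map_gl (g : GL (Fin n) F) (W : Submodule F (Fin n → F)) :
    Module.finrank F (W.map (Matrix.toLin' (g : Matrix (Fin n) (Fin n) F))) = Module.finrank F W :=
  (Submodule.equivMapOfInjective _ (toLin'_injective g) W).finrank_eq.symm

theorem exists_gl_flag (μ : Fin n → ℕ) (hμ : ∑ i, μ i = n) (V : ℕ → Submodule F (Fin n → F))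
    (hV : Monotone V) (hr : ∀ j, j ≤ n → Module.finrank F (V j) = pre μ j) :
    ∃ g : GL (Fin n) F, ∀ j, j ≤ n →
      (stdE F μ j).map (Matrix.toLin' (g : Matrix (Fin n) (Fin n) F)) = V j := by
  obtain ⟨b, hb1, hb2⟩ := chain_basis V hV n
  have hN : Module.finrank F (V n) = n := by
    rw [hr n le_rfl, pre_top, hμ]
  have hb3 : LinearIndependent F (fun s : Fin n => b s.val) := by
    revert hb2
    generalize Module.finrank F (V n) = N at hN
    subst hN
    exact fun h => h
  set A : Matrix (Fin n) (Fin n) F := Matrix.of (fun i s => b s.val i) with hA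
  have hcol : A.col = fun s : Fin n => b s.val := by
    funext s i
    rfl
  have hu : IsUnit A := by
    rw [← Matrix.linearIndependent_cols_iff_isUnit, hcol]
    exact hb3
  obtain ⟨g, hg⟩ := hu
  refine ⟨g, ?_⟩
  intro j hj
  apply Submodule.eq_of_le_of_finrank_eq
  · rintro w ⟨v, hv, rfl⟩
    rw [SetLike.mem_coe, mem_stdE] at hv
    have hmv : A *ᵥ v = ∑ s, v s • b s.val := by
      funext i
      simp only [Matrix.mulVec, dotProduct, Finset.sum_apply, Pi.smul_apply, smul_eq_mul]
      apply sum_congr rfl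
      intro s _
      rw [mul_comm]
      rfl
    rw [hg, Matrix.toLin'_apply, hmv]
    apply Submodule.sum_mem
    intro s _
    by_cases hs : pre μ j ≤ s.val
    · have : v s = 0 := hv s hs
      rw [this]
      simp
    · apply Submodule.smul_mem
      apply hb1 j hj
      rw [hr j hj]
      omega
  · rw [finrank_map_gl, finrank_stdE μ hμ, hr j hj]

end trans

section fm

variable {n : ℕ} {F : Type*} [Field F]

theorem map_mul_gl (g h : GL (Fin n) F) (W : Submodule F (Fin n → F)) :
    W.map (Matrix.toLin' ((g * h : GL (Fin n) F) : Matrix (Fin n) (Fin n) F)) =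
      (W.map (Matrix.toLin' (h : Matrix (Fin n) (Fin n) F))).map
        (Matrix.toLin' (g : Matrix (Fin n) (Fin n) F)) := by
  rw [Units.val_mul, Matrix.toLin'_mul, Submodule.map_comp]

theorem map_one_gl (W : Submodule F (Fin n → F)) :
    W.map (Matrix.toLin' ((1 : GL (Fin n) F) : Matrix (Fin n) (Fin n) F)) = W := by
  rw [Units.val_one, Matrix.toLin'_one, Submodule.map_id]

theorem parabolic_map_eq (μ : Fin n → ℕ) (hμ : ∑ i, μ i = n) (p : GL (Fin n) F)
    (hp : p ∈ Cfsg.parabolicGL n F μ) (j : ℕ) :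
    (stdE F μ j).map (Matrix.toLin' (p : Matrix (Fin n) (Fin n) F)) = stdE F μ j := by
  apply le_antisymm (parabolic_map_le μ hμ p hp j)
  have h := parabolic_map_le μ hμ p⁻¹ (inv_mem hp) j
  calc stdE F μ j = ((stdE F μ j).map (Matrix.toLin' ((p⁻¹ : GL (Fin n) F) :
        Matrix (Fin n) (Fin n) F))).map (Matrix.toLin' (p : Matrix (Fin n) (Fin n) F)) := by
        rw [← map_mul_gl, mul_inv_cancel, map_one_gl]
    _ ≤ _ := Submodule.map_mono h

noncomputable def flagMap (μ : Fin n → ℕ) (hμ : ∑ i, μ i = n)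
    (q : GL (Fin n) F ⧸ Cfsg.parabolicGL n F μ) : ℕ → Submodule F (Fin n → F) :=
  Quotient.liftOn' q
    (fun g j => (stdE F μ j).map (Matrix.toLin' (g : Matrix (Fin n) (Fin n) F)))
    (by
      intro a b hab
      have h1 : a⁻¹ * b ∈ Cfsg.parabolicGL n F μ := QuotientGroup.leftRel_apply.mp hab
      funext j
      have h2 : b = a * (a⁻¹ * b) := by group
      show (stdE F μ j).map (Matrix.toLin' (a : Matrix (Fin n) (Fin n) F)) =
        (stdE F μ j).map (Matrix.toLin' (b : Matrix (Fin n) (Fin n) F))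
      conv_rhs => rw [h2, map_mul_gl, parabolic_map_eq μ hμ _ h1 j])

theorem flagMap_mk (μ : Fin n → ℕ) (hμ : ∑ i, μ i = n) (g : GL (Fin n) F) (j : ℕ) :
    flagMap μ hμ (g : GL (Fin n) F ⧸ Cfsg.parabolicGL n F μ) j =
      (stdE F μ j).map (Matrix.toLin' (g : Matrix (Fin n) (Fin n) F)) := rfl

theorem flagMap_smul (μ : Fin n → ℕ) (hμ : ∑ i, μ i = n) (x : GL (Fin n) F)
    (q : GL (Fin n) F ⧸ Cfsg.parabolicGL n F μ) (j : ℕ) :
    flagMap μ hμ (x • q) j =
      (flagMap μ hμ q j).map (Matrix.toLin' (x : Matrix (Fin n) (Fin n) F)) := by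
  induction q using QuotientGroup.induction_on with
  | H g =>
    rw [MulAction.Quotient.smul_mk, flagMap_mk, flagMap_mk, smul_eq_mul, map_mul_gl]

theorem flagMap_injective (μ : Fin n → ℕ) (hμ : ∑ i, μ i = n)
    (q q' : GL (Fin n) F ⧸ Cfsg.parabolicGL n F μ)
    (h : ∀ j, j < n → flagMap μ hμ q j = flagMap μ hμ q' j) : q = q' := by
  induction q using QuotientGroup.induction_on with
  | H g =>
    induction q' using QuotientGroup.induction_on with
    | H g' =>
      rw [QuotientGroup.eq]
      apply parabolic_of_map_le μ hμ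
      intro j hj
      have h1 := h j hj
      rw [flagMap_mk, flagMap_mk] at h1
      rw [map_mul_gl, ← h1, ← map_mul_gl, inv_mul_cancel, map_one_gl]

theorem flagMap_mono (μ : Fin n → ℕ) (hμ : ∑ i, μ i = n)
    (q : GL (Fin n) F ⧸ Cfsg.parabolicGL n F μ) : Monotone (flagMap μ hμ q) := by
  induction q using QuotientGroup.induction_on with
  | H g =>
    intro j j' hjj
    rw [flagMap_mk, flagMap_mk]
    exact Submodule.map_mono (stdE_mono μ hjj)

theorem flagMap_finrank (μ : Fin n → ℕ) (hμ : ∑ i, μ i = n)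
    (q : GL (Fin n) F ⧸ Cfsg.parabolicGL n F μ) (j : ℕ) :
    Module.finrank F (flagMap μ hμ q j) = pre μ j := by
  induction q using QuotientGroup.induction_on with
  | H g =>
    rw [flagMap_mk, finrank_map_gl, finrank_stdE μ hμ]

theorem flagMap_surj (μ : Fin n → ℕ) (hμ : ∑ i, μ i = n) (V : ℕ → Submodule F (Fin n → F))
    (hV : Monotone V) (hr : ∀ j, j ≤ n → Module.finrank F (V j) = pre μ j) :
    ∃ q : GL (Fin n) F ⧸ Cfsg.parabolicGL n F μ, ∀ j, j ≤ n → flagMap μ hμ q j = V j := by
  obtain ⟨g, hg⟩ := exists_gl_flag μ hμ V hV hr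
  exact ⟨(g : GL (Fin n) F ⧸ Cfsg.parabolicGL n F μ), fun j hj => by rw [flagMap_mk, hg j hj]⟩

end fm

section cnt

variable {n : ℕ} {F : Type*} [Field F]

theorem map_eq_of_invt (x : GL (Fin n) F) (W : Submodule F (Fin n → F))
    (hW : W ∈ Module.End.invtSubmodule (Matrix.toLin' (x : Matrix (Fin n) (Fin n) F))) :
    W.map (Matrix.toLin' (x : Matrix (Fin n) (Fin n) F)) = W := by
  apply Submodule.eq_of_le_of_finrank_eq
  · exact (Module.End.mem_invtSubmodule_iff_map_le _).1 hW
  · exact finrank_map_gl x W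

theorem fpc_eq_flagCount (μ : Fin n → ℕ) (hμ : ∑ i, μ i = n) (x : GL (Fin n) F)
    [Fintype ↥(Module.End.invtSubmodule (Matrix.toLin' (x : Matrix (Fin n) (Fin n) F)))] :
    Cfsg.fixedPointCharacter (Cfsg.parabolicGL n F μ) x =
      ((flagCount (fun W : ↥(Module.End.invtSubmodule
          (Matrix.toLin' (x : Matrix (Fin n) (Fin n) F))) =>
            Module.finrank F (W : Submodule F (Fin n → F))) n (pre μ) ⊤ : ℕ) : ℂ) := by
  classical
  unfold Cfsg.fixedPointCharacter flagCount
  congr 1
  rw [← Nat.card_eq_fintype_card]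
  apply Nat.card_congr
  have hinv : ∀ q : ↥(MulAction.fixedBy (GL (Fin n) F ⧸ Cfsg.parabolicGL n F μ) x), ∀ j : ℕ,
      flagMap μ hμ q.1 j ∈
        Module.End.invtSubmodule (Matrix.toLin' (x : Matrix (Fin n) (Fin n) F)) := by
    intro q j
    rw [Module.End.mem_invtSubmodule_iff_map_le, ← flagMap_smul]
    have : x • q.1 = q.1 := q.2
    rw [this]
  refine Equiv.ofBijective (fun q => ⟨fun j => ⟨flagMap μ hμ q.1 j.val, hinv q j.val⟩, ?_, ?_, ?_⟩)
    ⟨?_, ?_⟩
  · intro i j hij
    exact flagMap_mono μ hμ q.1 hij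
  · intro j
    exact le_top
  · intro j
    exact flagMap_finrank μ hμ q.1 j.val
  · intro q q' h
    apply Subtype.ext
    apply flagMap_injective μ hμ
    intro j hj
    have h1 := congrArg (fun W => ((W.1 ⟨j, hj⟩ : ↥(Module.End.invtSubmodule
      (Matrix.toLin' (x : Matrix (Fin n) (Fin n) F)))) : Submodule F (Fin n → F))) h
    exact h1
  · rintro ⟨W, hW1, hW2, hW3⟩
    set V : ℕ → Submodule F (Fin n → F) :=
      fun j => if h : j < n then ((W ⟨j, h⟩ : ↥(Module.End.invtSubmodule
        (Matrix.toLin' (x : Matrix (Fin n) (Fin n) F)))) : Submodule F (Fin n → F)) else ⊤ with hVdef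
    have hVmono : Monotone V := by
      intro i j hij
      simp only [hVdef]
      by_cases hj : j < n
      · have hi : i < n := by omega
        rw [dif_pos hi, dif_pos hj]
        exact hW1 (show (⟨i, hi⟩ : Fin n) ≤ ⟨j, hj⟩ from hij)
      · rw [dif_neg hj]
        exact le_top
    have hVr : ∀ j, j ≤ n → Module.finrank F (V j) = pre μ j := by
      intro j hj
      by_cases hjn : j < n
      · have e : V j = ((W ⟨j, hjn⟩ : ↥(Module.End.invtSubmodule
          (Matrix.toLin' (x : Matrix (Fin n) (Fin n) F)))) : Submodule F (Fin n → F)) :=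
          dif_pos hjn
        rw [e]
        exact hW3 ⟨j, hjn⟩
      · have : j = n := by omega
        subst this
        have e : V j = ⊤ := dif_neg hjn
        rw [e, finrank_top, Module.finrank_fin_fun, pre_top, hμ]
    obtain ⟨q, hq⟩ := flagMap_surj μ hμ V hVmono hVr
    have hfix : q ∈ MulAction.fixedBy (GL (Fin n) F ⧸ Cfsg.parabolicGL n F μ) x := by
      rw [MulAction.mem_fixedBy]
      apply flagMap_injective μ hμ
      intro j hj
      rw [flagMap_smul, hq j hj.le]
      simp only [hVdef]
      rw [dif_pos hj]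
      exact map_eq_of_invt x _ (W ⟨j, hj⟩).2
    refine ⟨⟨q, hfix⟩, ?_⟩
    apply Subtype.ext
    funext j
    apply Subtype.ext
    show flagMap μ hμ q j.val = _
    rw [hq j.val j.2.le]
    simp only [hVdef]
    rw [dif_pos j.2]

end cnt

section main

variable {n : ℕ} {F : Type*} [Field F]

theorem rk_strictMono {V : Type*} [AddCommGroup V] [Module F V] [FiniteDimensional F V]
    (T : Module.End F V) :
    StrictMono (fun W : ↥(Module.End.invtSubmodule T) => Module.finrank F (W : Submodule F V)) := by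
  intro W W' h
  exact Submodule.finrank_lt_finrank_of_lt (show (W : Submodule F V) < W' from h)

theorem steinberg_eq_mob (x : GL (Fin n) F)
    [Fintype ↥(Module.End.invtSubmodule (Matrix.toLin' (x : Matrix (Fin n) (Fin n) F)))]
    (m : ↥(Module.End.invtSubmodule (Matrix.toLin' (x : Matrix (Fin n) (Fin n) F))) → ℤ)
    (hm : IsMob m) :
    Cfsg.unipotentCharacterGL n F (fun _ => 1) x = (((-1 : ℤ) ^ n * m ⊤ : ℤ) : ℂ) := by
  have hS := Ssum_top (fun W : ↥(Module.End.invtSubmodule
      (Matrix.toLin' (x : Matrix (Fin n) (Fin n) F))) => Module.finrank F (W : Submodule F (Fin n → F)))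
    (rk_strictMono _)
    (show Module.finrank F (⊥ : Submodule F (Fin n → F)) = 0 from finrank_bot F (Fin n → F)) m hm n
    (show Module.finrank F (⊤ : Submodule F (Fin n → F)) = n by
      rw [finrank_top, Module.finrank_fin_fun])
  rw [← hS]
  unfold Cfsg.unipotentCharacterGL Ssum
  rw [Int.cast_sum]
  apply sum_congr rfl
  intro κ _
  have hiff : (∀ i : Fin n, (κ i).val ≤ (fun _ : Fin n => 1) i + i.val) ↔ hes κ := Iff.rfl
  by_cases h : hes κ
  · rw [if_pos (hiff.2 h), if_pos h]
    have hμ : ∑ i : Fin n, ((fun _ : Fin n => 1) i + i.val - (κ i).val) = n := by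
      have := dseq_top κ h
      unfold dseq at this
      rw [pre_top] at this
      exact this
    rw [fpc_eq_flagCount _ hμ x]
    push_cast
    rfl
  · rw [if_neg (fun h' => h (hiff.1 h')), if_neg h]
    simp

end main

end Cfsg.Agent.Lib.helper15.StV
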