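import Mathlib
import Cfsg.Agent.Lib.helper15.StV1
set_option autoImplicit false

namespace Cfsg.Agent.Lib.helper15.StV

open Polynomial



section split

variable {F : Type*} [Field F] {V : Type*} [AddCommGroup V] [Module F V]

theorem invt_aeval (T : Module.End F V) (W : Submodule F V) (hW : W ∈ T.invtSubmodule) (p : F[X])
    (w : V) (hw : w ∈ W) : aeval T p w ∈ W := by
  induction p using Polynomial.induction_on' with
  | add p q hp hq =>
    rw [map_add, LinearMap.add_apply]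
    exact W.add_mem hp hq
  | monomial k c =>
    rw [aeval_monomial]
    simp only [Module.End.mul_apply, Module.algebraMap_end_apply]
    apply W.smul_mem
    induction k with
    | zero => simpa using hw
    | succ k ih =>
      rw [pow_succ', Module.End.mul_apply]
      exact (Module.End.mem_invtSubmodule T).1 hW ih

theorem comap_subtype_invt (T : Module.End F V) (V₁ : Submodule F V) (h₁ : ∀ v ∈ V₁, T v ∈ V₁)
    (W : Submodule F V) (hW : W ∈ T.invtSubmodule) :
    W.comap V₁.subtype ∈ (Module.End.invtSubmodule (T.restrict h₁)) := by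
  rw [Module.End.mem_invtSubmodule]
  intro v hv
  rw [Submodule.mem_comap] at hv ⊢
  rw [Submodule.mem_comap]
  exact (Module.End.mem_invtSubmodule T).1 hW hv

theorem map_subtype_invt (T : Module.End F V) (V₁ : Submodule F V) (h₁ : ∀ v ∈ V₁, T v ∈ V₁)
    (W₁ : Submodule F V₁) (hW : W₁ ∈ (Module.End.invtSubmodule (T.restrict h₁))) :
    W₁.map V₁.subtype ∈ T.invtSubmodule := by
  rw [Module.End.mem_invtSubmodule]
  rintro x ⟨w, hw, rfl⟩
  rw [Submodule.mem_comap]
  exact ⟨T.restrict h₁ w, (Module.End.mem_invtSubmodule _).1 hW hw, rfl⟩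

theorem comap_sup_map (V₁ V₂ : Submodule F V) (hd : Disjoint V₁ V₂) (W₁ : Submodule F V₁)
    (W₂ : Submodule F V₂) :
    (W₁.map V₁.subtype ⊔ W₂.map V₂.subtype).comap V₁.subtype = W₁ := by
  ext v
  rw [Submodule.mem_comap, Submodule.mem_sup]
  constructor
  · rintro ⟨y, ⟨w₁, hw₁, rfl⟩, z, ⟨w₂, hw₂, rfl⟩, hyz⟩
    have hz : (w₂ : V) ∈ V₁ := by
      have : (w₂ : V) = V₁.subtype v - V₁.subtype w₁ := by
        rw [← hyz]
        simp
      rw [this]
      exact V₁.sub_mem v.2 w₁.2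
    have hz0 : (w₂ : V) = 0 := by
      have := hd.le_bot (show (w₂ : V) ∈ V₁ ⊓ V₂ from ⟨hz, w₂.2⟩)
      simpa using this
    have : v = w₁ := by
      apply Subtype.ext
      have h := hyz
      simp only [Submodule.subtype_apply] at h
      rw [hz0, add_zero] at h
      exact h.symm
    rw [this]
    exact hw₁
  · intro hv
    exact ⟨V₁.subtype v, ⟨v, hv, rfl⟩, 0, Submodule.zero_mem _, by simp⟩

noncomputable def invtProdIso (T : Module.End F V) (V₁ V₂ : Submodule F V)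
    (h₁ : ∀ v ∈ V₁, T v ∈ V₁) (h₂ : ∀ v ∈ V₂, T v ∈ V₂) (hd : Disjoint V₁ V₂)
    (hsplit : ∀ W ∈ T.invtSubmodule, W ≤ (V₁ ⊓ W) ⊔ (V₂ ⊓ W)) :
    ↥(T.invtSubmodule) ≃o ↥((Module.End.invtSubmodule (T.restrict h₁))) × ↥((Module.End.invtSubmodule (T.restrict h₂))) where
  toFun W := (⟨W.1.comap V₁.subtype, comap_subtype_invt T V₁ h₁ W.1 W.2⟩,
    ⟨W.1.comap V₂.subtype, comap_subtype_invt T V₂ h₂ W.1 W.2⟩)
  invFun p := ⟨p.1.1.map V₁.subtype ⊔ p.2.1.map V₂.subtype,
    Module.End.invtSubmodule.sup_mem (map_subtype_invt T V₁ h₁ p.1.1 p.1.2)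
      (map_subtype_invt T V₂ h₂ p.2.1 p.2.2)⟩
  left_inv W := by
    apply Subtype.ext
    show (W.1.comap V₁.subtype).map V₁.subtype ⊔ (W.1.comap V₂.subtype).map V₂.subtype = W.1
    rw [Submodule.map_comap_subtype, Submodule.map_comap_subtype]
    apply le_antisymm
    · exact sup_le inf_le_right inf_le_right
    · exact hsplit W.1 W.2
  right_inv p := by
    apply Prod.ext
    · apply Subtype.ext
      exact comap_sup_map V₁ V₂ hd p.1.1 p.2.1
    · apply Subtype.ext
      show (p.1.1.map V₁.subtype ⊔ p.2.1.map V₂.subtype).comap V₂.subtype = p.2.1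
      rw [sup_comm]
      exact comap_sup_map V₂ V₁ hd.symm p.2.1 p.1.1
  map_rel_iff' := by
    intro W W'
    constructor
    · intro h
      have h1 : W.1.comap V₁.subtype ≤ W'.1.comap V₁.subtype := h.1
      have h2 : W.1.comap V₂.subtype ≤ W'.1.comap V₂.subtype := h.2
      show W.1 ≤ W'.1
      refine (hsplit W.1 W.2).trans (sup_le ?_ ?_)
      · rintro x ⟨hx1, hx2⟩
        exact h1 (show (⟨x, hx1⟩ : V₁) ∈ W.1.comap V₁.subtype from hx2)
      · rintro x ⟨hx1, hx2⟩
        exact h2 (show (⟨x, hx1⟩ : V₂) ∈ W.1.comap V₂.subtype from hx2)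
    · intro h
      exact ⟨Submodule.comap_mono h, Submodule.comap_mono h⟩

theorem mob_split (T : Module.End F V) (V₁ V₂ : Submodule F V)
    (h₁ : ∀ v ∈ V₁, T v ∈ V₁) (h₂ : ∀ v ∈ V₂, T v ∈ V₂) (hd : Disjoint V₁ V₂)
    (hsplit : ∀ W ∈ T.invtSubmodule, W ≤ (V₁ ⊓ W) ⊔ (V₂ ⊓ W))
    [Fintype ↥(T.invtSubmodule)] [Fintype ↥((Module.End.invtSubmodule (T.restrict h₁)))]
    [Fintype ↥((Module.End.invtSubmodule (T.restrict h₂)))]
    (m : ↥(T.invtSubmodule) → ℤ) (m₁ : ↥((Module.End.invtSubmodule (T.restrict h₁))) → ℤ)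
    (m₂ : ↥((Module.End.invtSubmodule (T.restrict h₂))) → ℤ) (hm : IsMob m) (hm₁ : IsMob m₁) (hm₂ : IsMob m₂) :
    m ⊤ = m₁ ⊤ * m₂ ⊤ := by
  have := IsMob.top_eq_of_iso hm (hm₁.prod hm₂) (invtProdIso T V₁ V₂ h₁ h₂ hd hsplit)
  rw [this]
  rfl

end split

section ksplit

variable {F : Type*} [Field F] {V : Type*} [AddCommGroup V] [Module F V]

theorem ker_split (T : Module.End F V) (f Q : F[X]) (hcop : IsCoprime f Q)
    (hann : aeval T (f * Q) = 0) :
    ∀ W ∈ T.invtSubmodule,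
      W ≤ (LinearMap.ker (aeval T f) ⊓ W) ⊔ (LinearMap.ker (aeval T Q) ⊓ W) := by
  intro W hW w hw
  obtain ⟨a, b, hab⟩ := hcop
  rw [Submodule.mem_sup]
  refine ⟨aeval T (b * Q) w, ⟨?_, invt_aeval T W hW _ w hw⟩, aeval T (a * f) w,
    ⟨?_, invt_aeval T W hW _ w hw⟩, ?_⟩
  · rw [SetLike.mem_coe, LinearMap.mem_ker, ← Module.End.mul_apply, ← map_mul]
    have : f * (b * Q) = b * (f * Q) := by ring
    rw [this, map_mul, hann, mul_zero]
    rfl
  · rw [SetLike.mem_coe, LinearMap.mem_ker, ← Module.End.mul_apply, ← map_mul]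
    have : Q * (a * f) = a * (f * Q) := by ring
    rw [this, map_mul, hann, mul_zero]
    rfl
  · rw [← LinearMap.add_apply, ← map_add, add_comm, hab, map_one]
    rfl

end ksplit

end Cfsg.Agent.Lib.helper15.StV
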