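import Mathlib
import Cfsg.Prelude.Def_LinearParabolics
import Cfsg.Agent.Lib.helper15.Stb3
set_option autoImplicit false

namespace Cfsg.Agent.Lib.helper15.Stb

open Matrix Finset
open scoped MatrixGroups

variable {n : ℕ} (a b : Fin n → ℕ)

theorem inner_Sn (ha : ∑ i, a i = n) (hb : ∑ i, b i = n) :
    (Nat.card (Equiv.Perm (Fin n)) : ℂ)⁻¹ * ∑ σ : Equiv.Perm (Fin n),
      Cfsg.fixedPointCharacter (Cfsg.youngSubgroup a) σ *
        Cfsg.fixedPointCharacter (Cfsg.youngSubgroup b) σ = ((Tfin a b).card : ℂ) := by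
  classical
  have := fpc_inner_eq_card (Cfsg.youngSubgroup a) (Cfsg.youngSubgroup b)
    (T := ↥(Tfin a b)) (fun σ => ⟨tabF a b σ, tabF_mem a b ha hb σ⟩)
    (by
      intro h hh k hk z
      apply Subtype.ext
      funext j i
      exact tab_young a b z h k hh hk i.val j.val)
    (by
      intro z z' hzz
      have h1 : tabF a b z = tabF a b z' := congrArg Subtype.val hzz
      obtain ⟨α, hα, β, hβ, e⟩ := exists_young_of_tab_eq a b z z' (tab_of_tabF a b ha hb z z' h1)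
      exact ⟨α, hα, β, hβ, e⟩)
    (by
      rintro ⟨p, hp⟩
      obtain ⟨σ, hσ⟩ := tabF_surj a b ha hb p hp
      exact ⟨σ, Subtype.ext hσ⟩)
  rw [this, Fintype.card_coe]

section glsec

variable {F : Type*} [Field F]

noncomputable def brσ (g : GL (Fin n) F) : Equiv.Perm (Fin n) := Classical.choose (exists_bruhat g)

theorem brσ_spec (g : GL (Fin n) F) :
    ∃ b ∈ Cfsg.upperTriangularGL n F, ∃ b' ∈ Cfsg.upperTriangularGL n F,
      g = b * pmGL (brσ g) * b' := Classical.choose_spec (exists_bruhat g)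

theorem tab_of_pm_dcoset (σ τ : Equiv.Perm (Fin n)) (p p' : GL (Fin n) F)
    (hp : p ∈ Cfsg.parabolicGL n F a) (hp' : p' ∈ Cfsg.parabolicGL n F b)
    (h : (pmGL τ : GL (Fin n) F) = p * pmGL σ * p') (i j : ℕ) :
    tab a b τ i j = tab a b σ i j :=
  tab_eq_of_cum_eq a b τ σ (fun i j => cum_eq_of_dcoset a b σ τ p p' hp hp' h i j) i j

theorem tab_brσ_dcoset (g g' : GL (Fin n) F) (p p' : GL (Fin n) F)
    (hp : p ∈ Cfsg.parabolicGL n F a) (hp' : p' ∈ Cfsg.parabolicGL n F b)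
    (h : g' = p * g * p') (i j : ℕ) :
    tab a b (brσ g') i j = tab a b (brσ g) i j := by
  obtain ⟨b1, hb1, b1', hb1', e1⟩ := brσ_spec g
  obtain ⟨b2, hb2, b2', hb2', e2⟩ := brσ_spec g'
  apply tab_of_pm_dcoset a b (brσ g) (brσ g') (b2⁻¹ * p * b1) (b1' * p' * b2'⁻¹)
  · exact Subgroup.mul_mem _ (Subgroup.mul_mem _ (Subgroup.inv_mem _ (ut_le_parabolic a hb2)) hp)
      (ut_le_parabolic a hb1)
  · exact Subgroup.mul_mem _ (Subgroup.mul_mem _ (ut_le_parabolic b hb1') hp')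
      (Subgroup.inv_mem _ (ut_le_parabolic b hb2'))
  · have e3 : (pmGL (brσ g') : GL (Fin n) F) = b2⁻¹ * g' * b2'⁻¹ := by
      conv_rhs => rw [e2]
      group
    rw [e3, h]
    conv_lhs => rw [e1]
    group

theorem inner_GL [Fintype (GL (Fin n) F)] (ha : ∑ i, a i = n) (hb : ∑ i, b i = n) :
    (Nat.card (GL (Fin n) F) : ℂ)⁻¹ * ∑ g : GL (Fin n) F,
      Cfsg.fixedPointCharacter (Cfsg.parabolicGL n F a) g *
        Cfsg.fixedPointCharacter (Cfsg.parabolicGL n F b) g = ((Tfin a b).card : ℂ) := by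
  classical
  have := fpc_inner_eq_card (Cfsg.parabolicGL n F a) (Cfsg.parabolicGL n F b)
    (T := ↥(Tfin a b)) (fun g => ⟨tabF a b (brσ g), tabF_mem a b ha hb (brσ g)⟩)
    (by
      intro h hh k hk z
      apply Subtype.ext
      funext j i
      exact tab_brσ_dcoset a b z (h * z * k) h k hh hk rfl i.val j.val)
    (by
      intro z z' hzz
      have h1 : tabF a b (brσ z) = tabF a b (brσ z') := congrArg Subtype.val hzz
      obtain ⟨α, hα, β, hβ, e⟩ := exists_young_of_tab_eq a b (brσ z) (brσ z')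
        (tab_of_tabF a b ha hb _ _ h1)
      obtain ⟨b1, hb1, b1', hb1', e1⟩ := brσ_spec z
      obtain ⟨b2, hb2, b2', hb2', e2⟩ := brσ_spec z'
      refine ⟨b2 * pmGL α * b1⁻¹, ?_, b1'⁻¹ * pmGL β * b2', ?_, ?_⟩
      · exact Subgroup.mul_mem _ (Subgroup.mul_mem _ (ut_le_parabolic a hb2)
          (pmGL_mem_parabolic a α hα)) (Subgroup.inv_mem _ (ut_le_parabolic a hb1))
      · exact Subgroup.mul_mem _ (Subgroup.mul_mem _ (Subgroup.inv_mem _ (ut_le_parabolic b hb1'))
          (pmGL_mem_parabolic b β hβ)) (ut_le_parabolic b hb2')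
      · conv_lhs => rw [e2, e, pmGL_mul, pmGL_mul]
        conv_rhs => rw [e1]
        group)
    (by
      rintro ⟨p, hp⟩
      obtain ⟨σ, hσ⟩ := tabF_surj a b ha hb p hp
      refine ⟨pmGL σ, Subtype.ext ?_⟩
      show tabF a b (brσ (pmGL σ : GL (Fin n) F)) = p
      rw [← hσ]
      obtain ⟨b1, hb1, b1', hb1', e1⟩ := brσ_spec (pmGL σ : GL (Fin n) F)
      funext j i
      exact (tab_of_pm_dcoset a b (brσ (pmGL σ : GL (Fin n) F)) σ b1 b1' (ut_le_parabolic a hb1)
        (ut_le_parabolic b hb1') e1 i.val j.val).symm)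
  rw [this, Fintype.card_coe]

end glsec

end Cfsg.Agent.Lib.helper15.Stb
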