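import Mathlib
import Cfsg.Agent.Lib.helper15.Stb3
set_option autoImplicit false

namespace Cfsg.Agent.Lib.helper15.Stb

open Finset MvPolynomial

variable {n : ℕ}

noncomputable def tofs (c : Fin n → ℕ) : Fin n →₀ ℕ := Finsupp.equivFunOnFinite.symm c

theorem tofs_apply (c : Fin n → ℕ) (i : Fin n) : tofs c i = c i := rfl

theorem tofs_inj {c d : Fin n → ℕ} (h : tofs c = tofs d) : c = d :=
  Finsupp.equivFunOnFinite.symm.injective h

noncomputable def hp (k : ℕ) : MvPolynomial (Fin n) ℤ :=
  ∑ c ∈ Finset.piAntidiag (univ : Finset (Fin n)) k, monomial (tofs c) 1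

theorem monomial_tofs (c : Fin n → ℕ) :
    (monomial (tofs c) (1 : ℤ) : MvPolynomial (Fin n) ℤ) = ∏ i, X i ^ c i := by
  rw [monomial_eq, C_1, one_mul, Finsupp.prod_fintype]
  · rfl
  · intro i
    simp

theorem sum_tofs (p : Fin n → Fin n → ℕ) :
    ∑ j, tofs (p j) = tofs (fun i => ∑ j, p j i) := by
  ext i
  simp [tofs_apply, Finsupp.finsetSum_apply]

theorem coeff_prod_hp (a b : Fin n → ℕ) :
    coeff (tofs a) (∏ j, hp (n := n) (b j)) = ((Tfin a b).card : ℤ) := by
  classical
  unfold hp
  rw [Finset.prod_univ_sum, coeff_sum]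
  have h1 : ∀ p ∈ Fintype.piFinset fun j : Fin n => Finset.piAntidiag (univ : Finset (Fin n)) (b j),
      coeff (tofs a) (∏ j, (monomial (tofs (p j)) (1 : ℤ) : MvPolynomial (Fin n) ℤ)) =
        if (∀ i, ∑ j, p j i = a i) then 1 else 0 := by
    intro p _
    rw [← monomial_sum_one, coeff_monomial, sum_tofs]
    by_cases h : ∀ i, ∑ j, p j i = a i
    · rw [if_pos h, if_pos]
      congr 1
      funext i
      exact h i
    · rw [if_neg h, if_neg]
      intro h2
      apply h
      intro i
      exact congrFun (tofs_inj h2) i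
  rw [Finset.sum_congr rfl h1, Finset.sum_boole]
  rfl

theorem hp_zero : hp (n := n) 0 = 1 := by
  unfold hp
  rw [Finset.piAntidiag_zero, Finset.sum_singleton]
  have : tofs (0 : Fin n → ℕ) = 0 := by
    ext i
    rfl
  rw [this]
  rfl

noncomputable def geo (i : Fin n) : PowerSeries (MvPolynomial (Fin n) ℤ) :=
  PowerSeries.mk fun m => (X i : MvPolynomial (Fin n) ℤ) ^ m

noncomputable def linP (i : Fin n) : Polynomial (MvPolynomial (Fin n) ℤ) :=
  1 - Polynomial.C (X i : MvPolynomial (Fin n) ℤ) * Polynomial.X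

theorem linP_coe (i : Fin n) :
    ((linP i : Polynomial (MvPolynomial (Fin n) ℤ)) : PowerSeries (MvPolynomial (Fin n) ℤ)) =
      1 - PowerSeries.C (X i : MvPolynomial (Fin n) ℤ) * PowerSeries.X := by
  unfold linP
  simp

theorem lin_mul_geo (i : Fin n) :
    ((linP i : Polynomial (MvPolynomial (Fin n) ℤ)) : PowerSeries (MvPolynomial (Fin n) ℤ)) * geo i = 1 := by
  rw [linP_coe, sub_mul, one_mul, mul_assoc]
  ext m
  cases m with
  | zero =>
    simp [geo, PowerSeries.coeff_mk]
  | succ m =>
    rw [map_sub, PowerSeries.coeff_C_mul, PowerSeries.coeff_succ_X_mul]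
    simp only [geo, PowerSeries.coeff_mk, PowerSeries.coeff_one]
    rw [if_neg (by omega)]
    have e : (X i : MvPolynomial (Fin n) ℤ) ^ (m + 1) - X i * X i ^ m = 0 := by ring
    rw [e]

noncomputable def Hs : PowerSeries (MvPolynomial (Fin n) ℤ) := ∏ i : Fin n, geo i

theorem coeff_Hs (m : ℕ) : PowerSeries.coeff m (Hs (n := n)) = hp m := by
  classical
  unfold Hs hp
  rw [PowerSeries.coeff_prod]
  apply Finset.sum_nbij' (fun l : Fin n →₀ ℕ => (l : Fin n → ℕ)) (fun c => tofs c)
  · intro l hl
    rw [Finset.mem_finsuppAntidiag] at hl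
    rw [Finset.mem_piAntidiag]
    exact ⟨hl.1, fun i _ => mem_univ i⟩
  · intro c hc
    rw [Finset.mem_piAntidiag] at hc
    rw [Finset.mem_finsuppAntidiag]
    exact ⟨hc.1, Finset.subset_univ _⟩
  · intro l _
    ext i
    rfl
  · intro c _
    rfl
  · intro l _
    have : tofs (⇑l) = l := by
      ext i
      rfl
    rw [this, monomial_eq, C_1, one_mul, Finsupp.prod_fintype]
    · apply Finset.prod_congr rfl
      intro i _
      simp [geo, PowerSeries.coeff_mk]
    · intro i
      simp

noncomputable def Pl (l : Fin n) : Polynomial (MvPolynomial (Fin n) ℤ) :=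
  ∏ i ∈ (univ : Finset (Fin n)).erase l, linP i

theorem Pl_mul_Hs (l : Fin n) :
    ((Pl l : Polynomial (MvPolynomial (Fin n) ℤ)) : PowerSeries (MvPolynomial (Fin n) ℤ)) * Hs = geo l := by
  classical
  unfold Pl Hs
  have h1 : ((∏ i ∈ (univ : Finset (Fin n)).erase l, linP i : Polynomial (MvPolynomial (Fin n) ℤ)) :
      PowerSeries (MvPolynomial (Fin n) ℤ)) =
      ∏ i ∈ (univ : Finset (Fin n)).erase l, ((linP i : Polynomial (MvPolynomial (Fin n) ℤ)) :
        PowerSeries (MvPolynomial (Fin n) ℤ)) :=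
    map_prod (Polynomial.coeToPowerSeries.ringHom (R := MvPolynomial (Fin n) ℤ)) linP
      ((univ : Finset (Fin n)).erase l)
  rw [h1, ← Finset.mul_prod_erase univ geo (mem_univ l), mul_comm (geo l), ← mul_assoc,
    ← Finset.prod_mul_distrib]
  rw [Finset.prod_congr rfl (fun i _ => lin_mul_geo i), Finset.prod_const_one, one_mul]

theorem Pl_natDegree (l : Fin n) : (Pl l).natDegree < n := by
  classical
  unfold Pl
  have h1 := Polynomial.natDegree_prod_le ((univ : Finset (Fin n)).erase l) linP
  have h2 : ∑ i ∈ (univ : Finset (Fin n)).erase l, (linP i).natDegree ≤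
      ∑ _i ∈ (univ : Finset (Fin n)).erase l, 1 := by
    apply Finset.sum_le_sum
    intro i _
    unfold linP
    refine (Polynomial.natDegree_sub_le _ _).trans ?_
    rw [Polynomial.natDegree_one]
    simp only [zero_le, sup_of_le_right]
    exact (Polynomial.natDegree_C_mul_le _ _).trans Polynomial.natDegree_X_le
  rw [Finset.sum_const, Finset.card_erase_of_mem (mem_univ l), Finset.card_univ, Fintype.card_fin,
    smul_eq_mul, mul_one] at h2
  have : 0 < n := Fin.pos l
  omega

theorem key_identity (l : Fin n) (m : ℕ) :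
    ∑ k : Fin n, (if k.val ≤ m then hp (n := n) (m - k.val) else 0) * (Pl l).coeff k.val =
      (X l : MvPolynomial (Fin n) ℤ) ^ m := by
  classical
  have h1 := congrArg (PowerSeries.coeff m) (Pl_mul_Hs l)
  rw [PowerSeries.coeff_mul, Finset.Nat.sum_antidiagonal_eq_sum_range_succ_mk] at h1
  simp only [geo, PowerSeries.coeff_mk, coeff_Hs, Polynomial.coeff_coe] at h1
  rw [← h1]
  rw [Fin.sum_univ_eq_sum_range (fun k => (if k ≤ m then hp (n := n) (m - k) else 0) * (Pl l).coeff k) n]
  have e1 : ∑ k ∈ range n, (if k ≤ m then hp (n := n) (m - k) else 0) * (Pl l).coeff k =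
      ∑ k ∈ (range n).filter (fun k => k ≤ m), (Pl l).coeff k * hp (n := n) (m - k) := by
    rw [Finset.sum_filter]
    apply Finset.sum_congr rfl
    intro k _
    split_ifs
    · ring
    · ring
  have e2 : ∑ k ∈ range (m + 1), (Pl l).coeff k * hp (n := n) (m - k) =
      ∑ k ∈ (range (m + 1)).filter (fun k => k < n), (Pl l).coeff k * hp (n := n) (m - k) := by
    symm
    apply Finset.sum_filter_of_ne
    intro k _ hne
    by_contra hk
    apply hne
    rw [Polynomial.coeff_eq_zero_of_natDegree_lt (lt_of_lt_of_le (Pl_natDegree l) (not_lt.mp hk)),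
      zero_mul]
  rw [e1, e2]
  apply Finset.sum_congr
  · ext k
    simp only [mem_filter, mem_range]
    omega
  · intro k _
    rfl

end Cfsg.Agent.Lib.helper15.Stb
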