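import Mathlib
import Cfsg.Agent.Lib.helper15.Stb5
set_option autoImplicit false

namespace Cfsg.Agent.Lib.helper15.Stb

open Finset MvPolynomial

variable {n : ℕ}

noncomputable def Hmat (lam : Fin n → ℕ) : Matrix (Fin n) (Fin n) (MvPolynomial (Fin n) ℤ) :=
  Matrix.of fun i k => if k.val ≤ lam i then hp (lam i - k.val) else 0

noncomputable def Emat : Matrix (Fin n) (Fin n) (MvPolynomial (Fin n) ℤ) :=
  Matrix.of fun k l => (Pl l).coeff k.val

noncomputable def Alt (lam : Fin n → ℕ) : Matrix (Fin n) (Fin n) (MvPolynomial (Fin n) ℤ) :=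
  Matrix.of fun i l => X l ^ lam i

theorem Hmat_mul_Emat (lam : Fin n → ℕ) : Hmat lam * Emat = Alt lam := by
  apply Matrix.ext
  intro i l
  simp only [Matrix.mul_apply, Hmat, Emat, Alt, Matrix.of_apply]
  exact key_identity l (lam i)

theorem det_Hmat_delta : (Hmat (fun i : Fin n => i.val)).det = 1 := by
  rw [Matrix.det_of_lowerTriangular]
  · apply Finset.prod_eq_one
    intro i _
    simp only [Hmat, Matrix.of_apply, le_refl, if_true, Nat.sub_self]
    exact hp_zero
  · intro i j hij
    have h : i < j := hij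
    simp only [Hmat, Matrix.of_apply]
    rw [if_neg]
    exact not_le.mpr h

theorem det_Emat : (Emat (n := n)).det = (Alt (fun i : Fin n => i.val)).det := by
  have := congrArg Matrix.det (Hmat_mul_Emat (fun i : Fin n => i.val))
  rw [Matrix.det_mul, det_Hmat_delta, one_mul] at this
  exact this

theorem jt (lam : Fin n → ℕ) :
    (Alt (fun i : Fin n => i.val)).det * (Hmat lam).det = (Alt lam).det := by
  rw [← det_Emat, mul_comm, ← Matrix.det_mul, Hmat_mul_Emat]

theorem det_Alt (lam : Fin n → ℕ) :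
    (Alt lam).det = ∑ σ : Equiv.Perm (Fin n),
      C ((Equiv.Perm.sign σ : ℤ)) * monomial (tofs (fun i => lam (σ i))) 1 := by
  rw [Matrix.det_apply']
  apply Finset.sum_congr rfl
  intro σ _
  rw [monomial_tofs, eq_intCast]
  rfl

theorem det_Hmat (lam : Fin n → ℕ) :
    (Hmat lam).det = ∑ κ : Equiv.Perm (Fin n),
      C ((Equiv.Perm.sign κ : ℤ)) *
        (if ∀ i, (κ i).val ≤ lam i then ∏ i, hp (n := n) (lam i - (κ i).val) else 0) := by
  rw [← Matrix.det_transpose, Matrix.det_apply']
  apply Finset.sum_congr rfl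
  intro κ _
  rw [eq_intCast]
  congr 1
  simp only [Matrix.transpose_apply, Hmat, Matrix.of_apply]
  rw [Finset.prod_ite_zero]
  simp

def csgn (lam : Fin n → ℕ) (κ : Equiv.Perm (Fin n)) : ℤ :=
  if ∀ i, (κ i).val ≤ lam i then (Equiv.Perm.sign κ : ℤ) else 0

theorem tofs_le (c d : Fin n → ℕ) : tofs c ≤ tofs d ↔ ∀ i, c i ≤ d i := by
  rw [Finsupp.le_def]
  rfl

theorem tofs_sub (c d : Fin n → ℕ) : tofs d - tofs c = tofs (fun i => d i - c i) := by
  ext i
  rw [Finsupp.tsub_apply]
  rfl

theorem coeff_det_Hmat (a lam' : Fin n → ℕ) :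
    coeff (tofs a) (Hmat lam').det = ∑ κ' : Equiv.Perm (Fin n),
      csgn lam' κ' * ((Tfin a (fun i => lam' i - (κ' i).val)).card : ℤ) := by
  rw [det_Hmat, coeff_sum]
  apply Finset.sum_congr rfl
  intro κ' _
  rw [coeff_C_mul]
  unfold csgn
  split_ifs with h
  · rw [coeff_prod_hp]
  · simp

theorem coeff_lhs (lam lam' : Fin n → ℕ) :
    coeff (tofs lam) ((Alt (fun i : Fin n => i.val)).det * (Hmat lam').det) =
      ∑ κ : Equiv.Perm (Fin n), ∑ κ' : Equiv.Perm (Fin n),
        csgn lam κ * csgn lam' κ' *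
          ((Tfin (fun i => lam i - (κ i).val) (fun i => lam' i - (κ' i).val)).card : ℤ) := by
  rw [det_Alt, Finset.sum_mul, coeff_sum]
  apply Finset.sum_congr rfl
  intro κ _
  rw [mul_assoc, coeff_C_mul, coeff_monomial_mul']
  by_cases h : ∀ i, (κ i).val ≤ lam i
  · rw [if_pos ((tofs_le _ _).mpr h), tofs_sub, coeff_det_Hmat, one_mul, Finset.mul_sum]
    apply Finset.sum_congr rfl
    intro κ' _
    unfold csgn
    rw [if_pos h]
    ring
  · rw [if_neg (fun hc => h ((tofs_le _ _).mp hc)), mul_zero]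
    symm
    apply Finset.sum_eq_zero
    intro κ' _
    unfold csgn
    rw [if_neg h]
    ring

theorem coeff_rhs (lam lam' : Fin n → ℕ) (h : StrictMono lam) (h' : StrictMono lam') :
    coeff (tofs lam) (Alt lam').det = if lam = lam' then 1 else 0 := by
  classical
  rw [det_Alt, coeff_sum]
  have key : ∀ σ : Equiv.Perm (Fin n), (fun i => lam' (σ i)) = lam → σ = 1 := by
    intro σ hσ
    have hm : StrictMono (σ : Fin n → Fin n) := by
      intro x y hxy
      have h1 : lam x < lam y := h hxy
      rw [← hσ] at h1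
      exact h'.lt_iff_lt.mp h1
    have := (StrictMono.range_inj hm strictMono_id).mp (by
      rw [Set.range_id]
      exact σ.surjective.range_eq)
    ext x
    rw [this]
    rfl
  by_cases hl : lam = lam'
  · rw [if_pos hl, Finset.sum_eq_single (1 : Equiv.Perm (Fin n))]
    · simp [coeff_monomial, hl]
    · intro σ _ hσ
      rw [coeff_C_mul, coeff_monomial, if_neg, mul_zero]
      intro he
      exact hσ (key σ (tofs_inj he))
    · simp
  · rw [if_neg hl]
    apply Finset.sum_eq_zero
    intro σ _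
    rw [coeff_C_mul, coeff_monomial, if_neg, mul_zero]
    intro he
    have h1 := tofs_inj he
    have h2 := key σ h1
    subst h2
    apply hl
    rw [← h1]
    rfl

theorem jt_sum (lam lam' : Fin n → ℕ) (h : StrictMono lam) (h' : StrictMono lam') :
    ∑ κ : Equiv.Perm (Fin n), ∑ κ' : Equiv.Perm (Fin n),
      csgn lam κ * csgn lam' κ' *
        ((Tfin (fun i => lam i - (κ i).val) (fun i => lam' i - (κ' i).val)).card : ℤ) =
      if lam = lam' then 1 else 0 := by
  rw [← coeff_lhs, jt, coeff_rhs lam lam' h h']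

end Cfsg.Agent.Lib.helper15.Stb
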