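import Mathlib
import Cfsg.Prelude.Def_Characters
import Cfsg.Prelude.Def_LinearParabolics
import Cfsg.Agent.S2424
import Cfsg.Agent.Lib.helper15.Stb4
import Cfsg.Agent.Lib.helper15.Stb6
import Cfsg.Agent.Lib.Helper11.VirtChar
import Cfsg.Agent.Lib.helper6.PermChar3
import Cfsg.Agent.Lib.helper2.CharNat
import Cfsg.Agent.Lib.Helper25.CharOrth
set_option autoImplicit false

namespace Cfsg.Agent.Lib.helper15.Stb

open Finset
open scoped MatrixGroups ComplexConjugate

theorem fpc_isCharacter {G : Type*} [Group G] [Fintype G] (H : Subgroup G) :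
    Cfsg.IsCharacter G (Cfsg.fixedPointCharacter H) := by
  classical
  have : Fintype (G ⧸ H) := Fintype.ofFinite _
  exact Cfsg.Agent.Lib.helper6.PermChar.piChar_isCharacter (G := G) (Ω := G ⧸ H)

section

variable {n : ℕ} {F : Type*} [Field F]

theorem unipotent_eq (ν : Fin n → ℕ) (g : GL (Fin n) F) :
    Cfsg.unipotentCharacterGL n F ν g = ∑ κ : Equiv.Perm (Fin n),
      ((csgn (fun i => ν i + i.val) κ : ℤ) : ℂ) *
        Cfsg.fixedPointCharacter (Cfsg.parabolicGL n F fun i => ν i + i.val - (κ i).val) g := by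
  unfold Cfsg.unipotentCharacterGL csgn
  apply Finset.sum_congr rfl
  intro κ _
  split_ifs <;> simp

theorem csgn_cases (lam : Fin n → ℕ) (κ : Equiv.Perm (Fin n)) :
    csgn lam κ = 1 ∨ csgn lam κ = -1 ∨ csgn lam κ = 0 := by
  unfold csgn
  split_ifs
  · rcases Int.units_eq_one_or (Equiv.Perm.sign κ) with h | h
    · left
      rw [h]
      rfl
    · right
      left
      rw [h]
      rfl
  · right
    right
    rfl

theorem unipotent_genChar [Fintype (GL (Fin n) F)] (ν : Fin n → ℕ) :
    Cfsg.IsGeneralizedCharacter (GL (Fin n) F) (Cfsg.unipotentCharacterGL n F ν) := by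
  classical
  refine ⟨∑ κ ∈ univ.filter (fun κ : Equiv.Perm (Fin n) => csgn (fun i => ν i + i.val) κ = 1),
      Cfsg.fixedPointCharacter (Cfsg.parabolicGL n F fun i => ν i + i.val - (κ i).val),
    ∑ κ ∈ univ.filter (fun κ : Equiv.Perm (Fin n) => csgn (fun i => ν i + i.val) κ = -1),
      Cfsg.fixedPointCharacter (Cfsg.parabolicGL n F fun i => ν i + i.val - (κ i).val),
    Cfsg.Agent.Lib.helper2.isCharacter_sum _ _ (fun κ _ => fpc_isCharacter _),
    Cfsg.Agent.Lib.helper2.isCharacter_sum _ _ (fun κ _ => fpc_isCharacter _), ?_⟩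
  funext g
  rw [unipotent_eq]
  simp only [Pi.sub_apply, Finset.sum_apply]
  rw [Finset.sum_filter, Finset.sum_filter, ← Finset.sum_sub_distrib]
  apply Finset.sum_congr rfl
  intro κ _
  rcases csgn_cases (fun i => ν i + i.val) κ with h | h | h
  · rw [h, if_pos rfl, if_neg (by norm_num)]
    simp
  · rw [h, if_neg (by norm_num), if_pos rfl]
    simp
  · rw [h, if_neg (by norm_num), if_neg (by norm_num)]
    simp

theorem sum_lam_sub (ν : Fin n → ℕ) (hsum : ∑ i, ν i = n) (κ : Equiv.Perm (Fin n))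
    (hc : ∀ i : Fin n, (κ i).val ≤ ν i + i.val) :
    ∑ i : Fin n, (ν i + i.val - (κ i).val) = n := by
  have h1 : ∑ i : Fin n, (ν i + i.val - (κ i).val) + ∑ i : Fin n, (κ i).val =
      ∑ i : Fin n, (ν i + i.val) := by
    rw [← sum_add_distrib]
    apply sum_congr rfl
    intro i _
    have := hc i
    omega
  rw [Cfsg.Agent.S2424.sum_kappa, sum_add_distrib, hsum] at h1
  omega

theorem strictMono_lam (ν : Fin n → ℕ) (hν : Monotone ν) :
    StrictMono (fun i : Fin n => ν i + i.val) := by
  intro i j hij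
  have h1 := hν hij.le
  have h2 : i.val < j.val := hij
  show ν i + i.val < ν j + j.val
  omega

theorem inner_unipotent [Fintype (GL (Fin n) F)] (ν ν' : Fin n → ℕ) (hν : Monotone ν)
    (hs : ∑ i, ν i = n) (hν' : Monotone ν') (hs' : ∑ i, ν' i = n) :
    Cfsg.classInner (Cfsg.unipotentCharacterGL n F ν) (Cfsg.unipotentCharacterGL n F ν') =
      if ν = ν' then 1 else 0 := by
  classical
  set lam : Fin n → ℕ := fun i => ν i + i.val with hlam
  set lam' : Fin n → ℕ := fun i => ν' i + i.val with hlam'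
  have hconj : ∀ g, conj (Cfsg.unipotentCharacterGL n F ν' g) = Cfsg.unipotentCharacterGL n F ν' g := by
    intro g
    rw [unipotent_eq, map_sum]
    apply Finset.sum_congr rfl
    intro κ _
    unfold Cfsg.fixedPointCharacter
    rw [map_mul, map_intCast, map_natCast]
  unfold Cfsg.classInner
  simp_rw [hconj]
  have hterm : ∀ κ κ' : Equiv.Perm (Fin n),
      ((csgn lam κ : ℤ) : ℂ) * ((csgn lam' κ' : ℤ) : ℂ) *
        ((Nat.card (GL (Fin n) F) : ℂ)⁻¹ * ∑ g : GL (Fin n) F,
          Cfsg.fixedPointCharacter (Cfsg.parabolicGL n F fun i => lam i - (κ i).val) g *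
          Cfsg.fixedPointCharacter (Cfsg.parabolicGL n F fun i => lam' i - (κ' i).val) g) =
      ((csgn lam κ * csgn lam' κ' *
        ((Tfin (fun i => lam i - (κ i).val) (fun i => lam' i - (κ' i).val)).card : ℤ) : ℤ) : ℂ) := by
    intro κ κ'
    by_cases h1 : ∀ i, (κ i).val ≤ lam i
    · by_cases h2 : ∀ i, (κ' i).val ≤ lam' i
      · rw [inner_GL _ _ (sum_lam_sub ν hs κ h1) (sum_lam_sub ν' hs' κ' h2)]
        push_cast
        ring
      · have : csgn lam' κ' = 0 := by
          unfold csgn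
          rw [if_neg h2]
        rw [this]
        simp
    · have : csgn lam κ = 0 := by
        unfold csgn
        rw [if_neg h1]
      rw [this]
      simp
  have hsum : (Nat.card (GL (Fin n) F) : ℂ)⁻¹ * ∑ g : GL (Fin n) F,
      Cfsg.unipotentCharacterGL n F ν g * Cfsg.unipotentCharacterGL n F ν' g =
      ∑ κ : Equiv.Perm (Fin n), ∑ κ' : Equiv.Perm (Fin n),
        ((csgn lam κ : ℤ) : ℂ) * ((csgn lam' κ' : ℤ) : ℂ) *
        ((Nat.card (GL (Fin n) F) : ℂ)⁻¹ * ∑ g : GL (Fin n) F,
          Cfsg.fixedPointCharacter (Cfsg.parabolicGL n F fun i => lam i - (κ i).val) g *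
          Cfsg.fixedPointCharacter (Cfsg.parabolicGL n F fun i => lam' i - (κ' i).val) g) := by
    simp_rw [unipotent_eq, Finset.sum_mul_sum]
    rw [Finset.sum_comm, Finset.mul_sum]
    apply Finset.sum_congr rfl
    intro κ _
    rw [Finset.sum_comm, Finset.mul_sum]
    apply Finset.sum_congr rfl
    intro κ' _
    rw [Finset.mul_sum, Finset.mul_sum, Finset.mul_sum]
    apply Finset.sum_congr rfl
    intro g _
    ring
  rw [hsum]
  simp_rw [hterm]
  have hcast : (∑ κ : Equiv.Perm (Fin n), ∑ κ' : Equiv.Perm (Fin n),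
      ((csgn lam κ * csgn lam' κ' *
        ((Tfin (fun i => lam i - (κ i).val) (fun i => lam' i - (κ' i).val)).card : ℤ) : ℤ) : ℂ)) =
      ((∑ κ : Equiv.Perm (Fin n), ∑ κ' : Equiv.Perm (Fin n),
      csgn lam κ * csgn lam' κ' *
        ((Tfin (fun i => lam i - (κ i).val) (fun i => lam' i - (κ' i).val)).card : ℤ) : ℤ) : ℂ) := by
    push_cast
    rfl
  rw [hcast, jt_sum lam lam' (strictMono_lam ν hν) (strictMono_lam ν' hν')]
  have hiff : lam = lam' ↔ ν = ν' := by
    constructor
    · intro h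
      funext i
      have := congrFun h i
      simp only [hlam, hlam'] at this
      omega
    · intro h
      rw [hlam, hlam', h]
  by_cases h : ν = ν'
  · rw [if_pos h, if_pos (hiff.mpr h)]
    simp
  · rw [if_neg h, if_neg (fun hc => h (hiff.mp hc))]
    simp

end

end Cfsg.Agent.Lib.helper15.Stb
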