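import Cfsg.Agent.S2424
import Cfsg.Agent.S2421
set_option autoImplicit false
open scoped MatrixGroups
open Cfsg

namespace Cfsg.Agent.Lib.helper15.StbSt

open Finset Cfsg.Agent.S2424

theorem prod_filter_lt {n : ℕ} (j : Fin n) (g : ℕ → ℂ) :
    ∏ i ∈ univ.filter (fun i : Fin n => i < j), g i.val = ∏ i ∈ range j.val, g i := by
  apply Finset.prod_bij (fun i _ => i.val)
  · intro i hi
    rw [mem_filter] at hi
    exact mem_range.mpr hi.2
  · intro a _ b _ h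
    exact Fin.ext h
  · intro b hb
    rw [mem_range] at hb
    exact ⟨⟨b, lt_trans hb j.2⟩, by rw [mem_filter]; exact ⟨mem_univ _, hb⟩, rfl⟩
  · intro i _
    rfl

theorem Qn_pos' (q : ℕ) (k : ℕ) : 0 < Qn q (k + 1) := by
  unfold Qn
  rw [sum_range_succ']
  simp

theorem Qf_pos (q m : ℕ) : 0 < Qf q m := by
  unfold Qf
  apply Finset.prod_pos
  intro j _
  exact Qn_pos' q j

theorem inner_prod (q : ℕ) (j : ℕ) :
    ∏ i ∈ range j, (((Qn q (1 + j) : ℕ) : ℂ) - ((Qn q (1 + i) : ℕ) : ℂ)) =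
      (q : ℂ) ^ (c2 j + j) * ((Qf q j : ℕ) : ℂ) := by
  have h1 : ∀ i ∈ range j, (((Qn q (1 + j) : ℕ) : ℂ) - ((Qn q (1 + i) : ℕ) : ℂ)) =
      (q : ℂ) ^ (1 + i) * ((Qn q (j - i) : ℕ) : ℂ) := by
    intro i hi
    rw [mem_range] at hi
    have := Qn_sub q (1 + j) (1 + i) (by omega)
    have e : 1 + j - (1 + i) = j - i := by omega
    rw [e] at this
    rw [← this]
    ring
  rw [prod_congr rfl h1, prod_mul_distrib, prod_pow_eq_pow_sum]
  congr 1
  · congr 1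
    rw [sum_add_distrib]
    simp only [sum_const, card_range, smul_eq_mul, mul_one]
    unfold c2
    ring
  · unfold Qf
    rw [Nat.cast_prod, ← Finset.prod_range_reflect]
    apply prod_congr rfl
    intro i hi
    rw [mem_range] at hi
    congr 2
    omega

theorem steinberg_degree {F : Type*} [Field F] [Fintype F] (n : ℕ) :
    Cfsg.unipotentCharacterGL n F (fun _ => 1) 1 = ((Fintype.card F : ℕ) : ℂ) ^ (n * (n - 1) / 2) := by
  classical
  have h := Cfsg.Agent.S2424.result (F := F) (hq := rfl) (fun _ : Fin n => 1) monotone_const (by simp)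
  set q := Fintype.card F with hq
  have hqpos : 0 < q := Fintype.card_pos
  have hA : ∀ m : ℕ, ∏ j ∈ Finset.range m, ((∑ l ∈ Finset.range (j + 1), q ^ l : ℕ) : ℂ) = (Qf q m : ℂ) := by
    intro m
    simp [Qf, Qn]
  simp_rw [hA] at h
  have hB : ∀ m : ℕ, ((∑ l ∈ Finset.range m, q ^ l : ℕ) : ℂ) = (Qn q m : ℂ) := fun m => rfl
  simp_rw [hB] at h
  have e1 : ∏ i : Fin n, ((Qf q (1 + i.val) : ℕ) : ℂ) = ∏ i ∈ range n, ((Qf q (1 + i) : ℕ) : ℂ) :=
    Fin.prod_univ_eq_prod_range (fun i => ((Qf q (1 + i) : ℕ) : ℂ)) n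
  have e2 : ∏ i : Fin n, ∏ j ∈ Finset.univ.filter (fun j : Fin n => i < j),
      (((Qn q (1 + j.val) : ℕ) : ℂ) - ((Qn q (1 + i.val) : ℕ) : ℂ)) =
      ∏ j ∈ range n, ((q : ℂ) ^ (c2 j + j) * ((Qf q j : ℕ) : ℂ)) := by
    rw [← Fin.prod_univ_eq_prod_range (fun j => ((q : ℂ) ^ (c2 j + j) * ((Qf q j : ℕ) : ℂ))) n]
    rw [Finset.prod_comm' (t' := univ) (s' := fun j : Fin n => univ.filter (fun i : Fin n => i < j))]
    · apply prod_congr rfl
      intro j _
      rw [prod_filter_lt j (fun i => (((Qn q (1 + j.val) : ℕ) : ℂ) - ((Qn q (1 + i) : ℕ) : ℂ)))]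
      exact inner_prod q j.val
    · intro i j
      simp
  rw [e1, e2, prod_mul_distrib, prod_pow_eq_pow_sum] at h
  set A : ℂ := ∏ i ∈ range n, ((Qf q (1 + i) : ℕ) : ℂ) with hAdef
  have hA0 : A ≠ 0 := by
    rw [hAdef]
    apply prod_ne_zero_iff.mpr
    intro i _
    exact_mod_cast (Qf_pos q (1 + i)).ne'
  have e3 : ((Qf q n : ℕ) : ℂ) * ∏ i ∈ range n, ((Qf q i : ℕ) : ℂ) = A := by
    rw [hAdef, mul_comm, ← prod_range_succ (fun i => ((Qf q i : ℕ) : ℂ)) n, prod_range_succ']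
    have : Qf q 0 = 1 := by simp [Qf]
    rw [this, Nat.cast_one, mul_one]
    apply prod_congr rfl
    intro i _
    rw [add_comm]
  have h' : Cfsg.unipotentCharacterGL n F (fun _ => 1) 1 * (q : ℂ) ^ (n * (n - 1) * (n - 2) / 6) * A =
      (q : ℂ) ^ (∑ j ∈ range n, (c2 j + j)) * A := by
    rw [h, ← e3]
    ring
  have h'' := mul_right_cancel₀ hA0 h'
  rw [sum_add_distrib, sum_c2, pow_add, mul_comm] at h''
  have hq0 : (q : ℂ) ^ (n * (n - 1) * (n - 2) / 6) ≠ 0 := by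
    apply pow_ne_zero
    exact_mod_cast hqpos.ne'
  have h3 := mul_left_cancel₀ hq0 h''
  rw [h3, Finset.sum_range_id]

end Cfsg.Agent.Lib.helper15.StbSt
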