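import Mathlib
import Cfsg.Agent.Lib.helper15.StV5
import Cfsg.Agent.Lib.helper15.StV4
import Cfsg.Agent.Lib.helper15.StbSt1
set_option autoImplicit false

namespace Cfsg.Agent.Lib.helper15.StV

open Polynomial
open scoped MatrixGroups

section estruct

variable {F : Type*} [Field F] {V : Type*} [AddCommGroup V] [Module F V]

noncomputable def phiE (T : Module.End F V) (f : F[X]) (hT : aeval T f = 0) :
    AdjoinRoot f →ₐ[F] Module.End F V :=
  Ideal.Quotient.liftₐ (Ideal.span {f}) (aeval T) (by
    intro a ha
    obtain ⟨b, rfl⟩ := Ideal.mem_span_singleton.mp ha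
    rw [map_mul, hT, zero_mul])

theorem phiE_mk (T : Module.End F V) (f : F[X]) (hT : aeval T f = 0) (p : F[X]) :
    phiE T f hT (AdjoinRoot.mk f p) = aeval T p := rfl

@[reducible] noncomputable def eModule (T : Module.End F V) (f : F[X]) (hT : aeval T f = 0) :
    Module (AdjoinRoot f) V :=
  Module.compHom V (phiE T f hT).toRingHom

theorem eModule_smul (T : Module.End F V) (f : F[X]) (hT : aeval T f = 0) (e : AdjoinRoot f)
    (v : V) : (letI := eModule T f hT; e • v) = phiE T f hT e v := rfl

theorem eModule_tower (T : Module.End F V) (f : F[X]) (hT : aeval T f = 0) :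
    letI := eModule T f hT
    IsScalarTower F (AdjoinRoot f) V := by
  letI := eModule T f hT
  apply IsScalarTower.of_algebraMap_smul
  intro c v
  show phiE T f hT (algebraMap F (AdjoinRoot f) c) v = c • v
  rw [AlgHom.commutes]
  rfl

noncomputable def eIso (T : Module.End F V) (f : F[X]) (hT : aeval T f = 0) :
    letI := eModule T f hT
    Submodule (AdjoinRoot f) V ≃o ↥(T.invtSubmodule) := by
  letI := eModule T f hT
  haveI := eModule_tower T f hT
  exact
  { toFun := fun W => ⟨W.restrictScalars F, by
      rw [Module.End.mem_invtSubmodule]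
      intro v hv
      rw [Submodule.mem_comap]
      have h1 : T v = (AdjoinRoot.root f) • v := by
        show T v = phiE T f hT (AdjoinRoot.mk f X) v
        rw [phiE_mk, aeval_X]
      rw [h1]
      exact W.smul_mem _ hv⟩
    invFun := fun W =>
      { carrier := W.1
        add_mem' := W.1.add_mem
        zero_mem' := W.1.zero_mem
        smul_mem' := by
          intro e v hv
          obtain ⟨p, rfl⟩ := AdjoinRoot.mk_surjective e
          show phiE T f hT (AdjoinRoot.mk f p) v ∈ W.1
          rw [phiE_mk]
          exact invt_aeval T W.1 W.2 p v hv }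
    left_inv := fun W => by
      ext v
      rfl
    right_inv := fun W => by
      apply Subtype.ext
      ext v
      rfl
    map_rel_iff' := Iff.rfl }

end estruct

section iso

variable {F : Type*} [Field F] {V : Type*} [AddCommGroup V] [Module F V]

theorem finrank_E (T : Module.End F V) (f : F[X]) (hirr : Irreducible f) (hT : aeval T f = 0) :
    haveI : Fact (Irreducible f) := ⟨hirr⟩
    letI := eModule T f hT
    f.natDegree * Module.finrank (AdjoinRoot f) V = Module.finrank F V := by
  haveI : Fact (Irreducible f) := ⟨hirr⟩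
  letI := eModule T f hT
  haveI := eModule_tower T f hT
  have h1 := Module.finrank_mul_finrank F (AdjoinRoot f) V
  have h2 : Module.finrank F (AdjoinRoot f) = f.natDegree :=
    finrank_quotient_span_eq_natDegree
  rw [h2] at h1
  exact h1

noncomputable def idIso {E : Type*} [Field E] (a : ℕ) :
    Submodule E (Fin a → E) ≃o
      ↥(Module.End.invtSubmodule (Matrix.toLin' (((1 : GL (Fin a) E)) : Matrix (Fin a) (Fin a) E))) where
  toFun W := ⟨W, by
    rw [Module.End.mem_invtSubmodule, Units.val_one, Matrix.toLin'_one]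
    intro v hv
    exact hv⟩
  invFun W := W.1
  left_inv W := rfl
  right_inv W := rfl
  map_rel_iff' := Iff.rfl

end iso

section iso2

variable {F : Type*} [Field F] {V : Type*} [AddCommGroup V] [Module F V]

theorem mob_isotypic [Fintype F] [FiniteDimensional F V] (T : Module.End F V) (f : F[X])
    (hirr : Irreducible f) (hT : aeval T f = 0) (a : ℕ)
    (ha : Module.finrank F V = a * f.natDegree)
    [Fintype ↥(T.invtSubmodule)] (m : ↥(T.invtSubmodule) → ℤ) (hm : IsMob m) :
    m ⊤ = (-1 : ℤ) ^ a * (Fintype.card F : ℤ) ^ (f.natDegree * a * (a - 1) / 2) := by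
  classical
  haveI : Fact (Irreducible f) := ⟨hirr⟩
  letI := eModule T f hT
  haveI := eModule_tower T f hT
  have hf0 : f ≠ 0 := hirr.ne_zero
  haveI : FiniteDimensional F (AdjoinRoot f) := (AdjoinRoot.powerBasis hf0).finite
  haveI : Finite (AdjoinRoot f) := Module.finite_of_finite F
  letI : Fintype (AdjoinRoot f) := Fintype.ofFinite _
  haveI : FiniteDimensional (AdjoinRoot f) V := Module.Finite.of_restrictScalars_finite F _ V
  have hdeg : 0 < f.natDegree := hirr.natDegree_pos
  have hfr : Module.finrank (AdjoinRoot f) V = a := by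
    have h1 := finrank_E T f hirr hT
    rw [ha, mul_comm a] at h1
    exact Nat.eq_of_mul_eq_mul_left hdeg h1
  let e : V ≃ₗ[AdjoinRoot f] (Fin a → AdjoinRoot f) :=
    LinearEquiv.ofFinrankEq _ _ (by rw [hfr, Module.finrank_fin_fun])
  letI : Fintype ↥(Module.End.invtSubmodule (Matrix.toLin'
      (((1 : GL (Fin a) (AdjoinRoot f))) : Matrix (Fin a) (Fin a) (AdjoinRoot f)))) :=
    Fintype.ofFinite _
  obtain ⟨m', hm'⟩ := exists_isMob (L := ↥(Module.End.invtSubmodule (Matrix.toLin'
      (((1 : GL (Fin a) (AdjoinRoot f))) : Matrix (Fin a) (Fin a) (AdjoinRoot f)))))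
  have h1 := IsMob.top_eq_of_iso hm hm'
    ((eIso T f hT).symm.trans ((Submodule.orderIsoMapComap e).trans (idIso a)))
  have h2 := steinberg_eq_mob (1 : GL (Fin a) (AdjoinRoot f)) m' hm'
  have h3 := Cfsg.Agent.Lib.helper15.StbSt.steinberg_degree (F := AdjoinRoot f) a
  have hcard : Fintype.card (AdjoinRoot f) = Fintype.card F ^ f.natDegree := by
    have h5 : Module.finrank F (AdjoinRoot f) = f.natDegree := finrank_quotient_span_eq_natDegree
    rw [← h5]
    exact Module.card_eq_pow_finrank
  have h4 : (-1 : ℤ) ^ a * m' ⊤ = ((Fintype.card (AdjoinRoot f) : ℕ) : ℤ) ^ (a * (a - 1) / 2) := by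
    have := h2.symm.trans h3
    exact_mod_cast this
  have h6 : m' ⊤ = (-1 : ℤ) ^ a * ((Fintype.card (AdjoinRoot f) : ℕ) : ℤ) ^ (a * (a - 1) / 2) := by
    rw [← h4, ← mul_assoc, ← pow_add, ← two_mul, pow_mul]
    simp
  rw [h1, h6, hcard]
  congr 1
  push_cast
  rw [← pow_mul]
  congr 1
  have h7 : 2 ∣ a * (a - 1) := by
    rcases Nat.even_or_odd a with h | h
    · exact (even_iff_two_dvd.1 h).mul_right _
    · have : Even (a - 1) := by
        rcases h with ⟨k, rfl⟩
        simp
      exact (even_iff_two_dvd.1 this).mul_left _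
  rw [mul_assoc, Nat.mul_div_assoc _ h7]

end iso2

end Cfsg.Agent.Lib.helper15.StV
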