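import Mathlib
import Cfsg.Agent.Lib.helper15.StV6
import Cfsg.Agent.Lib.helper15.SemiConj
set_option autoImplicit false

namespace Cfsg.Agent.Lib.helper15.StV

open Polynomial UniqueFactorizationMonoid Cfsg.Agent.Lib.Helper16.PSemi
  Cfsg.Agent.Lib.helper15.SemiConj

universe u v

section rhs

variable {F : Type*} [Field F] [DecidableEq F]

noncomputable def termZ (q : ℕ) (f : F[X]) (c : ℕ) : ℤ :=
  (-1 : ℤ) ^ c * (q : ℤ) ^ (f.natDegree * c * (c - 1) / 2)

noncomputable def rhsZ (q : ℕ) (χ : F[X]) : ℤ :=
  ∏ f ∈ (normalizedFactors χ).toFinset, termZ q f ((normalizedFactors χ).count f)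

theorem termZ_zero (q : ℕ) (f : F[X]) : termZ q f 0 = 1 := by
  simp [termZ]

theorem rhsZ_one (q : ℕ) : rhsZ q (1 : F[X]) = 1 := by
  simp [rhsZ]

theorem rhsZ_mul_pow (q : ℕ) (f g : F[X]) (hf : Irreducible f) (hfm : f.Monic) (a : ℕ)
    (hg : g ≠ 0) (hfg : ¬ f ∣ g) : rhsZ q (f ^ a * g) = termZ q f a * rhsZ q g := by
  by_cases ha : a = 0
  · subst ha
    rw [pow_zero, one_mul, termZ_zero, one_mul]
  have hnf : normalizedFactors (f ^ a * g) = a • {f} + normalizedFactors g := by
    rw [normalizedFactors_mul (pow_ne_zero _ hf.ne_zero) hg, normalizedFactors_pow,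
      normalizedFactors_irreducible hf, hfm.normalize_eq_self]
  have hnotin : f ∉ normalizedFactors g := fun h => hfg (dvd_of_mem_normalizedFactors h)
  unfold rhsZ
  rw [hnf, Multiset.toFinset_add, Multiset.toFinset_nsmul _ _ ha, Multiset.toFinset_singleton,
    Finset.prod_union (by
      rw [Finset.disjoint_singleton_left, Multiset.mem_toFinset]
      exact hnotin), Finset.prod_singleton]
  congr 1
  · congr 1
    rw [Multiset.count_add, Multiset.count_nsmul, Multiset.count_singleton_self,
      Multiset.count_eq_zero_of_notMem hnotin]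
    simp
  · apply Finset.prod_congr rfl
    intro h hh
    congr 1
    rw [Multiset.count_add, Multiset.count_nsmul, Multiset.count_singleton, if_neg]
    · simp
    · rintro rfl
      exact hnotin (Multiset.mem_toFinset.1 hh)

end rhs

section ind

variable {F : Type u} [Field F] [DecidableEq F]

theorem mob_base (q : ℕ) {V : Type v} [AddCommGroup V] [Module F V] [FiniteDimensional F V]
    (T : Module.End F V) (P : F[X]) (hP : IsUnit P) (hT : aeval T P = 0)
    [Fintype ↥(T.invtSubmodule)] (m : ↥(T.invtSubmodule) → ℤ) (hm : IsMob m) :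
    m ⊤ = rhsZ q T.charpoly := by
  have h1 : IsUnit (aeval T P) := hP.map (aeval T)
  rw [hT, isUnit_zero_iff] at h1
  have hsub : Subsingleton V := by
    constructor
    intro v w
    have h2 : ∀ u : V, u = 0 := by
      intro u
      have := LinearMap.congr_fun h1 u
      simpa using this.symm
    rw [h2 v, h2 w]
  have hfr : Module.finrank F V = 0 := Module.finrank_zero_of_subsingleton
  have hch : T.charpoly = 1 := by
    apply Polynomial.eq_one_of_monic_natDegree_zero (LinearMap.charpoly_monic T)
    rw [LinearMap.charpoly_natDegree, hfr]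
  rw [hch, rhsZ_one]
  have htb : (⊤ : ↥(T.invtSubmodule)) = ⊥ := by
    apply Subtype.ext
    show (⊤ : Submodule F V) = ⊥
    exact Subsingleton.elim _ _
  rw [htb, hm.bot]

end ind

section ind2

variable {F : Type u} [Field F] [DecidableEq F] [Fintype F]

theorem aeval_restrict_ker_eq_zero {V : Type v} [AddCommGroup V] [Module F V]
    (T : Module.End F V) (f : F[X]) :
    aeval (T.restrict (ker_aeval_invariant T f)) f = 0 := by
  apply LinearMap.ext
  intro w
  apply Subtype.ext
  rw [aeval_restrict]
  exact w.2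

theorem mob_semisimple : ∀ (N : ℕ) (V : Type v) [AddCommGroup V] [Module F V]
    [FiniteDimensional F V] (T : Module.End F V) (P : F[X]), P.natDegree ≤ N → Squarefree P →
    aeval T P = 0 → ∀ [Fintype ↥(T.invtSubmodule)] (m : ↥(T.invtSubmodule) → ℤ), IsMob m →
    m ⊤ = rhsZ (Fintype.card F) T.charpoly := by
  intro N
  induction N with
  | zero =>
    intro V _ _ _ T P hdeg hsq hT _ m hm
    have hP0 : P ≠ 0 := hsq.ne_zero
    have hu : IsUnit P := by
      rw [Polynomial.isUnit_iff_degree_eq_zero]
      rw [Polynomial.degree_eq_natDegree hP0]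
      have : P.natDegree = 0 := by omega
      rw [this]
      rfl
    exact mob_base _ T P hu hT m hm
  | succ N ih =>
    intro V _ _ _ T P hdeg hsq hT _ m hm
    by_cases hu : IsUnit P
    · exact mob_base _ T P hu hT m hm
    have hP0 : P ≠ 0 := hsq.ne_zero
    obtain ⟨f₀, hf₀, hf₀P⟩ := WfDvdMonoid.exists_irreducible_factor hu hP0
    have hfm : (normalize f₀).Monic := Polynomial.monic_normalize hf₀.ne_zero
    have hfi : Irreducible (normalize f₀) := (normalize_associated f₀).symm.irreducible hf₀
    obtain ⟨Q, hQ⟩ : normalize f₀ ∣ P := normalize_dvd_iff.2 hf₀P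
    set f := normalize f₀ with hfdef
    have hsq' : Squarefree (f * Q) := hQ ▸ hsq
    have hcop : IsCoprime f Q := isCoprime_of_squarefree_mul f Q hfi hsq'
    have hQsq : Squarefree Q := hsq'.of_mul_right
    have hQ0 : Q ≠ 0 := hQsq.ne_zero
    have hQdeg : Q.natDegree ≤ N := by
      have h1 : P.natDegree = f.natDegree + Q.natDegree := by
        rw [hQ, Polynomial.natDegree_mul hfi.ne_zero hQ0]
      have h2 := hfi.natDegree_pos
      omega
    have hT' : aeval T (f * Q) = 0 := hQ ▸ hT
    have hch := charpoly_eq_mul T f Q hcop hT'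
    obtain ⟨a, ha⟩ := charpoly_restrict_eq_pow T f hfi hfm
    have hnd := not_dvd_charpoly_restrict T f Q hfi hcop
    have hfr : Module.finrank F ↥(LinearMap.ker (aeval T f)) = a * f.natDegree := by
      have := LinearMap.charpoly_natDegree (T.restrict (ker_aeval_invariant T f))
      rw [ha, Polynomial.natDegree_pow] at this
      exact this.symm
    haveI : Finite V := Module.finite_of_finite F
    letI : Fintype ↥(Module.End.invtSubmodule (T.restrict (ker_aeval_invariant T f))) :=
      Fintype.ofFinite _
    letI : Fintype ↥(Module.End.invtSubmodule (T.restrict (ker_aeval_invariant T Q))) :=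
      Fintype.ofFinite _
    obtain ⟨m₁, hm₁⟩ := exists_isMob
      (L := ↥(Module.End.invtSubmodule (T.restrict (ker_aeval_invariant T f))))
    obtain ⟨m₂, hm₂⟩ := exists_isMob
      (L := ↥(Module.End.invtSubmodule (T.restrict (ker_aeval_invariant T Q))))
    have hsp := mob_split T _ _ (ker_aeval_invariant T f) (ker_aeval_invariant T Q)
      (Polynomial.disjoint_ker_aeval_of_isCoprime T hcop) (ker_split T f Q hcop hT') m m₁ m₂ hm hm₁ hm₂
    have h1 := mob_isotypic (T.restrict (ker_aeval_invariant T f)) f hfi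
      (aeval_restrict_ker_eq_zero T f) a hfr m₁ hm₁
    have h2 := ih ↥(LinearMap.ker (aeval T Q)) (T.restrict (ker_aeval_invariant T Q)) Q hQdeg hQsq
      (aeval_restrict_ker_eq_zero T Q) m₂ hm₂
    rw [hsp, h1, h2, hch, ha,
      rhsZ_mul_pow _ f _ hfi hfm a (LinearMap.charpoly_monic _).ne_zero hnd]
    rfl

end ind2

end Cfsg.Agent.Lib.helper15.StV
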