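import Mathlib
import Cfsg.Agent.Lib.helper3.T2E.Defs3

/-!
# T2E row L5 (helper15), VERBATIM: `long_trans` — the Weyl group `W(F₄)` is transitive on the fixed roots (certificates `longCert`)
-/

set_option autoImplicit false

namespace Cfsg.Agent.Lib.helper3.T2E

open Cfsg.Lie Cfsg.Lie.ChevalleyDatum Matrix
open Cfsg.Agent.Lib.helper8 Cfsg.Agent.Lib.Helper10.TEM Cfsg.Agent.Lib.helper7.Ce
  Cfsg.Agent.Lib.helper15.St2

universe u

/-- every certificate of `longCert` is correct -/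
theorem t2el5h15_cert : ∀ p ∈ longCert, (∀ k ∈ p.2, k < 4) ∧ wl p.2 44 = p.1 := by
  decide +kernel

/-- every fixed root has a certificate -/
theorem t2el5h15_cover : ∀ r < 72, h8sE6 r = r → ∃ p ∈ longCert, p.1 = r := by
  decide +kernel

-- ROW L5 [S]  `decide` with `longCert` (Defs3).
theorem long_trans : ∀ r < 72, h8sE6 r = r → ∃ l : List ℕ, (∀ k ∈ l, k < 4) ∧ wl l 44 = r := by
  intro r hr hσ
  obtain ⟨p, hp, hpr⟩ := t2el5h15_cover r hr hσ
  obtain ⟨h1, h2⟩ := t2el5h15_cert p hp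
  exact ⟨p.2, h1, by rw [h2, hpr]⟩

end Cfsg.Agent.Lib.helper3.T2E
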