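import Mathlib
import Cfsg.Agent.Lib.helper17.T3.DefsC

/-!
# T3C row M1 (helper15), core: the lifted system `Q : SysT C Γ` from the short lifts `L`, the long lifts `M`, the commuting lifts `hT`
and the STATEMENTS of the rows D1 (`ll_up`), D6 (`ss2_up`), D10 (`sl_up`), D11 (`ls_up`), W1–W4 (`ws_s_up`, `ws_l_up`, `wl_s_up`, `wl_l_up`) as hypotheses
-/

set_option autoImplicit false

namespace Cfsg.Agent.Lib.helper17.T3

open Cfsg.Agent.Lib.helper15.St2 Cfsg.Agent.Lib.helper7.Ce Matrix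

variable {F K : Type*} [Field F] [Field K] [Algebra F K]

variable {C : Cub F K} {G Γ : Type*} [Group G] [Group Γ]

section M

variable {S : SysT C G} {σ : Γ →* G} {L : ShortLift S σ}

/-- the Weyl element upstairs lies over the Weyl element downstairs (short root) -/
theorem t3cm1h15_map_ws (L : ShortLift S σ) (k : ZMod 6) (t : K) :
    σ (L.X k t * L.X (k + 3) t⁻¹ * L.X k t) = S.xs k t * S.xs (k + 3) t⁻¹ * S.xs k t := by
  rw [map_mul, map_mul, L.map, L.map]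

/-- the Weyl element upstairs lies over the Weyl element downstairs (long root) -/
theorem t3cm1h15_map_wl (M : LongLift S σ L) (k : ZMod 6) (c : F) :
    σ (M.Y k c * M.Y (k + 3) c⁻¹ * M.Y k c) = S.xl k c * S.xl (k + 3) c⁻¹ * S.xl k c := by
  rw [map_mul, map_mul, M.map, M.map]

/-- [M1] core: the lifted system, as a definition-free existence statement. -/
theorem t3cm1h15_core (hT : CLT S σ) (M : LongLift S σ L)
    (hss2 : ∀ (k : ZMod 6) (s t : K),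
      cm (L.X k s) (L.X (k + 2) t) = M.Y k (-(C.tr (C.sharp s * t))) * L.X (k + 1) (C.cross s t) * M.Y (k + 1) (C.tr (s * C.sharp t)))
    (hsl : ∀ (k : ZMod 6) (s : K) (c : F),
      cm (L.X k s) (M.Y (k + 2) c) = M.Y k (c * C.nm s) * L.X (k + 1) (-(c • C.sharp s)) * M.Y (k + 1) (c ^ 2 * C.nm s) * L.X (k + 2) (-(c • s)))
    (hll : ∀ (k : ZMod 6) (c d : F), cm (M.Y k c) (M.Y (k + 2) d) = M.Y (k + 1) (c * d))
    (hls : ∀ (k : ZMod 6) (c : F) (t : K),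
      cm (M.Y k c) (L.X (k + 3) t) = L.X (k + 1) (-(c • t)) * M.Y (k + 1) (-(c ^ 2 * C.nm t)) * L.X (k + 2) (c • C.sharp t) * M.Y (k + 2) (c * C.nm t))
    (hwss : ∀ (e : Γ) (k : ZMod 6) {t : K}, t ≠ 0 → σ e = S.xs k t * S.xs (k + 3) t⁻¹ * S.xs k t → ∀ u : K,
      cj e (L.X k u) = L.X (k + 3) (t⁻¹ ^ 2 * u) ∧ cj e (L.X (k + 1) u) = L.X (k + 2) ((C.nm t)⁻¹ • (t ^ 2 * u)) ∧
      cj e (L.X (k + 2) u) = L.X (k + 1) (-(C.nm t • (t⁻¹ ^ 2 * u))) ∧ cj e (L.X (k + 3) u) = L.X k (t ^ 2 * u) ∧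
      cj e (L.X (k + 4) u) = L.X (k + 5) (C.nm t • (t⁻¹ ^ 2 * u)) ∧ cj e (L.X (k + 5) u) = L.X (k + 4) (-((C.nm t)⁻¹ • (t ^ 2 * u))))
    (hwsl : ∀ (e : Γ) (k : ZMod 6) {t : K}, t ≠ 0 → σ e = S.xs k t * S.xs (k + 3) t⁻¹ * S.xs k t → ∀ c : F,
      cj e (M.Y k c) = M.Y (k + 2) (-((C.nm t)⁻¹ * c)) ∧ cj e (M.Y (k + 1) c) = M.Y (k + 1) c ∧ cj e (M.Y (k + 2) c) = M.Y k (C.nm t * c) ∧
      cj e (M.Y (k + 3) c) = M.Y (k + 5) (-(C.nm t * c)) ∧ cj e (M.Y (k + 4) c) = M.Y (k + 4) c ∧ cj e (M.Y (k + 5) c) = M.Y (k + 3) ((C.nm t)⁻¹ * c))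
    (hwls : ∀ (e : Γ) (k : ZMod 6) {c : F}, c ≠ 0 → σ e = S.xl k c * S.xl (k + 3) c⁻¹ * S.xl k c → ∀ u : K,
      cj e (L.X k u) = L.X (k + 4) (-(c⁻¹ • u)) ∧ cj e (L.X (k + 1) u) = L.X (k + 3) (c⁻¹ • u) ∧ cj e (L.X (k + 2) u) = L.X (k + 2) u ∧
      cj e (L.X (k + 3) u) = L.X (k + 1) (-(c • u)) ∧ cj e (L.X (k + 4) u) = L.X k (c • u) ∧ cj e (L.X (k + 5) u) = L.X (k + 5) u)
    (hwll : ∀ (e : Γ) (k : ZMod 6) {c : F}, c ≠ 0 → σ e = S.xl k c * S.xl (k + 3) c⁻¹ * S.xl k c → ∀ d : F,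
      cj e (M.Y k d) = M.Y (k + 3) (c⁻¹ ^ 2 * d) ∧ cj e (M.Y (k + 1) d) = M.Y (k + 2) (-(c⁻¹ * d)) ∧ cj e (M.Y (k + 2) d) = M.Y (k + 1) (c * d) ∧
      cj e (M.Y (k + 3) d) = M.Y k (c ^ 2 * d) ∧ cj e (M.Y (k + 4) d) = M.Y (k + 5) (-(c * d)) ∧ cj e (M.Y (k + 5) d) = M.Y (k + 4) (c⁻¹ * d)) :
    ∃ Q : SysT C Γ, (∀ k t, σ (Q.xs k t) = S.xs k t) ∧ ∀ k c, σ (Q.xl k c) = S.xl k c := by
  refine ⟨{
    xs := L.X
    xl := M.Y
    adds := L.add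
    addl := M.add
    c_sl0 := fun k s c => hT.sl0 k s c _ _ (L.map k s) (M.map k c)
    c_sl1 := fun k s c => hT.sl1 k s c _ _ (L.map k s) (M.map (k + 1) c)
    c_ls1 := fun k c s => hT.ls1 k c s _ _ (M.map k c) (L.map (k + 1) s)
    c_ll1 := fun k c d => hT.ll1 k c d _ _ (M.map k c) (M.map (k + 1) d)
    c_ls2 := fun k c s => hT.ls2 k c s _ _ (M.map k c) (L.map (k + 2) s)
    ss1 := M.ss1
    ss2 := hss2
    sl := hsl
    ll := hll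
    ls := hls
    ws_s0 := fun k t u ht => (hwss _ k ht (t3cm1h15_map_ws L k t) u).1
    ws_s1 := fun k t u ht => (hwss _ k ht (t3cm1h15_map_ws L k t) u).2.1
    ws_s2 := fun k t u ht => (hwss _ k ht (t3cm1h15_map_ws L k t) u).2.2.1
    ws_s3 := fun k t u ht => (hwss _ k ht (t3cm1h15_map_ws L k t) u).2.2.2.1
    ws_s4 := fun k t u ht => (hwss _ k ht (t3cm1h15_map_ws L k t) u).2.2.2.2.1
    ws_s5 := fun k t u ht => (hwss _ k ht (t3cm1h15_map_ws L k t) u).2.2.2.2.2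
    ws_l0 := fun k t c ht => (hwsl _ k ht (t3cm1h15_map_ws L k t) c).1
    ws_l1 := fun k t c ht => (hwsl _ k ht (t3cm1h15_map_ws L k t) c).2.1
    ws_l2 := fun k t c ht => (hwsl _ k ht (t3cm1h15_map_ws L k t) c).2.2.1
    ws_l3 := fun k t c ht => (hwsl _ k ht (t3cm1h15_map_ws L k t) c).2.2.2.1
    ws_l4 := fun k t c ht => (hwsl _ k ht (t3cm1h15_map_ws L k t) c).2.2.2.2.1
    ws_l5 := fun k t c ht => (hwsl _ k ht (t3cm1h15_map_ws L k t) c).2.2.2.2.2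
    wl_s0 := fun k c u hc => (hwls _ k hc (t3cm1h15_map_wl M k c) u).1
    wl_s1 := fun k c u hc => (hwls _ k hc (t3cm1h15_map_wl M k c) u).2.1
    wl_s2 := fun k c u hc => (hwls _ k hc (t3cm1h15_map_wl M k c) u).2.2.1
    wl_s3 := fun k c u hc => (hwls _ k hc (t3cm1h15_map_wl M k c) u).2.2.2.1
    wl_s4 := fun k c u hc => (hwls _ k hc (t3cm1h15_map_wl M k c) u).2.2.2.2.1
    wl_s5 := fun k c u hc => (hwls _ k hc (t3cm1h15_map_wl M k c) u).2.2.2.2.2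
    wl_l0 := fun k c d hc => (hwll _ k hc (t3cm1h15_map_wl M k c) d).1
    wl_l1 := fun k c d hc => (hwll _ k hc (t3cm1h15_map_wl M k c) d).2.1
    wl_l2 := fun k c d hc => (hwll _ k hc (t3cm1h15_map_wl M k c) d).2.2.1
    wl_l3 := fun k c d hc => (hwll _ k hc (t3cm1h15_map_wl M k c) d).2.2.2.1
    wl_l4 := fun k c d hc => (hwll _ k hc (t3cm1h15_map_wl M k c) d).2.2.2.2.1
    wl_l5 := fun k c d hc => (hwll _ k hc (t3cm1h15_map_wl M k c) d).2.2.2.2.2 }, ?_, ?_⟩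
  · intro k t
    exact L.map k t
  · intro k c
    exact M.map k c

end M

end Cfsg.Agent.Lib.helper17.T3
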