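import Mathlib
import Cfsg.Agent.Lib.helper17.T3.DefsC
import Cfsg.Agent.Lib.helper15.T3CM1core
import Cfsg.Agent.Lib.helper23.T3CA6
import Cfsg.Agent.Lib.Helper24.T3CBridge
import Cfsg.Agent.Lib.Helper20.T3CL1
import Cfsg.Agent.Lib.Helper28.T3CW1
import Cfsg.Agent.Lib.Helper28.T3CW3
import Cfsg.Agent.Lib.Helper25.T3CL8
import Cfsg.Agent.Lib.helper17.T3CD1
import Cfsg.Agent.Lib.Helper24.T3CD6
import Cfsg.Agent.Lib.Helper9.T3CD10
import Cfsg.Agent.Lib.Helper27.T3CD11
import Cfsg.Agent.Lib.Helper28.T3CW2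
import Cfsg.Agent.Lib.Helper28.T3CW4

/-!
# T3C row M1 (helper15), VERBATIM: `exists_lift_sysT` — MAIN THEOREM of T3C: every central extension of a group with a `³D₄` system carries a lifted system
-/

set_option autoImplicit false

namespace Cfsg.Agent.Lib.helper17.T3

open Cfsg.Agent.Lib.helper15.St2 Cfsg.Agent.Lib.helper7.Ce Matrix

variable {F K : Type*} [Field F] [Field K] [Algebra F K]

variable {C : Cub F K} {G Γ : Type*} [Group G] [Group Γ]

/-- [M1] [M] the lifted system. -/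
theorem exists_lift_sysT [Finite K] [Finite Γ] (hC : C.Good) (hcard : Nat.card K = Nat.card F ^ 3) (S : SysT C G) {σ : Γ →* G} (h : IsCE σ) :
    ∃ Q : SysT C Γ, (∀ k t, σ (Q.xs k t) = S.xs k t) ∧ ∀ k c, σ (Q.xl k c) = S.xl k c := by
  obtain ⟨h8, h9⟩ := card_K_facts (F := F) (K := K) hcard
  have h4 : 4 ≤ Nat.card K := by omega
  have h4' : Nat.card K ≠ 4 := by omega
  obtain ⟨L⟩ := exists_shortLift h4 h4' h9 S h
  have hT : CLT S σ := CLT_all S h4 hC h L
  obtain ⟨M⟩ := exists_longLift hC h hT L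
  exact t3cm1h15_core hT M (fun k s t => ss2_up hC hcard h hT M k s t) (fun k s c => sl_up hC hcard h hT M k s c)
    (fun k c d => ll_up hC h hT M k c d)
    (fun k c t => ls_up hC h hT M (fun k s c => sl_up hC hcard h hT M k s c) k c t)
    (fun e k _ ht he u => ws_s_up e k ht he u) (fun e k _ ht he c => ws_l_up hC M e k ht he c)
    (fun e k _ hc he u => wl_s_up e k hc he u) (fun e k _ hc he d => wl_l_up hC M e k hc he d)

end Cfsg.Agent.Lib.helper17.T3
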