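import Mathlib
import Cfsg.Agent.Lib.helper8.TDM.Defs
import Cfsg.Agent.Lib.Helper9.TD4VQ1
import Cfsg.Agent.Lib.Helper27.TD4VU6
import Cfsg.Agent.Lib.Helper10.TD4VE4b
import Cfsg.Agent.Lib.Helper20.TD4VE2c

/-!
# Project TDM (designer helper8; S2192), row U5 (helper15), VERBATIM vs `helper8/TDM/Skel.lean.txt`:
`U1_split`: `U¹ = X₁₄(k) * (radical)`, and the radical part is carried into `U¹` by `n_β`.
From `U1_form` (`Helper20.TD4VE2c`), `td4vu6_QK_le` (`Helper27.TD4VU6`), `norm_QK` (`Helper9.TD4VQ1`), `td4ve4_nb_mem` (`Helper10.TD4VE4b`).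
Extra: `tdmu5_nb_mem_PK`.
-/

set_option autoImplicit false

namespace Cfsg.Agent.Lib.helper8.TDM

open Cfsg.Lie Cfsg.Lie.ChevalleyDatum Matrix
open Cfsg.Agent.Lib.helper8 Cfsg.Agent.Lib.helper8.TD4
open Cfsg.Agent.Lib.helper23.TD4V

universe u

section U

variable {K : Type u} [Field K] [Fintype K] (q : ℕ)

omit [Fintype K] in
/-- `n_β` lies in the parabolic subgroup `⟨B, n_β⟩` of `D₄(K)` -/
theorem tdmu5_nb_mem_PK : (nb : GG K) ∈ PK K := by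
  have h1 : Subgroup.closure {g : GG K | ∃ j ∈ ({1} : Set ℕ), j < chevD4.rank ∧
      (g : Matrix chevD4.Idx chevD4.Idx K) = chevD4.nMat K (chevD4.simple j) 1} ≤
      chevD4.parabolicSubgroup K ({1} : Set ℕ) := le_sup_right
  refine h1 (Subgroup.subset_closure ⟨1, rfl, by decide, ?_⟩)
  have e : chevD4.simple 1 = 14 := by decide
  rw [e]
  exact h8nU_val chevD4 hB 14 1

/-- **U5** [S-M].  `U1_form` (Helper20.TD4VE2c): `g = X 14 c * u'`, `u' ∈ Q K q = QK ⊓ G`; `QK ≤ posUnipotent` (generators); `nb ∈ PK` (`⟨B, n_β⟩`) normalises `QK` (`norm_QK`, Helper9.TD4VQ1), `nb ∈ G`. -/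
theorem U1_split (hq : IsPrimePow q) (hK : Fintype.card K = q ^ 3) (g : GG K) (hg : g ∈ U1 K q) :
    ∃ c : K, c ^ q = c ∧ ∃ u' ∈ U1 K q, g = X 14 c * u' ∧ nb * u' * nb⁻¹ ∈ U1 K q := by
  obtain ⟨c, hc, u', hu', e⟩ := U1_form q hq hK g hg
  refine ⟨c, hc, u', ⟨td4vu6_QK_le hu'.1, hu'.2⟩, e, ?_, ?_⟩
  · exact td4vu6_QK_le (norm_QK nb tdmu5_nb_mem_PK u' hu'.1)
  · have hnb : (nb : GG K) ∈ twistedD4 K q := td4ve4_nb_mem q hq hK
    exact Subgroup.mul_mem _ (Subgroup.mul_mem _ hnb hu'.2) (Subgroup.inv_mem _ hnb)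

end U

end Cfsg.Agent.Lib.helper8.TDM
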