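import Cfsg.Agent.Lib.Helper21.TOO.LDefs
import Cfsg.Agent.Lib.Helper21.TOO.LG1
import Cfsg.Agent.Lib.Helper27.TOOLQ14
import Cfsg.Agent.Lib.Helper13.TOOLQ5
import Cfsg.Agent.Lib.Helper27.TOOLQ7
import Cfsg.Agent.Lib.Lead.TOOLA4
import Cfsg.Agent.Lib.helper6.TOOLG7
import Cfsg.Agent.Lib.helper6.TOOLS2

/-!
# Project TOO (S5681), LOCAL block, sub-row LS1g (helper15): the end of `stabPt_of_unip`.
An isometry `r ∈ Q_{A ⊗ w}` whose commutators with all `kA α`, `α ∈ Ω(A)`, are of the form `1 ⊗ ρ_{w,z}` is itself `1 ⊗ ρ_{w,z₀}`.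
-/

set_option autoImplicit false
set_option linter.unusedSectionVars false
set_option linter.unusedVariables false

namespace Cfsg.Agent.Lib.Helper28.TOO

open Matrix
open scoped Kronecker
open Cfsg.Agent.Lib.helper7.TP Cfsg.Agent.Lib.Helper21.TS

variable {a b : ℕ} {F : Type*} [Field F]
  {J1 : Matrix (Fin a) (Fin a) F} {J2 : Matrix (Fin b) (Fin b) F}

/-- `XBm J2 ξ w` fixes `x ⊗ n` for `n ⊥ w`. -/
theorem tools1g_XBm_ten (ξ : Matrix (Fin a) (Fin a) F) (w n : Fin b → F) (x : Fin a → F) :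
    XBm J2 ξ w *ᵥ ten x n = ten x n + bf J2 w n • ten (ξ *ᵥ x) w := by
  rw [XBm, Matrix.add_mulVec, Matrix.one_mulVec, kron_mulVec_ten, opm_mulVec, ten_smul_right]

/-- a covector with `φ ⬝ᵥ w = 1`. -/
theorem tools1g_phi {w : Fin b → F} (hw0 : w ≠ 0) : ∃ φ : Fin b → F, φ ⬝ᵥ w = 1 := by
  obtain ⟨i, hi⟩ : ∃ i, w i ≠ 0 := by
    by_contra hcon
    push Not at hcon
    exact hw0 (funext hcon)
  refine ⟨Pi.single i (w i)⁻¹, ?_⟩
  rw [single_dotProduct, inv_mul_cancel₀ hi]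

/-- `kA α` and `kB β` commute. -/
theorem tools1g_kA_kB_comm (α : Matrix.GeneralLinearGroup (Fin a) F)
    (β : Matrix.GeneralLinearGroup (Fin b) F) :
    Cfsg.Agent.Lib.helper7.TO.kA a b F α * Cfsg.Agent.Lib.helper7.TO.kB a b F β =
      Cfsg.Agent.Lib.helper7.TO.kB a b F β * Cfsg.Agent.Lib.helper7.TO.kA a b F α := by
  apply Units.ext
  rw [Units.val_mul, Units.val_mul, Cfsg.Agent.Lib.helper7.TO.kA_coe, Cfsg.Agent.Lib.helper7.TO.kB_coe,
    ← Matrix.mul_kronecker_mul, ← Matrix.mul_kronecker_mul, Matrix.mul_one, Matrix.one_mul,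
    Matrix.mul_one, Matrix.one_mul]

/-- the class relation coming from one commutator. -/
theorem tools1g_class_rel (C : OCtx J1 J2) {r : Matrix.GeneralLinearGroup (Fin a × Fin b) F}
    {w φ : Fin b → F} (hw : bf J2 w w = 0) (hφ : φ ⬝ᵥ w = 1)
    (hQ : InQ J2 (r : Matrix (Fin a × Fin b) (Fin a × Fin b) F) w)
    (α : Matrix.GeneralLinearGroup (Fin a) F) (z : Fin b → F) (hz : bf J2 w z = 0)
    (hc : ((r * Cfsg.Agent.Lib.helper7.TO.kA a b F α * r⁻¹ * (Cfsg.Agent.Lib.helper7.TO.kA a b F α)⁻¹ :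
      Matrix.GeneralLinearGroup (Fin a × Fin b) F) : Matrix (Fin a × Fin b) (Fin a × Fin b) F) =
      (1 : Matrix (Fin a) (Fin a) F) ⊗ₖ sieg J2 w z)
    (n : Fin b → F) (hn : bf J2 w n = 0) :
    Zc (r : Matrix (Fin a × Fin b) (Fin a × Fin b) F) φ n -
      (α : Matrix (Fin a) (Fin a) F) * Zc (r : Matrix (Fin a × Fin b) (Fin a × Fin b) F) φ n *
        ((α⁻¹ : Matrix.GeneralLinearGroup (Fin a) F) : Matrix (Fin a) (Fin a) F) =
      bf J2 z n • (1 : Matrix (Fin a) (Fin a) F) := by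
  obtain ⟨hQi, hZi⟩ := inQ_inv (J2 := J2) hQ hφ
  obtain ⟨hQc, hZc⟩ := inQ_conjA (J2 := J2) hQi hφ α
  obtain ⟨hQm, hZm⟩ := inQ_mul (J2 := J2) hQ hQc hφ
  have hval : ((r * Cfsg.Agent.Lib.helper7.TO.kA a b F α * r⁻¹ * (Cfsg.Agent.Lib.helper7.TO.kA a b F α)⁻¹ :
      Matrix.GeneralLinearGroup (Fin a × Fin b) F) : Matrix (Fin a × Fin b) (Fin a × Fin b) F) =
      (r : Matrix (Fin a × Fin b) (Fin a × Fin b) F) *
        ((Cfsg.Agent.Lib.helper7.TO.kA a b F α * r⁻¹ * (Cfsg.Agent.Lib.helper7.TO.kA a b F α)⁻¹ :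
          Matrix.GeneralLinearGroup (Fin a × Fin b) F) : Matrix (Fin a × Fin b) (Fin a × Fin b) F) := by
    rw [← Units.val_mul]
    congr 1
    group
  have h1 := hZm n hn
  rw [← hval, hc, hZc n hn, hZi n hn, (inQ_sieg' (a := a) C.sym2 hw hz hφ).2.1 n hn] at h1
  rw [h1, Matrix.mul_neg, Matrix.neg_mul]
  abel

/-- LS1g: the end of `stabPt_of_unip`. -/
theorem ls1_finish [Fintype F] (C : OCtx J1 J2) (ha : 3 ≤ a) (hodd : Odd a)
    (hex : ¬ (Fintype.card F = 3 ∧ a = 3)) (hTO : T1 J1 J2 ≤ OV J1 J2)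
    {r : Matrix.GeneralLinearGroup (Fin a × Fin b) F} (hr : r ∈ OV J1 J2) {w : Fin b → F}
    (hw0 : w ≠ 0) (hw : bf J2 w w = 0)
    (hQ : InQ J2 (r : Matrix (Fin a × Fin b) (Fin a × Fin b) F) w)
    (hcomm : ∀ α ∈ Om J1, ∃ z : Fin b → F, bf J2 w z = 0 ∧
      ((r * Cfsg.Agent.Lib.helper7.TO.kA a b F α * r⁻¹ * (Cfsg.Agent.Lib.helper7.TO.kA a b F α)⁻¹ :
        Matrix.GeneralLinearGroup (Fin a × Fin b) F) : Matrix (Fin a × Fin b) (Fin a × Fin b) F) =
        (1 : Matrix (Fin a) (Fin a) F) ⊗ₖ sieg J2 w z) :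
    ∃ z₀ : Fin b → F, bf J2 w z₀ = 0 ∧
      (r : Matrix (Fin a × Fin b) (Fin a × Fin b) F) = (1 : Matrix (Fin a) (Fin a) F) ⊗ₖ sieg J2 w z₀ := by
  obtain ⟨φ, hφ⟩ := tools1g_phi hw0
  -- every class of `r` is scalar
  have hsc : ∀ n : Fin b → F, bf J2 w n = 0 →
      ∃ c : F, Zc (r : Matrix (Fin a × Fin b) (Fin a × Fin b) F) φ n = c • (1 : Matrix (Fin a) (Fin a) F) := by
    intro n hn
    apply alg_central_O C.sym1 C.two C.det1 ha hodd hex
    intro α hα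
    obtain ⟨z, hz, hc⟩ := hcomm α hα
    exact ⟨bf J2 z n, tools1g_class_rel C hw hφ hQ α z hz hc n hn⟩
  -- the functional
  let i₀ : Fin a := ⟨0, by omega⟩
  let lam : (Fin b → F) →ₗ[F] F :=
    { toFun := fun n => Zc (r : Matrix (Fin a × Fin b) (Fin a × Fin b) F) φ n i₀ i₀
      map_add' := fun n n' => by rw [Zc_add_right, Matrix.add_apply]
      map_smul' := fun c n => by
        rw [Zc_smul_right, Matrix.smul_apply, RingHom.id_apply] }
  have hlam : ∀ n, lam n = Zc (r : Matrix (Fin a × Fin b) (Fin a × Fin b) F) φ n i₀ i₀ := fun _ => rfl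
  have hlamw : lam w = 0 := by
    rw [hlam, Zc_self hQ φ, Matrix.zero_apply]
  have hcl : ∀ n : Fin b → F, bf J2 w n = 0 →
      Zc (r : Matrix (Fin a × Fin b) (Fin a × Fin b) F) φ n = lam n • (1 : Matrix (Fin a) (Fin a) F) := by
    intro n hn
    obtain ⟨c, hc⟩ := hsc n hn
    have : lam n = c := by
      rw [hlam, hc, Matrix.smul_apply, Matrix.one_apply_eq, smul_eq_mul, mul_one]
    rw [this, hc]
  obtain ⟨z₀, hz₀, hz₀l⟩ := functional_perp C.sym2 C.det2 hw0 hw lam hlamw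
  refine ⟨z₀, hz₀, ?_⟩
  obtain ⟨β, hβ, hβv⟩ := sieg_mem_Om C.sym2 C.two C.det2 hw hz₀
  obtain ⟨kβ, hkβ⟩ : ∃ kβ, kβ = Cfsg.Agent.Lib.helper7.TO.kB a b F β := ⟨_, rfl⟩
  have hkβv : (kβ : Matrix (Fin a × Fin b) (Fin a × Fin b) F) =
      (1 : Matrix (Fin a) (Fin a) F) ⊗ₖ sieg J2 w z₀ := by
    rw [hkβ, Cfsg.Agent.Lib.helper7.TO.kB_coe, hβv]
  have hkβO : kβ ∈ OV J1 J2 := by
    rw [hkβ]
    exact hTO (Subgroup.mem_sup_right (Subgroup.mem_map_of_mem _ hβ))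
  obtain ⟨hQs, hZs, _⟩ := inQ_sieg' (a := a) C.sym2 hw hz₀ hφ
  have hQk : InQ J2 (kβ : Matrix (Fin a × Fin b) (Fin a × Fin b) F) w := by rw [hkβv]; exact hQs
  obtain ⟨hQki, hZki⟩ := inQ_inv (J2 := J2) hQk hφ
  obtain ⟨hQr', hZr'⟩ := inQ_mul (J2 := J2) hQ hQki hφ
  obtain ⟨r', hr'⟩ : ∃ r', r' = r * kβ⁻¹ := ⟨_, rfl⟩
  have hr'v : (r' : Matrix (Fin a × Fin b) (Fin a × Fin b) F) =
      (r : Matrix (Fin a × Fin b) (Fin a × Fin b) F) *
        ((kβ⁻¹ : Matrix.GeneralLinearGroup (Fin a × Fin b) F) :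
          Matrix (Fin a × Fin b) (Fin a × Fin b) F) := by
    rw [hr', Units.val_mul]
  have hr'O : r' ∈ OV J1 J2 := by
    rw [hr']
    exact Subgroup.mul_mem _ hr (Subgroup.inv_mem _ hkβO)
  have hQ' : InQ J2 (r' : Matrix (Fin a × Fin b) (Fin a × Fin b) F) w := by rw [hr'v]; exact hQr'
  have hcl' : ∀ y : Fin b → F, bf J2 w y = 0 →
      Zc (r' : Matrix (Fin a × Fin b) (Fin a × Fin b) F) φ y =
        bf J2 (0 : Fin b → F) y • (0 : Matrix (Fin a) (Fin a) F) := by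
    intro y hy
    rw [hr'v, hZr' y hy, hZki y hy, hkβv, hZs y hy, hcl y hy, hz₀l y hy, smul_zero]
    abel
  obtain ⟨κ, hκ, hshape⟩ := pure_shape C hr'O hw0 hw hφ hQ' (w₁ := 0) (bf_zero_left J2 0)
    (bf_zero_right J2 w) 0 0 (by simp) hcl'
  have hshape' : (r' : Matrix (Fin a × Fin b) (Fin a × Fin b) F) = XBm J2 κ w := by
    rw [hshape, PureM, XBm, Matrix.zero_kronecker, Matrix.zero_kronecker, add_zero, sub_zero]
  have hinv' : ((r'⁻¹ : Matrix.GeneralLinearGroup (Fin a × Fin b) F) :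
      Matrix (Fin a × Fin b) (Fin a × Fin b) F) = XBm J2 (-κ) w := by
    have hmul : (r' : Matrix (Fin a × Fin b) (Fin a × Fin b) F) * XBm J2 (-κ) w = 1 := by
      rw [hshape', XBm_mul J2 w hw, add_neg_cancel, XBm_zero]
    calc ((r'⁻¹ : Matrix.GeneralLinearGroup (Fin a × Fin b) F) :
          Matrix (Fin a × Fin b) (Fin a × Fin b) F)
        = ((r'⁻¹ : Matrix.GeneralLinearGroup (Fin a × Fin b) F) :
          Matrix (Fin a × Fin b) (Fin a × Fin b) F) *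
            ((r' : Matrix (Fin a × Fin b) (Fin a × Fin b) F) * XBm J2 (-κ) w) := by
          rw [hmul, Matrix.mul_one]
      _ = XBm J2 (-κ) w := by
          rw [← Matrix.mul_assoc, ← Units.val_mul, inv_mul_cancel, Units.val_one, Matrix.one_mul]
  -- `κ` commutes with `Ω(A)` up to scalars
  have hκsc : ∀ α ∈ Om J1, ∃ s : F, κ - (α : Matrix (Fin a) (Fin a) F) * κ *
      ((α⁻¹ : Matrix.GeneralLinearGroup (Fin a) F) : Matrix (Fin a) (Fin a) F) =
      s • (1 : Matrix (Fin a) (Fin a) F) := by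
    intro α hα
    obtain ⟨z, hz, hc⟩ := hcomm α hα
    obtain ⟨t, ht⟩ : ∃ t, t = Cfsg.Agent.Lib.helper7.TO.kA a b F α := ⟨_, rfl⟩
    rw [← ht] at hc
    have hcm : t * kβ = kβ * t := by rw [ht, hkβ]; exact tools1g_kA_kB_comm α β
    have hcm' : kβ⁻¹ * t * kβ = t := by
      rw [mul_assoc, hcm, ← mul_assoc, inv_mul_cancel, one_mul]
    have hsame : r' * t * r'⁻¹ * t⁻¹ = r * t * r⁻¹ * t⁻¹ := by
      have : r' * t * r'⁻¹ * t⁻¹ = r * (kβ⁻¹ * t * kβ) * r⁻¹ * t⁻¹ := by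
        rw [hr']
        group
      rw [this, hcm']
    have hk : t = kronG α (1 : Matrix.GeneralLinearGroup (Fin b) F) := by rw [ht]; exact Units.ext rfl
    have hconj : ((t * r'⁻¹ * t⁻¹ : Matrix.GeneralLinearGroup (Fin a × Fin b) F) :
        Matrix (Fin a × Fin b) (Fin a × Fin b) F) =
        XBm J2 ((α : Matrix (Fin a) (Fin a) F) * (-κ) *
          ((α⁻¹ : Matrix.GeneralLinearGroup (Fin a) F) : Matrix (Fin a) (Fin a) F)) w := by
      rw [Units.val_mul, Units.val_mul, hinv', hk, XBm_conjA]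
    have hval : ((r' * t * r'⁻¹ * t⁻¹ : Matrix.GeneralLinearGroup (Fin a × Fin b) F) :
        Matrix (Fin a × Fin b) (Fin a × Fin b) F) =
        XBm J2 (κ + (α : Matrix (Fin a) (Fin a) F) * (-κ) *
          ((α⁻¹ : Matrix.GeneralLinearGroup (Fin a) F) : Matrix (Fin a) (Fin a) F)) w := by
      have : r' * t * r'⁻¹ * t⁻¹ = r' * (t * r'⁻¹ * t⁻¹) := by group
      rw [this, Units.val_mul, hconj, hshape', XBm_mul J2 w hw]
    rw [hsame, hc] at hval
    -- evaluate on `x ⊗ ws`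
    obtain ⟨ws, hws⟩ := bf_nondeg C.det2 hw0
    obtain ⟨ξ, hξ⟩ : ∃ ξ, ξ = κ + (α : Matrix (Fin a) (Fin a) F) * (-κ) *
          ((α⁻¹ : Matrix.GeneralLinearGroup (Fin a) F) : Matrix (Fin a) (Fin a) F) := ⟨_, rfl⟩
    rw [← hξ] at hval
    have hξ' : ξ = κ - (α : Matrix (Fin a) (Fin a) F) * κ *
          ((α⁻¹ : Matrix.GeneralLinearGroup (Fin a) F) : Matrix (Fin a) (Fin a) F) := by
      rw [hξ, Matrix.mul_neg, Matrix.neg_mul, sub_eq_add_neg]
    rw [← hξ']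
    obtain ⟨y, hy⟩ : ∃ y, y = sieg J2 w z *ᵥ ws - ws := ⟨_, rfl⟩
    have hten : ∀ x : Fin a → F, ten ((bf J2 w ws • ξ) *ᵥ x) w = ten x y := by
      intro x
      have h1 : ((1 : Matrix (Fin a) (Fin a) F) ⊗ₖ sieg J2 w z) *ᵥ ten x ws = XBm J2 ξ w *ᵥ ten x ws := by
        rw [hval]
      rw [kron_mulVec_ten, Matrix.one_mulVec, tools1g_XBm_ten] at h1
      have h2 : sieg J2 w z *ᵥ ws = ws + y := by rw [hy]; abel
      rw [h2, ten_add_right] at h1
      have h3 : ten x y = bf J2 w ws • ten (ξ *ᵥ x) w := by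
        have := add_left_cancel h1
        exact this
      rw [h3, Matrix.smul_mulVec, ten_smul_left]
    by_cases hy0 : y = 0
    · refine ⟨0, ?_⟩
      rw [zero_smul]
      obtain ⟨j₀, hj₀⟩ : ∃ j₀, w j₀ ≠ 0 := by
        by_contra hcon
        push Not at hcon
        exact hw0 (funext hcon)
      rw [Matrix.ext_iff_mulVec]
      intro x
      rw [Matrix.zero_mulVec]
      funext i
      have := congrFun (hten x) (i, j₀)
      rw [hy0] at this
      simp only [ten, Matrix.smul_mulVec, Pi.smul_apply, smul_eq_mul, Pi.zero_apply, mul_zero] at this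
      rcases mul_eq_zero.mp this with h | h
      · rcases mul_eq_zero.mp h with h' | h'
        · exact absurd h' hws
        · exact h'
      · exact absurd h hj₀
    · obtain ⟨s, hs⟩ := tools2_scalar (by omega) (bf J2 w ws • ξ) w y hy0 hten
      refine ⟨(bf J2 w ws)⁻¹ * s, ?_⟩
      rw [mul_smul, ← hs, smul_smul, inv_mul_cancel₀ hws, one_smul]
  obtain ⟨c₀, hc₀⟩ := alg_central_O C.sym1 C.two C.det1 ha hodd hex κ hκsc
  have hc₀0 : c₀ = 0 := by
    have h1 : κᵀ * J1 = -(J1 * κ) := hκ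
    rw [hc₀, Matrix.transpose_smul, Matrix.transpose_one, Matrix.smul_mul, Matrix.one_mul,
      Matrix.mul_smul, Matrix.mul_one] at h1
    have h2 : (2 * c₀) • J1 = 0 := by
      rw [mul_smul, two_smul]
      nth_rewrite 1 [h1]
      exact neg_add_cancel _
    by_contra hne
    have hJ0 : J1 = 0 := by
      have := congrArg (fun X => (2 * c₀)⁻¹ • X) h2
      simp only [smul_smul, smul_zero] at this
      rw [inv_mul_cancel₀ (mul_ne_zero C.two hne), one_smul] at this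
      exact this
    apply C.det1
    rw [hJ0]
    have : Nonempty (Fin a) := ⟨⟨0, by omega⟩⟩
    exact Matrix.det_zero
  have hr'1 : r' = 1 := by
    apply Units.ext
    rw [hshape', hc₀, hc₀0, zero_smul, XBm_zero, Units.val_one]
  have hrk : r = kβ := by
    rw [hr'] at hr'1
    exact mul_inv_eq_one.mp hr'1
  rw [hrk, hkβv]

end Cfsg.Agent.Lib.Helper28.TOO
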