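import Cfsg.Agent.Lib.helper15.TOOWX4core
import Cfsg.Agent.Lib.Helper11.TOOWX0
import Cfsg.Agent.Lib.Lead.TOOWX2
import Cfsg.Agent.Lib.helper17.TOOWX3
import Cfsg.Agent.Lib.Helper16.TOOWI4

/-!
# Project TOO (S5681), row WX4 (helper15): `w1_xi_full`, verbatim (= `toowx4_core` + WX0, WX2, WX3, WI4).
-/

set_option autoImplicit false
set_option linter.unusedVariables false
set_option linter.unusedSectionVars false

namespace Cfsg.Agent.Lib.Helper28.TOO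

open Matrix
open scoped Kronecker
open Cfsg.Agent.Lib.helper7.TP Cfsg.Agent.Lib.Helper21.TS

variable {a b : ℕ} {F : Type*} [Field F]
variable {J1 : Matrix (Fin a) (Fin a) F} {J2 : Matrix (Fin b) (Fin b) F}

/-- WX4 XIFULL [M]. -/
theorem w1_xi_full [Fintype F] (C : OCtx J1 J2) (ha : 3 ≤ a) (hodd : Odd a) (hb : 5 ≤ b)
    (M : Subgroup (Matrix.GeneralLinearGroup (Fin a × Fin b) F)) (hT : T1 J1 J2 ≤ M)
    (h : ∃ (ξ : Matrix (Fin a) (Fin a) F) (w : Fin b → F), ξ ≠ 0 ∧ SkewAdj J1 ξ ∧ w ≠ 0 ∧ bf J2 w w = 0 ∧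
      InM M (XBm J2 ξ w)) :
    ∀ (ξ : Matrix (Fin a) (Fin a) F) (w : Fin b → F), SkewAdj J1 ξ → bf J2 w w = 0 →
      InM M (XBm J2 ξ w) := by
  apply toowx4_core C M hT
  · intro ξ w hw0 hw hin c
    exact w1_xi_smul C hb M hT ξ w hw0 hw hin c
  · intro ξ w w' hw0 hw hw'0 hw' hin
    exact w1_xi_all_w C hb M hT ξ w w' hw0 hw hw'0 hw' hin
  · intro Ξ hinv hne
    exact w1_skew_irr C.two C.sym1 C.det1 (by simpa using hodd) (by simpa using ha)
      (w1_ex_sing C.two C.sym1 C.det1 ha) Ξ hinv hne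
  · exact h

end Cfsg.Agent.Lib.Helper28.TOO
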