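import Cfsg.Agent.Lib.Helper28.TOO.Defs
import Cfsg.Agent.Lib.helper6.TSSIEG

/-!
# Project TOO (S5681), row WX4 (helper15): core `toowx4_core` of `w1_xi_full`.
-/

set_option autoImplicit false
set_option linter.unusedVariables false
set_option linter.unusedSectionVars false

namespace Cfsg.Agent.Lib.Helper28.TOO

open Matrix
open scoped Kronecker
open Cfsg.Agent.Lib.helper7.TP Cfsg.Agent.Lib.Helper21.TS

variable {a b : ℕ} {F : Type*} [Field F]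
variable {J1 : Matrix (Fin a) (Fin a) F} {J2 : Matrix (Fin b) (Fin b) F}

/-- WX4 core: the statements of WX0 (for `J1`), WX2, WX3, WI4 (for `J1`) as hypotheses. -/
theorem toowx4_core (C : OCtx J1 J2)
    (M : Subgroup (Matrix.GeneralLinearGroup (Fin a × Fin b) F)) (hT : T1 J1 J2 ≤ M)
    (hWX2 : ∀ (ξ : Matrix (Fin a) (Fin a) F) (w : Fin b → F), w ≠ 0 → bf J2 w w = 0 →
      InM M (XBm J2 ξ w) → ∀ c : F, InM M (XBm J2 (c • ξ) w))
    (hWX3 : ∀ (ξ : Matrix (Fin a) (Fin a) F) (w w' : Fin b → F), w ≠ 0 → bf J2 w w = 0 → w' ≠ 0 →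
      bf J2 w' w' = 0 → InM M (XBm J2 ξ w) → InM M (XBm J2 ξ w'))
    (hWI4 : ∀ Ξ : Submodule F (Matrix (Fin a) (Fin a) F),
      (∀ g ∈ Om J1, ∀ ξ ∈ Ξ, (g : Matrix (Fin a) (Fin a) F) * ξ *
        ((g⁻¹ : Matrix.GeneralLinearGroup (Fin a) F) : Matrix (Fin a) (Fin a) F) ∈ Ξ) →
      (∃ ξ ∈ Ξ, SkewAdj J1 ξ ∧ ξ ≠ 0) → ∀ ξ : Matrix (Fin a) (Fin a) F, SkewAdj J1 ξ → ξ ∈ Ξ)
    (h : ∃ (ξ : Matrix (Fin a) (Fin a) F) (w : Fin b → F), ξ ≠ 0 ∧ SkewAdj J1 ξ ∧ w ≠ 0 ∧ bf J2 w w = 0 ∧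
      InM M (XBm J2 ξ w)) :
    ∀ (ξ : Matrix (Fin a) (Fin a) F) (w : Fin b → F), SkewAdj J1 ξ → bf J2 w w = 0 →
      InM M (XBm J2 ξ w) := by
  obtain ⟨ξ₀, w₀, hξ₀, hsk₀, hw₀0, hw₀, hin₀⟩ := h
  let Ξ : Submodule F (Matrix (Fin a) (Fin a) F) :=
    { carrier := {ξ | ∀ c : F, InM M (XBm J2 (c • ξ) w₀)}
      add_mem' := by
        intro x y hx hy c
        show InM M (XBm J2 (c • (x + y)) w₀)
        rw [smul_add, ← XBm_mul J2 w₀ hw₀]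
        exact (hx c).mul (hy c)
      zero_mem' := by
        intro c
        show InM M (XBm J2 (c • (0 : Matrix (Fin a) (Fin a) F)) w₀)
        rw [smul_zero, XBm_zero]
        exact InM_one M
      smul_mem' := by
        intro c' x hx c
        show InM M (XBm J2 (c • c' • x) w₀)
        rw [smul_smul]
        exact hx (c * c') }
  have hΞ : ∀ ξ, ξ ∈ Ξ ↔ ∀ c : F, InM M (XBm J2 (c • ξ) w₀) := fun ξ => Iff.rfl
  have hinv : ∀ g ∈ Om J1, ∀ ξ ∈ Ξ, (g : Matrix (Fin a) (Fin a) F) * ξ *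
      ((g⁻¹ : Matrix.GeneralLinearGroup (Fin a) F) : Matrix (Fin a) (Fin a) F) ∈ Ξ := by
    intro g hg ξ hξ
    rw [hΞ]
    intro c
    have hkA : Cfsg.Agent.Lib.helper7.TO.kA a b F g ∈ M :=
      hT (Subgroup.mem_sup_left (Subgroup.mem_map_of_mem _ hg))
    have h1 := ((hΞ ξ).mp hξ c).conj hkA
    have hk : Cfsg.Agent.Lib.helper7.TO.kA a b F g =
        kronG g (1 : Matrix.GeneralLinearGroup (Fin b) F) := Units.ext rfl
    rw [hk, XBm_conjA, Matrix.mul_smul, Matrix.smul_mul] at h1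
    exact h1
  have hne : ∃ ξ ∈ Ξ, SkewAdj J1 ξ ∧ ξ ≠ 0 :=
    ⟨ξ₀, (hΞ ξ₀).mpr (fun c => hWX2 ξ₀ w₀ hw₀0 hw₀ hin₀ c), hsk₀, hξ₀⟩
  have hall := hWI4 Ξ hinv hne
  intro ξ w hξ hw
  by_cases hw0 : w = 0
  · subst hw0
    have h0 : opm J2 (0 : Fin b → F) 0 = 0 := by
      have := opm_smul_left J2 (0 : F) (0 : Fin b → F) 0
      rw [zero_smul, zero_smul] at this
      exact this
    have : XBm J2 ξ (0 : Fin b → F) = 1 := by
      rw [XBm, h0, Matrix.kronecker_zero, add_zero]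
    rw [this]
    exact InM_one M
  · have h1 := (hΞ ξ).mp (hall ξ hξ) 1
    rw [one_smul] at h1
    exact hWX3 ξ w₀ w hw₀0 hw₀ hw0 hw h1

end Cfsg.Agent.Lib.Helper28.TOO
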