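import Cfsg.Agent.Lib.helper15.TOSTABBd
import Cfsg.Agent.Lib.Helper20.TOALGC

/-!
# Project TO (S5704), piece STABB: `stabB_of_ntsB` (verbatim), from the core `tostabb_core` and ALGC.
-/

set_option autoImplicit false

namespace Cfsg.Agent.Lib.helper7.TO

open Matrix Cfsg.Agent.Lib.helper7.TP Cfsg.Agent.Lib.Helper28.SympAbs
open scoped Kronecker

variable {a b : ℕ} {F : Type*} [Field F]

/-- STABB. -/
theorem stabB_of_ntsB [Fintype F] (C : Ctx a b F) (ha : 2 ≤ a) (hb : 4 ≤ b)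
    (hex : ¬ (a = 2 ∧ Fintype.card F = 2))
    (M : Subgroup (Matrix.GeneralLinearGroup (Fin a × Fin b) F)) (hT : C.T1 ≤ M) (hG : M ≤ C.G)
    (hN : C.NtsB M) : StabB M :=
  tostabb_core C (by omega) hb (fun Z h => alg_central C.hf₁ ha hex Z h) M hT hG hN

end Cfsg.Agent.Lib.helper7.TO
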