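import Cfsg.Agent.Lib.helper15.TOSTABBa

/-!
# Project TO (S5704), piece STABB, part (b): the similitude `μ`

`g ∈ M` with `g (x ⊗ w) = μ x ⊗ w`.  Conjugating the elements `1 ⊗ s_m` (`m ∈ w^⊥`) by `g` and applying `NtsB`
one gets the structure of `g` on `A ⊗ w^⊥` modulo `A ⊗ w`, then `κ f₁(μ x', μ x) = f₁(x', x)` and
`ctr (fl₂ w) (g (x ⊗ y)) = κ f₂(y, w) μ x`.
-/

set_option autoImplicit false
set_option linter.unusedVariables false
set_option linter.unusedSectionVars false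

namespace Cfsg.Agent.Lib.helper7.TO

open Matrix Cfsg.Agent.Lib.helper7.TP Cfsg.Agent.Lib.Helper28.SympAbs
open scoped Kronecker

variable {a b : ℕ} {F : Type*} [Field F]

/-- a hyperbolic pair inside `w^⊥` (`n ≥ 4`). -/
theorem tostabb_hyp_pair {n : ℕ} {f : (Fin n → F) → (Fin n → F) → F}
    (hf : Cfsg.Geo.IsSymplecticForm f) (hn : 4 ≤ n) (w ws : Fin n → F) (hws : f ws w = 1) :
    ∃ m m' : Fin n → F, f m w = 0 ∧ f m' w = 0 ∧ f m' m = 1 := by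
  let L : (Fin n → F) →ₗ[F] (Fin 2 → F) :=
    { toFun := fun y => ![f y w, f y ws]
      map_add' := by
        intro x y
        ext i
        fin_cases i <;> simp [hf.bilinear.add_left]
      map_smul' := by
        intro c x
        ext i
        fin_cases i <;> simp [hf.bilinear.smul_left] }
  have hker : LinearMap.ker L ≠ ⊥ := by
    apply LinearMap.ker_ne_bot_of_finrank_lt
    rw [Module.finrank_fintype_fun_eq_card, Module.finrank_fintype_fun_eq_card, Fintype.card_fin,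
      Fintype.card_fin]
    omega
  obtain ⟨m, hmk, hm0⟩ := Submodule.exists_mem_ne_zero_of_ne_bot hker
  have hL : L m = 0 := LinearMap.mem_ker.1 hmk
  have hmw : f m w = 0 := by
    have := congrFun hL 0
    simpa [L] using this
  have hmws : f m ws = 0 := by
    have := congrFun hL 1
    simpa [L] using this
  obtain ⟨y, hy⟩ := (hf.nondegenerate m hm0).1
  have hwsm : f ws m = 0 := by rw [hf.skew, hmws, neg_zero]
  refine ⟨m, (f y m)⁻¹ • (y - f y w • ws), hmw, ?_, ?_⟩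
  · rw [hf.bilinear.smul_left, f_sub_left hf, hf.bilinear.smul_left, hws, mul_one, sub_self, mul_zero]
  · rw [hf.bilinear.smul_left, f_sub_left hf, hf.bilinear.smul_left, hwsm, mul_zero, sub_zero,
      inv_mul_cancel₀ hy]

/-- the data of STABB after the reduction `w' = w`. -/
structure tostabb_S (C : Ctx a b F) (M : Subgroup (Matrix.GeneralLinearGroup (Fin a × Fin b) F))
    (g : Matrix.GeneralLinearGroup (Fin a × Fin b) F) (w : Fin b → F)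
    (μ : Matrix (Fin a) (Fin a) F) : Prop where
  hT : C.T1 ≤ M
  hG : M ≤ C.G
  hN : C.NtsB M
  hg : g ∈ M
  hw : w ≠ 0
  hμ : ∀ u : Fin a → F,
    (g : Matrix (Fin a × Fin b) (Fin a × Fin b) F) *ᵥ ten u w = ten (μ *ᵥ u) w
  hμd : IsUnit μ.det

namespace tostabb_S

variable {C : Ctx a b F} {M : Subgroup (Matrix.GeneralLinearGroup (Fin a × Fin b) F)}
  {g : Matrix.GeneralLinearGroup (Fin a × Fin b) F} {w : Fin b → F}
  {μ : Matrix (Fin a) (Fin a) F}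

theorem μi_μ (S : tostabb_S C M g w μ) (u : Fin a → F) : μ⁻¹ *ᵥ (μ *ᵥ u) = u := by
  rw [Matrix.mulVec_mulVec, Matrix.nonsing_inv_mul μ S.hμd, Matrix.one_mulVec]

theorem μ_μi (S : tostabb_S C M g w μ) (u : Fin a → F) : μ *ᵥ (μ⁻¹ *ᵥ u) = u := by
  rw [Matrix.mulVec_mulVec, Matrix.mul_nonsing_inv μ S.hμd, Matrix.one_mulVec]

theorem gi_ten (S : tostabb_S C M g w μ) (u : Fin a → F) :
    ((g⁻¹ : Matrix.GeneralLinearGroup (Fin a × Fin b) F) :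
      Matrix (Fin a × Fin b) (Fin a × Fin b) F) *ᵥ ten u w = ten (μ⁻¹ *ᵥ u) w := by
  have h := S.hμ (μ⁻¹ *ᵥ u)
  rw [S.μ_μi] at h
  rw [← h, Ctx.inv_mulVec_mulVec]

/-- `g` preserves `(A ⊗ w)^⊥ = A ⊗ w^⊥`. -/
theorem perp (S : tostabb_S C M g w μ) (Y : Fin a × Fin b → F) (hY : ctr (C.fl₂ w) Y = 0) :
    ctr (C.fl₂ w) ((g : Matrix (Fin a × Fin b) (Fin a × Fin b) F) *ᵥ Y) = 0 := by
  rw [← C.perp_Bline_iff]
  intro x
  have h := S.hμ (μ⁻¹ *ᵥ x)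
  rw [S.μ_μi] at h
  rw [← h, C.G_f (S.hG S.hg)]
  exact (C.perp_Bline_iff Y w).2 hY _

/-- Step 1: for `m ∈ w^⊥`, `NtsB` applied to `g⁻¹ (1 ⊗ s_m) g`. -/
theorem L1 (S : tostabb_S C M g w μ) (ws : Fin b → F) (hws : C.f₂ ws w = 1) (m : Fin b → F)
    (hm : C.f₂ m w = 0) :
    ∃ (n₀ : Fin b → F) (Z : (Fin a → F) → (Fin a → F)), C.f₂ n₀ w = 0 ∧
      (∀ x : Fin a → F, (g : Matrix (Fin a × Fin b) (Fin a × Fin b) F) *ᵥ ten x n₀ =
        ten (ctr (C.fl₂ w) ((g : Matrix (Fin a × Fin b) (Fin a × Fin b) F) *ᵥ ten x ws)) m +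
          ten (Z x) w) ∧
      (∀ n : Fin b → F, C.f₂ n w = 0 → ∀ x : Fin a → F,
        ctr (C.fl₂ m) ((g : Matrix (Fin a × Fin b) (Fin a × Fin b) F) *ᵥ ten x n) =
          C.f₂ n n₀ • (μ *ᵥ x)) := by
  have hwm : C.f₂ w m = 0 := by rw [C.hf₂.skew, hm, neg_zero]
  obtain ⟨σ, hσ⟩ : ∃ σ : Matrix.GeneralLinearGroup (Fin a × Fin b) F,
      σ = kB a b F (C.tostabb_sm w m) := ⟨_, rfl⟩
  have hσM : σ ∈ M := by
    rw [hσ]
    exact S.hT (C.kB_mem_T1 (C.tostabb_sm_mem w m))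
  have hσv : ∀ v : Fin a × Fin b → F,
      (σ : Matrix (Fin a × Fin b) (Fin a × Fin b) F) *ᵥ v =
        v + ten (ctr (C.fl₂ m) v) w + ten (ctr (C.fl₂ w) v) m := by
    intro v
    rw [hσ]
    exact C.tostabb_kB_sm_mulVec w m hm v
  obtain ⟨h, hh⟩ : ∃ h : Matrix.GeneralLinearGroup (Fin a × Fin b) F, h = g⁻¹ * σ * g := ⟨_, rfl⟩
  have hhM : h ∈ M := by
    rw [hh]
    exact M.mul_mem (M.mul_mem (M.inv_mem S.hg) hσM) S.hg
  have hhv : ∀ X : Fin a × Fin b → F,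
      (g : Matrix (Fin a × Fin b) (Fin a × Fin b) F) *ᵥ
        ((h : Matrix (Fin a × Fin b) (Fin a × Fin b) F) *ᵥ X) =
      (σ : Matrix (Fin a × Fin b) (Fin a × Fin b) F) *ᵥ
        ((g : Matrix (Fin a × Fin b) (Fin a × Fin b) F) *ᵥ X) := by
    intro X
    rw [hh, Units.val_mul, Units.val_mul, ← Matrix.mulVec_mulVec, ← Matrix.mulVec_mulVec,
      Ctx.mulVec_inv_mulVec]
  have hhv' : ∀ X : Fin a × Fin b → F,
      (h : Matrix (Fin a × Fin b) (Fin a × Fin b) F) *ᵥ X =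
      ((g⁻¹ : Matrix.GeneralLinearGroup (Fin a × Fin b) F) :
        Matrix (Fin a × Fin b) (Fin a × Fin b) F) *ᵥ
        ((σ : Matrix (Fin a × Fin b) (Fin a × Fin b) F) *ᵥ
          ((g : Matrix (Fin a × Fin b) (Fin a × Fin b) F) *ᵥ X)) := by
    intro X
    rw [← hhv, Ctx.inv_mulVec_mulVec]
  -- the hypotheses of `NtsB`
  have h1 : ∀ x : Fin a → F,
      (h : Matrix (Fin a × Fin b) (Fin a × Fin b) F) *ᵥ ten x w = ten x w := by
    intro x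
    rw [hhv', S.hμ, hσv, ctr_ten, ctr_ten, C.fl₂_dot, C.fl₂_dot, hwm, C.hf₂.alternating, zero_smul,
      ten_zero_left, ten_zero_left, add_zero, add_zero, S.gi_ten, S.μi_μ]
  have h2 : ∀ n : Fin b → F, C.f₂ n w = 0 → ∀ x : Fin a → F, ∃ x' : Fin a → F,
      (h : Matrix (Fin a × Fin b) (Fin a × Fin b) F) *ᵥ ten x n = ten x n + ten x' w := by
    intro n hn x
    have hY : ctr (C.fl₂ w) ((g : Matrix (Fin a × Fin b) (Fin a × Fin b) F) *ᵥ ten x n) = 0 := by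
      apply S.perp
      rw [C.ctr_fl₂_ten, hn, zero_smul]
    refine ⟨μ⁻¹ *ᵥ ctr (C.fl₂ m) ((g : Matrix (Fin a × Fin b) (Fin a × Fin b) F) *ᵥ ten x n), ?_⟩
    rw [hhv', hσv, hY, ten_zero_left, add_zero, Matrix.mulVec_add, Ctx.inv_mulVec_mulVec, S.gi_ten]
  obtain ⟨n₀, c₀, hn₀, hHB⟩ := S.hN h hhM w S.hw h1 h2
  -- the relation (A)
  have hA : ∀ (x : Fin a → F) (y : Fin b → F),
      ten (ctr (C.fl₂ m) ((g : Matrix (Fin a × Fin b) (Fin a × Fin b) F) *ᵥ ten x y)) w +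
        ten (ctr (C.fl₂ w) ((g : Matrix (Fin a × Fin b) (Fin a × Fin b) F) *ᵥ ten x y)) m =
      (C.f₂ y n₀ + C.f₂ y w * c₀) • ten (μ *ᵥ x) w +
        C.f₂ y w • ((g : Matrix (Fin a × Fin b) (Fin a × Fin b) F) *ᵥ ten x n₀) := by
    intro x y
    have e1 := hhv (ten x y)
    rw [hHB x y, hσv] at e1
    simp only [Matrix.one_mulVec, Matrix.smul_mulVec, Matrix.mulVec_add, Matrix.mulVec_smul, S.hμ,
      ten_smul_left] at e1
    have e2 : (g : Matrix (Fin a × Fin b) (Fin a × Fin b) F) *ᵥ ten x y +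
        (ten (ctr (C.fl₂ m) ((g : Matrix (Fin a × Fin b) (Fin a × Fin b) F) *ᵥ ten x y)) w +
        ten (ctr (C.fl₂ w) ((g : Matrix (Fin a × Fin b) (Fin a × Fin b) F) *ᵥ ten x y)) m) =
        (g : Matrix (Fin a × Fin b) (Fin a × Fin b) F) *ᵥ ten x y +
        ((C.f₂ y n₀ + C.f₂ y w * c₀) • ten (μ *ᵥ x) w +
        C.f₂ y w • ((g : Matrix (Fin a × Fin b) (Fin a × Fin b) F) *ᵥ ten x n₀)) := by
      rw [← add_assoc, ← e1]
      module
    exact add_left_cancel e2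
  refine ⟨n₀, fun x => ctr (C.fl₂ m) ((g : Matrix (Fin a × Fin b) (Fin a × Fin b) F) *ᵥ ten x ws) -
      (C.f₂ ws n₀ + c₀) • (μ *ᵥ x), hn₀, ?_, ?_⟩
  · intro x
    have e := hA x ws
    rw [hws, one_mul, one_smul] at e
    rw [tpns_ten_sub_left, ten_smul_left]
    rw [add_comm] at e
    rw [← sub_eq_iff_eq_add'] at e
    rw [← e]
    abel
  · intro n hn x
    have e := hA x n
    have hY : ctr (C.fl₂ w) ((g : Matrix (Fin a × Fin b) (Fin a × Fin b) F) *ᵥ ten x n) = 0 := by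
      apply S.perp
      rw [C.ctr_fl₂_ten, hn, zero_smul]
    rw [hY, ten_zero_left, add_zero, hn, zero_mul, add_zero, zero_smul, add_zero,
      ← ten_smul_left] at e
    exact tpns_ten_left_inj e S.hw

/-- Step 2: `μ` is a similitude of `f₁`. -/
theorem sim (S : tostabb_S C M g w μ) (ha : 1 ≤ a) (hb : 4 ≤ b) (ws : Fin b → F)
    (hws : C.f₂ ws w = 1) :
    ∃ κ : F, κ ≠ 0 ∧
      (∀ x : Fin a → F,
        ctr (C.fl₂ w) ((g : Matrix (Fin a × Fin b) (Fin a × Fin b) F) *ᵥ ten x ws) = κ • (μ *ᵥ x)) ∧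
      (∀ x' x : Fin a → F, κ * C.f₁ (μ *ᵥ x') (μ *ᵥ x) = C.f₁ x' x) := by
  obtain ⟨m, m', hm, hm', hmm'⟩ := tostabb_hyp_pair C.hf₂ hb w ws hws
  have hwm : C.f₂ w m = 0 := by rw [C.hf₂.skew, hm, neg_zero]
  obtain ⟨n₀, Z, hn₀, hS7, hS5⟩ := S.L1 ws hws m hm
  obtain ⟨n₀', Z', hn₀', hS7', hS5'⟩ := S.L1 ws hws m' hm'
  have hP : ∀ x : Fin a → F,
      ctr (C.fl₂ w) ((g : Matrix (Fin a × Fin b) (Fin a × Fin b) F) *ᵥ ten x ws) =
        C.f₂ n₀' n₀ • (μ *ᵥ x) := by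
    intro x
    have e := hS5 n₀' hn₀' x
    rw [hS7' x, ctr_add, ctr_ten, ctr_ten, C.fl₂_dot, C.fl₂_dot, hmm', hwm, one_smul, zero_smul,
      add_zero] at e
    exact e
  have hsim : ∀ x' x : Fin a → F, C.f₂ n₀' n₀ * C.f₁ (μ *ᵥ x') (μ *ᵥ x) = C.f₁ x' x := by
    intro x' x
    have e := C.G_f (S.hG S.hg) (ten x' ws) (ten x w)
    rw [S.hμ, C.f_ten_right_B, hP, C.f_ten, hws, mul_one, C.hf₁.bilinear.smul_left] at e
    exact e
  refine ⟨C.f₂ n₀' n₀, ?_, hP, hsim⟩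
  intro h0
  have hv : (Pi.single (⟨0, by omega⟩ : Fin a) (1 : F) : Fin a → F) ≠ 0 := by
    intro h
    have := congrFun h ⟨0, by omega⟩
    simp at this
  obtain ⟨x, hx⟩ := (C.hf₁.nondegenerate _ hv).1
  apply hx
  rw [← hsim, h0, zero_mul]

/-- Step 3: the contraction against `w`. -/
theorem keyw (S : tostabb_S C M g w μ) (κ : F)
    (hsim : ∀ x' x : Fin a → F, κ * C.f₁ (μ *ᵥ x') (μ *ᵥ x) = C.f₁ x' x) (x : Fin a → F)
    (y : Fin b → F) :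
    ctr (C.fl₂ w) ((g : Matrix (Fin a × Fin b) (Fin a × Fin b) F) *ᵥ ten x y) =
      (κ * C.f₂ y w) • (μ *ᵥ x) := by
  by_contra hne
  have hD : ctr (C.fl₂ w) ((g : Matrix (Fin a × Fin b) (Fin a × Fin b) F) *ᵥ ten x y) -
      (κ * C.f₂ y w) • (μ *ᵥ x) ≠ 0 := sub_ne_zero.2 hne
  obtain ⟨x'', hx''⟩ := (C.hf₁.nondegenerate _ hD).2
  apply hx''
  have h := S.hμ (μ⁻¹ *ᵥ x'')
  rw [S.μ_μi] at h
  have e1 : C.f₁ (ctr (C.fl₂ w) ((g : Matrix (Fin a × Fin b) (Fin a × Fin b) F) *ᵥ ten x y)) x'' =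
      C.f₁ x (μ⁻¹ *ᵥ x'') * C.f₂ y w := by
    rw [← C.f_ten_right_B, ← h, C.G_f (S.hG S.hg), C.f_ten]
  have e2 := hsim x (μ⁻¹ *ᵥ x'')
  rw [S.μ_μi] at e2
  rw [f_sub_left C.hf₁, e1, C.hf₁.bilinear.smul_left, ← e2]
  ring

end tostabb_S

end Cfsg.Agent.Lib.helper7.TO
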