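import Cfsg.Agent.Lib.helper15.TOSTABBc

/-!
# Project TO (S5704), piece STABB, part (d): the core theorem

`tostabb_core` = `stabB_of_ntsB` with the statement of ALGC (`alg_central` for `f₁`) as a hypothesis.
-/

set_option autoImplicit false
set_option linter.unusedVariables false
set_option linter.unusedSectionVars false

namespace Cfsg.Agent.Lib.helper7.TO

open Matrix Cfsg.Agent.Lib.helper7.TP Cfsg.Agent.Lib.Helper28.SympAbs
open scoped Kronecker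

variable {a b : ℕ} {F : Type*} [Field F]

/-- the case `w' = w`. -/
theorem tostabb_same (C : Ctx a b F) (ha : 1 ≤ a) (hb : 4 ≤ b)
    (hALG : ∀ Z : Matrix (Fin a) (Fin a) F,
      (∀ (u : Fin a → F) (c : F), ∃ s : F,
        Z - tvm C.f₁ u c * Z * tvm C.f₁ u (-c) = s • (1 : Matrix (Fin a) (Fin a) F)) →
      ∃ s : F, Z = s • (1 : Matrix (Fin a) (Fin a) F))
    (M : Subgroup (Matrix.GeneralLinearGroup (Fin a × Fin b) F))
    (hT : C.T1 ≤ M) (hG : M ≤ C.G) (hN : C.NtsB M)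
    (g : Matrix.GeneralLinearGroup (Fin a × Fin b) F) (hg : g ∈ M) (w : Fin b → F) (hw : w ≠ 0)
    (h : ∀ x : Fin a → F, ∃ x' : Fin a → F,
      (g : Matrix (Fin a × Fin b) (Fin a × Fin b) F) *ᵥ ten x w = ten x' w) :
    g ∈ K0 a b F := by
  classical
  obtain ⟨G, hGd⟩ : ∃ G : Matrix (Fin a × Fin b) (Fin a × Fin b) F,
      (g : Matrix (Fin a × Fin b) (Fin a × Fin b) F) = G := ⟨_, rfl⟩
  rw [hGd] at h
  have hGiG : ∀ v : Fin a × Fin b → F,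
      ((g⁻¹ : Matrix.GeneralLinearGroup (Fin a × Fin b) F) :
        Matrix (Fin a × Fin b) (Fin a × Fin b) F) *ᵥ (G *ᵥ v) = v := by
    intro v
    rw [← hGd, Ctx.inv_mulVec_mulVec]
  -- the matrix `μ`
  obtain ⟨j₁, hj₁⟩ := tpns_exists_ne hw
  obtain ⟨μ, hμdef⟩ : ∃ μ : Matrix (Fin a) (Fin a) F,
      μ = (w j₁)⁻¹ • tpns_mat G (Pi.single j₁ 1) w := ⟨_, rfl⟩
  have hμ : ∀ u : Fin a → F, G *ᵥ ten u w = ten (μ *ᵥ u) w := by
    intro u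
    obtain ⟨u', hu'⟩ := h u
    rw [hu', hμdef, Matrix.smul_mulVec, tpns_mat_mulVec, hu', ctr_ten, single_one_dotProduct,
      smul_smul, inv_mul_cancel₀ hj₁, one_smul]
  have hμinj : ∀ u : Fin a → F, μ *ᵥ u = 0 → u = 0 := by
    intro u hu
    have h1 := hμ u
    rw [hu, tpns_ten_zero_left] at h1
    have h2 := hGiG (ten u w)
    rw [h1, Matrix.mulVec_zero] at h2
    exact tpns_ten_eq_zero h2.symm hw
  have hμunit : IsUnit μ := by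
    rw [← Matrix.mulVec_injective_iff_isUnit]
    intro u u' huu
    have h1 : μ *ᵥ (u - u') = 0 := by
      rw [Matrix.mulVec_sub]
      exact sub_eq_zero.2 huu
    exact sub_eq_zero.1 (hμinj _ h1)
  have hμdet : IsUnit μ.det := (Matrix.isUnit_iff_isUnit_det μ).1 hμunit
  have S : tostabb_S C M g w μ := ⟨hT, hG, hN, hg, hw, by rw [hGd]; exact hμ, hμdet⟩
  -- `ws` with `f₂ ws w = 1`
  obtain ⟨x₀, hx₀⟩ := (C.hf₂.nondegenerate w hw).1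
  obtain ⟨ws, hwsdef⟩ : ∃ ws : Fin b → F, ws = (C.f₂ x₀ w)⁻¹ • x₀ := ⟨_, rfl⟩
  have hws : C.f₂ ws w = 1 := by
    rw [hwsdef, C.hf₂.bilinear.smul_left, inv_mul_cancel₀ hx₀]
  obtain ⟨κ, hκ, hP, hsim⟩ := S.sim ha hb ws hws
  have hcomm := S.comm κ hsim
  have hkeyw := S.keyw κ hsim
  rw [hGd] at hkeyw
  -- (U1)
  have hU1 : ∀ ψ : Fin b → F, ψ ⬝ᵥ w = 0 → ∀ y : Fin b → F, ∃ ε : F, ∀ x : Fin a → F,
      ctr ψ (G *ᵥ ten x y) = ε • (μ *ᵥ x) := by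
    intro ψ hψ y
    have hE : ∀ (u : Fin a → F) (c : F), ∃ s : F, ∀ x : Fin a → F,
        tpns_mat G ψ y *ᵥ (tvm C.f₁ u c *ᵥ x) =
          tvm C.f₁ (μ *ᵥ u) (c * κ) *ᵥ (tpns_mat G ψ y *ᵥ x) +
            s • (μ *ᵥ (tvm C.f₁ u c *ᵥ x)) := by
      intro u c
      obtain ⟨n_t, c_t, hnt, htw⟩ := S.twist ws hws κ hκ hP hsim u c
      rw [hGd] at htw
      refine ⟨(ψ ⬝ᵥ n_t) * (κ * C.f₂ y w), fun x => ?_⟩
      rw [tpns_mat_mulVec, tpns_mat_mulVec, htw ψ x y, hψ, zero_smul, add_zero, hkeyw,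
        Matrix.mulVec_smul, ← hcomm, smul_smul]
    obtain ⟨ε, hε⟩ := tostabb_algc C hALG μ hμdet κ hcomm (tpns_mat G ψ y) hE
    refine ⟨ε, fun x => ?_⟩
    rw [← tpns_mat_mulVec, hε]
  -- (U2)
  have hU2 : ∀ (ψ y : Fin b → F), ∃ ε : F, ∀ x : Fin a → F,
      ctr ψ (G *ᵥ ten x y) = ε • (μ *ᵥ x) := by
    intro ψ y
    have hE : ∀ (u : Fin a → F) (c : F), ∃ s : F, ∀ x : Fin a → F,
        tpns_mat G ψ y *ᵥ (tvm C.f₁ u c *ᵥ x) =
          tvm C.f₁ (μ *ᵥ u) (c * κ) *ᵥ (tpns_mat G ψ y *ᵥ x) +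
            s • (μ *ᵥ (tvm C.f₁ u c *ᵥ x)) := by
      intro u c
      obtain ⟨n_t, c_t, hnt, htw⟩ := S.twist ws hws κ hκ hP hsim u c
      rw [hGd] at htw
      have hnt' : C.fl₂ n_t ⬝ᵥ w = 0 := by
        rw [C.fl₂_dot, C.hf₂.skew, hnt, neg_zero]
      obtain ⟨ε₁, hε₁⟩ := hU1 (C.fl₂ n_t) hnt' y
      refine ⟨(ψ ⬝ᵥ w) * (ε₁ + c_t * (κ * C.f₂ y w)) + (ψ ⬝ᵥ n_t) * (κ * C.f₂ y w), fun x => ?_⟩
      rw [tpns_mat_mulVec, tpns_mat_mulVec, htw ψ x y, hkeyw, hε₁, hcomm]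
      simp only [Matrix.mulVec_smul]
      module
    obtain ⟨ε, hε⟩ := tostabb_algc C hALG μ hμdet κ hcomm (tpns_mat G ψ y) hE
    refine ⟨ε, fun x => ?_⟩
    rw [← tpns_mat_mulVec, hε]
  -- the matrix `β`
  obtain ⟨i₀, hi₀⟩ : ∃ i₀ : Fin a, i₀ = ⟨0, by omega⟩ := ⟨_, rfl⟩
  obtain ⟨e₀, he₀⟩ : ∃ e₀ : Fin a → F, e₀ = Pi.single i₀ 1 := ⟨_, rfl⟩
  have he₀0 : e₀ ≠ 0 := by
    intro h0
    have := congrFun h0 i₀
    rw [he₀, Pi.single_eq_same] at this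
    exact one_ne_zero this
  have hm₀ : μ *ᵥ e₀ ≠ 0 := fun h0 => he₀0 (hμinj _ h0)
  obtain ⟨i₁, hi₁⟩ := tpns_exists_ne hm₀
  obtain ⟨β, hβdef⟩ : ∃ β : Matrix (Fin b) (Fin b) F, β = ((μ *ᵥ e₀) i₁)⁻¹ • LinearMap.toMatrix'
      ((tostabb_rowL i₁).comp ((Matrix.toLin' G).comp (tostabb_tenR e₀))) := ⟨_, rfl⟩
  have hβ : ∀ (y : Fin b → F) (k : Fin b),
      (β *ᵥ y) k = ((μ *ᵥ e₀) i₁)⁻¹ * (G *ᵥ ten e₀ y) (i₁, k) := by
    intro y k
    rw [hβdef, Matrix.smul_mulVec, LinearMap.toMatrix'_mulVec]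
    rfl
  have hmain : ∀ (x : Fin a → F) (y : Fin b → F), G *ᵥ ten x y = ten (μ *ᵥ x) (β *ᵥ y) := by
    intro x y
    funext p
    obtain ⟨i, k⟩ := p
    obtain ⟨ε, hε⟩ := hU2 (Pi.single k 1) y
    have h1 : (G *ᵥ ten e₀ y) (i₁, k) = ε * (μ *ᵥ e₀) i₁ := by
      have h := congrFun (hε e₀) i₁
      rw [tpns_ctr_single, Pi.smul_apply, smul_eq_mul] at h
      exact h
    have h2 : (G *ᵥ ten x y) (i, k) = ε * (μ *ᵥ x) i := by
      have h := congrFun (hε x) i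
      rw [tpns_ctr_single, Pi.smul_apply, smul_eq_mul] at h
      exact h
    have hεv : ε = (β *ᵥ y) k := by
      rw [hβ, h1, mul_comm ε, ← mul_assoc, inv_mul_cancel₀ hi₁, one_mul]
    rw [h2, hεv]
    simp only [ten]
    ring
  have hGeq : G = μ ⊗ₖ β := by
    apply mat_ext_ten
    intro x y
    rw [hmain, kron_mulVec_ten]
  have hGdet : G.det ≠ 0 := by
    have hu : IsUnit G := by
      rw [← hGd]
      exact Units.isUnit g
    exact ((Matrix.isUnit_iff_isUnit_det G).1 hu).ne_zero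
  have hβdet : β.det ≠ 0 := by
    intro h0
    apply hGdet
    rw [hGeq, Matrix.det_kronecker, h0, Fintype.card_fin, Fintype.card_fin, zero_pow (by omega),
      mul_zero]
  exact (mem_K0 g).2 ⟨Matrix.GeneralLinearGroup.mkOfDetNeZero μ hμdet.ne_zero,
    Matrix.GeneralLinearGroup.mkOfDetNeZero β hβdet, by rw [hGd, hGeq]; rfl⟩

/-- `stabB_of_ntsB` with the statement of ALGC for `f₁` as a hypothesis. -/
theorem tostabb_core (C : Ctx a b F) (ha : 1 ≤ a) (hb : 4 ≤ b)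
    (hALG : ∀ Z : Matrix (Fin a) (Fin a) F,
      (∀ (u : Fin a → F) (c : F), ∃ s : F,
        Z - tvm C.f₁ u c * Z * tvm C.f₁ u (-c) = s • (1 : Matrix (Fin a) (Fin a) F)) →
      ∃ s : F, Z = s • (1 : Matrix (Fin a) (Fin a) F))
    (M : Subgroup (Matrix.GeneralLinearGroup (Fin a × Fin b) F))
    (hT : C.T1 ≤ M) (hG : M ≤ C.G) (hN : C.NtsB M) : StabB M := by
  intro g hg w w' hw hw' h
  obtain ⟨β₀, hβ₀T, hβ₀w, -, -⟩ := trans_vec C.hf₂ ⊤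
    (fun x _ hx => by
      obtain ⟨t, ht⟩ := (C.hf₂.nondegenerate x hx).2
      exact ⟨t, Submodule.mem_top, ht⟩)
    w' w Submodule.mem_top Submodule.mem_top hw' hw
  have hkM : kB a b F β₀ ∈ M := hT (C.kB_mem_T1 hβ₀T)
  have hg'M : kB a b F β₀ * g ∈ M := M.mul_mem hkM hg
  have hg'K : kB a b F β₀ * g ∈ K0 a b F := by
    apply tostabb_same C ha hb hALG M hT hG hN _ hg'M w hw
    intro x
    obtain ⟨x', hx'⟩ := h x
    refine ⟨x', ?_⟩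
    rw [Units.val_mul, ← Matrix.mulVec_mulVec, hx', kB_mulVec_ten, hβ₀w]
  have : g = (kB a b F β₀)⁻¹ * (kB a b F β₀ * g) := by group
  rw [this]
  exact (K0 a b F).mul_mem ((K0 a b F).inv_mem (kB_mem_K0 β₀)) hg'K

end Cfsg.Agent.Lib.helper7.TO
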