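import Cfsg.Agent.Lib.Helper21.TS.XA
import Cfsg.Agent.Lib.helper3.C3OISO
import Cfsg.Agent.Lib.Helper10.TSHYPB

/-!
# Project TS (S5666), case `a = 2`: step 7 of helper27's NOTES ("LINEAR ALGEBRA")

`V = F^2 ⊗ F^b`, `b ≥ 7`, `S ≤ V` totally isotropic of dimension `≥ b` with the property

(P) for every singular `w ≠ 0` and every non-singular `m ⟂ w` there is `u1 ≠ 0` with
    `S ∩ (A ⊗ ⟨w, m⟩^⟂) ≤ u1 ⊗ B`.

Then `S ≤ u2 ⊗ B` for some `u2 ≠ 0`.  Pure linear algebra (no groups).
-/

set_option autoImplicit false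
set_option linter.unusedSectionVars false
set_option linter.unusedVariables false

namespace Cfsg.Agent.Lib.Helper21.TS

open Matrix Module
open scoped Kronecker
open Cfsg.Agent.Lib.helper7.TP

variable {b : ℕ} {F : Type*} [Field F]

/-! ## dimension tools -/

theorem ts2lin_ker {X κ : Type*} [AddCommGroup X] [Module F X] [FiniteDimensional F X] [Fintype κ]
    (φ : X →ₗ[F] (κ → F)) : finrank F X ≤ finrank F (LinearMap.ker φ) + Fintype.card κ := by
  have h := LinearMap.finrank_range_add_finrank_ker φ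
  have h2 : finrank F (LinearMap.range φ) ≤ Fintype.card κ := by
    calc finrank F (LinearMap.range φ) ≤ finrank F (κ → F) := Submodule.finrank_le _
      _ = Fintype.card κ := Module.finrank_fintype_fun_eq_card F
  omega

theorem ts2lin_ker_ne {X κ : Type*} [AddCommGroup X] [Module F X] [FiniteDimensional F X] [Fintype κ]
    (φ : X →ₗ[F] (κ → F)) (h : Fintype.card κ < finrank F X) : ∃ x : X, x ≠ 0 ∧ φ x = 0 := by
  have h1 := ts2lin_ker φ
  have h2 : 0 < finrank F (LinearMap.ker φ) := by omega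
  obtain ⟨x, hx⟩ := Module.finrank_pos_iff_exists_ne_zero.mp h2
  refine ⟨x.1, fun h0 => hx (Subtype.ext h0), x.2⟩

/-- the common kernel of `k` linear forms on `F^b` has dimension `≥ b - k`. -/
theorem ts2lin_kerB {κ : Type*} [Fintype κ] (f : κ → (Fin b → F) →ₗ[F] F) :
    b ≤ finrank F (LinearMap.ker (LinearMap.pi f)) + Fintype.card κ := by
  have h := ts2lin_ker (LinearMap.pi f)
  rwa [Module.finrank_fin_fun] at h

/-- the linear form `z ↦ f(z, w)`. -/
def ts2linL (J : Matrix (Fin b) (Fin b) F) (w : Fin b → F) : (Fin b → F) →ₗ[F] F where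
  toFun z := bf J z w
  map_add' x y := bf_add_left J x y w
  map_smul' c x := by simp [bf_smul_left]

@[simp] theorem ts2linL_apply (J : Matrix (Fin b) (Fin b) F) (w z : Fin b → F) :
    ts2linL J w z = bf J z w := rfl

/-- a subspace of dimension `> b/2` contains a non-singular vector. -/
theorem ts2lin_ns {J : Matrix (Fin b) (Fin b) F} (hJ : Jᵀ = J) (two : (2 : F) ≠ 0) (hdet : J.det ≠ 0)
    (W : Submodule F (Fin b → F)) (hW : b < 2 * finrank F W) : ∃ m ∈ W, bf J m m ≠ 0 := by
  by_contra hcon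
  push Not at hcon
  have hiso : ∀ x ∈ W, ∀ y ∈ W, bf J x y = 0 := by
    intro x hx y hy
    have h1 := hcon (x + y) (W.add_mem hx hy)
    rw [bf_add_left, bf_add_right, bf_add_right, hcon x hx, hcon y hy, bf_symm hJ y x] at h1
    have h2 : (2 : F) * bf J x y = 0 := by linear_combination h1
    exact (mul_eq_zero.mp h2).resolve_left two
  have hnd : (Matrix.toBilin' J).Nondegenerate := LinearMap.BilinForm.nondegenerate_toBilin'_of_det_ne_zero' J hdet
  have hle : W ≤ (Matrix.toBilin' J).orthogonal W := by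
    intro x hx
    rw [LinearMap.BilinForm.mem_orthogonal_iff]
    intro y hy
    show Matrix.toBilin' J y x = 0
    rw [Matrix.toBilin'_apply']
    exact hiso y hy x hx
  have h3 := LinearMap.BilinForm.finrank_orthogonal hnd W
  have h4 := Submodule.finrank_mono hle
  rw [h3, Module.finrank_fin_fun] at h4
  omega

/-! ## the case `a = 2` -/

theorem ts2lin_bf2 {J1 : Matrix (Fin 2) (Fin 2) F} (h : J1ᵀ = -J1) (two : (2 : F) ≠ 0) (x y : Fin 2 → F) :
    bf J1 x y = J1 0 1 * (x 0 * y 1 - x 1 * y 0) := by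
  have e00 : J1 0 0 = 0 := by
    have := congrFun (congrFun h 0) 0
    simp only [Matrix.transpose_apply, Matrix.neg_apply] at this
    have h2 : (2 : F) * J1 0 0 = 0 := by linear_combination this
    exact (mul_eq_zero.mp h2).resolve_left two
  have e11 : J1 1 1 = 0 := by
    have := congrFun (congrFun h 1) 1
    simp only [Matrix.transpose_apply, Matrix.neg_apply] at this
    have h2 : (2 : F) * J1 1 1 = 0 := by linear_combination this
    exact (mul_eq_zero.mp h2).resolve_left two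
  have e10 : J1 1 0 = -J1 0 1 := by
    have := congrFun (congrFun h 0) 1
    simpa only [Matrix.transpose_apply, Matrix.neg_apply] using this
  simp only [bf, dotProduct, Matrix.mulVec, Fin.sum_univ_two, e00, e11, e10]
  ring

/-- the contraction `f₁(v, ·) ⊗ 1 : V → B`. -/
def ts2linZ (J1 : Matrix (Fin 2) (Fin 2) F) (v : Fin 2 → F) :
    (Fin 2 × Fin b → F) →ₗ[F] (Fin b → F) where
  toFun s := fun j => bf J1 v (fun i => s (i, j))
  map_add' s s' := by
    funext j
    show bf J1 v ((fun i => s (i, j)) + (fun i => s' (i, j))) = _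
    rw [bf_add_right]
    rfl
  map_smul' c s := by
    funext j
    show bf J1 v (c • (fun i => s (i, j))) = _
    rw [bf_smul_right]
    rfl

theorem ts2linZ_apply (J1 : Matrix (Fin 2) (Fin 2) F) (v : Fin 2 → F) (s : Fin 2 × Fin b → F) (j : Fin b) :
    ts2linZ J1 v s j = bf J1 v (fun i => s (i, j)) := rfl

theorem ts2linZ_ten (J1 : Matrix (Fin 2) (Fin 2) F) (v u : Fin 2 → F) (z : Fin b → F) :
    ts2linZ J1 v (ten u z) = bf J1 v u • z := by
  funext j
  rw [ts2linZ_apply]
  have : (fun i => ten u z (i, j)) = z j • u := by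
    funext i
    simp [ten, mul_comm]
  rw [this, bf_smul_right, Pi.smul_apply, smul_eq_mul, mul_comm]

/-- `z ↦ u ⊗ z` as a linear map. -/
def ts2linT (u : Fin 2 → F) : (Fin b → F) →ₗ[F] (Fin 2 × Fin b → F) where
  toFun z := ten u z
  map_add' := ten_add_right u
  map_smul' c z := ten_smul_right c u z

@[simp] theorem ts2linT_apply (u : Fin 2 → F) (z : Fin b → F) : ts2linT u z = ten u z := rfl

/-- the linear form `s ↦ f₂(s(i, ·), w)`. -/
def ts2linR (J2 : Matrix (Fin b) (Fin b) F) (i : Fin 2) (w : Fin b → F) : (Fin 2 × Fin b → F) →ₗ[F] F where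
  toFun s := bf J2 (fun j => s (i, j)) w
  map_add' s s' := by
    show bf J2 ((fun j => s (i, j)) + (fun j => s' (i, j))) w = _
    rw [bf_add_left]
  map_smul' c s := by
    show bf J2 (c • (fun j => s (i, j))) w = _
    rw [bf_smul_left]
    rfl

@[simp] theorem ts2linR_apply (J2 : Matrix (Fin b) (Fin b) F) (i : Fin 2) (w : Fin b → F)
    (s : Fin 2 × Fin b → F) : ts2linR J2 i w s = bf J2 (fun j => s (i, j)) w := rfl

/-- `s = v1 ⊗ z1 + v2 ⊗ z2` for a symplectic basis `v1, v2` of `F^2`. -/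
theorem ts2lin_decomp {J1 : Matrix (Fin 2) (Fin 2) F} (h : J1ᵀ = -J1) (two : (2 : F) ≠ 0)
    (v1 v2 : Fin 2 → F) (h12 : bf J1 v1 v2 = 1) (s : Fin 2 × Fin b → F) :
    s = ten v1 (-ts2linZ J1 v2 s) + ten v2 (ts2linZ J1 v1 s) := by
  rw [ts2lin_bf2 h two] at h12
  funext ⟨i, j⟩
  simp only [Pi.add_apply, ten, Pi.neg_apply, ts2linZ_apply, ts2lin_bf2 h two]
  fin_cases i
  · simp only [Fin.zero_eta]
    linear_combination (-(s (0, j))) * h12
  · simp only [Fin.mk_one]
    linear_combination (-(s (1, j))) * h12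

theorem ts2lin_row_ten (J2 : Matrix (Fin b) (Fin b) F) (u : Fin 2 → F) (z w : Fin b → F) (i : Fin 2) :
    bf J2 (fun j => ten u z (i, j)) w = u i * bf J2 z w := by
  have : (fun j => ten u z (i, j)) = u i • z := by
    funext j
    simp [ten]
  rw [this, bf_smul_left]

theorem ts2lin_mem_kerpi {X κ : Type*} [AddCommGroup X] [Module F X] (f : κ → (X →ₗ[F] F)) (x : X) :
    x ∈ LinearMap.ker (LinearMap.pi f) ↔ ∀ i, f i x = 0 := by
  rw [LinearMap.mem_ker]
  constructor
  · intro h i
    have := congrFun h i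
    simpa using this
  · intro h
    funext i
    simpa using h i

/-- `E = {z | u ⊗ z ∈ S}`. -/
def ts2linE (u : Fin 2 → F) (S : Submodule F (Fin 2 × Fin b → F)) : Submodule F (Fin b → F) :=
  S.comap (ts2linT u)

theorem ts2lin_mem_E (u : Fin 2 → F) (S : Submodule F (Fin 2 × Fin b → F)) (z : Fin b → F) :
    z ∈ ts2linE u S ↔ ten u z ∈ S := Iff.rfl

theorem ts2lin_ten_inj {u : Fin 2 → F} (hu : u ≠ 0) {z z' : Fin b → F} (h : ten u z = ten u z') :
    z = z' := by
  obtain ⟨i, hi⟩ := Function.ne_iff.mp hu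
  funext j
  have := congrFun h (i, j)
  simp only [ten] at this
  exact mul_left_cancel₀ hi this

theorem ts2lin_dimE {u : Fin 2 → F} (hu : u ≠ 0) (S : Submodule F (Fin 2 × Fin b → F))
    (X : Submodule F S) (hX : ∀ x ∈ X, ∃ z : Fin b → F, (x : Fin 2 × Fin b → F) = ten u z) :
    finrank F X ≤ finrank F (ts2linE u S) := by
  let τ : ts2linE u S →ₗ[F] S :=
    LinearMap.codRestrict S ((ts2linT u).comp (ts2linE u S).subtype) (fun z => z.2)
  have hinj : Function.Injective τ := by
    intro z z' h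
    apply Subtype.ext
    apply ts2lin_ten_inj hu
    have := congrArg Subtype.val h
    exact this
  have hle : X ≤ LinearMap.range τ := by
    intro x hx
    obtain ⟨z, hz⟩ := hX x hx
    have hzE : z ∈ ts2linE u S := by
      show ten u z ∈ S
      rw [← hz]
      exact x.2
    exact ⟨⟨z, hzE⟩, Subtype.ext hz.symm⟩
  calc finrank F X ≤ finrank F (LinearMap.range τ) := Submodule.finrank_mono hle
    _ = finrank F (ts2linE u S) := LinearMap.finrank_range_of_inj hinj

/-- **Step 7 (core).** A totally isotropic `S ≤ F^2 ⊗ F^b` of dimension `≥ b ≥ 7` with property (P) lies in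
some `u2 ⊗ B`. -/
theorem ts2lin_core [Fintype F] {J1 : Matrix (Fin 2) (Fin 2) F} {J2 : Matrix (Fin b) (Fin b) F}
    (C : Ctx J1 J2) (hb : 7 ≤ b) (S : Submodule F (Fin 2 × Fin b → F))
    (hiso : ∀ s ∈ S, ∀ s' ∈ S, bf (JV J1 J2) s s' = 0)
    (hdim : b ≤ finrank F S)
    (hP : ∀ w m : Fin b → F, w ≠ 0 → bf J2 w w = 0 → bf J2 w m = 0 → bf J2 m m ≠ 0 →
      ∃ u1 : Fin 2 → F, u1 ≠ 0 ∧ ∀ s ∈ S, (∀ i, bf J2 (fun j => s (i, j)) w = 0) →
        (∀ i, bf J2 (fun j => s (i, j)) m = 0) → ∃ z : Fin b → F, s = ten u1 z) :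
    ∃ u2 : Fin 2 → F, u2 ≠ 0 ∧ ∀ s ∈ S, ∃ z : Fin b → F, s = ten u2 z := by
  classical
  have hsym := C.sym
  have two := C.two
  have hbs : ∀ x y : Fin b → F, Matrix.toBilin' J2 x y = Matrix.toBilin' J2 y x := by
    intro x y
    rw [Matrix.toBilin'_apply', Matrix.toBilin'_apply']
    exact bf_symm hsym x y
  -- a first admissible pair
  obtain ⟨w0, hw0, hw00⟩ := tshypb_sing (F := F) hsym (by omega : 3 ≤ b)
  obtain ⟨m0, hm0W, hm0⟩ := ts2lin_ns hsym two C.det2
    (LinearMap.ker (LinearMap.pi (fun _ : Fin 1 => ts2linL J2 w0)))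
    (by
      have := ts2lin_kerB (fun _ : Fin 1 => ts2linL J2 w0)
      simp only [Fintype.card_fin] at this
      omega)
  have hm0w : bf J2 m0 w0 = 0 := by
    have := (ts2lin_mem_kerpi _ _).mp hm0W 0
    simpa using this
  obtain ⟨v1, hv1, hv1P⟩ := hP w0 m0 hw0 hw00 (by rw [bf_symm hsym]; exact hm0w) hm0
  obtain ⟨y1, hy1⟩ := bf_nondeg C.det1 hv1
  obtain ⟨v2, hv2⟩ : ∃ v2 : Fin 2 → F, v2 = (bf J1 v1 y1)⁻¹ • y1 := ⟨_, rfl⟩
  have h12 : bf J1 v1 v2 = 1 := by rw [hv2, bf_smul_right, inv_mul_cancel₀ hy1]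
  have h11 : bf J1 v1 v1 = 0 := bf_self_alt C.alt two v1
  have h21 : bf J1 v2 v1 = -1 := by rw [bf_alt C.alt, h12]
  have hdec : ∀ s : Fin 2 × Fin b → F,
      s = ten v1 (-ts2linZ J1 v2 s) + ten v2 (ts2linZ J1 v1 s) := ts2lin_decomp C.alt two v1 v2 h12
  have hZ2ten : ∀ z : Fin b → F, ts2linZ J1 v1 (ten v1 z) = 0 := by
    intro z
    rw [ts2linZ_ten, h11, zero_smul]
  have hZ2zero : ∀ s : Fin 2 × Fin b → F, ts2linZ J1 v1 s = 0 → s = ten v1 (-ts2linZ J1 v2 s) := by
    intro s h0
    have h := hdec s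
    rw [h0] at h
    have h00 : ten v2 (0 : Fin b → F) = 0 := (ts2linT v2).map_zero
    rw [h00, add_zero] at h
    exact h
  -- rows of `s`
  have hrow : ∀ (s : Fin 2 × Fin b → F) (x : Fin b → F) (i : Fin 2),
      bf J2 (fun j => s (i, j)) x =
        v1 i * bf J2 (-ts2linZ J1 v2 s) x + v2 i * bf J2 (ts2linZ J1 v1 s) x := by
    intro s x i
    have h := hdec s
    have h2 : (fun j => s (i, j)) = (fun j => (ten v1 (-ts2linZ J1 v2 s)) (i, j)) +
        (fun j => (ten v2 (ts2linZ J1 v1 s)) (i, j)) := by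
      funext j
      have := congrFun h (i, j)
      rw [this]
      rfl
    rw [h2, bf_add_left, ts2lin_row_ten, ts2lin_row_ten]
  -- `E`
  have hEdef : ∀ z : Fin b → F, z ∈ ts2linE v1 S ↔ ten v1 z ∈ S := fun z => Iff.rfl
  -- Step 5: `Z2 s ⟂ E`
  have hperp : ∀ s ∈ S, ∀ e ∈ ts2linE v1 S, bf J2 e (ts2linZ J1 v1 s) = 0 := by
    intro s hs e he
    have h := hiso (ten v1 e) he s hs
    rw [hdec s, bf_add_right, bf_JV_ten, bf_JV_ten, h11, h12, zero_mul, one_mul, zero_add] at h
    exact h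
  -- dim E ≥ 3
  have hE3 : 3 ≤ finrank F (ts2linE v1 S) := by
    let ψ : (Fin 2 × Fin b → F) →ₗ[F] (Fin 2 × Fin 2 → F) :=
      LinearMap.pi (fun p : Fin 2 × Fin 2 => ts2linR J2 p.1 (if p.2 = 0 then w0 else m0))
    have h1 := ts2lin_ker (ψ.comp S.subtype)
    have hc : Fintype.card (Fin 2 × Fin 2) = 4 := by simp
    rw [hc] at h1
    have h2 : finrank F (LinearMap.ker (ψ.comp S.subtype)) ≤ finrank F (ts2linE v1 S) := by
      apply ts2lin_dimE hv1
      intro x hx
      have hx0 : ψ (x : Fin 2 × Fin b → F) = 0 := LinearMap.mem_ker.mp hx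
      apply hv1P _ x.2
      · intro i
        have := congrFun hx0 (i, 0)
        simpa [ψ] using this
      · intro i
        have := congrFun hx0 (i, 1)
        simpa [ψ] using this
    omega
  -- (P'): the vector `u1` of (P) is always parallel to `v1`
  have hP' : ∀ w m : Fin b → F, w ≠ 0 → bf J2 w w = 0 → bf J2 w m = 0 → bf J2 m m ≠ 0 →
      ∀ s ∈ S, (∀ i, bf J2 (fun j => s (i, j)) w = 0) →
        (∀ i, bf J2 (fun j => s (i, j)) m = 0) → ∃ z : Fin b → F, s = ten v1 z := by
    intro w m hw hww hwm hmm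
    obtain ⟨u1, hu1, hu1P⟩ := hP w m hw hww hwm hmm
    -- a nonzero `z0 ∈ E` perpendicular to `w`, `m`
    obtain ⟨z0, hz0, hz0k⟩ := ts2lin_ker_ne
      ((LinearMap.pi (fun k : Fin 2 => ts2linL J2 (if k = 0 then w else m))).comp (ts2linE v1 S).subtype)
      (by simp only [Fintype.card_fin]; omega)
    have hz0w : bf J2 (z0 : Fin b → F) w = 0 := by
      have := congrFun hz0k 0
      simpa using this
    have hz0m : bf J2 (z0 : Fin b → F) m = 0 := by
      have := congrFun hz0k 1
      simpa using this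
    have hz0S : ten v1 (z0 : Fin b → F) ∈ S := z0.2
    obtain ⟨z', hz'⟩ := hu1P _ hz0S
      (by intro i; rw [ts2lin_row_ten, hz0w, mul_zero])
      (by intro i; rw [ts2lin_row_ten, hz0m, mul_zero])
    have hz0' : (z0 : Fin b → F) ≠ 0 := fun h => hz0 (Subtype.ext h)
    obtain ⟨i0, hi0⟩ := Function.ne_iff.mp hv1
    obtain ⟨j0, hj0⟩ := Function.ne_iff.mp hz0'
    have hz'j0 : z' j0 ≠ 0 := by
      intro h0
      have := congrFun hz' (i0, j0)
      simp only [ten, h0, mul_zero] at this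
      exact (mul_ne_zero hi0 hj0) this
    have hu1v1 : u1 = ((z0 : Fin b → F) j0 / z' j0) • v1 := by
      funext i
      have := congrFun hz' (i, j0)
      simp only [ten] at this
      simp only [Pi.smul_apply, smul_eq_mul]
      field_simp
      linear_combination -this
    intro s hs h1 h2
    obtain ⟨z, hz⟩ := hu1P s hs h1 h2
    refine ⟨((z0 : Fin b → F) j0 / z' j0) • z, ?_⟩
    rw [hz, hu1v1, ten_smul_left, ten_smul_right]
  -- key lemma: a singular `w ∈ E` and a bad `s*`
  have key : ∀ w ∈ ts2linE v1 S, w ≠ 0 → bf J2 w w = 0 →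
      (∃ s ∈ S, ts2linZ J1 v1 s ≠ 0) →
      (∀ e ∈ ts2linE v1 S, bf J2 e w = 0) ∧
        (∀ s ∈ S, bf J2 (-ts2linZ J1 v2 s) w = 0 → ts2linZ J1 v1 s = 0) := by
    intro w hwE hw hww ⟨sb, hsb, hsb2⟩
    -- (a)
    have ha : ∀ s ∈ S, ts2linZ J1 v1 s ≠ 0 → ∀ e ∈ ts2linE v1 S,
        bf J2 (-ts2linZ J1 v2 s + e) w ≠ 0 := by
      intro s hs hs2 e he h0
      apply hs2
      obtain ⟨m, hmW, hmm⟩ := ts2lin_ns hsym two C.det2
        (LinearMap.ker (LinearMap.pi (fun k : Fin 3 =>
          ts2linL J2 (if k = 0 then w else if k = 1 then ts2linZ J1 v1 s else -ts2linZ J1 v2 s + e))))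
        (by
          have := ts2lin_kerB (fun k : Fin 3 =>
            ts2linL J2 (if k = 0 then w else if k = 1 then ts2linZ J1 v1 s else -ts2linZ J1 v2 s + e))
          simp only [Fintype.card_fin] at this
          omega)
      have hm := (ts2lin_mem_kerpi _ _).mp hmW
      have hmw : bf J2 m w = 0 := by
        have := hm 0
        simpa using this
      have hm2 : bf J2 m (ts2linZ J1 v1 s) = 0 := by
        have := hm 1
        simpa using this
      have hm1 : bf J2 m (-ts2linZ J1 v2 s + e) = 0 := by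
        have := hm 2
        simpa using this
      have hs'S : s + ten v1 e ∈ S := S.add_mem hs he
      have hZ1' : -ts2linZ J1 v2 (s + ten v1 e) = -ts2linZ J1 v2 s + e := by
        rw [map_add, ts2linZ_ten, h21, neg_smul, one_smul]
        abel
      have hZ2' : ts2linZ J1 v1 (s + ten v1 e) = ts2linZ J1 v1 s := by
        rw [map_add, hZ2ten, add_zero]
      have hw2 : bf J2 (ts2linZ J1 v1 s) w = 0 := by
        rw [bf_symm hsym]
        exact hperp s hs w hwE
      obtain ⟨z, hz⟩ := hP' w m hw hww (by rw [bf_symm hsym]; exact hmw) hmm (s + ten v1 e) hs'S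
        (by
          intro i
          rw [hrow, hZ1', hZ2', h0, hw2, mul_zero, mul_zero, add_zero])
        (by
          intro i
          rw [hrow, hZ1', hZ2', bf_symm hsym _ m, hm1, bf_symm hsym _ m, hm2, mul_zero, mul_zero, add_zero])
      rw [← hZ2', hz, hZ2ten]
    constructor
    · intro e he
      by_contra hne
      have hmem : (-(bf J2 (-ts2linZ J1 v2 sb) w / bf J2 e w)) • e ∈ ts2linE v1 S :=
        (ts2linE v1 S).smul_mem _ he
      apply ha sb hsb hsb2 _ hmem
      rw [bf_add_left, bf_smul_left]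
      field_simp
      ring
    · intro s hs h0
      by_contra hne
      apply ha s hs hne 0 (ts2linE v1 S).zero_mem
      rw [add_zero]
      exact h0
  -- main claim
  have main : ∀ s ∈ S, ts2linZ J1 v1 s = 0 := by
    by_contra hcon
    push Not at hcon
    obtain ⟨sb, hsb, hsb2⟩ := hcon
    have hbad : ∃ s ∈ S, ts2linZ J1 v1 s ≠ 0 := ⟨sb, hsb, hsb2⟩
    -- a singular vector in E
    obtain ⟨w, hwE, hw, hww⟩ := Cfsg.Agent.Lib.Helper10.C3O.iso_ex (K := F) (Matrix.toBilin' J2) hbs
      (ts2linE v1 S) hE3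
    rw [Matrix.toBilin'_apply'] at hww
    obtain ⟨hEw, ha'⟩ := key w hwE hw hww hbad
    -- dim E ≥ b - 1
    have hEb : b ≤ finrank F (ts2linE v1 S) + 1 := by
      let lam : (Fin 2 × Fin b → F) →ₗ[F] (Fin 1 → F) :=
        LinearMap.pi (fun _ : Fin 1 => (ts2linL J2 w).comp (-ts2linZ J1 v2))
      have h1 := ts2lin_ker (lam.comp S.subtype)
      simp only [Fintype.card_fin] at h1
      have h2 : finrank F (LinearMap.ker (lam.comp S.subtype)) ≤ finrank F (ts2linE v1 S) := by
        apply ts2lin_dimE hv1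
        intro x hx
        have hx0 : lam (x : Fin 2 × Fin b → F) = 0 := LinearMap.mem_ker.mp hx
        have hx1 : bf J2 (-ts2linZ J1 v2 (x : Fin 2 × Fin b → F)) w = 0 := by
          have := congrFun hx0 0
          simp only [lam, LinearMap.pi_apply, LinearMap.comp_apply, ts2linL_apply, Pi.zero_apply,
            LinearMap.neg_apply] at this
          exact this
        exact ⟨_, hZ2zero _ (ha' _ x.2 hx1)⟩
      omega
    -- E = w^⟂
    have hEle : ts2linE v1 S ≤ LinearMap.ker (ts2linL J2 w) := by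
      intro e he
      rw [LinearMap.mem_ker]
      exact hEw e he
    obtain ⟨yw, hyw⟩ := bf_nondeg' C.det2 hw
    have hker_lt : finrank F (LinearMap.ker (ts2linL J2 w)) < finrank F (Fin b → F) := by
      apply Submodule.finrank_lt
      intro htop
      have : yw ∈ LinearMap.ker (ts2linL J2 w) := by rw [htop]; exact Submodule.mem_top
      rw [LinearMap.mem_ker] at this
      exact hyw this
    rw [Module.finrank_fin_fun] at hker_lt
    have hEeq : ts2linE v1 S = LinearMap.ker (ts2linL J2 w) :=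
      Submodule.eq_of_le_of_finrank_le hEle (by omega)
    -- a hyperbolic partner `w'` of `w`
    obtain ⟨w', hw'⟩ : ∃ w' : Fin b → F, w' = (bf J2 yw w)⁻¹ • yw := ⟨_, rfl⟩
    have hw'w : bf J2 w' w = 1 := by rw [hw', bf_smul_left, inv_mul_cancel₀ hyw]
    -- a second singular vector `w2 ⟂ w, w'`
    have hU3 : 3 ≤ finrank F (LinearMap.ker (LinearMap.pi (fun k : Fin 2 =>
        ts2linL J2 (if k = 0 then w else w')))) := by
      have := ts2lin_kerB (fun k : Fin 2 => ts2linL J2 (if k = 0 then w else w'))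
      simp only [Fintype.card_fin] at this
      omega
    obtain ⟨w2, hw2U, hw2, hw2w2⟩ := Cfsg.Agent.Lib.Helper10.C3O.iso_ex (K := F) (Matrix.toBilin' J2) hbs
      _ hU3
    rw [Matrix.toBilin'_apply'] at hw2w2
    have hw2k := (ts2lin_mem_kerpi _ _).mp hw2U
    have hw2w : bf J2 w2 w = 0 := by
      have := hw2k 0
      simpa using this
    have hw2w' : bf J2 w2 w' = 0 := by
      have := hw2k 1
      simpa using this
    have hw2E : w2 ∈ ts2linE v1 S := by
      rw [hEeq, LinearMap.mem_ker]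
      exact hw2w
    obtain ⟨hEw2, -⟩ := key w2 hw2E hw2 hw2w2 hbad
    -- an element of `E = w^⟂` not perpendicular to `w2`
    obtain ⟨y0, hy0⟩ := bf_nondeg' C.det2 hw2
    have hxE : y0 - bf J2 y0 w • w' ∈ ts2linE v1 S := by
      rw [hEeq, LinearMap.mem_ker]
      show bf J2 (y0 - bf J2 y0 w • w') w = 0
      rw [bf_sub_left, bf_smul_left, hw'w, mul_one, sub_self]
    have := hEw2 _ hxE
    rw [bf_sub_left, bf_smul_left, bf_symm hsym w' w2, hw2w', mul_zero, sub_zero] at this
    exact hy0 this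
  exact ⟨v1, hv1, fun s hs => ⟨_, hZ2zero s (main s hs)⟩⟩

end Cfsg.Agent.Lib.Helper21.TS
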