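import Cfsg.Agent.Lib.helper15.TS2LIN
import Cfsg.Agent.Lib.Helper27.TS2.Defs
import Cfsg.Agent.Lib.helper6.TSSIEG

/-!
# Project TS2, row STABB2 (part a): tools

`N = A ⊗ w`, `N^⊥ = A ⊗ w^⊥` described by rows (`Np`), the contraction `C_z = 1 ⊗ f₂(z, ·)`, the action of
`1 ⊗ ρ_{w,z}` on `N^⊥`, isometries preserving `N` preserve `N^⊥`.
-/

set_option autoImplicit false
set_option linter.unusedSectionVars false
set_option linter.unusedVariables false

namespace Cfsg.Agent.Lib.Helper21.TS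

open Matrix Module
open scoped Kronecker
open Cfsg.Agent.Lib.helper7.TP

variable {b : ℕ} {F : Type*} [Field F]
variable {J1 : Matrix (Fin 2) (Fin 2) F} {J2 : Matrix (Fin b) (Fin b) F}

/-! ## `GL` bookkeeping -/

theorem ts2stabb2_mul_mulVec {ι : Type*} [Fintype ι] [DecidableEq ι] (g h : Matrix.GeneralLinearGroup ι F)
    (v : ι → F) : ((g * h : Matrix.GeneralLinearGroup ι F) : Matrix ι ι F) *ᵥ v =
      (g : Matrix ι ι F) *ᵥ ((h : Matrix ι ι F) *ᵥ v) := by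
  rw [Units.val_mul, Matrix.mulVec_mulVec]

theorem ts2stabb2_inv_mulVec {ι : Type*} [Fintype ι] [DecidableEq ι] (g : Matrix.GeneralLinearGroup ι F)
    (v : ι → F) : ((g⁻¹ : Matrix.GeneralLinearGroup ι F) : Matrix ι ι F) *ᵥ ((g : Matrix ι ι F) *ᵥ v) = v := by
  rw [Matrix.mulVec_mulVec, ← Units.val_mul, inv_mul_cancel, Units.val_one, Matrix.one_mulVec]

theorem ts2stabb2_mulVec_inv {ι : Type*} [Fintype ι] [DecidableEq ι] (g : Matrix.GeneralLinearGroup ι F)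
    (v : ι → F) : (g : Matrix ι ι F) *ᵥ (((g⁻¹ : Matrix.GeneralLinearGroup ι F) : Matrix ι ι F) *ᵥ v) = v := by
  rw [Matrix.mulVec_mulVec, ← Units.val_mul, mul_inv_cancel, Units.val_one, Matrix.one_mulVec]

/-! ## pure tensors -/

theorem ts2stabb2_ten_zero_left (w : Fin b → F) : ten (0 : Fin 2 → F) w = 0 := by
  funext p
  simp [ten]

theorem ts2stabb2_ten_left_inj {w : Fin b → F} (hw : w ≠ 0) {c c' : Fin 2 → F} (h : ten c w = ten c' w) :
    c = c' := by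
  obtain ⟨j, hj⟩ := Function.ne_iff.mp hw
  funext i
  have := congrFun h (i, j)
  simp only [ten] at this
  exact mul_right_cancel₀ hj this

/-- `v = e₀ ⊗ row₀ + e₁ ⊗ row₁`. -/
theorem ts2stabb2_rows (v : Fin 2 × Fin b → F) :
    v = ten (Pi.single 0 1) (fun j => v (0, j)) + ten (Pi.single 1 1) (fun j => v (1, j)) := by
  funext ⟨i, j⟩
  fin_cases i <;> simp [ten]

/-- a symplectic basis of `F^2`. -/
theorem ts2stabb2_basisA (h : J1ᵀ = -J1) (two : (2 : F) ≠ 0) (v1 v2 : Fin 2 → F) (h12 : bf J1 v1 v2 = 1)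
    (x : Fin 2 → F) : x = (-bf J1 v2 x) • v1 + bf J1 v1 x • v2 := by
  rw [ts2lin_bf2 h two] at h12
  funext i
  simp only [Pi.add_apply, Pi.smul_apply, smul_eq_mul, ts2lin_bf2 h two]
  fin_cases i
  · simp only [Fin.zero_eta]
    linear_combination (-(x 0)) * h12
  · simp only [Fin.mk_one]
    linear_combination (-(x 1)) * h12

/-! ## `N^⊥` by rows, the contraction `C_z` -/

/-- `v ∈ A ⊗ w^⊥`. -/
def ts2stabb2Np (J2 : Matrix (Fin b) (Fin b) F) (w : Fin b → F) (v : Fin 2 × Fin b → F) : Prop :=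
  ∀ i : Fin 2, bf J2 w (fun j => v (i, j)) = 0

/-- the contraction `1 ⊗ f₂(z, ·) : V → A`. -/
def ts2stabb2C (J2 : Matrix (Fin b) (Fin b) F) (z : Fin b → F) (v : Fin 2 × Fin b → F) : Fin 2 → F :=
  fun i => bf J2 z (fun j => v (i, j))

theorem ts2stabb2_row_ten (u : Fin 2 → F) (y : Fin b → F) (i : Fin 2) :
    (fun j => ten u y (i, j)) = u i • y := by
  funext j
  simp [ten]

theorem ts2stabb2_C_ten (J2 : Matrix (Fin b) (Fin b) F) (z : Fin b → F) (u : Fin 2 → F) (y : Fin b → F) :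
    ts2stabb2C J2 z (ten u y) = bf J2 z y • u := by
  funext i
  simp only [ts2stabb2C, ts2stabb2_row_ten, bf_smul_right, Pi.smul_apply, smul_eq_mul]
  ring

theorem ts2stabb2_Np_ten {w : Fin b → F} (u : Fin 2 → F) {y : Fin b → F} (hy : bf J2 w y = 0) :
    ts2stabb2Np J2 w (ten u y) := by
  intro i
  rw [ts2stabb2_row_ten, bf_smul_right, hy, mul_zero]

theorem ts2stabb2_Np_add {w : Fin b → F} {v v' : Fin 2 × Fin b → F} (h : ts2stabb2Np J2 w v)
    (h' : ts2stabb2Np J2 w v') : ts2stabb2Np J2 w (v + v') := by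
  intro i
  have : (fun j => (v + v') (i, j)) = (fun j => v (i, j)) + (fun j => v' (i, j)) := rfl
  rw [this, bf_add_right, h i, h' i, add_zero]

theorem ts2stabb2_Np_sub {w : Fin b → F} {v v' : Fin 2 × Fin b → F} (h : ts2stabb2Np J2 w v)
    (h' : ts2stabb2Np J2 w v') : ts2stabb2Np J2 w (v - v') := by
  intro i
  have : (fun j => (v - v') (i, j)) = (fun j => v (i, j)) - (fun j => v' (i, j)) := rfl
  rw [this, bf_sub_right, h i, h' i, sub_zero]

/-- two matrices agreeing on the pure tensors of `N^⊥` agree on `N^⊥`. -/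
theorem ts2stabb2_ext {w : Fin b → F} (P Q : Matrix (Fin 2 × Fin b) (Fin 2 × Fin b) F)
    (h : ∀ (x : Fin 2 → F) (y : Fin b → F), bf J2 w y = 0 → P *ᵥ ten x y = Q *ᵥ ten x y)
    {v : Fin 2 × Fin b → F} (hv : ts2stabb2Np J2 w v) : P *ᵥ v = Q *ᵥ v := by
  rw [ts2stabb2_rows v, Matrix.mulVec_add, Matrix.mulVec_add, h _ _ (hv 0), h _ _ (hv 1)]

/-- the action on `N^⊥` of a matrix acting on its pure tensors like `1 ⊗ ρ_{w,z}`. -/
theorem ts2stabb2_act {w z : Fin b → F} (k : Matrix (Fin 2 × Fin b) (Fin 2 × Fin b) F)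
    (h : ∀ (x : Fin 2 → F) (y : Fin b → F), bf J2 w y = 0 →
      k *ᵥ ten x y = ten x y + bf J2 z y • ten x w)
    {v : Fin 2 × Fin b → F} (hv : ts2stabb2Np J2 w v) :
    k *ᵥ v = v + ten (ts2stabb2C J2 z v) w := by
  obtain ⟨r0, hr0⟩ : ∃ r0 : Fin b → F, r0 = fun j => v (0, j) := ⟨_, rfl⟩
  obtain ⟨r1, hr1⟩ : ∃ r1 : Fin b → F, r1 = fun j => v (1, j) := ⟨_, rfl⟩
  have hv' : v = ten (Pi.single 0 1) r0 + ten (Pi.single 1 1) r1 := by
    rw [hr0, hr1]
    exact ts2stabb2_rows v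
  have h0 := h (Pi.single 0 1) r0 (by rw [hr0]; exact hv 0)
  have h1 := h (Pi.single 1 1) r1 (by rw [hr1]; exact hv 1)
  have hC : ts2stabb2C J2 z v = bf J2 z r0 • Pi.single 0 1 + bf J2 z r1 • Pi.single 1 1 := by
    rw [hr0, hr1]
    funext i
    fin_cases i <;> simp [ts2stabb2C]
  rw [hC, hv', Matrix.mulVec_add, h0, h1, ten_add_left, ten_smul_left, ten_smul_left]
  abel

/-- `N^⊥` as an orthogonal complement. -/
theorem ts2stabb2_Np_iff (C : Ctx J1 J2) (w : Fin b → F) (v : Fin 2 × Fin b → F) :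
    ts2stabb2Np J2 w v ↔ ∀ x : Fin 2 → F, bf (JV J1 J2) (ten x w) v = 0 := by
  have hform : ∀ x : Fin 2 → F, bf (JV J1 J2) (ten x w) v =
      bf J1 x (Pi.single 0 1) * bf J2 w (fun j => v (0, j)) +
        bf J1 x (Pi.single 1 1) * bf J2 w (fun j => v (1, j)) := by
    intro x
    conv_lhs => rw [ts2stabb2_rows v]
    rw [bf_add_right, bf_JV_ten, bf_JV_ten]
  constructor
  · intro h x
    rw [hform, h 0, h 1, mul_zero, mul_zero, add_zero]
  · intro h
    -- `c := (f₂(w,row₀), f₂(w,row₁))` is orthogonal to everything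
    by_contra hne
    have hc : (fun i : Fin 2 => bf J2 w (fun j => v (i, j))) ≠ 0 := by
      intro h0
      apply hne
      intro i
      exact congrFun h0 i
    obtain ⟨x, hx⟩ := bf_nondeg' C.det1 hc
    apply hx
    have h2 : (fun i : Fin 2 => bf J2 w (fun j => v (i, j))) =
        bf J2 w (fun j => v (0, j)) • Pi.single 0 1 + bf J2 w (fun j => v (1, j)) • Pi.single 1 1 := by
      funext i
      fin_cases i <;> simp
    rw [h2, bf_add_right, bf_smul_right, bf_smul_right]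
    have := h x
    rw [hform] at this
    linear_combination this

/-- an isometry mapping `N` onto `N` preserves `N^⊥`. -/
theorem ts2stabb2_Np_pres (C : Ctx J1 J2) {w : Fin b → F}
    (k : Matrix.GeneralLinearGroup (Fin 2 × Fin b) F) (hk : k ∈ SpV J1 J2)
    (hsurj : ∀ x' : Fin 2 → F, ∃ x : Fin 2 → F,
      (k : Matrix (Fin 2 × Fin b) (Fin 2 × Fin b) F) *ᵥ ten x w = ten x' w)
    {v : Fin 2 × Fin b → F} (hv : ts2stabb2Np J2 w v) :
    ts2stabb2Np J2 w ((k : Matrix (Fin 2 × Fin b) (Fin 2 × Fin b) F) *ᵥ v) := by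
  rw [ts2stabb2_Np_iff C]
  intro x'
  obtain ⟨x, hx⟩ := hsurj x'
  rw [← hx, (mem_Iso_iff_bf (JV J1 J2) k).mp hk]
  exact (ts2stabb2_Np_iff C w v).mp hv x

/-- `(w^⊥)^⊥ = F w`. -/
theorem ts2stabb2_perp_perp (C : Ctx J1 J2) {w : Fin b → F} (hw : w ≠ 0) (r : Fin b → F)
    (h : ∀ z : Fin b → F, bf J2 w z = 0 → bf J2 z r = 0) : ∃ c : F, r = c • w := by
  obtain ⟨y0, hy0⟩ := bf_nondeg C.det2 hw
  obtain ⟨w2, hw2⟩ : ∃ w2 : Fin b → F, w2 = (bf J2 w y0)⁻¹ • y0 := ⟨_, rfl⟩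
  have hww2 : bf J2 w w2 = 1 := by rw [hw2, bf_smul_right, inv_mul_cancel₀ hy0]
  have hw2w : bf J2 w2 w = 1 := by rw [bf_symm C.sym, hww2]
  refine ⟨bf J2 w2 r, ?_⟩
  by_contra hne
  have hne' : r - bf J2 w2 r • w ≠ 0 := fun h0 => hne (sub_eq_zero.mp h0)
  obtain ⟨x, hx⟩ := bf_nondeg' C.det2 hne'
  apply hx
  have hx1 : bf J2 w (x - bf J2 w x • w2) = 0 := by
    rw [bf_sub_right, bf_smul_right, hww2, mul_one, sub_self]
  have key : bf J2 x (r - bf J2 w2 r • w) =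
      bf J2 (x - bf J2 w x • w2) (r - bf J2 w2 r • w) + bf J2 w x * bf J2 w2 (r - bf J2 w2 r • w) := by
    rw [bf_sub_left, bf_smul_left]
    ring
  have hA : bf J2 (x - bf J2 w x • w2) (r - bf J2 w2 r • w) = 0 := by
    rw [bf_sub_right, bf_smul_right, h _ hx1, bf_symm C.sym _ w, hx1, mul_zero, sub_zero]
  have hB : bf J2 w2 (r - bf J2 w2 r • w) = 0 := by
    rw [bf_sub_right, bf_smul_right, hw2w, mul_one, sub_self]
  rw [key, hA, hB, mul_zero, add_zero]

end Cfsg.Agent.Lib.Helper21.TS
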