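import Cfsg.Agent.Lib.helper15.TS2STABB2a

/-!
# Project TS2, row STABB2 (part b): the case `w' = w`

`g ∈ M`, `g (A ⊗ w) ⊆ A ⊗ w` (`w` singular) ⟹ `g ∈ T0`, from `UfpA` and the statements of `rn_two`, `t0_rn`.
-/

set_option autoImplicit false
set_option linter.unusedSectionVars false
set_option linter.unusedVariables false
set_option maxHeartbeats 1000000

namespace Cfsg.Agent.Lib.Helper21.TS

open Matrix Module
open scoped Kronecker
open Cfsg.Agent.Lib.helper7.TP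

variable {b : ℕ} {F : Type*} [Field F]
variable {J1 : Matrix (Fin 2) (Fin 2) F} {J2 : Matrix (Fin b) (Fin b) F}
  {M : Subgroup (Matrix.GeneralLinearGroup (Fin 2 × Fin b) F)}

theorem ts2stabb2_sieg_perp (hsym : J2ᵀ = J2) {w z : Fin b → F} (x : Fin 2 → F) {y : Fin b → F}
    (hy : bf J2 w y = 0) :
    ((1 : Matrix (Fin 2) (Fin 2) F) ⊗ₖ sieg J2 w z) *ᵥ ten x y = ten x y + bf J2 z y • ten x w := by
  rw [kron_mulVec_ten, Matrix.one_mulVec, sieg_mulVec, hy, zero_smul, mul_zero, zero_smul, sub_zero, sub_zero,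
    ten_add_right, ten_smul_right]

theorem ts2stabb2_sieg_w (hsym : J2ᵀ = J2) {w z : Fin b → F} (hw0 : bf J2 w w = 0) (hz : bf J2 w z = 0)
    (x : Fin 2 → F) :
    ((1 : Matrix (Fin 2) (Fin 2) F) ⊗ₖ sieg J2 w z) *ᵥ ten x w = ten x w := by
  rw [ts2stabb2_sieg_perp hsym x hw0, bf_symm hsym, hz, zero_smul, add_zero]

/-- STABB2 for `w' = w` (core: the statements of `rn_two`, `t0_rn` as hypotheses). -/
theorem ts2stabb2_same [Fintype F] (p : ℕ) [Fact p.Prime] [CharP F p] (C : Ctx J1 J2)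
    (hT0 : T0 J1 J2 ≤ M) (hMS : M ≤ SpV J1 J2) (ufA : UfpA J1 J2 M)
    (hRN : ∀ {w : Fin b → F}, w ≠ 0 → bf J2 w w = 0 →
      ∀ h : Matrix.GeneralLinearGroup (Fin 2 × Fin b) F, h ∈ M →
      (∀ x : Fin 2 → F, (h : Matrix (Fin 2 × Fin b) (Fin 2 × Fin b) F) *ᵥ ten x w = ten x w) →
      (∀ (x : Fin 2 → F) (y : Fin b → F), bf J2 w y = 0 → ∃ x' : Fin 2 → F,
        (h : Matrix (Fin 2 × Fin b) (Fin 2 × Fin b) F) *ᵥ ten x y = ten x y + ten x' w) →
      h ∈ T0 J1 J2)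
    (hTR : ∀ {w : Fin b → F}, w ≠ 0 → bf J2 w w = 0 →
      ∀ t : Matrix.GeneralLinearGroup (Fin 2 × Fin b) F, t ∈ T0 J1 J2 →
      (∀ x : Fin 2 → F, (t : Matrix (Fin 2 × Fin b) (Fin 2 × Fin b) F) *ᵥ ten x w = ten x w) →
      (∀ (x : Fin 2 → F) (y : Fin b → F), bf J2 w y = 0 → ∃ x' : Fin 2 → F,
        (t : Matrix (Fin 2 × Fin b) (Fin 2 × Fin b) F) *ᵥ ten x y = ten x y + ten x' w) →
      ∃ z : Fin b → F, bf J2 w z = 0 ∧ ∀ (x : Fin 2 → F) (y : Fin b → F), bf J2 w y = 0 →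
        (t : Matrix (Fin 2 × Fin b) (Fin 2 × Fin b) F) *ᵥ ten x y = ten x y + bf J2 z y • ten x w)
    {w : Fin b → F} (hw : w ≠ 0) (hw0 : bf J2 w w = 0)
    (g : Matrix.GeneralLinearGroup (Fin 2 × Fin b) F) (hg : g ∈ M)
    (hgN : ∀ x : Fin 2 → F, ∃ x' : Fin 2 → F,
      (g : Matrix (Fin 2 × Fin b) (Fin 2 × Fin b) F) *ᵥ ten x w = ten x' w) :
    g ∈ T0 J1 J2 := by
  classical
  have hsym := C.sym
  have two := C.two
  have halt := C.alt
  have hgS : g ∈ SpV J1 J2 := hMS hg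
  -- S1: a symplectic basis `u, x0` of `A` and its image
  obtain ⟨u, hu⟩ : ∃ u : Fin 2 → F, u ≠ 0 :=
    ⟨Pi.single 0 1, by intro h; have := congrFun h 0; simp at this⟩
  have hu0 : bf J1 u u = 0 := bf_self_alt halt two u
  obtain ⟨y1, hy1⟩ := bf_nondeg C.det1 hu
  obtain ⟨x0, hx0⟩ : ∃ x0 : Fin 2 → F, x0 = (bf J1 u y1)⁻¹ • y1 := ⟨_, rfl⟩
  have hux0 : bf J1 u x0 = 1 := by rw [hx0, bf_smul_right, inv_mul_cancel₀ hy1]
  obtain ⟨u', hu'⟩ := hgN u
  obtain ⟨x0', hx0'⟩ := hgN x0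
  have hginj : ∀ v : Fin 2 × Fin b → F,
      (g : Matrix (Fin 2 × Fin b) (Fin 2 × Fin b) F) *ᵥ v = 0 → v = 0 := by
    intro v hv
    have := ts2stabb2_inv_mulVec g v
    rw [hv, Matrix.mulVec_zero] at this
    exact this.symm
  have hten0 : ∀ c : Fin 2 → F, ten c w = 0 → c = 0 := by
    intro c hc
    apply ts2stabb2_ten_left_inj hw
    rw [hc, ts2stabb2_ten_zero_left]
  have hu'ne : u' ≠ 0 := by
    intro h0
    rw [h0, ts2stabb2_ten_zero_left] at hu'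
    exact hu (hten0 u (hginj _ hu'))
  have hu'0 : bf J1 u' u' = 0 := bf_self_alt halt two u'
  have hglin : ∀ α β : F, (g : Matrix (Fin 2 × Fin b) (Fin 2 × Fin b) F) *ᵥ ten (α • u + β • x0) w =
      ten (α • u' + β • x0') w := by
    intro α β
    rw [ten_add_left, ten_smul_left, ten_smul_left, Matrix.mulVec_add, Matrix.mulVec_smul,
      Matrix.mulVec_smul, hu', hx0', ten_add_left, ten_smul_left, ten_smul_left]
  -- S2: `u', x0'` is a basis
  have hd : bf J1 u' x0' ≠ 0 := by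
    intro hd0
    obtain ⟨y2, hy2⟩ := bf_nondeg C.det1 hu'ne
    obtain ⟨u'', hu''⟩ : ∃ u'' : Fin 2 → F, u'' = (bf J1 u' y2)⁻¹ • y2 := ⟨_, rfl⟩
    have h1 : bf J1 u' u'' = 1 := by rw [hu'', bf_smul_right, inv_mul_cancel₀ hy2]
    have hdec := ts2stabb2_basisA halt two u' u'' h1 x0'
    rw [hd0, zero_smul, add_zero] at hdec
    have h2 := hglin (bf J1 u'' x0') 1
    have h3 : bf J1 u'' x0' • u' + (1 : F) • x0' = 0 := by
      rw [one_smul]
      nth_rewrite 2 [hdec]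
      rw [neg_smul, add_neg_cancel]
    rw [h3, ts2stabb2_ten_zero_left] at h2
    have h5 := hten0 _ (hginj _ h2)
    have h6 := congrArg (bf J1 u) h5
    rw [bf_add_right, bf_smul_right, bf_smul_right, hu0, hux0, bf_zero_right, mul_zero, zero_add,
      mul_one] at h6
    exact one_ne_zero h6
  obtain ⟨c', hc'⟩ : ∃ c' : F, c' = (bf J1 u' x0')⁻¹ := ⟨_, rfl⟩
  have hc'd : c' * bf J1 u' x0' = 1 := by rw [hc', inv_mul_cancel₀ hd]
  have hbasis' : ∀ x' : Fin 2 → F, x' = (-(c' * bf J1 x0' x')) • u' + (c' * bf J1 u' x') • x0' := by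
    intro x'
    have h1 : bf J1 u' (c' • x0') = 1 := by rw [bf_smul_right, mul_comm, mul_comm] ; rw [hc'd]
    have hdec := ts2stabb2_basisA halt two u' (c' • x0') h1 x'
    conv_lhs => rw [hdec]
    rw [bf_smul_left, smul_smul, mul_comm (bf J1 u' x') c']
  -- S3: `g` on `N`
  have hgN' : ∀ x : Fin 2 → F, (g : Matrix (Fin 2 × Fin b) (Fin 2 × Fin b) F) *ᵥ ten x w =
      ten ((-bf J1 x0 x) • u' + bf J1 u x • x0') w := by
    intro x
    conv_lhs => rw [ts2stabb2_basisA halt two u x0 hux0 x]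
    exact hglin _ _
  have hsurj : ∀ x' : Fin 2 → F, ∃ x : Fin 2 → F,
      (g : Matrix (Fin 2 × Fin b) (Fin 2 × Fin b) F) *ᵥ ten x w = ten x' w := by
    intro x'
    refine ⟨(-(c' * bf J1 x0' x')) • u + (c' * bf J1 u' x') • x0, ?_⟩
    rw [hglin, ← hbasis' x']
  have hginvN : ∀ x' : Fin 2 → F, ∃ x : Fin 2 → F,
      ((g⁻¹ : Matrix.GeneralLinearGroup (Fin 2 × Fin b) F) : Matrix (Fin 2 × Fin b) (Fin 2 × Fin b) F) *ᵥ
        ten x' w = ten x w := by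
    intro x'
    obtain ⟨x, hx⟩ := hsurj x'
    exact ⟨x, by rw [← hx, ts2stabb2_inv_mulVec]⟩
  -- S4: `N^⊥`
  have hgNp : ∀ {v : Fin 2 × Fin b → F}, ts2stabb2Np J2 w v →
      ts2stabb2Np J2 w ((g : Matrix (Fin 2 × Fin b) (Fin 2 × Fin b) F) *ᵥ v) :=
    fun hv => ts2stabb2_Np_pres C g hgS hsurj hv
  have hginvNp : ∀ {v : Fin 2 × Fin b → F}, ts2stabb2Np J2 w v →
      ts2stabb2Np J2 w (((g⁻¹ : Matrix.GeneralLinearGroup (Fin 2 × Fin b) F) :
        Matrix (Fin 2 × Fin b) (Fin 2 × Fin b) F) *ᵥ v) :=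
    fun hv => ts2stabb2_Np_pres C g⁻¹ (inv_mem hgS) (by
      intro x'
      obtain ⟨x'', hx''⟩ := hgN x'
      exact ⟨x'', by rw [← hx'', ts2stabb2_inv_mulVec]⟩) hv
  -- S6: the root element `x_u`
  obtain ⟨xu, hxu⟩ : ∃ xu : Matrix.GeneralLinearGroup (Fin 2 × Fin b) F,
      xu = kronG (tvG J1 u hu0 1) 1 := ⟨_, rfl⟩
  have hxuT : xu ∈ T0 J1 J2 := by
    rw [hxu]
    exact kronG_mem_T0 (tvG_mem_Iso halt u hu0 1) (one_mem _)
  have hxum : (xu : Matrix (Fin 2 × Fin b) (Fin 2 × Fin b) F) =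
      tvm J1 u 1 ⊗ₖ (1 : Matrix (Fin b) (Fin b) F) := by
    rw [hxu, kronG_coe, tvG_coe, Units.val_one]
  have hxuX : (xu : Matrix (Fin 2 × Fin b) (Fin 2 × Fin b) F) =
      XAm J1 u ((1 : F) • (1 : Matrix (Fin b) (Fin b) F)) := by
    rw [hxum, XAm_scalar]
  have hxu_ten : ∀ (x : Fin 2 → F) (y : Fin b → F),
      (xu : Matrix (Fin 2 × Fin b) (Fin 2 × Fin b) F) *ᵥ ten x y = ten (x + bf J1 u x • u) y := by
    intro x y
    rw [hxum, kron_mulVec_ten, Matrix.one_mulVec, tvm_mulVec, one_mul]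
  have hxuNp : ∀ {v : Fin 2 × Fin b → F}, ts2stabb2Np J2 w v →
      ts2stabb2Np J2 w ((xu : Matrix (Fin 2 × Fin b) (Fin 2 × Fin b) F) *ᵥ v) :=
    fun hv => ts2stabb2_Np_pres C xu (hMS (hT0 hxuT)) (by
      intro x'
      refine ⟨x' - bf J1 u x' • u, ?_⟩
      rw [hxu_ten, bf_sub_right, bf_smul_right, hu0, mul_zero, sub_zero, sub_add_cancel]) hv
  -- S7: `y = g x_u g⁻¹`
  have hyM : g * xu * g⁻¹ ∈ M := mul_mem (mul_mem hg (hT0 hxuT)) (inv_mem hg)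
  have hy_act : ∀ v : Fin 2 × Fin b → F,
      ((g * xu * g⁻¹ : Matrix.GeneralLinearGroup (Fin 2 × Fin b) F) :
        Matrix (Fin 2 × Fin b) (Fin 2 × Fin b) F) *ᵥ v =
      (g : Matrix (Fin 2 × Fin b) (Fin 2 × Fin b) F) *ᵥ
        ((xu : Matrix (Fin 2 × Fin b) (Fin 2 × Fin b) F) *ᵥ
          (((g⁻¹ : Matrix.GeneralLinearGroup (Fin 2 × Fin b) F) :
            Matrix (Fin 2 × Fin b) (Fin 2 × Fin b) F) *ᵥ v)) := by
    intro v
    rw [ts2stabb2_mul_mulVec, ts2stabb2_mul_mulVec]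
  have hyNp : ∀ {v : Fin 2 × Fin b → F}, ts2stabb2Np J2 w v →
      ts2stabb2Np J2 w (((g * xu * g⁻¹ : Matrix.GeneralLinearGroup (Fin 2 × Fin b) F) :
        Matrix (Fin 2 × Fin b) (Fin 2 × Fin b) F) *ᵥ v) := by
    intro v hv
    rw [hy_act]
    exact hgNp (hxuNp (hginvNp hv))
  -- Claim A: `y` on `N`
  have hA : ∀ x' : Fin 2 → F,
      ((g * xu * g⁻¹ : Matrix.GeneralLinearGroup (Fin 2 × Fin b) F) :
        Matrix (Fin 2 × Fin b) (Fin 2 × Fin b) F) *ᵥ ten x' w =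
      ten (x' + (c' * bf J1 u' x') • u') w := by
    intro x'
    obtain ⟨α, hα⟩ : ∃ α : F, α = -(c' * bf J1 x0' x') := ⟨_, rfl⟩
    obtain ⟨β, hβ⟩ : ∃ β : F, β = c' * bf J1 u' x' := ⟨_, rfl⟩
    have hx' : x' = α • u' + β • x0' := by rw [hα, hβ]; exact hbasis' x'
    have hpre : ((g⁻¹ : Matrix.GeneralLinearGroup (Fin 2 × Fin b) F) :
        Matrix (Fin 2 × Fin b) (Fin 2 × Fin b) F) *ᵥ ten x' w = ten (α • u + β • x0) w := by
      have := hglin α β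
      rw [← hx'] at this
      rw [← this, ts2stabb2_inv_mulVec]
    have h2 : bf J1 u (α • u + β • x0) = β := by
      rw [bf_add_right, bf_smul_right, bf_smul_right, hu0, hux0, mul_zero, zero_add, mul_one]
    have h3 : α • u + β • x0 + β • u = (α + β) • u + β • x0 := by
      rw [add_smul]
      abel
    rw [hy_act, hpre, hxu_ten, h2, h3, hglin, ← hβ]
    congr 1
    calc (α + β) • u' + β • x0' = (α • u' + β • x0') + β • u' := by rw [add_smul]; abel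
      _ = x' + β • u' := by rw [← hx']
  -- the Siegel elements commute with `y` on `N^⊥`
  obtain ⟨G, hGp, hGI, hGs⟩ := rw_pgroup p hsym two hw0
  have hstep : ∀ z' : Fin b → F, bf J2 w z' = 0 → ∀ v : Fin 2 × Fin b → F, ts2stabb2Np J2 w v →
      ((1 : Matrix (Fin 2) (Fin 2) F) ⊗ₖ sieg J2 w z') *ᵥ
        (((g * xu * g⁻¹ : Matrix.GeneralLinearGroup (Fin 2 × Fin b) F) :
          Matrix (Fin 2 × Fin b) (Fin 2 × Fin b) F) *ᵥ v) =
      ((g * xu * g⁻¹ : Matrix.GeneralLinearGroup (Fin 2 × Fin b) F) :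
          Matrix (Fin 2 × Fin b) (Fin 2 × Fin b) F) *ᵥ
        (((1 : Matrix (Fin 2) (Fin 2) F) ⊗ₖ sieg J2 w z') *ᵥ v) := by
    intro z' hz' v hv
    obtain ⟨ρ, hρG, hρ⟩ := hGs z' hz'
    obtain ⟨r, hr⟩ : ∃ r : Matrix.GeneralLinearGroup (Fin 2 × Fin b) F,
        r = kronG (1 : Matrix.GeneralLinearGroup (Fin 2) F) ρ := ⟨_, rfl⟩
    have hrT : r ∈ T0 J1 J2 := by
      rw [hr]
      exact kronG_mem_T0 (one_mem _) (hGI hρG)
    have hrm : (r : Matrix (Fin 2 × Fin b) (Fin 2 × Fin b) F) =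
        (1 : Matrix (Fin 2) (Fin 2) F) ⊗ₖ sieg J2 w z' := by
      rw [hr, kronG_coe, Units.val_one, hρ]
    rw [← hrm]
    have hr_perp : ∀ (x : Fin 2 → F) (y : Fin b → F), bf J2 w y = 0 →
        (r : Matrix (Fin 2 × Fin b) (Fin 2 × Fin b) F) *ᵥ ten x y = ten x y + bf J2 z' y • ten x w := by
      intro x y hy
      rw [hrm]
      exact ts2stabb2_sieg_perp hsym x hy
    have hr_w : ∀ x : Fin 2 → F,
        (r : Matrix (Fin 2 × Fin b) (Fin 2 × Fin b) F) *ᵥ ten x w = ten x w := by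
      intro x
      rw [hrm]
      exact ts2stabb2_sieg_w hsym hw0 hz' x
    -- κ = g⁻¹ r g
    have hκM : g⁻¹ * r * g ∈ M := mul_mem (mul_mem (inv_mem hg) (hT0 hrT)) hg
    have hκ_act : ∀ v : Fin 2 × Fin b → F,
        ((g⁻¹ * r * g : Matrix.GeneralLinearGroup (Fin 2 × Fin b) F) :
          Matrix (Fin 2 × Fin b) (Fin 2 × Fin b) F) *ᵥ v =
        ((g⁻¹ : Matrix.GeneralLinearGroup (Fin 2 × Fin b) F) :
            Matrix (Fin 2 × Fin b) (Fin 2 × Fin b) F) *ᵥ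
          ((r : Matrix (Fin 2 × Fin b) (Fin 2 × Fin b) F) *ᵥ
            ((g : Matrix (Fin 2 × Fin b) (Fin 2 × Fin b) F) *ᵥ v)) := by
      intro v
      rw [ts2stabb2_mul_mulVec, ts2stabb2_mul_mulVec]
    have h1κ : ∀ x : Fin 2 → F,
        ((g⁻¹ * r * g : Matrix.GeneralLinearGroup (Fin 2 × Fin b) F) :
          Matrix (Fin 2 × Fin b) (Fin 2 × Fin b) F) *ᵥ ten x w = ten x w := by
      intro x
      rw [hκ_act, hgN' x, hr_w, ← hgN' x, ts2stabb2_inv_mulVec]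
    have h2κ : ∀ (x : Fin 2 → F) (y : Fin b → F), bf J2 w y = 0 → ∃ x' : Fin 2 → F,
        ((g⁻¹ * r * g : Matrix.GeneralLinearGroup (Fin 2 × Fin b) F) :
          Matrix (Fin 2 × Fin b) (Fin 2 × Fin b) F) *ᵥ ten x y = ten x y + ten x' w := by
      intro x y hy
      have hv1 : ts2stabb2Np J2 w ((g : Matrix (Fin 2 × Fin b) (Fin 2 × Fin b) F) *ᵥ ten x y) :=
        hgNp (ts2stabb2_Np_ten x hy)
      obtain ⟨x'', hx''⟩ := hginvN (ts2stabb2C J2 z' ((g : Matrix (Fin 2 × Fin b) (Fin 2 × Fin b) F) *ᵥ ten x y))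
      refine ⟨x'', ?_⟩
      rw [hκ_act, ts2stabb2_act _ hr_perp hv1, Matrix.mulVec_add, ts2stabb2_inv_mulVec, hx'']
    have hκT := hRN hw hw0 _ hκM h1κ h2κ
    obtain ⟨z, hz, hzact⟩ := hTR hw hw0 _ hκT h1κ h2κ
    -- `x_u` commutes with `κ` on `N^⊥`
    have hcomm : ∀ {v₀ : Fin 2 × Fin b → F}, ts2stabb2Np J2 w v₀ →
        (xu : Matrix (Fin 2 × Fin b) (Fin 2 × Fin b) F) *ᵥ
          (((g⁻¹ * r * g : Matrix.GeneralLinearGroup (Fin 2 × Fin b) F) :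
            Matrix (Fin 2 × Fin b) (Fin 2 × Fin b) F) *ᵥ v₀) =
        ((g⁻¹ * r * g : Matrix.GeneralLinearGroup (Fin 2 × Fin b) F) :
            Matrix (Fin 2 × Fin b) (Fin 2 × Fin b) F) *ᵥ
          ((xu : Matrix (Fin 2 × Fin b) (Fin 2 × Fin b) F) *ᵥ v₀) := by
      intro v₀ hv₀
      have := ts2stabb2_ext (J2 := J2) (w := w)
        ((xu : Matrix (Fin 2 × Fin b) (Fin 2 × Fin b) F) *
          ((g⁻¹ * r * g : Matrix.GeneralLinearGroup (Fin 2 × Fin b) F) :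
            Matrix (Fin 2 × Fin b) (Fin 2 × Fin b) F))
        (((g⁻¹ * r * g : Matrix.GeneralLinearGroup (Fin 2 × Fin b) F) :
            Matrix (Fin 2 × Fin b) (Fin 2 × Fin b) F) *
          (xu : Matrix (Fin 2 × Fin b) (Fin 2 × Fin b) F))
        (by
          intro x y hy
          rw [← Matrix.mulVec_mulVec, ← Matrix.mulVec_mulVec, hzact x y hy, Matrix.mulVec_add,
            Matrix.mulVec_smul, hxu_ten, hxu_ten, hzact _ y hy]) hv₀
      rw [← Matrix.mulVec_mulVec, ← Matrix.mulVec_mulVec] at this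
      exact this
    -- assemble
    have hv₀ : ts2stabb2Np J2 w (((g⁻¹ : Matrix.GeneralLinearGroup (Fin 2 × Fin b) F) :
        Matrix (Fin 2 × Fin b) (Fin 2 × Fin b) F) *ᵥ v) := hginvNp hv
    have e1 : ((g⁻¹ * r * g : Matrix.GeneralLinearGroup (Fin 2 × Fin b) F) :
          Matrix (Fin 2 × Fin b) (Fin 2 × Fin b) F) *ᵥ
        (((g⁻¹ : Matrix.GeneralLinearGroup (Fin 2 × Fin b) F) :
          Matrix (Fin 2 × Fin b) (Fin 2 × Fin b) F) *ᵥ v) =
        ((g⁻¹ : Matrix.GeneralLinearGroup (Fin 2 × Fin b) F) :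
          Matrix (Fin 2 × Fin b) (Fin 2 × Fin b) F) *ᵥ
          ((r : Matrix (Fin 2 × Fin b) (Fin 2 × Fin b) F) *ᵥ v) := by
      rw [hκ_act, ts2stabb2_mulVec_inv]
    have e2 : (g : Matrix (Fin 2 × Fin b) (Fin 2 × Fin b) F) *ᵥ
        (((g⁻¹ * r * g : Matrix.GeneralLinearGroup (Fin 2 × Fin b) F) :
          Matrix (Fin 2 × Fin b) (Fin 2 × Fin b) F) *ᵥ
          ((xu : Matrix (Fin 2 × Fin b) (Fin 2 × Fin b) F) *ᵥ
            (((g⁻¹ : Matrix.GeneralLinearGroup (Fin 2 × Fin b) F) :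
              Matrix (Fin 2 × Fin b) (Fin 2 × Fin b) F) *ᵥ v))) =
        (r : Matrix (Fin 2 × Fin b) (Fin 2 × Fin b) F) *ᵥ
          (((g * xu * g⁻¹ : Matrix.GeneralLinearGroup (Fin 2 × Fin b) F) :
            Matrix (Fin 2 × Fin b) (Fin 2 × Fin b) F) *ᵥ v) := by
      rw [hκ_act, ts2stabb2_mulVec_inv, hy_act]
    rw [← e2, ← hcomm hv₀, e1, hy_act]
  -- S9: `s = x_{u'}(-c')`, `h = y s`
  obtain ⟨s, hs⟩ : ∃ s : Matrix.GeneralLinearGroup (Fin 2 × Fin b) F,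
      s = kronG (tvG J1 u' hu'0 (-c')) 1 := ⟨_, rfl⟩
  have hsT : s ∈ T0 J1 J2 := by
    rw [hs]
    exact kronG_mem_T0 (tvG_mem_Iso halt u' hu'0 (-c')) (one_mem _)
  have hs_ten : ∀ (x : Fin 2 → F) (y : Fin b → F),
      (s : Matrix (Fin 2 × Fin b) (Fin 2 × Fin b) F) *ᵥ ten x y =
        ten (x + (-c' * bf J1 u' x) • u') y := by
    intro x y
    rw [hs, kronG_coe, tvG_coe, Units.val_one, kron_mulVec_ten, Matrix.one_mulVec, tvm_mulVec]
  have htx : ∀ x' : Fin 2 → F,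
      (x' + (-c' * bf J1 u' x') • u') +
        (c' * bf J1 u' (x' + (-c' * bf J1 u' x') • u')) • u' = x' := by
    intro x'
    rw [bf_add_right, bf_smul_right, hu'0, mul_zero, add_zero, add_assoc, ← add_smul]
    have : -c' * bf J1 u' x' + c' * bf J1 u' x' = 0 := by ring
    rw [this, zero_smul, add_zero]
  have hh1 : ∀ x' : Fin 2 → F,
      ((g * xu * g⁻¹ * s : Matrix.GeneralLinearGroup (Fin 2 × Fin b) F) :
        Matrix (Fin 2 × Fin b) (Fin 2 × Fin b) F) *ᵥ ten x' w = ten x' w := by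
    intro x'
    rw [ts2stabb2_mul_mulVec, hs_ten, hA, htx]
  have hh2 : ∀ (x' : Fin 2 → F) (y' : Fin b → F), bf J2 w y' = 0 → ∃ x'' : Fin 2 → F,
      ((g * xu * g⁻¹ * s : Matrix.GeneralLinearGroup (Fin 2 × Fin b) F) :
        Matrix (Fin 2 × Fin b) (Fin 2 × Fin b) F) *ᵥ ten x' y' = ten x' y' + ten x'' w := by
    intro x' y' hy'
    rw [ts2stabb2_mul_mulVec, hs_ten]
    obtain ⟨xt, hxt⟩ : ∃ xt : Fin 2 → F, xt = x' + (-c' * bf J1 u' x') • u' := ⟨_, rfl⟩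
    rw [← hxt]
    have htx' : xt + (c' * bf J1 u' xt) • u' = x' := by rw [hxt]; exact htx x'
    -- D
    obtain ⟨D, hD⟩ : ∃ D : Fin 2 × Fin b → F,
        D = ((g * xu * g⁻¹ : Matrix.GeneralLinearGroup (Fin 2 × Fin b) F) :
          Matrix (Fin 2 × Fin b) (Fin 2 × Fin b) F) *ᵥ ten xt y' - ten x' y' := ⟨_, rfl⟩
    have hDNp : ts2stabb2Np J2 w D := by
      rw [hD]
      exact ts2stabb2_Np_sub (hyNp (ts2stabb2_Np_ten xt hy')) (ts2stabb2_Np_ten x' hy')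
    have hDfix : ∀ z' : Fin b → F, bf J2 w z' = 0 → ts2stabb2C J2 z' D = 0 := by
      intro z' hz'
      have h1 : ((1 : Matrix (Fin 2) (Fin 2) F) ⊗ₖ sieg J2 w z') *ᵥ D = D := by
        rw [hD, Matrix.mulVec_sub, hstep z' hz' _ (ts2stabb2_Np_ten xt hy'),
          ts2stabb2_sieg_perp hsym xt hy', ts2stabb2_sieg_perp hsym x' hy', Matrix.mulVec_add,
          Matrix.mulVec_smul, hA xt, htx']
        abel
      have h2 := ts2stabb2_act (J2 := J2) (w := w) (z := z')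
        ((1 : Matrix (Fin 2) (Fin 2) F) ⊗ₖ sieg J2 w z')
        (fun x y hy => ts2stabb2_sieg_perp hsym x hy) hDNp
      rw [h1] at h2
      have h3 : ten (ts2stabb2C J2 z' D) w = 0 := by
        have := h2
        exact (add_eq_left.mp this.symm)
      exact hten0 _ h3
    obtain ⟨c0, hc0⟩ := ts2stabb2_perp_perp C hw (fun j => D (0, j)) (by
      intro z' hz'
      exact congrFun (hDfix z' hz') 0)
    obtain ⟨c1, hc1⟩ := ts2stabb2_perp_perp C hw (fun j => D (1, j)) (by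
      intro z' hz'
      exact congrFun (hDfix z' hz') 1)
    refine ⟨c0 • Pi.single 0 1 + c1 • Pi.single 1 1, ?_⟩
    have hDw : D = ten (c0 • Pi.single 0 1 + c1 • Pi.single 1 1) w := by
      conv_lhs => rw [ts2stabb2_rows D, hc0, hc1]
      rw [ten_smul_right, ten_smul_right, ten_add_left, ten_smul_left, ten_smul_left]
    rw [← hDw, hD]
    abel
  have hhM : g * xu * g⁻¹ * s ∈ M := mul_mem hyM (hT0 hsT)
  have hhT := hRN hw hw0 _ hhM hh1 hh2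
  have hyT : g * xu * g⁻¹ ∈ T0 J1 J2 := by
    have := mul_mem hhT (inv_mem hsT)
    rwa [mul_inv_cancel_right] at this
  exact ufA u 1 xu hu one_ne_zero hxuX g hg hyT

end Cfsg.Agent.Lib.Helper21.TS
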