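import Mathlib
import Cfsg.Agent.S2280
import Cfsg.Agent.Lib.helper15.RU1

set_option autoImplicit false

namespace Cfsg.Agent.Lib.helper15.TwoRU

open Matrix Cfsg.Agent.S2280 Cfsg.Agent.Lib.helper15.RU

section basics

variable {F : Type*} [Field F] {n : ℕ}

def ev (i : Fin n) : Fin n → F := Pi.single i 1

lemma ev_apply (i j : Fin n) : (ev i : Fin n → F) j = if j = i then 1 else 0 := by
  unfold ev
  rw [Pi.single_apply]

lemma ev_dot (i : Fin n) (y : Fin n → F) : ev i ⬝ᵥ y = y i := by
  unfold ev
  rw [single_one_dotProduct]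

lemma dot_ev (i : Fin n) (y : Fin n → F) : y ⬝ᵥ ev i = y i := by
  unfold ev
  rw [dotProduct_single_one]

def uM (F : Type*) [Field F] (n : ℕ) : Matrix (Fin n) (Fin n) F := umat n 1

def uI (F : Type*) [Field F] (n : ℕ) : Matrix (Fin n) (Fin n) F := (linv n)ᵀ

lemma uM_eq_transpose : uM F n = (lmat n n)ᵀ := by
  ext a b
  unfold uM
  rw [Matrix.transpose_apply]
  by_cases hab : a = b
  · subst hab
    rw [umat_self, lmat_self]
  · by_cases h : a.val + 1 = b.val
    · rw [umat_succ 1 a b h, lmat_succ n b a h.symm (by have := b.isLt; omega)]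
      simp
    · rw [umat_zero 1 a b hab h, lmat_zero n b a (Ne.symm hab)]
      rintro ⟨h1, -⟩
      exact h h1.symm

lemma uI_mul_uM : uI F n * uM F n = 1 := by
  rw [uM_eq_transpose, uI, ← Matrix.transpose_mul, lmat_mul_linv, Matrix.transpose_one]

lemma uM_mul_uI : uM F n * uI F n = 1 := mul_eq_one_comm.mp uI_mul_uM

lemma uM_mulVec (y : Fin n → F) (i : Fin n) :
    (uM F n *ᵥ y) i = y i + (if h : i.val + 1 < n then y ⟨i.val + 1, h⟩ else 0) := by
  have e : uM F n = 1 + (umat n (1 : F) - 1) := by
    unfold uM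
    abel
  rw [e, Matrix.add_mulVec, Matrix.one_mulVec, Pi.add_apply]
  congr 1
  unfold Matrix.mulVec dotProduct
  simp only [umat_sub_one_apply]
  by_cases h : i.val + 1 < n
  · rw [dif_pos h, Finset.sum_eq_single (⟨i.val + 1, h⟩ : Fin n)]
    · simp
    · intro b _ hb
      rw [if_neg, zero_mul]
      intro h1
      apply hb
      apply Fin.ext
      exact h1.symm
    · intro h1
      exact absurd (Finset.mem_univ _) h1
  · rw [dif_neg h]
    apply Finset.sum_eq_zero
    intro b _
    rw [if_neg, zero_mul]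
    intro h1
    have := b.isLt
    omega

lemma vecMul_uM (φ : Fin n → F) (j : Fin n) :
    (φ ᵥ* uM F n) j = φ j + (if h : 0 < j.val then φ ⟨j.val - 1, by omega⟩ else 0) := by
  have e : uM F n = 1 + (umat n (1 : F) - 1) := by
    unfold uM
    abel
  rw [e, Matrix.vecMul_add, Matrix.vecMul_one, Pi.add_apply]
  congr 1
  unfold Matrix.vecMul dotProduct
  simp only [umat_sub_one_apply]
  by_cases h : 0 < j.val
  · rw [dif_pos h, Finset.sum_eq_single (⟨j.val - 1, by omega⟩ : Fin n)]
    · have : j.val - 1 + 1 = j.val := by omega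
      simp [this]
    · intro b _ hb
      rw [if_neg, mul_zero]
      intro h1
      apply hb
      apply Fin.ext
      show b.val = j.val - 1
      omega
    · intro h1
      exact absurd (Finset.mem_univ _) h1
  · rw [dif_neg h]
    apply Finset.sum_eq_zero
    intro b _
    rw [if_neg, mul_zero]
    omega

lemma uM_mulVec_ev0 (i0 : Fin n) (h0 : i0.val = 0) : uM F n *ᵥ ev i0 = ev i0 := by
  ext i
  rw [uM_mulVec]
  by_cases h : i.val + 1 < n
  · rw [dif_pos h]
    have h1 : (ev i0 : Fin n → F) ⟨i.val + 1, h⟩ = 0 := by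
      rw [ev_apply, if_neg]
      intro h1
      have := congrArg Fin.val h1
      simp at this
      omega
    rw [h1, add_zero]
  · rw [dif_neg h, add_zero]

lemma ev_vecMul_uM (i j : Fin n) (h : i.val + 1 = j.val) :
    ev i ᵥ* uM F n = ev i + ev j := by
  ext k
  rw [vecMul_uM, Pi.add_apply, ev_apply, ev_apply]
  congr 1
  by_cases hk : 0 < k.val
  · rw [dif_pos hk, ev_apply]
    by_cases hkj : k = j
    · subst hkj
      rw [if_pos rfl, if_pos]
      apply Fin.ext
      show k.val - 1 = i.val
      omega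
    · rw [if_neg hkj, if_neg]
      intro h1
      apply hkj
      apply Fin.ext
      have := congrArg Fin.val h1
      simp at this
      omega
  · rw [dif_neg hk, if_neg]
    intro h1
    rw [h1] at hk
    omega

lemma uI_apply (a b : Fin n) :
    uI F n a b = if a.val ≤ b.val then (-1) ^ (b.val - a.val) else 0 := by
  unfold uI linv
  rw [Matrix.transpose_apply, Matrix.of_apply]

end basics

end Cfsg.Agent.Lib.helper15.TwoRU
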