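import Mathlib
import Cfsg.Agent.Lib.helper15.TwoRU1

set_option autoImplicit false

namespace Cfsg.Agent.Lib.helper15.TwoRU

open Matrix Cfsg.Agent.S2280 Cfsg.Agent.Lib.helper15.RU

section core

variable {F : Type*} [Field F] {n : ℕ}
variable {H : Subgroup (Matrix.SpecialLinearGroup (Fin n) F)}

def Ups (H : Subgroup (Matrix.SpecialLinearGroup (Fin n) F)) (i0 : Fin n) :
    AddSubgroup (Fin n → F) where
  carrier := {y | y i0 = 0 ∧ InH H (1 + vecMulVec y (ev i0))}
  zero_mem' := by
    refine ⟨rfl, ?_⟩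
    rw [zero_vecMulVec, add_zero]
    exact InH.one
  add_mem' := by
    rintro x y ⟨hx0, hx⟩ ⟨hy0, hy⟩
    refine ⟨by rw [Pi.add_apply, hx0, hy0, add_zero], ?_⟩
    rw [← tv_mul x y (ev i0) (by rw [ev_dot, hy0])]
    exact hx.mul hy
  neg_mem' := by
    rintro x ⟨hx0, hx⟩
    refine ⟨by rw [Pi.neg_apply, hx0, neg_zero], ?_⟩
    exact hx.of_mul_eq_one (tv_inv x (ev i0) (by rw [ev_dot, hx0]))

lemma mem_Ups (i0 : Fin n) (y : Fin n → F) :
    y ∈ Ups H i0 ↔ y i0 = 0 ∧ InH H (1 + vecMulVec y (ev i0)) := Iff.rfl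

def shk (k : ℕ) (y : Fin n → F) : Fin n → F :=
  fun i => if h : 0 < i.val ∧ i.val + k < n then y ⟨i.val + k, h.2⟩ else 0

lemma shk_zero (i0 : Fin n) (h0 : i0.val = 0) (y : Fin n → F) (hy : y i0 = 0) : shk 0 y = y := by
  ext i
  unfold shk
  by_cases h : 0 < i.val
  · rw [dif_pos ⟨h, by simp⟩]
    rfl
  · rw [dif_neg (fun h' => h h'.1)]
    have : i = i0 := Fin.ext (by omega)
    rw [this, hy]

lemma shk_succ (i0 i1 : Fin n) (h0 : i0.val = 0) (h1 : i1.val = 1) (k : ℕ) (y : Fin n → F) :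
    shk (k + 1) y = uM F n *ᵥ shk k y - (shk k y i1) • ev i0 - shk k y := by
  ext i
  rw [Pi.sub_apply, Pi.sub_apply, uM_mulVec, Pi.smul_apply, ev_apply, smul_eq_mul]
  by_cases hi : i = i0
  · rw [hi]
    have hn : i0.val + 1 < n := by
      have := i1.isLt
      omega
    have e1 : (⟨i0.val + 1, hn⟩ : Fin n) = i1 := Fin.ext (by simp; omega)
    rw [dif_pos hn, e1, if_pos rfl, mul_one]
    have : shk (k + 1) y i0 = 0 := by
      unfold shk
      rw [dif_neg]
      rintro ⟨h, -⟩
      omega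
    rw [this]
    ring
  · rw [if_neg hi, mul_zero, sub_zero]
    have hpos : 0 < i.val := by
      rcases Nat.eq_zero_or_pos i.val with h | h
      · exact absurd (Fin.ext (by omega)) hi
      · exact h
    by_cases hn : i.val + 1 < n
    · rw [dif_pos hn]
      unfold shk
      simp only []
      by_cases hk : i.val + (k + 1) < n
      · rw [dif_pos ⟨hpos, hk⟩, dif_pos ⟨hpos, by omega⟩, dif_pos ⟨by simp, by omega⟩]
        have : (⟨i.val + (k + 1), hk⟩ : Fin n) = ⟨i.val + 1 + k, by omega⟩ := Fin.ext (by simp; omega)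
        rw [this]
        ring
      · rw [dif_neg (fun h => hk h.2)]
        by_cases hk' : i.val + k < n
        · rw [dif_pos ⟨hpos, hk'⟩, dif_neg]
          · ring
          · rintro ⟨-, h⟩
            omega
        · rw [dif_neg (fun h => hk' h.2), dif_neg]
          · ring
          · rintro ⟨-, h⟩
            omega
    · rw [dif_neg hn, add_zero, sub_self]
      unfold shk
      rw [dif_neg]
      rintro ⟨-, h⟩
      omega


lemma Ups_v (i0 i1 : Fin n) {v : Matrix (Fin n) (Fin n) F} (hv : InH H v)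
    (hv1 : ev i0 ᵥ* v = ev i0)
    (hv0 : ∀ y : Fin n → F, y i0 = 0 → v *ᵥ y = uM F n *ᵥ y - (y i1) • ev i0)
    {y : Fin n → F} (hy : y ∈ Ups H i0) : uM F n *ᵥ y - (y i1) • ev i0 ∈ Ups H i0 := by
  obtain ⟨hy0, hyH⟩ := hy
  rw [← hv0 y hy0]
  refine ⟨?_, ?_⟩
  · rw [← ev_dot i0 (v *ᵥ y), Matrix.dotProduct_mulVec, hv1, ev_dot, hy0]
  · refine hv.conj hyH ?_
    rw [mul_add, Matrix.mul_one, add_mul, Matrix.one_mul, Matrix.mul_vecMulVec,
      Matrix.vecMulVec_mul, hv1]

lemma Ups_shk (i0 i1 : Fin n) (h0 : i0.val = 0) (h1 : i1.val = 1)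
    {v : Matrix (Fin n) (Fin n) F} (hv : InH H v)
    (hv1 : ev i0 ᵥ* v = ev i0)
    (hv0 : ∀ y : Fin n → F, y i0 = 0 → v *ᵥ y = uM F n *ᵥ y - (y i1) • ev i0)
    {y : Fin n → F} (hy : y ∈ Ups H i0) : ∀ k : ℕ, shk k y ∈ Ups H i0 := by
  intro k
  induction k with
  | zero =>
    rw [shk_zero i0 h0 y hy.1]
    exact hy
  | succ k ih =>
    rw [shk_succ i0 i1 h0 h1]
    exact (Ups H i0).sub_mem (Ups_v i0 i1 hv hv1 hv0 ih) ih

lemma shk_top (i1 il : Fin n) (h1 : i1.val = 1) (hl : il.val + 1 = n) (y : Fin n → F) :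
    shk (n - 2) y = (y il) • ev i1 := by
  ext i
  unfold shk
  rw [Pi.smul_apply, ev_apply, smul_eq_mul]
  by_cases hi : i = i1
  · rw [if_pos hi, mul_one, dif_pos ⟨by rw [hi]; omega, by rw [hi]; omega⟩]
    congr 1
    apply Fin.ext
    show i.val + (n - 2) = il.val
    rw [hi]
    omega
  · rw [if_neg hi, mul_zero, dif_neg]
    rintro ⟨hp, hlt⟩
    apply hi
    apply Fin.ext
    omega

lemma Ups_supp (i0 : Fin n) (P : Fin n → Prop)
    (hP : ∀ i, P i → ∀ s : F, s • ev i ∈ Ups H i0)
    (y : Fin n → F) (hy : ∀ i, ¬ P i → y i = 0) : y ∈ Ups H i0 := by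
  rw [pi_eq_sum_univ' y]
  apply AddSubgroup.sum_mem
  intro i _
  by_cases hi : P i
  · exact hP i hi (y i)
  · rw [hy i hi, zero_smul]
    exact (Ups H i0).zero_mem

theorem core (hn : 3 ≤ n) (i0 i1 il : Fin n) (h0 : i0.val = 0) (h1 : i1.val = 1)
    (hl : il.val + 1 = n)
    (hu : InH H (uM F n)) {v : Matrix (Fin n) (Fin n) F} (hv : InH H v)
    (hv1 : ev i0 ᵥ* v = ev i0)
    (hv0 : ∀ y : Fin n → F, y i0 = 0 → v *ᵥ y = uM F n *ᵥ y - (y i1) • ev i0)
    (a : Fin n → F) (c : F) (hc : a il = c) (hc0 : c ≠ 0)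
    (hcl : Subring.closure {c} = ⊤)
    (hstab : ∀ y : Fin n → F, y ∈ Ups H i0 → (y i1) • a ∈ Ups H i0)
    (y0 : Fin n → F) (hy0 : y0 ∈ Ups H i0) (hy0l : y0 il ≠ 0) : H = ⊤ := by
  have hsh := fun {y : Fin n → F} (hy : y ∈ Ups H i0) => Ups_shk i0 i1 h0 h1 hv hv1 hv0 hy
  have e11 : (ev i1 : Fin n → F) i1 = 1 := by rw [ev_apply, if_pos rfl]
  have step : ∀ y : Fin n → F, y ∈ Ups H i0 → (y il) • a ∈ Ups H i0 := by
    intro y hy
    have h2 := hsh hy (n - 2)
    rw [shk_top i1 il h1 hl] at h2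
    have h3 := hstab _ h2
    rwa [Pi.smul_apply, e11, smul_eq_mul, mul_one] at h3
  have L0 : (y0 il) • a ∈ Ups H i0 := step y0 hy0
  have Lmul : ∀ s : F, s • a ∈ Ups H i0 → (s * c) • a ∈ Ups H i0 := by
    intro s hs
    have := step _ hs
    rwa [Pi.smul_apply, hc, smul_eq_mul] at this
  have Lcl : ∀ x ∈ Subring.closure ({c} : Set F), ∀ s : F, s • a ∈ Ups H i0 →
      (s * x) • a ∈ Ups H i0 := by
    intro x hx
    induction hx using Subring.closure_induction with
    | mem x hx =>
      rw [Set.mem_singleton_iff] at hx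
      rw [hx]
      exact Lmul
    | zero =>
      intro s _
      rw [mul_zero, zero_smul]
      exact (Ups H i0).zero_mem
    | one =>
      intro s hs
      rwa [mul_one]
    | add x y _ _ ihx ihy =>
      intro s hs
      rw [mul_add, add_smul]
      exact (Ups H i0).add_mem (ihx s hs) (ihy s hs)
    | neg x _ ihx =>
      intro s hs
      rw [mul_neg, neg_smul]
      exact (Ups H i0).neg_mem (ihx s hs)
    | mul x y _ _ ihx ihy =>
      intro s hs
      rw [← mul_assoc]
      exact ihy _ (ihx s hs)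
  have Lall : ∀ s : F, s • a ∈ Ups H i0 := by
    intro s
    have := Lcl ((y0 il)⁻¹ * s) (by rw [hcl]; exact Subring.mem_top _) _ L0
    rwa [← mul_assoc, mul_inv_cancel₀ hy0l, one_mul] at this
  have Lbasis : ∀ j : ℕ, ∀ i : Fin n, 1 ≤ i.val → i.val ≤ j → ∀ s : F, s • ev i ∈ Ups H i0 := by
    intro j
    induction j with
    | zero =>
      intro i hi1 hi2
      omega
    | succ j ih =>
      intro i hi1 hi2 s
      by_cases hij : i.val ≤ j
      · exact ih i hi1 hij s
      · have hij' : i.val = j + 1 := by omega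
        have hw := hsh (Lall (s * c⁻¹)) (n - 1 - i.val)
        set w := shk (n - 1 - i.val) ((s * c⁻¹) • a) with hwdef
        have hwi : w i = s := by
          rw [hwdef]
          unfold shk
          rw [dif_pos ⟨by omega, by have := i.isLt; omega⟩, Pi.smul_apply, smul_eq_mul]
          have : (⟨i.val + (n - 1 - i.val), by have := i.isLt; omega⟩ : Fin n) = il :=
            Fin.ext (by simp; have := i.isLt; omega)
          rw [this, hc, mul_assoc, inv_mul_cancel₀ hc0, mul_one]
        have hw' : w - s • ev i ∈ Ups H i0 := by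
          apply Ups_supp i0 (fun k => 1 ≤ k.val ∧ k.val ≤ j) (fun k hk => ih k hk.1 hk.2)
          intro k hk
          rw [Pi.sub_apply, Pi.smul_apply, ev_apply, smul_eq_mul]
          by_cases hki : k = i
          · rw [if_pos hki, mul_one, hki, hwi, sub_self]
          · rw [if_neg hki, mul_zero, sub_zero, hwdef]
            unfold shk
            rw [dif_neg]
            rintro ⟨hp, hlt⟩
            apply hk
            refine ⟨hp, ?_⟩
            have hne : k.val ≠ i.val := fun h => hki (Fin.ext h)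
            omega
        have := (Ups H i0).sub_mem hw hw'
        rwa [sub_sub_cancel] at this
  have hAll : ∀ y : Fin n → F, y i0 = 0 → y ∈ Ups H i0 := by
    intro y hy
    apply Ups_supp i0 (fun k => 1 ≤ k.val) (fun k hk => Lbasis n k hk (by have := k.isLt; omega))
    intro k hk
    have : k = i0 := Fin.ext (by omega)
    rw [this, hy]
  have hAx0 : Ax H (ev i0 : Fin n → F) := by
    intro x hx
    rw [ev_dot] at hx
    exact (hAll x hx).2
  have huI : InH H (uI F n) := hu.of_mul_eq_one uM_mul_uI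
  have hAx : ∀ j : ℕ, ∀ i : Fin n, i.val = j → Ax H (ev i : Fin n → F) := by
    intro j
    induction j with
    | zero =>
      intro i hi
      have : i = i0 := Fin.ext (by omega)
      rw [this]
      exact hAx0
    | succ j ih =>
      intro i hi
      have hlt : j < n := by
        have := i.isLt
        omega
      have h1 := ih ⟨j, hlt⟩ rfl
      have h2 := h1.act huI uI_mul_uM
      rw [ev_vecMul_uM ⟨j, hlt⟩ i (by simp; omega)] at h2
      have h3 := Ax.add_smul h1 h2 (ev i) (by
        rw [ev_dot, ev_apply, if_neg]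
        intro h
        have := congrArg Fin.val h
        simp at this
        omega) (by
        rw [dot_ev, Pi.add_apply, ev_apply, ev_apply, if_neg, if_pos rfl, zero_add]
        intro h
        have := congrArg Fin.val h
        simp at this
        omega) (-1)
      have e : (ev (⟨j, hlt⟩ : Fin n) + ev i + (-1 : F) • ev (⟨j, hlt⟩ : Fin n) : Fin n → F) = ev i := by
        rw [neg_one_smul]
        abel
      rwa [e] at h3
  apply eq_top_of_all hn
  intro i j hij s
  have := hAx j.val j rfl (s • ev i) (by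
    rw [dotProduct_smul, ev_dot, ev_apply, if_neg (Ne.symm hij), smul_zero])
  have e : (1 + vecMulVec (s • ev i) (ev j) : Matrix (Fin n) (Fin n) F) = 1 + Matrix.single i j s := by
    congr 1
    ext a b
    rw [vecMulVec_apply, Pi.smul_apply, ev_apply, ev_apply, Matrix.single_apply, smul_eq_mul]
    by_cases ha : a = i
    · by_cases hb : b = j
      · simp [ha, hb]
      · simp [ha, hb, Ne.symm hb]
    · simp [ha, Ne.symm ha]
  rwa [e] at this

end core

end Cfsg.Agent.Lib.helper15.TwoRU
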