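import Mathlib
import Cfsg.Agent.Lib.helper15.TwoRU2

set_option autoImplicit false

namespace Cfsg.Agent.Lib.helper15.TwoRU

open Matrix Cfsg.Agent.S2280 Cfsg.Agent.Lib.helper15.RU

section odd

variable {F : Type*} [Field F] {n : ℕ}
variable {H : Subgroup (Matrix.SpecialLinearGroup (Fin n) F)}

def Ymat (i0 i1 : Fin n) (b : Fin n → F) : Matrix (Fin n) (Fin n) F :=
  1 - vecMulVec (ev i0) (ev i1) + (4 : F) • vecMulVec b (ev i0) - (4 : F) • vecMulVec (ev i0) (ev i0)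

def sigM (i0 i1 : Fin n) (b : Fin n → F) : Matrix (Fin n) (Fin n) F :=
  1 - (2 : F) • vecMulVec (ev i0) (ev i0) - (2 : F) • vecMulVec b (ev i1)

lemma ev_same (i : Fin n) : (ev i : Fin n → F) i = 1 := by
  rw [ev_apply, if_pos rfl]

lemma ev_diff (i j : Fin n) (h : j ≠ i) : (ev i : Fin n → F) j = 0 := by
  rw [ev_apply, if_neg h]

lemma Y_sq (i0 i1 : Fin n) (h01 : i0 ≠ i1) (b : Fin n → F) (hb0 : b i0 = 0) (hb1 : b i1 = 1) :
    Ymat i0 i1 b * Ymat i0 i1 b =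
      1 + vecMulVec ((2 : F) • (ev i0 - (2 : F) • b)) ((2 : F) • ev i0 + ev i1) := by
  unfold Ymat
  simp only [mul_add, add_mul, mul_sub, sub_mul, Matrix.mul_one, Matrix.one_mul, Matrix.mul_smul,
    Matrix.smul_mul, vecMulVec_mul_vecMulVec, ev_dot, ev_same, ev_diff i1 i0 h01,
    ev_diff i0 i1 (Ne.symm h01), hb0, hb1,
    vecMulVec_add, sub_vecMulVec, smul_vecMulVec, vecMulVec_smul]
  module

lemma Y_T1 (i0 i1 : Fin n) (h01 : i0 ≠ i1) (b : Fin n → F) (hb0 : b i0 = 0) (hb1 : b i1 = 1) :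
    Ymat i0 i1 b * (1 + vecMulVec (-(ev i0 - (2 : F) • b)) ((2 : F) • ev i0 + ev i1)) =
      sigM i0 i1 b := by
  unfold Ymat sigM
  simp only [mul_add, add_mul, mul_sub, sub_mul, Matrix.mul_one, Matrix.one_mul, Matrix.mul_smul,
    Matrix.smul_mul, vecMulVec_mul_vecMulVec, ev_dot, ev_same, ev_diff i1 i0 h01,
    ev_diff i0 i1 (Ne.symm h01), hb0, hb1, neg_vecMulVec, mul_neg,
    vecMulVec_add, sub_vecMulVec, smul_vecMulVec, vecMulVec_smul]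
  module

lemma tv_nsmul {x φ : Fin n → F} (hx : φ ⬝ᵥ x = 0) (h : InH H (1 + vecMulVec x φ)) :
    ∀ k : ℕ, InH H (1 + vecMulVec (k • x) φ) := by
  intro k
  induction k with
  | zero =>
    rw [zero_smul, zero_vecMulVec, add_zero]
    exact InH.one
  | succ k ih =>
    rw [succ_nsmul, ← tv_mul _ _ _ hx]
    exact ih.mul h

lemma varpi_sq (e0 b b1 φ0 φ1 ξ : Fin n → F) (κ : F)
    (h00 : φ0 ⬝ᵥ e0 = 1) (h0b : φ0 ⬝ᵥ b = 0) (h0b1 : φ0 ⬝ᵥ b1 = 0)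
    (h10 : φ1 ⬝ᵥ e0 = 0) (h1b : φ1 ⬝ᵥ b = 1) (h1b1 : φ1 ⬝ᵥ b1 = 0)
    (hx0 : ξ ⬝ᵥ e0 = 0) (hxb : ξ ⬝ᵥ b = κ) (hxb1 : ξ ⬝ᵥ b1 = 1) :
    ((1 - (2 : F) • vecMulVec e0 φ0 - (2 : F) • vecMulVec b φ1) *
        (1 - (2 : F) • vecMulVec e0 φ0 - (2 : F) • vecMulVec b1 ξ)) *
      ((1 - (2 : F) • vecMulVec e0 φ0 - (2 : F) • vecMulVec b φ1) *
        (1 - (2 : F) • vecMulVec e0 φ0 - (2 : F) • vecMulVec b1 ξ)) =
      1 + vecMulVec ((4 * κ) • b1) φ1 := by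
  simp only [mul_add, add_mul, mul_sub, sub_mul, Matrix.mul_one, Matrix.one_mul, Matrix.mul_smul,
    Matrix.smul_mul, vecMulVec_mul_vecMulVec, h00, h0b, h0b1, h10, h1b, h1b1, hx0, hxb, hxb1,
    smul_vecMulVec, vecMulVec_smul]
  module

lemma u_sig (i0 i1 : Fin n) (h0 : i0.val = 0) (h1 : i1.val = 1) (b : Fin n → F) :
    uM F n * sigM i0 i1 b =
      (1 - (2 : F) • vecMulVec (ev i0) (ev i0) -
        (2 : F) • vecMulVec (uM F n *ᵥ b - ev i0) (ev i1 ᵥ* uI F n)) * uM F n := by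
  unfold sigM
  simp only [mul_sub, sub_mul, Matrix.mul_one, Matrix.one_mul, Matrix.mul_smul, Matrix.smul_mul,
    Matrix.mul_vecMulVec, Matrix.vecMulVec_mul, uM_mulVec_ev0 i0 h0,
    ev_vecMul_uM i0 i1 (by omega), Matrix.vecMul_vecMul, uI_mul_uM, Matrix.vecMul_one,
    vecMulVec_add, sub_vecMulVec]
  module

lemma tW_Y (i0 i1 : Fin n) (h01 : i0 ≠ i1) (b w : Fin n → F) (hb1 : b i1 = 1)
    (hw0 : w i0 = 0) (hw1 : w i1 = 0) :
    (1 + vecMulVec w (ev i1)) * Ymat i0 i1 b =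
      Ymat i0 i1 b * (1 + vecMulVec w (ev i1 + (4 : F) • ev i0)) := by
  unfold Ymat
  simp only [mul_add, add_mul, mul_sub, sub_mul, Matrix.mul_one, Matrix.one_mul, Matrix.mul_smul,
    Matrix.smul_mul, vecMulVec_mul_vecMulVec, ev_dot, ev_same, ev_diff i1 i0 h01,
    ev_diff i0 i1 (Ne.symm h01), hb1, hw0, hw1,
    vecMulVec_add, sub_vecMulVec, smul_vecMulVec, vecMulVec_smul]
  module

lemma tW_prod (i0 i1 : Fin n) (w : Fin n → F) (hw0 : w i0 = 0) (hw1 : w i1 = 0) :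
    (1 + vecMulVec w (ev i1 + (4 : F) • ev i0)) * (1 + vecMulVec (-w) (ev i1)) =
      1 + vecMulVec ((4 : F) • w) (ev i0) := by
  simp only [mul_add, add_mul, mul_neg, neg_mul, Matrix.mul_one, Matrix.one_mul, Matrix.mul_smul,
    Matrix.smul_mul, neg_vecMulVec, vecMulVec_add, smul_vecMulVec, vecMulVec_smul,
    vecMulVec_mul_vecMulVec, ev_dot, hw0, hw1]
  module

lemma sig_stab (i0 i1 : Fin n) (h01 : i0 ≠ i1) (b y : Fin n → F) (hb0 : b i0 = 0) (hy0 : y i0 = 0) :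
    sigM i0 i1 b * (1 + vecMulVec y (ev i0)) =
      (1 + vecMulVec (y - (2 * y i1) • b) (-ev i0)) * sigM i0 i1 b := by
  unfold sigM
  simp only [mul_add, add_mul, mul_sub, sub_mul, Matrix.mul_one, Matrix.one_mul, Matrix.mul_smul,
    Matrix.smul_mul, mul_neg, neg_mul, vecMulVec_neg, neg_vecMulVec,
    vecMulVec_add, sub_vecMulVec, smul_vecMulVec, vecMulVec_smul,
    vecMulVec_mul_vecMulVec, ev_dot, ev_same, ev_diff i1 i0 h01,
    ev_diff i0 i1 (Ne.symm h01), hb0, hy0]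
  module


lemma ev_vecMul (i : Fin n) (M : Matrix (Fin n) (Fin n) F) : ev i ᵥ* M = M i := by
  ext j
  unfold Matrix.vecMul
  rw [ev_dot]

lemma uM_mulVec_zero (i0 i1 : Fin n) (h0 : i0.val = 0) (h1 : i1.val = 1) (y : Fin n → F) :
    (uM F n *ᵥ y) i0 = y i0 + y i1 := by
  rw [uM_mulVec]
  have hn : i0.val + 1 < n := by
    have := i1.isLt
    omega
  rw [dif_pos hn]
  congr 2
  apply Fin.ext
  show i0.val + 1 = i1.val
  omega

lemma uM_mulVec_succ (i j : Fin n) (h : i.val + 1 = j.val) (y : Fin n → F) :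
    (uM F n *ᵥ y) i = y i + y j := by
  rw [uM_mulVec]
  have hn : i.val + 1 < n := by
    have := j.isLt
    omega
  rw [dif_pos hn]
  congr 2
  apply Fin.ext
  exact h

lemma uM_mulVec_last (il : Fin n) (hl : il.val + 1 = n) (y : Fin n → F) :
    (uM F n *ᵥ y) il = y il := by
  rw [uM_mulVec, dif_neg (by omega), add_zero]

theorem odd_chain (hn : 3 ≤ n) (i0 i1 i2 il : Fin n) (h0 : i0.val = 0) (h1 : i1.val = 1)
    (h2 : i2.val = 2) (hl : il.val + 1 = n)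
    (b : Fin n → F) (hb0 : b i0 = 0) (hb1 : b i1 = 1) (hb2 : b i2 = -1)
    (k : ℕ) (hk : (k : F) * 2 = 1)
    (κ : F) (hκ : (ev i1 ᵥ* uI F n) ⬝ᵥ b = κ) (hκ0 : κ ≠ 0)
    (c : F) (hc : 2 * b il = c) (hc0 : c ≠ 0) (hcl : Subring.closure {c} = ⊤)
    (hu : InH H (uM F n)) (hv : InH H (uM F n * Ymat i0 i1 b)) : H = ⊤ := by
  have h01 : i0 ≠ i1 := by
    intro h
    rw [h] at h0
    omega
  have hl0 : il ≠ i0 := by
    intro h
    rw [h] at hl
    omega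
  have h2F : (2 : F) ≠ 0 := by
    intro h
    rw [h, mul_zero] at hk
    exact zero_ne_one hk
  have hY : InH H (Ymat i0 i1 b) := hu.cancel_left hv
  have hζ : ∀ x : Fin n → F, ((2 : F) • ev i0 + ev i1) ⬝ᵥ x = 2 * x i0 + x i1 := by
    intro x
    rw [add_dotProduct, smul_dotProduct, ev_dot, ev_dot, smul_eq_mul]
  have hz0 : ((ev i0 : Fin n → F) - (2 : F) • b) i0 = 1 := by
    rw [Pi.sub_apply, Pi.smul_apply, ev_same, hb0, smul_zero, sub_zero]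
  have hz1 : ((ev i0 : Fin n → F) - (2 : F) • b) i1 = -2 := by
    rw [Pi.sub_apply, Pi.smul_apply, ev_diff i0 i1 (Ne.symm h01), hb1, smul_eq_mul, mul_one,
      zero_sub]
  have hζz' : ((2 : F) • ev i0 + ev i1) ⬝ᵥ ((ev i0 : Fin n → F) - (2 : F) • b) = 0 := by
    rw [hζ, hz0, hz1]
    ring
  have hζz : ((2 : F) • ev i0 + ev i1) ⬝ᵥ ((2 : F) • ((ev i0 : Fin n → F) - (2 : F) • b)) = 0 := by
    rw [dotProduct_smul, hζz', smul_zero]
  have ht : InH H (1 + vecMulVec ((2 : F) • (ev i0 - (2 : F) • b)) ((2 : F) • ev i0 + ev i1)) := by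
    rw [← Y_sq i0 i1 h01 b hb0 hb1]
    exact hY.mul hY
  have hT1 : InH H (1 + vecMulVec (ev i0 - (2 : F) • b) ((2 : F) • ev i0 + ev i1)) := by
    have := tv_nsmul hζz ht k
    have e : k • ((2 : F) • ((ev i0 : Fin n → F) - (2 : F) • b)) = ev i0 - (2 : F) • b := by
      rw [← Nat.cast_smul_eq_nsmul F, smul_smul, hk, one_smul]
    rwa [e] at this
  have hT1i : InH H (1 + vecMulVec (-(ev i0 - (2 : F) • b)) ((2 : F) • ev i0 + ev i1)) :=
    hT1.of_mul_eq_one (tv_inv _ _ hζz')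
  have hσ : InH H (sigM i0 i1 b) := by
    rw [← Y_T1 i0 i1 h01 b hb0 hb1]
    exact hY.mul hT1i
  have hσ1 := hu.conj hσ (u_sig i0 i1 h0 h1 b)
  have hb1_0 : (uM F n *ᵥ b - ev i0 : Fin n → F) i0 = 0 := by
    rw [Pi.sub_apply, uM_mulVec_zero i0 i1 h0 h1, hb0, hb1, ev_same]
    ring
  have hb1_1 : (uM F n *ᵥ b - ev i0 : Fin n → F) i1 = 0 := by
    rw [Pi.sub_apply, uM_mulVec_succ i1 i2 (by omega), hb1, hb2, ev_diff i0 i1 (Ne.symm h01)]
    ring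
  have hb1_l : (uM F n *ᵥ b - ev i0 : Fin n → F) il = b il := by
    rw [Pi.sub_apply, uM_mulVec_last il hl, ev_diff i0 il hl0, sub_zero]
  have hx0 : (ev i1 ᵥ* uI F n) ⬝ᵥ (ev i0 : Fin n → F) = 0 := by
    rw [dot_ev, ev_vecMul, uI_apply, if_neg (by omega)]
  have hxb1 : (ev i1 ᵥ* uI F n) ⬝ᵥ (uM F n *ᵥ b - ev i0) = 1 := by
    rw [dotProduct_sub, hx0, sub_zero, Matrix.dotProduct_mulVec, Matrix.vecMul_vecMul, uI_mul_uM,
      Matrix.vecMul_one, ev_dot, hb1]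
  have hW : InH H (1 + vecMulVec ((4 * κ) • (uM F n *ᵥ b - ev i0)) (ev i1)) := by
    rw [← varpi_sq (ev i0) b (uM F n *ᵥ b - ev i0) (ev i0) (ev i1) (ev i1 ᵥ* uI F n) κ
      (by rw [ev_dot, ev_same]) (by rw [ev_dot, hb0]) (by rw [ev_dot, hb1_0])
      (by rw [ev_dot, ev_diff i0 i1 (Ne.symm h01)]) (by rw [ev_dot, hb1]) (by rw [ev_dot, hb1_1])
      hx0 hκ hxb1]
    exact (hσ.mul hσ1).mul (hσ.mul hσ1)
  set w : Fin n → F := (4 * κ) • (uM F n *ᵥ b - ev i0) with hwdef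
  have hw0 : w i0 = 0 := by rw [hwdef, Pi.smul_apply, hb1_0, smul_zero]
  have hw1 : w i1 = 0 := by rw [hwdef, Pi.smul_apply, hb1_1, smul_zero]
  have hX' := hY.conj' hW (tW_Y i0 i1 h01 b w hb1 hw0 hw1)
  have hWi : InH H (1 + vecMulVec (-w) (ev i1)) :=
    hW.of_mul_eq_one (tv_inv w (ev i1) (by rw [ev_dot, hw1]))
  have hy0 : InH H (1 + vecMulVec ((4 : F) • w) (ev i0)) := by
    rw [← tW_prod i0 i1 w hw0 hw1]
    exact hX'.mul hWi
  have hy0U : (4 : F) • w ∈ Ups H i0 := ⟨by rw [Pi.smul_apply, hw0, smul_zero], hy0⟩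
  have h4 : (4 : F) ≠ 0 := by
    have : (4 : F) = 2 * 2 := by norm_num
    rw [this]
    exact mul_ne_zero h2F h2F
  have hbl : b il ≠ 0 := by
    intro h
    rw [h, mul_zero] at hc
    exact hc0 hc.symm
  have hy0l : ((4 : F) • w) il ≠ 0 := by
    rw [Pi.smul_apply, hwdef, Pi.smul_apply, hb1_l, smul_eq_mul, smul_eq_mul]
    exact mul_ne_zero h4 (mul_ne_zero (mul_ne_zero h4 hκ0) hbl)
  have hstab : ∀ y : Fin n → F, y ∈ Ups H i0 → (y i1) • ((2 : F) • b) ∈ Ups H i0 := by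
    rintro y ⟨hy0', hyH⟩
    have h1' := hσ.conj hyH (sig_stab i0 i1 h01 b y hb0 hy0')
    rw [vecMulVec_neg, ← neg_vecMulVec] at h1'
    have h2' : -(y - (2 * y i1) • b) ∈ Ups H i0 := by
      refine ⟨?_, h1'⟩
      rw [Pi.neg_apply, Pi.sub_apply, Pi.smul_apply, hy0', hb0, smul_zero, sub_zero, neg_zero]
    have h3' := (Ups H i0).add_mem (⟨hy0', hyH⟩ : y ∈ Ups H i0) h2'
    have e : y + -(y - (2 * y i1) • b) = (y i1) • ((2 : F) • b) := by
      rw [smul_smul, mul_comm (y i1) 2]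
      abel
    rwa [e] at h3'
  have hv1 : ev i0 ᵥ* (uM F n * Ymat i0 i1 b) = ev i0 := by
    rw [← Matrix.vecMul_vecMul, ev_vecMul_uM i0 i1 (by omega)]
    unfold Ymat
    simp only [Matrix.vecMul_add, Matrix.vecMul_sub, Matrix.vecMul_one, Matrix.vecMul_smul,
      Matrix.vecMul_vecMulVec, add_dotProduct, ev_dot, ev_same, ev_diff i0 i1 (Ne.symm h01),
      ev_diff i1 i0 h01, hb0, hb1]
    module
  have hv0 : ∀ y : Fin n → F, y i0 = 0 →
      (uM F n * Ymat i0 i1 b) *ᵥ y = uM F n *ᵥ y - (y i1) • ev i0 := by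
    intro y hy
    rw [← Matrix.mulVec_mulVec]
    have e : Ymat i0 i1 b *ᵥ y = y - (y i1) • ev i0 := by
      unfold Ymat
      simp only [Matrix.add_mulVec, Matrix.sub_mulVec, Matrix.one_mulVec, Matrix.smul_mulVec,
        Matrix.vecMulVec_mulVec, ev_dot, hy, op_smul_eq_smul]
      module
    rw [e, Matrix.mulVec_sub, Matrix.mulVec_smul, uM_mulVec_ev0 i0 h0]
  exact core hn i0 i1 il h0 h1 hl hu hv hv1 hv0 ((2 : F) • b) c
    (by rw [Pi.smul_apply, smul_eq_mul, hc]) hc0 hcl hstab _ hy0U hy0l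

end odd

end Cfsg.Agent.Lib.helper15.TwoRU
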