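import Mathlib
import Cfsg.Agent.Lib.helper15.TwoRU3

set_option autoImplicit false

namespace Cfsg.Agent.Lib.helper15.TwoRU

open Matrix Cfsg.Agent.S2280 Cfsg.Agent.Lib.helper15.RU

section two

variable {F : Type*} [Field F] {n : ℕ}
variable {H : Subgroup (Matrix.SpecialLinearGroup (Fin n) F)}

def Ymat2 (i0 i1 : Fin n) (a : Fin n → F) : Matrix (Fin n) (Fin n) F :=
  1 + vecMulVec (ev i0) (ev i1) + vecMulVec a (ev i0)

lemma Y2_sq (i0 i1 : Fin n) (h01 : i0 ≠ i1) (a : Fin n → F) (ha0 : a i0 = 0) (ha1 : a i1 = 0) :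
    Ymat2 i0 i1 a * Ymat2 i0 i1 a =
      1 + vecMulVec a (ev i1) + (2 : F) • (vecMulVec (ev i0) (ev i1) + vecMulVec a (ev i0)) := by
  unfold Ymat2
  simp only [mul_add, add_mul, Matrix.mul_one, Matrix.one_mul,
    vecMulVec_smul, vecMulVec_mul_vecMulVec, ev_dot, ev_same,
    ev_diff i0 i1 (Ne.symm h01), ha0, ha1]
  module

lemma u_t (i1 : Fin n) (a : Fin n → F) :
    uM F n * (1 + vecMulVec a (ev i1)) =
      (1 + vecMulVec (uM F n *ᵥ a) (ev i1 ᵥ* uI F n)) * uM F n := by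
  simp only [mul_add, add_mul, Matrix.mul_one, Matrix.one_mul,
    Matrix.mul_vecMulVec, Matrix.vecMulVec_mul, Matrix.vecMul_vecMul, uI_mul_uM,
    Matrix.vecMul_one]

lemma t1_Y2 (i0 i1 : Fin n) (a a1 ξ : Fin n → F) (κ : F)
    (h0 : a1 i0 = 0) (h1 : a1 i1 = 0) (hx0 : ξ ⬝ᵥ ev i0 = 0) (hxa : ξ ⬝ᵥ a = κ) :
    (1 + vecMulVec a1 ξ) * Ymat2 i0 i1 a =
      Ymat2 i0 i1 a * (1 + vecMulVec a1 (ξ + κ • ev i0)) := by
  unfold Ymat2
  simp only [mul_add, add_mul, Matrix.mul_one, Matrix.one_mul, Matrix.mul_smul,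
    vecMulVec_add, vecMulVec_smul, vecMulVec_mul_vecMulVec, ev_dot, h0, h1, hx0, hxa]
  module

lemma t1_prod (i0 : Fin n) (a1 ξ : Fin n → F) (κ : F) (h0 : a1 i0 = 0) (hx : ξ ⬝ᵥ a1 = 0) :
    (1 + vecMulVec a1 (ξ + κ • ev i0)) * (1 + vecMulVec (-a1) ξ) =
      1 + vecMulVec (κ • a1) (ev i0) := by
  simp only [mul_add, add_mul, mul_neg, Matrix.mul_one, Matrix.one_mul,
    Matrix.smul_mul,
    neg_vecMulVec, vecMulVec_add, vecMulVec_smul, smul_vecMulVec,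
    vecMulVec_mul_vecMulVec, ev_dot, h0, hx]
  module

lemma t_stab (i0 i1 : Fin n) (a y : Fin n → F) (ha0 : a i0 = 0) :
    (1 + vecMulVec a (ev i1)) * (1 + vecMulVec y (ev i0)) =
      (1 + vecMulVec (y + (y i1) • a) (ev i0)) * (1 + vecMulVec a (ev i1)) := by
  simp only [mul_add, add_mul, Matrix.mul_one, Matrix.one_mul, Matrix.smul_mul,
    add_vecMulVec, vecMulVec_smul, smul_vecMulVec, vecMulVec_mul_vecMulVec, ev_dot, ha0]
  module

theorem two_chain (hn : 3 ≤ n) (h2F : (2 : F) = 0) (i0 i1 i2 il : Fin n) (h0 : i0.val = 0)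
    (h1 : i1.val = 1) (h2 : i2.val = 2) (hl : il.val + 1 = n)
    (a : Fin n → F) (ha0 : a i0 = 0) (ha1 : a i1 = 0) (ha2 : a i2 = 0)
    (κ : F) (hκ : (ev i1 ᵥ* uI F n) ⬝ᵥ a = κ) (hκ0 : κ ≠ 0)
    (c : F) (hc : a il = c) (hc0 : c ≠ 0) (hcl : Subring.closure {c} = ⊤)
    (hu : InH H (uM F n)) (hv : InH H (uM F n * Ymat2 i0 i1 a)) : H = ⊤ := by
  have h01 : i0 ≠ i1 := by
    intro h
    rw [h] at h0
    omega
  have hY : InH H (Ymat2 i0 i1 a) := hu.cancel_left hv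
  have ht : InH H (1 + vecMulVec a (ev i1)) := by
    have := hY.mul hY
    rwa [Y2_sq i0 i1 h01 a ha0 ha1, h2F, zero_smul, add_zero] at this
  have ht1 := hu.conj ht (u_t i1 a)
  have ha1_0 : (uM F n *ᵥ a) i0 = 0 := by
    rw [uM_mulVec_zero i0 i1 h0 h1, ha0, ha1, add_zero]
  have ha1_1 : (uM F n *ᵥ a) i1 = 0 := by
    rw [uM_mulVec_succ i1 i2 (by omega), ha1, ha2, add_zero]
  have ha1_l : (uM F n *ᵥ a) il = c := by
    rw [uM_mulVec_last il hl, hc]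
  have hx0 : (ev i1 ᵥ* uI F n) ⬝ᵥ (ev i0 : Fin n → F) = 0 := by
    rw [dot_ev, ev_vecMul, uI_apply, if_neg (by omega)]
  have hxa1 : (ev i1 ᵥ* uI F n) ⬝ᵥ (uM F n *ᵥ a) = 0 := by
    rw [Matrix.dotProduct_mulVec, Matrix.vecMul_vecMul, uI_mul_uM, Matrix.vecMul_one, ev_dot, ha1]
  have hX' := hY.conj' ht1 (t1_Y2 i0 i1 a (uM F n *ᵥ a) (ev i1 ᵥ* uI F n) κ ha1_0 ha1_1 hx0 hκ)
  have ht1i : InH H (1 + vecMulVec (-(uM F n *ᵥ a)) (ev i1 ᵥ* uI F n)) :=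
    ht1.of_mul_eq_one (tv_inv _ _ hxa1)
  have hy0 : InH H (1 + vecMulVec (κ • (uM F n *ᵥ a)) (ev i0)) := by
    rw [← t1_prod i0 (uM F n *ᵥ a) (ev i1 ᵥ* uI F n) κ ha1_0 hxa1]
    exact hX'.mul ht1i
  have hy0U : κ • (uM F n *ᵥ a) ∈ Ups H i0 :=
    ⟨by rw [Pi.smul_apply, ha1_0, smul_zero], hy0⟩
  have hy0l : (κ • (uM F n *ᵥ a)) il ≠ 0 := by
    rw [Pi.smul_apply, ha1_l, smul_eq_mul]
    exact mul_ne_zero hκ0 hc0
  have hstab : ∀ y : Fin n → F, y ∈ Ups H i0 → (y i1) • a ∈ Ups H i0 := by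
    rintro y ⟨hy0', hyH⟩
    have h1' := ht.conj hyH (t_stab i0 i1 a y ha0)
    have h2' : y + (y i1) • a ∈ Ups H i0 := by
      refine ⟨?_, h1'⟩
      rw [Pi.add_apply, Pi.smul_apply, hy0', ha0, smul_zero, add_zero]
    have h3' := (Ups H i0).sub_mem h2' (⟨hy0', hyH⟩ : y ∈ Ups H i0)
    rwa [add_sub_cancel_left] at h3'
  have hneg : ∀ x : Fin n → F, -x = x := by
    intro x
    have : x + x = 0 := by
      rw [← two_smul F x, h2F, zero_smul]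
    exact neg_eq_of_add_eq_zero_left this
  have hv1 : ev i0 ᵥ* (uM F n * Ymat2 i0 i1 a) = ev i0 := by
    rw [← Matrix.vecMul_vecMul, ev_vecMul_uM i0 i1 (by omega)]
    unfold Ymat2
    simp only [Matrix.vecMul_add, Matrix.vecMul_one,
      Matrix.vecMul_vecMulVec, add_dotProduct, ev_dot, ev_same, ev_diff i0 i1 (Ne.symm h01),
      ha0, ha1]
    have : (ev i0 : Fin n → F) + ev i1 + ((1 : F) + 0) • ev i1 + ((0 : F) + 0) • ev i0 =
        ev i0 + (2 : F) • ev i1 := by module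
    rw [this, h2F, zero_smul, add_zero]
  have hv0 : ∀ y : Fin n → F, y i0 = 0 →
      (uM F n * Ymat2 i0 i1 a) *ᵥ y = uM F n *ᵥ y - (y i1) • ev i0 := by
    intro y hy
    rw [← Matrix.mulVec_mulVec]
    have e : Ymat2 i0 i1 a *ᵥ y = y + (y i1) • ev i0 := by
      unfold Ymat2
      simp only [Matrix.add_mulVec, Matrix.one_mulVec,
        Matrix.vecMulVec_mulVec, ev_dot, hy, op_smul_eq_smul]
      module
    rw [e, Matrix.mulVec_add, Matrix.mulVec_smul, uM_mulVec_ev0 i0 h0, sub_eq_add_neg,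
      hneg ((y i1) • ev i0)]
  exact core hn i0 i1 il h0 h1 hl hu hv hv1 hv0 a c hc hc0 hcl hstab _ hy0U hy0l

end two

end Cfsg.Agent.Lib.helper15.TwoRU
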