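import Mathlib
import Cfsg.Agent.Lib.helper15.TwoRU4

set_option autoImplicit false

namespace Cfsg.Agent.Lib.helper15.TwoRU

open Matrix Cfsg.Agent.S2280 Cfsg.Agent.Lib.helper15.RU

section reg

variable {F : Type*} [Field F] {n : ℕ}

def Gmat (i0 : Fin n) (y : Fin n → F) : Matrix (Fin n) (Fin n) F :=
  Matrix.of (fun i j => if j.val + 1 = n then (ev i0 : Fin n → F) i else shk (n - 2 - j.val) y i)

lemma Gmat_col_last (i0 : Fin n) (y : Fin n → F) (j : Fin n) (hj : j.val + 1 = n) :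
    (fun k => Gmat i0 y k j) = ev i0 := by
  ext k
  unfold Gmat
  rw [Matrix.of_apply, if_pos hj]

lemma Gmat_col (i0 : Fin n) (y : Fin n → F) (j : Fin n) (hj : ¬ j.val + 1 = n) :
    (fun k => Gmat i0 y k j) = shk (n - 2 - j.val) y := by
  ext k
  unfold Gmat
  rw [Matrix.of_apply, if_neg hj]

lemma shk_i0 (i0 : Fin n) (h0 : i0.val = 0) (k : ℕ) (y : Fin n → F) : shk k y i0 = 0 := by
  unfold shk
  rw [dif_neg]
  rintro ⟨h, -⟩
  omega

lemma shk_big (k : ℕ) (hk : n ≤ k + 1) (y : Fin n → F) : shk k y = 0 := by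
  ext i
  unfold shk
  rw [dif_neg]
  · rfl
  · rintro ⟨h1, h2⟩
    omega

lemma v_shk (i0 i1 : Fin n) (h0 : i0.val = 0) (h1 : i1.val = 1)
    (v : Matrix (Fin n) (Fin n) F)
    (hv0 : ∀ y : Fin n → F, y i0 = 0 → v *ᵥ y = uM F n *ᵥ y - (y i1) • ev i0)
    (k : ℕ) (y : Fin n → F) : v *ᵥ shk k y = shk k y + shk (k + 1) y := by
  rw [hv0 _ (shk_i0 i0 h0 k y), shk_succ i0 i1 h0 h1 k y]
  abel

theorem v_Gmat (i0 i1 : Fin n) (h0 : i0.val = 0) (h1 : i1.val = 1)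
    (v : Matrix (Fin n) (Fin n) F)
    (hv0 : ∀ y : Fin n → F, y i0 = 0 → v *ᵥ y = uM F n *ᵥ y - (y i1) • ev i0)
    (y : Fin n → F) (hy0 : y i0 = 0) (hve : v *ᵥ ev i0 = ev i0 + y) :
    v * Gmat i0 y = Gmat i0 y * uM F n := by
  have hn2 : 2 ≤ n := by
    have := i1.isLt
    omega
  ext i j
  have hL : (v * Gmat i0 y) i j = (v *ᵥ (fun k => Gmat i0 y k j)) i := rfl
  have hR : (Gmat i0 y * uM F n) i j = ((fun k => Gmat i0 y i k) ᵥ* uM F n) j := rfl
  rw [hL, hR, vecMul_uM]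
  by_cases hj : j.val + 1 = n
  · rw [Gmat_col_last i0 y j hj, hve, dif_pos (by omega)]
    have hj' : ¬ (j.val - 1 + 1 = n) := by omega
    have e1 : Gmat i0 y i j = (ev i0 : Fin n → F) i := congrFun (Gmat_col_last i0 y j hj) i
    have e2 : Gmat i0 y i ⟨j.val - 1, by omega⟩ = shk (n - 2 - (j.val - 1)) y i :=
      congrFun (Gmat_col i0 y ⟨j.val - 1, by omega⟩ hj') i
    rw [e1, e2, Pi.add_apply]
    have : n - 2 - (j.val - 1) = 0 := by omega
    rw [this, shk_zero i0 h0 y hy0]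
  · rw [Gmat_col i0 y j hj, v_shk i0 i1 h0 h1 v hv0]
    have e1 : Gmat i0 y i j = shk (n - 2 - j.val) y i := congrFun (Gmat_col i0 y j hj) i
    rw [e1, Pi.add_apply]
    congr 1
    by_cases hj0 : 0 < j.val
    · rw [dif_pos hj0]
      have hj' : ¬ (j.val - 1 + 1 = n) := by omega
      have e2 : Gmat i0 y i ⟨j.val - 1, by omega⟩ = shk (n - 2 - (j.val - 1)) y i :=
        congrFun (Gmat_col i0 y ⟨j.val - 1, by omega⟩ hj') i
      rw [e2]
      have : n - 2 - (j.val - 1) = n - 2 - j.val + 1 := by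
        have := j.isLt
        omega
      rw [this]
    · rw [dif_neg hj0]
      have : n - 2 - j.val + 1 = n - 1 := by omega
      rw [this, shk_big (n - 1) (by omega)]
      rfl

lemma det_Gmat_succ (m : ℕ) (y : Fin (m + 1) → F) :
    (Gmat (0 : Fin (m + 1)) y).det = (-1) ^ m * (y (Fin.last m)) ^ m := by
  rw [Matrix.det_succ_row_zero, Finset.sum_eq_single (Fin.last m)]
  · have h1 : Gmat (0 : Fin (m + 1)) y 0 (Fin.last m) = 1 := by
      unfold Gmat
      rw [Matrix.of_apply, if_pos (by simp), ev_same]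
    rw [h1, mul_one, Fin.val_last]
    congr 1
    rw [Matrix.det_of_isUpperTriangular]
    · have hd : ∀ i : Fin m, (Gmat (0 : Fin (m + 1)) y).submatrix Fin.succ (Fin.last m).succAbove i i
          = y (Fin.last m) := by
        intro i
        rw [Matrix.submatrix_apply, Fin.succAbove_last]
        unfold Gmat
        rw [Matrix.of_apply, if_neg (by simp; omega)]
        unfold shk
        rw [dif_pos ⟨by simp, by simp; omega⟩]
        congr 1
        apply Fin.ext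
        simp
        omega
      rw [Finset.prod_congr rfl (fun i _ => hd i), Finset.prod_const, Finset.card_univ,
        Fintype.card_fin]
    · intro i j hij
      have hij' : j.val < i.val := hij
      rw [Matrix.submatrix_apply, Fin.succAbove_last]
      unfold Gmat
      rw [Matrix.of_apply, if_neg (by simp; omega)]
      unfold shk
      rw [dif_neg]
      rintro ⟨-, h⟩
      simp at h
      omega
  · intro j _ hj
    have : Gmat (0 : Fin (m + 1)) y 0 j = 0 := by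
      unfold Gmat
      rw [Matrix.of_apply, if_neg]
      · unfold shk
        rw [dif_neg]
        rintro ⟨h, -⟩
        simp at h
      · intro h
        apply hj
        apply Fin.ext
        rw [Fin.val_last]
        omega
    rw [this, mul_zero, zero_mul]
  · intro h
    exact absurd (Finset.mem_univ _) h

theorem det_Gmat (i0 il : Fin n) (h0 : i0.val = 0) (hl : il.val + 1 = n) (y : Fin n → F) :
    (Gmat i0 y).det = (-1) ^ (n - 1) * (y il) ^ (n - 1) := by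
  obtain ⟨m, rfl⟩ : ∃ m, n = m + 1 := ⟨n - 1, by omega⟩
  have e0 : i0 = 0 := Fin.ext (by simp [h0])
  have el : il = Fin.last m := Fin.ext (by rw [Fin.val_last]; omega)
  rw [e0, el, det_Gmat_succ]
  rfl


theorem reg_of_semiconj (hn : 3 ≤ n) (v G : Matrix (Fin n) (Fin n) F) (hG : G.det ≠ 0)
    (h : v * G = G * uM F n) :
    v.det = 1 ∧ IsNilpotent (v - 1) ∧ (v - 1) ^ (n - 1) ≠ 0 := by
  have hdet : v.det = 1 := by
    have := congrArg Matrix.det h
    rw [Matrix.det_mul, Matrix.det_mul, uM, det_umat, mul_one] at this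
    exact mul_right_cancel₀ hG (this.trans (one_mul _).symm)
  have hsc : SemiconjBy G (uM F n - 1) (v - 1) := by
    unfold SemiconjBy
    rw [mul_sub, sub_mul, h, Matrix.mul_one, Matrix.one_mul]
  have hGu : IsUnit G.det := isUnit_iff_ne_zero.mpr hG
  refine ⟨hdet, ?_, ?_⟩
  · obtain ⟨N, hN⟩ := umat_nilp (n := n) (1 : F)
    refine ⟨N, ?_⟩
    have h1 : G * (uM F n - 1) ^ N = (v - 1) ^ N * G := hsc.pow_right N
    rw [show uM F n = umat n 1 from rfl, hN, mul_zero] at h1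
    have h2 : (v - 1) ^ N * G * G⁻¹ = 0 := by rw [← h1, zero_mul]
    rwa [Matrix.mul_assoc, Matrix.mul_nonsing_inv G hGu, Matrix.mul_one] at h2
  · intro h0
    have h1 : G * (uM F n - 1) ^ (n - 1) = (v - 1) ^ (n - 1) * G := hsc.pow_right (n - 1)
    rw [h0, zero_mul] at h1
    have h2 : G⁻¹ * (G * (uM F n - 1) ^ (n - 1)) = 0 := by rw [h1, mul_zero]
    rw [← Matrix.mul_assoc, Matrix.nonsing_inv_mul G hGu, Matrix.one_mul] at h2
    exact umat_pow_ne (1 : F) one_ne_zero hn h2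

theorem gen_pair (hn : 3 ≤ n) (i0 i1 il : Fin n) (h0 : i0.val = 0) (h1 : i1.val = 1)
    (hl : il.val + 1 = n) (v : Matrix (Fin n) (Fin n) F)
    (hv0 : ∀ y : Fin n → F, y i0 = 0 → v *ᵥ y = uM F n *ᵥ y - (y i1) • ev i0)
    (y : Fin n → F) (hy0 : y i0 = 0) (hve : v *ᵥ ev i0 = ev i0 + y) (hyl : y il ≠ 0)
    (hgen : ∀ H : Subgroup (Matrix.SpecialLinearGroup (Fin n) F),
      InH H (uM F n) → InH H v → H = ⊤) :
    ∃ u' v' : Matrix.SpecialLinearGroup (Fin n) F,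
      (IsNilpotent ((u' : Matrix (Fin n) (Fin n) F) - 1) ∧
        ((u' : Matrix (Fin n) (Fin n) F) - 1) ^ (n - 1) ≠ 0) ∧
      (IsNilpotent ((v' : Matrix (Fin n) (Fin n) F) - 1) ∧
        ((v' : Matrix (Fin n) (Fin n) F) - 1) ^ (n - 1) ≠ 0) ∧
      Subgroup.closure ({u', v'} : Set (Matrix.SpecialLinearGroup (Fin n) F)) = ⊤ := by
  have hG : (Gmat i0 y).det ≠ 0 := by
    rw [det_Gmat i0 il h0 hl]
    exact mul_ne_zero (pow_ne_zero _ (neg_ne_zero.mpr one_ne_zero)) (pow_ne_zero _ hyl)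
  obtain ⟨hdet, hnil, hpow⟩ := reg_of_semiconj hn v (Gmat i0 y) hG
    (v_Gmat i0 i1 h0 h1 v hv0 y hy0 hve)
  refine ⟨⟨uM F n, det_umat 1⟩, ⟨v, hdet⟩, ⟨umat_nilp 1, umat_pow_ne 1 one_ne_zero hn⟩,
    ⟨hnil, hpow⟩, ?_⟩
  apply hgen
  · exact ⟨⟨uM F n, det_umat 1⟩, Subgroup.subset_closure (Set.mem_insert _ _), rfl⟩
  · exact ⟨⟨v, hdet⟩, Subgroup.subset_closure (Set.mem_insert_of_mem _ rfl), rfl⟩

theorem conj_pair (hn : 3 ≤ n) (i0 i1 il : Fin n) (h0 : i0.val = 0) (h1 : i1.val = 1)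
    (hl : il.val + 1 = n) (v : Matrix (Fin n) (Fin n) F)
    (hv0 : ∀ y : Fin n → F, y i0 = 0 → v *ᵥ y = uM F n *ᵥ y - (y i1) • ev i0)
    (y : Fin n → F) (hy0 : y i0 = 0) (hve : v *ᵥ ev i0 = ev i0 + y)
    (s : F) (hs : s ^ n * ((-1) ^ (n - 1) * (y il) ^ (n - 1)) = 1)
    (hgen : ∀ H : Subgroup (Matrix.SpecialLinearGroup (Fin n) F),
      InH H (uM F n) → InH H v → H = ⊤) :
    ∃ u' g : Matrix.SpecialLinearGroup (Fin n) F,
      (IsNilpotent ((u' : Matrix (Fin n) (Fin n) F) - 1) ∧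
        ((u' : Matrix (Fin n) (Fin n) F) - 1) ^ (n - 1) ≠ 0) ∧
      Subgroup.closure ({u', g * u' * g⁻¹} : Set (Matrix.SpecialLinearGroup (Fin n) F)) = ⊤ := by
  have hsc := v_Gmat i0 i1 h0 h1 v hv0 y hy0 hve
  have hdet : (s • Gmat i0 y).det = 1 := by
    rw [Matrix.det_smul, Fintype.card_fin, det_Gmat i0 il h0 hl, hs]
  have hconj : ((⟨s • Gmat i0 y, hdet⟩ * ⟨uM F n, det_umat 1⟩ * ⟨s • Gmat i0 y, hdet⟩⁻¹ :
      Matrix.SpecialLinearGroup (Fin n) F) : Matrix (Fin n) (Fin n) F) = v := by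
    apply coe_conj_eq
    show s • Gmat i0 y * uM F n = v * s • Gmat i0 y
    rw [Matrix.smul_mul, Matrix.mul_smul, hsc]
  refine ⟨⟨uM F n, det_umat 1⟩, ⟨s • Gmat i0 y, hdet⟩,
    ⟨umat_nilp 1, umat_pow_ne 1 one_ne_zero hn⟩, ?_⟩
  apply hgen
  · exact ⟨⟨uM F n, det_umat 1⟩, Subgroup.subset_closure (Set.mem_insert _ _), rfl⟩
  · exact ⟨_, Subgroup.subset_closure (Set.mem_insert_of_mem _ rfl), hconj⟩

lemma Yodd_hv0 (i0 i1 : Fin n) (h0 : i0.val = 0) (b : Fin n → F) :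
    ∀ y : Fin n → F, y i0 = 0 →
      (uM F n * Ymat i0 i1 b) *ᵥ y = uM F n *ᵥ y - (y i1) • ev i0 := by
  intro y hy
  rw [← Matrix.mulVec_mulVec]
  have e : Ymat i0 i1 b *ᵥ y = y - (y i1) • ev i0 := by
    unfold Ymat
    simp only [Matrix.add_mulVec, Matrix.sub_mulVec, Matrix.one_mulVec, Matrix.smul_mulVec,
      Matrix.vecMulVec_mulVec, ev_dot, hy, op_smul_eq_smul]
    module
  rw [e, Matrix.mulVec_sub, Matrix.mulVec_smul, uM_mulVec_ev0 i0 h0]

lemma Yodd_hve (i0 i1 : Fin n) (h0 : i0.val = 0) (h01 : i0 ≠ i1) (b : Fin n → F) :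
    (uM F n * Ymat i0 i1 b) *ᵥ ev i0 = ev i0 + (4 : F) • (uM F n *ᵥ b - ev i0) := by
  rw [← Matrix.mulVec_mulVec]
  have e : Ymat i0 i1 b *ᵥ ev i0 = ev i0 + (4 : F) • (b - ev i0) := by
    unfold Ymat
    simp only [Matrix.add_mulVec, Matrix.sub_mulVec, Matrix.one_mulVec, Matrix.smul_mulVec,
      Matrix.vecMulVec_mulVec, ev_dot, ev_same, ev_diff i0 i1 (Ne.symm h01), op_smul_eq_smul]
    module
  rw [e, Matrix.mulVec_add, Matrix.mulVec_smul, Matrix.mulVec_sub, uM_mulVec_ev0 i0 h0]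

lemma Y2_hv0 (h2F : (2 : F) = 0) (i0 i1 : Fin n) (h0 : i0.val = 0) (a : Fin n → F) :
    ∀ y : Fin n → F, y i0 = 0 →
      (uM F n * Ymat2 i0 i1 a) *ᵥ y = uM F n *ᵥ y - (y i1) • ev i0 := by
  intro y hy
  have hneg : ∀ x : Fin n → F, -x = x := by
    intro x
    have : x + x = 0 := by
      rw [← two_smul F x, h2F, zero_smul]
    exact neg_eq_of_add_eq_zero_left this
  rw [← Matrix.mulVec_mulVec]
  have e : Ymat2 i0 i1 a *ᵥ y = y + (y i1) • ev i0 := by
    unfold Ymat2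
    simp only [Matrix.add_mulVec, Matrix.one_mulVec,
      Matrix.vecMulVec_mulVec, ev_dot, hy, op_smul_eq_smul]
    module
  rw [e, Matrix.mulVec_add, Matrix.mulVec_smul, uM_mulVec_ev0 i0 h0, sub_eq_add_neg,
    hneg ((y i1) • ev i0)]

lemma Y2_hve (i0 i1 : Fin n) (h0 : i0.val = 0) (h01 : i0 ≠ i1) (a : Fin n → F) :
    (uM F n * Ymat2 i0 i1 a) *ᵥ ev i0 = ev i0 + uM F n *ᵥ a := by
  rw [← Matrix.mulVec_mulVec]
  have e : Ymat2 i0 i1 a *ᵥ ev i0 = ev i0 + a := by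
    unfold Ymat2
    simp only [Matrix.add_mulVec, Matrix.one_mulVec,
      Matrix.vecMulVec_mulVec, ev_dot, ev_same, ev_diff i0 i1 (Ne.symm h01), op_smul_eq_smul]
    module
  rw [e, Matrix.mulVec_add, uM_mulVec_ev0 i0 h0]

end reg

end Cfsg.Agent.Lib.helper15.TwoRU
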