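import Mathlib
import Cfsg.Agent.Lib.helper15.TwoRU5

set_option autoImplicit false

namespace Cfsg.Agent.Lib.helper15.TwoRU

open Matrix Cfsg.Agent.S2280 Cfsg.Agent.Lib.helper15.RU

section fld

variable {F : Type*} [Field F] [Fintype F]

lemma exists_half (h2 : (2 : F) ≠ 0) : ∃ k : ℕ, (k : F) * 2 = 1 := by
  refine ⟨2 ^ (Fintype.card F - 2), ?_⟩
  have hq : 2 ≤ Fintype.card F := Fintype.one_lt_card
  rw [Nat.cast_pow, Nat.cast_ofNat, ← pow_succ]
  have : Fintype.card F - 2 + 1 = Fintype.card F - 1 := by omega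
  rw [this, FiniteField.pow_card_sub_one_eq_one 2 h2]

lemma exists_gen0 : ∃ g : F, g ≠ 0 ∧ Subring.closure {g} = ⊤ := by
  obtain ⟨g, hg⟩ := IsCyclic.exists_monoid_generator (α := Fˣ)
  refine ⟨(g : F), g.ne_zero, ?_⟩
  rw [eq_top_iff]
  intro x _
  by_cases hx : x = 0
  · rw [hx]
    exact Subring.zero_mem _
  · obtain ⟨k, hk⟩ := hg (Units.mk0 x hx)
    have hk' : (g : F) ^ k = x := by
      have h3 : g ^ k = Units.mk0 x hx := hk
      have h4 : ((g ^ k : Fˣ) : F) = ((Units.mk0 x hx : Fˣ) : F) := by rw [h3]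
      rwa [Units.val_pow_eq_pow_val, Units.val_mk0] at h4
    rw [← hk']
    exact Subring.pow_mem _ (Subring.subset_closure (Set.mem_singleton _)) k

lemma exists_gen (h2 : (2 : F) ≠ 0) (t : F) :
    ∃ c : F, c ≠ 0 ∧ c ≠ t ∧ Subring.closure {c} = ⊤ := by
  obtain ⟨g, hg0, hg⟩ := exists_gen0 (F := F)
  by_cases hgt : g = t
  · have key : ∀ c : F, g ∈ Subring.closure {c} → Subring.closure {c} = ⊤ := by
      intro c hc
      rw [eq_top_iff, ← hg]
      apply Subring.closure_le.mpr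
      rintro x rfl
      exact hc
    by_cases h1 : g + 1 = 0
    · refine ⟨g - 1, ?_, ?_, key _ ?_⟩
      · intro h
        have : (2 : F) = 0 := by linear_combination h1 - h
        exact h2 this
      · rw [← hgt]
        intro h
        have : (1 : F) = 0 := by linear_combination -h
        exact one_ne_zero this
      · have hmem : (g - 1) + 1 ∈ Subring.closure ({g - 1} : Set F) :=
          Subring.add_mem _ (Subring.subset_closure rfl) (Subring.one_mem _)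
        rwa [sub_add_cancel] at hmem
    · refine ⟨g + 1, h1, ?_, key _ ?_⟩
      · rw [← hgt]
        intro h
        have : (1 : F) = 0 := by linear_combination h
        exact one_ne_zero this
      · have hmem : (g + 1) - 1 ∈ Subring.closure ({g + 1} : Set F) :=
          Subring.sub_mem _ (Subring.subset_closure rfl) (Subring.one_mem _)
        rwa [add_sub_cancel_right] at hmem
  · exact ⟨g, hg0, hgt, hg⟩

lemma closure_top_of_prime (hp : (Fintype.card F).Prime) (c : F) :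
    Subring.closure {c} = ⊤ := by
  have : Fact (Nat.card F).Prime := ⟨by rwa [Nat.card_eq_fintype_card]⟩
  rcases AddSubgroup.eq_bot_or_eq_top_of_prime_card (Subring.closure {c}).toAddSubgroup with h | h
  · exfalso
    have h1 : (1 : F) ∈ (Subring.closure {c}).toAddSubgroup := Subring.one_mem _
    rw [h, AddSubgroup.mem_bot] at h1
    exact one_ne_zero h1
  · rw [eq_top_iff]
    intro x _
    have : x ∈ (Subring.closure {c}).toAddSubgroup := by
      rw [h]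
      exact AddSubgroup.mem_top x
    exact this

end fld


section good

variable {F : Type*} [Field F] {n : ℕ}

def Good (n : ℕ) (F : Type*) [Field F] (c : F) : Prop :=
  ∃ (i0 i1 il : Fin n) (v : Matrix (Fin n) (Fin n) F) (y : Fin n → F),
    i0.val = 0 ∧ i1.val = 1 ∧ il.val + 1 = n ∧
    (∀ w : Fin n → F, w i0 = 0 → v *ᵥ w = uM F n *ᵥ w - (w i1) • ev i0) ∧
    y i0 = 0 ∧ v *ᵥ ev i0 = ev i0 + y ∧ y il = c ∧
    (∀ H : Subgroup (Matrix.SpecialLinearGroup (Fin n) F), InH H (uM F n) → InH H v → H = ⊤)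

theorem Good.part1 {c : F} (h : Good n F c) (hn : 3 ≤ n) (hc : c ≠ 0) :
    ∃ u' v' : Matrix.SpecialLinearGroup (Fin n) F,
      (IsNilpotent ((u' : Matrix (Fin n) (Fin n) F) - 1) ∧
        ((u' : Matrix (Fin n) (Fin n) F) - 1) ^ (n - 1) ≠ 0) ∧
      (IsNilpotent ((v' : Matrix (Fin n) (Fin n) F) - 1) ∧
        ((v' : Matrix (Fin n) (Fin n) F) - 1) ^ (n - 1) ≠ 0) ∧
      Subgroup.closure ({u', v'} : Set (Matrix.SpecialLinearGroup (Fin n) F)) = ⊤ := by
  obtain ⟨i0, i1, il, v, y, h0, h1, hl, hv0, hy0, hve, hyl, hgen⟩ := h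
  exact gen_pair hn i0 i1 il h0 h1 hl v hv0 y hy0 hve (by rw [hyl]; exact hc) hgen

theorem Good.part2 {c : F} (h : Good n F c) (hn : 3 ≤ n) (s : F)
    (hs : s ^ n * ((-1) ^ (n - 1) * c ^ (n - 1)) = 1) :
    ∃ u' g : Matrix.SpecialLinearGroup (Fin n) F,
      (IsNilpotent ((u' : Matrix (Fin n) (Fin n) F) - 1) ∧
        ((u' : Matrix (Fin n) (Fin n) F) - 1) ^ (n - 1) ≠ 0) ∧
      Subgroup.closure ({u', g * u' * g⁻¹} : Set (Matrix.SpecialLinearGroup (Fin n) F)) = ⊤ := by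
  obtain ⟨i0, i1, il, v, y, h0, h1, hl, hv0, hy0, hve, hyl, hgen⟩ := h
  exact conj_pair hn i0 i1 il h0 h1 hl v hv0 y hy0 hve s (by rw [hyl]; exact hs) hgen

lemma ev_ne (i j : Fin n) (h : i.val ≠ j.val) : (ev i : Fin n → F) j = 0 := by
  apply ev_diff
  intro h'
  exact h (congrArg Fin.val h').symm

theorem good_two (hn : 4 ≤ n) (h2F : (2 : F) = 0) (c : F) (hc0 : c ≠ 0)
    (hcl : Subring.closure {c} = ⊤) : Good n F c := by
  obtain ⟨i0, h0⟩ : ∃ i0 : Fin n, i0.val = 0 := ⟨⟨0, by omega⟩, rfl⟩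
  obtain ⟨i1, h1⟩ : ∃ i1 : Fin n, i1.val = 1 := ⟨⟨1, by omega⟩, rfl⟩
  obtain ⟨i2, h2⟩ : ∃ i2 : Fin n, i2.val = 2 := ⟨⟨2, by omega⟩, rfl⟩
  obtain ⟨il, hl⟩ : ∃ il : Fin n, il.val + 1 = n := ⟨⟨n - 1, by omega⟩, by simp; omega⟩
  have h01 : i0 ≠ i1 := by
    intro h
    rw [h] at h0
    omega
  obtain ⟨a, hadef⟩ : ∃ a : Fin n → F, a = c • ev il := ⟨_, rfl⟩
  have ha0 : a i0 = 0 := by
    rw [hadef, Pi.smul_apply, ev_ne il i0 (by omega), smul_zero]
  have ha1 : a i1 = 0 := by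
    rw [hadef, Pi.smul_apply, ev_ne il i1 (by omega), smul_zero]
  have ha2 : a i2 = 0 := by
    rw [hadef, Pi.smul_apply, ev_ne il i2 (by omega), smul_zero]
  have hal : a il = c := by
    rw [hadef, Pi.smul_apply, ev_same, smul_eq_mul, mul_one]
  have hκ : (ev i1 ᵥ* uI F n) ⬝ᵥ a = c * (-1) ^ (il.val - i1.val) := by
    rw [hadef, dotProduct_smul, dot_ev, ev_vecMul, uI_apply, if_pos (by omega), smul_eq_mul]
  refine ⟨i0, i1, il, uM F n * Ymat2 i0 i1 a, uM F n *ᵥ a, h0, h1, hl,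
    Y2_hv0 h2F i0 i1 h0 a, ?_, Y2_hve i0 i1 h0 h01 a, ?_, ?_⟩
  · rw [uM_mulVec_zero i0 i1 h0 h1, ha0, ha1, add_zero]
  · rw [uM_mulVec_last il hl, hal]
  · intro H hu hv
    exact two_chain (by omega) h2F i0 i1 i2 il h0 h1 h2 hl a ha0 ha1 ha2 _ hκ
      (mul_ne_zero hc0 (pow_ne_zero _ (neg_ne_zero.mpr one_ne_zero))) c hal hc0 hcl hu hv

theorem good_odd1 (hn : 4 ≤ n) (h2F : (2 : F) ≠ 0) (k : ℕ) (hk : (k : F) * 2 = 1) (c' : F)
    (hc0 : c' ≠ 0) (hκ0 : 2 + c' * (-1) ^ (n - 2) ≠ 0)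
    (hcl : Subring.closure {2 * c'} = ⊤) : Good n F (4 * c') := by
  obtain ⟨i0, h0⟩ : ∃ i0 : Fin n, i0.val = 0 := ⟨⟨0, by omega⟩, rfl⟩
  obtain ⟨i1, h1⟩ : ∃ i1 : Fin n, i1.val = 1 := ⟨⟨1, by omega⟩, rfl⟩
  obtain ⟨i2, h2⟩ : ∃ i2 : Fin n, i2.val = 2 := ⟨⟨2, by omega⟩, rfl⟩
  obtain ⟨il, hl⟩ : ∃ il : Fin n, il.val + 1 = n := ⟨⟨n - 1, by omega⟩, by simp; omega⟩
  have h01 : i0 ≠ i1 := by
    intro h
    rw [h] at h0
    omega
  obtain ⟨b, hbdef⟩ : ∃ b : Fin n → F, b = ev i1 - ev i2 + c' • ev il := ⟨_, rfl⟩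
  have hb0 : b i0 = 0 := by
    rw [hbdef, Pi.add_apply, Pi.sub_apply, Pi.smul_apply, ev_ne i1 i0 (by omega),
      ev_ne i2 i0 (by omega), ev_ne il i0 (by omega), smul_zero, sub_zero, add_zero]
  have hb1 : b i1 = 1 := by
    rw [hbdef, Pi.add_apply, Pi.sub_apply, Pi.smul_apply, ev_same,
      ev_ne i2 i1 (by omega), ev_ne il i1 (by omega), smul_zero, sub_zero, add_zero]
  have hb2 : b i2 = -1 := by
    rw [hbdef, Pi.add_apply, Pi.sub_apply, Pi.smul_apply, ev_same,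
      ev_ne i1 i2 (by omega), ev_ne il i2 (by omega), smul_zero, zero_sub, add_zero]
  have hbl : b il = c' := by
    rw [hbdef, Pi.add_apply, Pi.sub_apply, Pi.smul_apply, ev_same,
      ev_ne i1 il (by omega), ev_ne i2 il (by omega), sub_zero, zero_add, smul_eq_mul, mul_one]
  have hκ : (ev i1 ᵥ* uI F n) ⬝ᵥ b = 2 + c' * (-1) ^ (n - 2) := by
    rw [hbdef, dotProduct_add, dotProduct_sub, dotProduct_smul, dot_ev, dot_ev, dot_ev, ev_vecMul,
      uI_apply, uI_apply, uI_apply, if_pos (by omega), if_pos (by omega), if_pos (by omega),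
      smul_eq_mul]
    have e1 : i1.val - i1.val = 0 := by omega
    have e2 : i2.val - i1.val = 1 := by omega
    have e3 : il.val - i1.val = n - 2 := by omega
    rw [e1, e2, e3]
    ring
  refine ⟨i0, i1, il, uM F n * Ymat i0 i1 b, (4 : F) • (uM F n *ᵥ b - ev i0), h0, h1, hl,
    Yodd_hv0 i0 i1 h0 b, ?_, Yodd_hve i0 i1 h0 h01 b, ?_, ?_⟩
  · rw [Pi.smul_apply, Pi.sub_apply, uM_mulVec_zero i0 i1 h0 h1, hb0, hb1, ev_same]
    simp
  · rw [Pi.smul_apply, Pi.sub_apply, uM_mulVec_last il hl, hbl, ev_ne i0 il (by omega), sub_zero,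
      smul_eq_mul]
  · intro H hu hv
    exact odd_chain (by omega) i0 i1 i2 il h0 h1 h2 hl b hb0 hb1 hb2 k hk _ hκ hκ0 (2 * c')
      (by rw [hbl]) (mul_ne_zero h2F hc0) hcl hu hv

theorem good_odd2 (hn : 5 ≤ n) (h2F : (2 : F) ≠ 0) (k : ℕ) (hk : (k : F) * 2 = 1) (c' : F)
    (hc0 : c' ≠ 0) (hcl : Subring.closure {2 * c'} = ⊤) : Good n F (4 * c') := by
  obtain ⟨i0, h0⟩ : ∃ i0 : Fin n, i0.val = 0 := ⟨⟨0, by omega⟩, rfl⟩
  obtain ⟨i1, h1⟩ : ∃ i1 : Fin n, i1.val = 1 := ⟨⟨1, by omega⟩, rfl⟩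
  obtain ⟨i2, h2⟩ : ∃ i2 : Fin n, i2.val = 2 := ⟨⟨2, by omega⟩, rfl⟩
  obtain ⟨im, hm⟩ : ∃ im : Fin n, im.val + 2 = n := ⟨⟨n - 2, by omega⟩, by simp; omega⟩
  obtain ⟨il, hl⟩ : ∃ il : Fin n, il.val + 1 = n := ⟨⟨n - 1, by omega⟩, by simp; omega⟩
  have h01 : i0 ≠ i1 := by
    intro h
    rw [h] at h0
    omega
  obtain ⟨b, hbdef⟩ : ∃ b : Fin n → F, b = ev i1 - ev i2 + c' • (ev im + ev il) := ⟨_, rfl⟩
  have hb0 : b i0 = 0 := by
    rw [hbdef, Pi.add_apply, Pi.sub_apply, Pi.smul_apply, Pi.add_apply, ev_ne i1 i0 (by omega),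
      ev_ne i2 i0 (by omega), ev_ne il i0 (by omega), ev_ne im i0 (by omega), add_zero, smul_zero,
      sub_zero, add_zero]
  have hb1 : b i1 = 1 := by
    rw [hbdef, Pi.add_apply, Pi.sub_apply, Pi.smul_apply, Pi.add_apply, ev_same,
      ev_ne i2 i1 (by omega), ev_ne il i1 (by omega), ev_ne im i1 (by omega), add_zero, smul_zero,
      sub_zero, add_zero]
  have hb2 : b i2 = -1 := by
    rw [hbdef, Pi.add_apply, Pi.sub_apply, Pi.smul_apply, Pi.add_apply, ev_same,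
      ev_ne i1 i2 (by omega), ev_ne il i2 (by omega), ev_ne im i2 (by omega), add_zero, smul_zero,
      zero_sub, add_zero]
  have hbl : b il = c' := by
    rw [hbdef, Pi.add_apply, Pi.sub_apply, Pi.smul_apply, Pi.add_apply, ev_same,
      ev_ne i1 il (by omega), ev_ne i2 il (by omega), ev_ne im il (by omega), sub_zero, zero_add,
      zero_add, smul_eq_mul, mul_one]
  have hκ : (ev i1 ᵥ* uI F n) ⬝ᵥ b = 2 := by
    rw [hbdef, dotProduct_add, dotProduct_sub, dotProduct_smul, dotProduct_add, dot_ev, dot_ev,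
      dot_ev, dot_ev, ev_vecMul,
      uI_apply, uI_apply, uI_apply, uI_apply, if_pos (by omega), if_pos (by omega),
      if_pos (by omega), if_pos (by omega), smul_eq_mul]
    have e1 : i1.val - i1.val = 0 := by omega
    have e2 : i2.val - i1.val = 1 := by omega
    have e3 : il.val - i1.val = (im.val - i1.val) + 1 := by omega
    rw [e1, e2, e3, pow_succ]
    ring
  refine ⟨i0, i1, il, uM F n * Ymat i0 i1 b, (4 : F) • (uM F n *ᵥ b - ev i0), h0, h1, hl,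
    Yodd_hv0 i0 i1 h0 b, ?_, Yodd_hve i0 i1 h0 h01 b, ?_, ?_⟩
  · rw [Pi.smul_apply, Pi.sub_apply, uM_mulVec_zero i0 i1 h0 h1, hb0, hb1, ev_same]
    simp
  · rw [Pi.smul_apply, Pi.sub_apply, uM_mulVec_last il hl, hbl, ev_ne i0 il (by omega), sub_zero,
      smul_eq_mul]
  · intro H hu hv
    exact odd_chain (by omega) i0 i1 i2 il h0 h1 h2 hl b hb0 hb1 hb2 k hk _ hκ h2F (2 * c')
      (by rw [hbl]) (mul_ne_zero h2F hc0) hcl hu hv

end good

end Cfsg.Agent.Lib.helper15.TwoRU
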