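import Mathlib
import Cfsg.Agent.Lib.Helper19.U3P.Defs
import Cfsg.Agent.Lib.helper15.U3PX22core
import Cfsg.Agent.Lib.Helper5.U3PX13

/-!
# U3P row X22 (helper15): `gen_S`, verbatim (on `u3px22_core` and X13 `gen_U`).
-/

set_option autoImplicit false

namespace Cfsg.Agent.Lib.Helper19.U3P

open Cfsg.Agent.Lib.helper17.SLP Cfsg.Agent.Lib.helper14.SU3J Cfsg.Agent.Lib.Helper25.SU3P
open Polynomial Matrix

universe u v

section X

variable {F : Type u} [Field F] [Fintype F] {K : Type u} [Field K] [Fintype K] {q : ℕ}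

variable {D : Par F K q} {a b c : ↥(Cfsg.SU 3 F q)} {ρ : SL2 K →* ↥(Cfsg.SU 3 F q)}

/-- X22 -/
theorem gen_S (hG : Gens D a b c ρ) (hF : Fintype.card F = q ^ 2) (hK : Fintype.card K = q) (hq : 4 ≤ q)
    (hγ : D.γ0 ≠ 0) : Subgroup.closure ({a, b, c} : Set ↥(Cfsg.SU 3 F q)) = ⊤ :=
  u3px22_core hG hF hq hγ (fun X hX => gen_U hG hF hK hq hγ X hX)

end X

end Cfsg.Agent.Lib.Helper19.U3P
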