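import Cfsg.Agent.Lib.helper15.UD.Defs

/-! Project UD (S5655), rows WITTF and ORTHLI. -/

set_option autoImplicit false
set_option linter.unusedVariables false
set_option linter.unusedSectionVars false

namespace Cfsg.Agent.Lib.helper15.UD

open Matrix Cfsg.Agent.Lib.Helper28 Cfsg.Agent.Lib.Helper29.ExtrL

variable {n q : ℕ} {F : Type*} [Field F] [Fintype F] {σ : F ≃+* F}

/-- WITTF -/
theorem witt_fintype (hc : Ctx n q F σ) {ι : Type} [Fintype ι] (u u' : ι → (Fin n → F))
    (hli : LinearIndependent F u) (hli' : LinearIndependent F u')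
    (hgram : ∀ i j, Cfsg.hermForm n F q (u i) (u j) = Cfsg.hermForm n F q (u' i) (u' j)) :
    ∃ g : Matrix.GeneralLinearGroup (Fin n) F, g ∈ Cfsg.GU n F q ∧ ∀ i,
      (g : Matrix (Fin n) (Fin n) F) *ᵥ u i = u' i := by
  classical
  let e := (Fintype.equivFin ι).symm
  obtain ⟨g, hg, h⟩ := Cfsg.Agent.Lib.helper6.HF.witt_tuple_gram hc.card (u ∘ e) (u' ∘ e)
    (hli.comp e e.injective) (hli'.comp e e.injective) (fun i j => hgram (e i) (e j))
  refine ⟨g, hg, fun i => ?_⟩
  have := h (e.symm i)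
  simpa using this

/-- ORTHLI -/
theorem orth_li (hc : Ctx n q F σ) {ι : Type} [Fintype ι] (u : ι → (Fin n → F))
    (h0 : ∀ i, Cfsg.hermForm n F q (u i) (u i) ≠ 0)
    (h1 : ∀ i j, i ≠ j → Cfsg.hermForm n F q (u i) (u j) = 0) : LinearIndependent F u := by
  classical
  have hf := hc.form
  rw [Fintype.linearIndependent_iff]
  intro c hsum j
  have h2 : Cfsg.hermForm n F q (∑ i, c i • u i) (u j) = 0 := by
    rw [hsum, UForm.f_zero_left hf]
  rw [UForm.f_sum_left hf] at h2
  rw [Finset.sum_eq_single j] at h2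
  · rw [hf.smul_left] at h2
    rcases mul_eq_zero.mp h2 with h | h
    · exact h
    · exact absurd h (h0 j)
  · intro i _ hij
    rw [hf.smul_left, h1 i j hij, mul_zero]
  · intro hj
    exact absurd (Finset.mem_univ j) hj

end Cfsg.Agent.Lib.helper15.UD
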