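import Cfsg.Agent.Lib.helper15.UDONB
import Cfsg.Agent.Lib.helper15.UDWITTF
import Cfsg.Agent.Lib.Helper1.UDGUDET
import Cfsg.Agent.Lib.helper4.UDPERPA
import Cfsg.Agent.Lib.Helper20.UDQSTAB

/-! Project UD (S5655), row MOVE. -/

set_option autoImplicit false
set_option linter.unusedVariables false
set_option linter.unusedSectionVars false

namespace Cfsg.Agent.Lib.helper15.UD

open Matrix Cfsg.Agent.Lib.Helper28 Cfsg.Agent.Lib.Helper29.ExtrL

variable {n q : ℕ} {F : Type*} [Field F] [Fintype F] {σ : F ≃+* F} {t k : ℕ}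

theorem move_mem_SL (g : Matrix.GeneralLinearGroup (Fin n) F)
    (h : (g : Matrix (Fin n) (Fin n) F).det = 1) : g ∈ Cfsg.Geo.specialLinear (Fin n) F := by
  unfold Cfsg.Geo.specialLinear
  rw [MonoidHom.mem_ker]
  apply Units.ext
  simpa using h

theorem move_fix_span (g : Matrix.GeneralLinearGroup (Fin n) F) {ι : Type*} (v : ι → (Fin n → F))
    (h : ∀ m, (g : Matrix (Fin n) (Fin n) F) *ᵥ v m = v m) (x : Fin n → F)
    (hx : x ∈ Submodule.span F (Set.range v)) : (g : Matrix (Fin n) (Fin n) F) *ᵥ x = x := by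
  have h1 : Set.EqOn (Matrix.toLin' (g : Matrix (Fin n) (Fin n) F))
      (LinearMap.id : (Fin n → F) →ₗ[F] (Fin n → F)) (Set.range v) := by
    rintro _ ⟨m, rfl⟩
    rw [Matrix.toLin'_apply, LinearMap.id_apply]
    exact h m
  have := LinearMap.eqOn_span h1 hx
  rwa [Matrix.toLin'_apply, LinearMap.id_apply] at this

/-- MOVE -/
theorem block_move (hc : Ctx n q F σ) (D : Fin t → Submodule F (Fin n → F))
    (hD : Cfsg.Geo.IsNondegenerateMDecomposition (Cfsg.hermForm n F q) k D) (hk : 2 ≤ k)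
    (i : Fin t) (a a' : Fin n → F) (ha : a ∈ D i) (ha' : a' ∈ D i)
    (hn : Cfsg.hermForm n F q a a = Cfsg.hermForm n F q a' a')
    (hn0 : Cfsg.hermForm n F q a a ≠ 0) :
    ∃ g : Matrix.GeneralLinearGroup (Fin n) F, g ∈ HD q D ∧
      (g : Matrix (Fin n) (Fin n) F) *ᵥ a = a' ∧
      ∀ l, l ≠ i → ∀ x ∈ D l, (g : Matrix (Fin n) (Fin n) F) *ᵥ x = x := by
  classical
  have hf := hc.form
  have hfr : ∀ l, Module.finrank F (D l) = k := hD.decomp.finrank_eq
  obtain ⟨b, hbspan, hborth⟩ := onb hc D hD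
  have hbD : ∀ l m, b l m ∈ D l := fun l m => by
    rw [← hbspan l]
    exact Submodule.subset_span ⟨m, rfl⟩
  have hn0' : Cfsg.hermForm n F q a' a' ≠ 0 := by rw [← hn]; exact hn0
  -- the two families
  let u : Option {p : Fin t × Fin k // p.1 ≠ i} → (Fin n → F) :=
    fun o => o.elim a (fun p => b p.1.1 p.1.2)
  let u' : Option {p : Fin t × Fin k // p.1 ≠ i} → (Fin n → F) :=
    fun o => o.elim a' (fun p => b p.1.1 p.1.2)
  have hu_none : u none = a := rfl
  have hu'_none : u' none = a' := rfl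
  have hu_some : ∀ p, u (some p) = b p.1.1 p.1.2 := fun p => rfl
  have hu'_some : ∀ p, u' (some p) = b p.1.1 p.1.2 := fun p => rfl
  have horth1 : ∀ z ∈ D i, ∀ p : {p : Fin t × Fin k // p.1 ≠ i},
      Cfsg.hermForm n F q z (b p.1.1 p.1.2) = 0 := fun z hz p =>
    hD.orthogonal i p.1.1 (fun h => p.2 h.symm) z hz _ (hbD _ _)
  have horth2 : ∀ z ∈ D i, ∀ p : {p : Fin t × Fin k // p.1 ≠ i},
      Cfsg.hermForm n F q (b p.1.1 p.1.2) z = 0 := fun z hz p =>
    hD.orthogonal p.1.1 i p.2 _ (hbD _ _) z hz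
  have hbb : ∀ p p' : {p : Fin t × Fin k // p.1 ≠ i}, p ≠ p' →
      Cfsg.hermForm n F q (b p.1.1 p.1.2) (b p'.1.1 p'.1.2) = 0 := by
    intro p p' hpp
    rw [hborth]
    rw [if_neg]
    rintro ⟨h1, h2⟩
    exact hpp (Subtype.ext (Prod.ext h1 h2))
  have hb1 : ∀ p : {p : Fin t × Fin k // p.1 ≠ i},
      Cfsg.hermForm n F q (b p.1.1 p.1.2) (b p.1.1 p.1.2) ≠ 0 := by
    intro p
    rw [hborth, if_pos ⟨rfl, rfl⟩]
    exact one_ne_zero
  have hli : ∀ z ∈ D i, Cfsg.hermForm n F q z z ≠ 0 →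
      LinearIndependent F (fun o : Option {p : Fin t × Fin k // p.1 ≠ i} =>
        o.elim z (fun p => b p.1.1 p.1.2)) := by
    intro z hz hz0
    apply orth_li hc
    · intro o
      cases o with
      | none => exact hz0
      | some p => exact hb1 p
    · intro o o' hoo
      cases o with
      | none =>
        cases o' with
        | none => exact absurd rfl hoo
        | some p' => exact horth1 z hz p'
      | some p =>
        cases o' with
        | none => exact horth2 z hz p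
        | some p' => exact hbb p p' (fun h => hoo (by rw [h]))
  have hgram : ∀ o o', Cfsg.hermForm n F q (u o) (u o') = Cfsg.hermForm n F q (u' o) (u' o') := by
    intro o o'
    cases o with
    | none =>
      cases o' with
      | none => exact hn
      | some p' =>
        rw [hu_none, hu'_none, hu_some, hu'_some, horth1 a ha p', horth1 a' ha' p']
    | some p =>
      cases o' with
      | none =>
        rw [hu_none, hu'_none, hu_some, hu'_some, horth2 a ha p, horth2 a' ha' p]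
      | some p' => rfl
  obtain ⟨g₀, hg₀U, hg₀⟩ := witt_fintype hc u u' (hli a ha hn0) (hli a' ha' hn0') hgram
  have hg₀a : (g₀ : Matrix (Fin n) (Fin n) F) *ᵥ a = a' := hg₀ none
  have hg₀b : ∀ l m, l ≠ i → (g₀ : Matrix (Fin n) (Fin n) F) *ᵥ b l m = b l m := by
    intro l m hl
    exact hg₀ (some ⟨(l, m), hl⟩)
  have hg₀fix : ∀ l, l ≠ i → ∀ x ∈ D l, (g₀ : Matrix (Fin n) (Fin n) F) *ᵥ x = x := by
    intro l hl x hx
    apply move_fix_span g₀ (b l) (fun m => hg₀b l m hl)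
    rw [hbspan l]
    exact hx
  have hg₀iso : ∀ x y, Cfsg.hermForm n F q ((g₀ : Matrix (Fin n) (Fin n) F) *ᵥ x)
      ((g₀ : Matrix (Fin n) (Fin n) F) *ᵥ y) = Cfsg.hermForm n F q x y := hg₀U
  have hg₀i : ∀ x ∈ D i, (g₀ : Matrix (Fin n) (Fin n) F) *ᵥ x ∈ D i := by
    intro x hx
    rw [onb_mem hc D hD b hbspan i]
    intro l m hl
    rw [← hg₀b l m hl, hg₀iso]
    exact hD.orthogonal i l (fun h => hl h.symm) x hx _ (hbD l m)
  have hg₀S : g₀ ∈ Cfsg.Geo.decompositionStabilizer D := by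
    apply DecGen.stab_of_maps D hfr g₀ 1
    intro l x hx
    rw [Equiv.Perm.one_apply]
    by_cases hl : l = i
    · subst hl
      exact hg₀i x hx
    · rw [hg₀fix l hl x hx]
      exact hx
  -- determinant correction
  have hdet := gu_det hc g₀ hg₀U
  set ε := (g₀ : Matrix (Fin n) (Fin n) F).det with hε
  have hε0 : ε ≠ 0 := by
    intro h
    rw [h, zero_mul] at hdet
    exact zero_ne_one hdet
  have hεinv : ε⁻¹ * σ ε⁻¹ = 1 := by
    rw [map_inv₀, ← mul_inv, hdet, inv_one]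
  obtain ⟨r, hrD, hra, hrr⟩ := perp_noniso hf (D i) (hD.nondegenerate i)
    (by rw [hfr]; exact hk) a' ha' hn0'
  obtain ⟨δ, hδS, hδU, hδdet, hδ⟩ := qrefl_stab hc D hD i r hrD hrr ε⁻¹ hεinv
  refine ⟨δ * g₀, Subgroup.mem_inf.mpr ⟨(Cfsg.Geo.decompositionStabilizer D).mul_mem hδS hg₀S,
    Subgroup.mem_inf.mpr ⟨(Cfsg.GU n F q).mul_mem hδU hg₀U, ?_⟩⟩, ?_, ?_⟩
  · apply move_mem_SL
    rw [Units.val_mul, Matrix.det_mul, hδdet, ← hε, inv_mul_cancel₀ hε0]
  · rw [Cfsg.Agent.S5643.mul_mv, hg₀a, hδ, UForm.f_swap_zero hf hra, mul_zero, zero_div,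
      zero_smul, add_zero]
  · intro l hl x hx
    rw [Cfsg.Agent.S5643.mul_mv, hg₀fix l hl x hx, hδ,
      hD.orthogonal l i hl x hx r hrD, mul_zero, zero_div, zero_smul, add_zero]

end Cfsg.Agent.Lib.helper15.UD
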