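import Cfsg.Agent.Lib.helper15.UDMOVE

/-! Project UD (S5655), row PERM. -/

set_option autoImplicit false
set_option linter.unusedVariables false
set_option linter.unusedSectionVars false

namespace Cfsg.Agent.Lib.helper15.UD

open Matrix Cfsg.Agent.Lib.Helper28 Cfsg.Agent.Lib.Helper29.ExtrL

variable {n q : ℕ} {F : Type*} [Field F] [Fintype F] {σ : F ≃+* F} {t k : ℕ}

/-- PERM -/
theorem perm_elt (hc : Ctx n q F σ) (D : Fin t → Submodule F (Fin n → F))
    (hD : Cfsg.Geo.IsNondegenerateMDecomposition (Cfsg.hermForm n F q) k D) (c d : Fin t) :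
    ∃ g : Matrix.GeneralLinearGroup (Fin n) F, g ∈ HD q D ∧
      ∀ l, ∀ x ∈ D l, (g : Matrix (Fin n) (Fin n) F) *ᵥ x ∈ D (Equiv.swap c d l) := by
  classical
  have hf := hc.form
  have hfr : ∀ l, Module.finrank F (D l) = k := hD.decomp.finrank_eq
  obtain ⟨b, hbspan, hborth⟩ := onb hc D hD
  have hbD : ∀ l m, b l m ∈ D l := fun l m => by
    rw [← hbspan l]
    exact Submodule.subset_span ⟨m, rfl⟩
  have hli : ∀ π : Equiv.Perm (Fin t),
      LinearIndependent F (fun p : Fin t × Fin k => b (π p.1) p.2) := by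
    intro π
    apply orth_li hc
    · intro p
      rw [hborth, if_pos ⟨rfl, rfl⟩]
      exact one_ne_zero
    · intro p p' hpp
      rw [hborth, if_neg]
      rintro ⟨h1, h2⟩
      exact hpp (Prod.ext (π.injective h1) h2)
  have hgram : ∀ p p' : Fin t × Fin k,
      Cfsg.hermForm n F q (b ((1 : Equiv.Perm (Fin t)) p.1) p.2)
        (b ((1 : Equiv.Perm (Fin t)) p'.1) p'.2) =
      Cfsg.hermForm n F q (b (Equiv.swap c d p.1) p.2) (b (Equiv.swap c d p'.1) p'.2) := by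
    intro p p'
    rw [hborth, hborth, Equiv.Perm.one_apply, Equiv.Perm.one_apply]
    by_cases h : p.1 = p'.1 ∧ p.2 = p'.2
    · rw [if_pos h, if_pos ⟨by rw [h.1], h.2⟩]
    · rw [if_neg h, if_neg]
      rintro ⟨h1, h2⟩
      exact h ⟨(Equiv.swap c d).injective h1, h2⟩
  obtain ⟨g₀, hg₀U, hg₀⟩ := witt_fintype hc _ _ (hli 1) (hli (Equiv.swap c d)) hgram
  have hg₀b : ∀ l m, (g₀ : Matrix (Fin n) (Fin n) F) *ᵥ b l m = b (Equiv.swap c d l) m :=
    fun l m => hg₀ (l, m)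
  have hg₀D : ∀ l, ∀ x ∈ D l, (g₀ : Matrix (Fin n) (Fin n) F) *ᵥ x ∈ D (Equiv.swap c d l) := by
    intro l x hx
    rw [← hbspan l] at hx
    refine Submodule.span_induction
      (p := fun x _ => (g₀ : Matrix (Fin n) (Fin n) F) *ᵥ x ∈ D (Equiv.swap c d l)) ?_ ?_ ?_ ?_ hx
    · rintro _ ⟨m, rfl⟩
      rw [hg₀b]
      exact hbD _ m
    · rw [Matrix.mulVec_zero]
      exact Submodule.zero_mem _
    · intro y z _ _ hy hz
      rw [Matrix.mulVec_add]
      exact Submodule.add_mem _ hy hz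
    · intro a y _ hy
      rw [Matrix.mulVec_smul]
      exact Submodule.smul_mem _ _ hy
  have hdet := gu_det hc g₀ hg₀U
  set ε := (g₀ : Matrix (Fin n) (Fin n) F).det with hε
  have hε0 : ε ≠ 0 := by
    intro h
    rw [h, zero_mul] at hdet
    exact zero_ne_one hdet
  have hεinv : ε⁻¹ * σ ε⁻¹ = 1 := by
    rw [map_inv₀, ← mul_inv, hdet, inv_one]
  have ht : 0 < t := by
    have := hD.decomp.two_le
    omega
  have hk0 : 0 < k := hD.decomp.pos
  obtain ⟨δ, hδS, hδU, hδdet, hδ⟩ := qrefl_stab hc D hD ⟨0, ht⟩ (b ⟨0, ht⟩ ⟨0, hk0⟩)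
    (hbD _ _) (by
      rw [hborth, if_pos ⟨rfl, rfl⟩]
      exact one_ne_zero) ε⁻¹ hεinv
  have hδD : ∀ l, ∀ x ∈ D l, (δ : Matrix (Fin n) (Fin n) F) *ᵥ x ∈ D l := by
    intro l x hx
    rw [hδ]
    by_cases hl : l = ⟨0, ht⟩
    · subst hl
      exact Submodule.add_mem _ hx (Submodule.smul_mem _ _ (hbD _ _))
    · rw [hD.orthogonal l ⟨0, ht⟩ hl x hx _ (hbD _ _), mul_zero, zero_div, zero_smul, add_zero]
      exact hx
  have hmaps : ∀ l, ∀ x ∈ D l,
      ((δ * g₀ : Matrix.GeneralLinearGroup (Fin n) F) : Matrix (Fin n) (Fin n) F) *ᵥ x ∈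
        D (Equiv.swap c d l) := by
    intro l x hx
    rw [Cfsg.Agent.S5643.mul_mv]
    exact hδD _ _ (hg₀D l x hx)
  refine ⟨δ * g₀, Subgroup.mem_inf.mpr ⟨DecGen.stab_of_maps D hfr _ (Equiv.swap c d) hmaps,
    Subgroup.mem_inf.mpr ⟨(Cfsg.GU n F q).mul_mem hδU hg₀U, ?_⟩⟩, hmaps⟩
  apply move_mem_SL
  rw [Units.val_mul, Matrix.det_mul, hδdet, ← hε, inv_mul_cancel₀ hε0]

end Cfsg.Agent.Lib.helper15.UD
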