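import Cfsg.Agent.Lib.helper15.UD.Defs
import Cfsg.Agent.Lib.helper15.UD.Basic

/-! Project UD (S5655), rows ONB and ONBMEM. -/

set_option autoImplicit false
set_option linter.unusedVariables false
set_option linter.unusedSectionVars false

namespace Cfsg.Agent.Lib.helper15.UD

open Matrix Cfsg.Agent.Lib.Helper28 Cfsg.Agent.Lib.Helper29.ExtrL

variable {n q : ℕ} {F : Type*} [Field F] [Fintype F] {σ : F ≃+* F} {t k : ℕ}

/-- ONB -/
theorem onb (hc : Ctx n q F σ) (D : Fin t → Submodule F (Fin n → F))
    (hD : Cfsg.Geo.IsNondegenerateMDecomposition (Cfsg.hermForm n F q) k D) :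
    ∃ b : Fin t → Fin k → (Fin n → F), (∀ l, Submodule.span F (Set.range (b l)) = D l) ∧
      ∀ l m l' m', Cfsg.hermForm n F q (b l m) (b l' m') = if l = l' ∧ m = m' then 1 else 0 := by
  classical
  have h : ∀ l, ∃ b : Fin k → (Fin n → F), Submodule.span F (Set.range b) = D l ∧
      ∀ i j, Cfsg.hermForm n F q (b i) (b j) = if i = j then 1 else 0 := by
    intro l
    obtain ⟨b, _, hspan, horth⟩ := Cfsg.Agent.Lib.helper6.HF.exists_orthonormal hc.card (D l) (by
      intro u hu hall
      by_contra hu0
      obtain ⟨x, hx, hne⟩ := (hD.nondegenerate l u hu hu0).2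
      exact hne (hall x hx))
    have hk : Module.finrank F (D l) = k := hD.decomp.finrank_eq l
    refine ⟨fun m => b (Fin.cast hk.symm m), ?_, ?_⟩
    · have hr : Set.range (fun m => b (Fin.cast hk.symm m)) = Set.range b := by
        ext x
        constructor
        · rintro ⟨m, rfl⟩
          exact ⟨Fin.cast hk.symm m, rfl⟩
        · rintro ⟨m, rfl⟩
          exact ⟨Fin.cast hk m, by simp⟩
      rw [hr]
      exact hspan
    · intro i j
      rw [horth]
      by_cases hij : i = j
      · subst hij
        simp
      · have : Fin.cast hk.symm i ≠ Fin.cast hk.symm j := by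
          intro h
          apply hij
          have := congrArg Fin.val h
          simp only [Fin.val_cast] at this
          exact Fin.ext this
        rw [if_neg this, if_neg hij]
  choose b hb1 hb2 using h
  have hbD : ∀ l m, b l m ∈ D l := fun l m => by
    rw [← hb1 l]
    exact Submodule.subset_span ⟨m, rfl⟩
  refine ⟨b, hb1, ?_⟩
  intro l m l' m'
  by_cases hl : l = l'
  · subst hl
    rw [hb2]
    by_cases hm : m = m'
    · simp [hm]
    · simp [hm]
  · rw [hD.orthogonal l l' hl _ (hbD l m) _ (hbD l' m')]
    simp [hl]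

/-- ONBMEM -/
theorem onb_mem (hc : Ctx n q F σ) (D : Fin t → Submodule F (Fin n → F))
    (hD : Cfsg.Geo.IsNondegenerateMDecomposition (Cfsg.hermForm n F q) k D)
    (b : Fin t → Fin k → (Fin n → F)) (hb : ∀ l, Submodule.span F (Set.range (b l)) = D l)
    (i : Fin t) (x : Fin n → F) :
    x ∈ D i ↔ ∀ l m, l ≠ i → Cfsg.hermForm n F q x (b l m) = 0 := by
  classical
  have hf := hc.form
  have hbD : ∀ l m, b l m ∈ D l := fun l m => by
    rw [← hb l]
    exact Submodule.subset_span ⟨m, rfl⟩
  constructor
  · intro hx l m hl
    exact hD.orthogonal i l (fun h => hl h.symm) x hx _ (hbD l m)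
  · intro h
    obtain ⟨c, hcD, hcsum⟩ := comp_exists D hD.decomp.iSup_eq_top x
    have hcl : ∀ l, l ≠ i → c l = 0 := by
      intro l hl
      by_contra hne
      obtain ⟨y, hy, hyne⟩ := (hD.nondegenerate l (c l) (hcD l) hne).2
      apply hyne
      -- c l is perpendicular to the span of the b l m
      have hperp : ∀ m, Cfsg.hermForm n F q (c l) (b l m) = 0 := by
        intro m
        have h1 := h l m hl
        rw [← hcsum, UForm.f_sum_left hf, Finset.sum_eq_single l] at h1
        · exact h1
        · intro l' _ hl'
          exact hD.orthogonal l' l hl' _ (hcD l') _ (hbD l m)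
        · intro hl'
          exact absurd (Finset.mem_univ l) hl'
      rw [← hb l] at hy
      refine Submodule.span_induction (p := fun y _ => Cfsg.hermForm n F q (c l) y = 0)
        ?_ ?_ ?_ ?_ hy
      · rintro _ ⟨m, rfl⟩
        exact hperp m
      · exact UForm.f_zero_right hf _
      · intro y z _ _ hy hz
        rw [UForm.f_add_right hf, hy, hz, add_zero]
      · intro a y _ hy
        rw [UForm.f_smul_right hf, hy, mul_zero]
    have : x = c i := by
      rw [← hcsum]
      apply Finset.sum_eq_single i
      · intro l _ hl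
        exact hcl l hl
      · intro hi
        exact absurd (Finset.mem_univ i) hi
    rw [this]
    exact hcD i

end Cfsg.Agent.Lib.helper15.UD
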